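import Mathlib
import Cfsg.Prelude.Def_Local

set_option autoImplicit false

namespace Cfsg.Agent.Helper7

open Subgroup
open scoped commutatorElement

variable {G : Type*} [Group G]

/-! ### commutators and suprema -/

/-- The elements `x` with `⁅x, y⁆ ∈ Z` for all `y ∈ Y`, for a normal subgroup `Z`. -/
def commutatorStab (Y Z : Subgroup G) [hZ : Z.Normal] : Subgroup G where
  carrier := {x | ∀ y ∈ Y, ⁅x, y⁆ ∈ Z}
  one_mem' := by
    intro y _
    simp
  mul_mem' := by
    intro a b ha hb y hy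
    have : ⁅a * b, y⁆ = a * ⁅b, y⁆ * a⁻¹ * ⁅a, y⁆ := by
      simp only [commutatorElement_def]; group
    rw [this]
    exact Z.mul_mem (hZ.conj_mem _ (hb y hy) a) (ha y hy)
  inv_mem' := by
    intro a ha y hy
    have : ⁅a⁻¹, y⁆ = a⁻¹ * (⁅a, y⁆)⁻¹ * a⁻¹⁻¹ := by
      simp only [commutatorElement_def]; group
    rw [this]
    exact hZ.conj_mem _ (Z.inv_mem (ha y hy)) a⁻¹

theorem le_commutatorStab_iff (X Y Z : Subgroup G) [Z.Normal] :
    X ≤ commutatorStab Y Z ↔ ⁅X, Y⁆ ≤ Z := by
  rw [Subgroup.commutator_le]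
  exact Iff.rfl

theorem commutator_iSup_le {ι : Sort*} (X : ι → Subgroup G) (Y Z : Subgroup G) [Z.Normal]
    (h : ∀ i, ⁅X i, Y⁆ ≤ Z) : ⁅⨆ i, X i, Y⁆ ≤ Z := by
  rw [← le_commutatorStab_iff]
  exact iSup_le fun i => (le_commutatorStab_iff _ _ _).mpr (h i)

theorem commutator_sup_le (X X' Y Z : Subgroup G) [Z.Normal]
    (h : ⁅X, Y⁆ ≤ Z) (h' : ⁅X', Y⁆ ≤ Z) : ⁅X ⊔ X', Y⁆ ≤ Z := by
  rw [← le_commutatorStab_iff]
  exact sup_le ((le_commutatorStab_iff _ _ _).mpr h) ((le_commutatorStab_iff _ _ _).mpr h')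

theorem commutator_sup_le' (X Y Y' Z : Subgroup G) [Z.Normal]
    (h : ⁅X, Y⁆ ≤ Z) (h' : ⁅X, Y'⁆ ≤ Z) : ⁅X, Y ⊔ Y'⁆ ≤ Z := by
  rw [Subgroup.commutator_comm] at h h' ⊢
  exact commutator_sup_le _ _ _ _ h h'

theorem commutator_iSup_le' {ι : Sort*} (X : Subgroup G) (Y : ι → Subgroup G) (Z : Subgroup G)
    [Z.Normal] (h : ∀ i, ⁅X, Y i⁆ ≤ Z) : ⁅X, ⨆ i, Y i⁆ ≤ Z := by
  rw [Subgroup.commutator_comm]
  exact commutator_iSup_le _ _ _ fun i => by rw [Subgroup.commutator_comm]; exact h i

theorem commutator_sSup_le (S : Set (Subgroup G)) (Y Z : Subgroup G) [Z.Normal]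
    (h : ∀ X ∈ S, ⁅X, Y⁆ ≤ Z) : ⁅sSup S, Y⁆ ≤ Z := by
  rw [sSup_eq_iSup']
  exact commutator_iSup_le _ _ _ fun i => h i.1 i.2

theorem commutator_sSup_le' (X : Subgroup G) (S : Set (Subgroup G)) (Z : Subgroup G) [Z.Normal]
    (h : ∀ Y ∈ S, ⁅X, Y⁆ ≤ Z) : ⁅X, sSup S⁆ ≤ Z := by
  rw [Subgroup.commutator_comm]
  exact commutator_sSup_le _ _ _ fun Y hY => by rw [Subgroup.commutator_comm]; exact h Y hY

/-- `⁅A ⊔ Z, A ⊔ Z⁆ ≤ ⁅A, A⁆` when `Z` is central and `A` is normal. -/
theorem commutator_sup_center_le (A : Subgroup G) [A.Normal] (Z : Subgroup G) (hZ : Z ≤ center G) :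
    ⁅A ⊔ Z, A ⊔ Z⁆ ≤ ⁅A, A⁆ := by
  have hZl : ∀ B : Subgroup G, ⁅Z, B⁆ = ⊥ := fun B => by
    rw [eq_bot_iff]
    exact (Subgroup.commutator_mono hZ le_rfl).trans (by rw [Subgroup.commutator_center_left])
  have hZr : ∀ B : Subgroup G, ⁅B, Z⁆ = ⊥ := fun B => by
    rw [Subgroup.commutator_comm]; exact hZl B
  have h1 : ⁅A, A ⊔ Z⁆ ≤ ⁅A, A⁆ :=
    commutator_sup_le' _ _ _ _ le_rfl (by rw [hZr]; exact bot_le)
  exact commutator_sup_le _ _ _ _ h1 (by rw [hZl]; exact bot_le)

/-! ### quasisimple groups -/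

section
variable {H K : Type*} [Group H] [Group K]

theorem map_center_mulEquiv (e : H ≃* K) : (center H).map (e : H →* K) = center K := by
  ext y
  constructor
  · rintro ⟨x, hx, rfl⟩
    replace hx : x ∈ center H := hx
    rw [mem_center_iff] at hx ⊢
    intro k
    obtain ⟨h, rfl⟩ := e.surjective k
    show e h * e x = e x * e h
    rw [← map_mul, ← map_mul, hx h]
  · intro hy
    refine ⟨e.symm y, ?_, by simp⟩
    show e.symm y ∈ center H
    rw [mem_center_iff] at hy ⊢
    intro h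
    apply e.injective
    rw [map_mul, map_mul, e.apply_symm_apply]
    exact hy (e h)

/-- the quotient by the centre is an isomorphism invariant -/
noncomputable def quotientCenterCongr (e : H ≃* K) : H ⧸ center H ≃* K ⧸ center K :=
  QuotientGroup.congr (center H) (center K) e (map_center_mulEquiv e)

theorem isQuasisimple_of_mulEquiv (e : H ≃* K) (h : Cfsg.IsQuasisimple H) : Cfsg.IsQuasisimple K := by
  obtain ⟨hp, hs⟩ := h
  refine ⟨?_, ?_⟩
  · exact Group.IsPerfect.ofSurjective (f := (e : H →* K)) e.surjective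
  · exact (quotientCenterCongr e).symm.isSimpleGroup

theorem isQuasisimple_congr (e : H ≃* K) : Cfsg.IsQuasisimple H ↔ Cfsg.IsQuasisimple K :=
  ⟨isQuasisimple_of_mulEquiv e, isQuasisimple_of_mulEquiv e.symm⟩

end

section
variable {H : Type*} [Group H]

theorem quasisimple_isPerfect (h : Cfsg.IsQuasisimple H) : Group.IsPerfect H := h.1

theorem quasisimple_commutator_eq_top (h : Cfsg.IsQuasisimple H) : commutator H = ⊤ :=
  h.1.commutator_eq_top

theorem quasisimple_center_ne_top (h : Cfsg.IsQuasisimple H) : center H ≠ ⊤ := by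
  intro hc
  haveI := h.2
  have : Subsingleton (H ⧸ center H) := by
    rw [hc]
    exact QuotientGroup.subsingleton_quotient_top
  exact not_subsingleton (H ⧸ center H) this

theorem quasisimple_nontrivial (h : Cfsg.IsQuasisimple H) : Nontrivial H := by
  by_contra hn
  rw [not_nontrivial_iff_subsingleton] at hn
  exact quasisimple_center_ne_top h (Subsingleton.elim _ _)

theorem quasisimple_not_isSolvable (h : Cfsg.IsQuasisimple H) : ¬ Group.IsSolvable H := by
  haveI := quasisimple_nontrivial h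
  haveI := h.1
  exact Group.IsPerfect.not_isSolvable H

theorem quasisimple_not_isMulCommutative (h : Cfsg.IsQuasisimple H) : ¬ IsMulCommutative H := by
  haveI := quasisimple_nontrivial h
  haveI := h.1
  exact Group.IsPerfect.not_isMulCommutative H

/-- a normal subgroup of a quasisimple group is everything or central -/
theorem quasisimple_normal_eq_top_or_le_center (h : Cfsg.IsQuasisimple H) (N : Subgroup H)
    [hN : N.Normal] : N = ⊤ ∨ N ≤ center H := by
  haveI := h.2
  have hmapN : (N.map (QuotientGroup.mk' (center H))).Normal :=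
    hN.map _ (QuotientGroup.mk'_surjective _)
  rcases hmapN.eq_bot_or_eq_top with hb | ht
  · right
    rw [Subgroup.map_eq_bot_iff, QuotientGroup.ker_mk'] at hb
    exact hb
  · left
    have h1 : N ⊔ center H = ⊤ := by
      have := congrArg (Subgroup.comap (QuotientGroup.mk' (center H))) ht
      rw [Subgroup.comap_map_eq, QuotientGroup.ker_mk', Subgroup.comap_top] at this
      exact this
    have h2 : (⊤ : Subgroup H) ≤ N := by
      calc (⊤ : Subgroup H) = commutator H := (quasisimple_commutator_eq_top h).symm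
        _ = ⁅(⊤ : Subgroup H), ⊤⁆ := rfl
        _ = ⁅N ⊔ center H, N ⊔ center H⁆ := by rw [h1]
        _ ≤ ⁅N, N⁆ := commutator_sup_center_le N (center H) le_rfl
        _ ≤ N := Subgroup.commutator_le_self N
    exact top_le_iff.mp h2

/-- a subnormal subgroup of a quasisimple group is everything or central -/
theorem quasisimple_subnormal_eq_top_or_le_center (h : Cfsg.IsQuasisimple H) (K : Subgroup H)
    (hK : K.IsSubnormal) : K = ⊤ ∨ K ≤ center H := by
  rcases hK.lt_normal with rfl | ⟨N, hN, hKN, hNt⟩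
  · exact Or.inl rfl
  · right
    rcases quasisimple_normal_eq_top_or_le_center h N with rfl | hc
    · exact absurd rfl hNt.ne
    · exact hKN.trans hc

end

end Cfsg.Agent.Helper7
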