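import Mathlib
import Cfsg.Prelude.Def_Local
import Cfsg.Agent.Lib.Helper7.Quasisimple

set_option autoImplicit false

namespace Cfsg.Agent.Helper7

open Subgroup
open scoped commutatorElement Pointwise

variable {G : Type*} [Group G]

/-! ### nilpotent subgroups -/

theorem isNilpotent_of_le {K' K : Subgroup G} (h : K' ≤ K) (hK : Group.IsNilpotent ↥K) :
    Group.IsNilpotent ↥K' := by
  obtain ⟨c, hc⟩ := (Subgroup.isNilpotent_iff_lowerCentralSeries K).mp hK
  rw [Subgroup.isNilpotent_iff_lowerCentralSeries]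
  refine ⟨c, ?_⟩
  rw [eq_bot_iff, ← hc]
  exact Subgroup.lowerCentralSeries_mono c h

/-- In a nilpotent group `Q ⊔ B`, a nontrivial `Q` satisfies `⁅Q, B⁆ ≠ Q`. -/
theorem commutator_ne_self_of_isNilpotent_sup {Q B : Subgroup G}
    (hnil : Group.IsNilpotent ↥(Q ⊔ B)) (hQ : Q ≠ ⊥) : ⁅Q, B⁆ ≠ Q := by
  intro h
  obtain ⟨c, hc⟩ := (Subgroup.isNilpotent_iff_lowerCentralSeries (Q ⊔ B)).mp hnil
  have key : ∀ k, Q ≤ (Q ⊔ B).lowerCentralSeries k := by
    intro k
    induction k with
    | zero => exact le_sup_left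
    | succ k ih =>
      rw [Subgroup.lowerCentralSeries_succ]
      calc Q = ⁅Q, B⁆ := h.symm
        _ ≤ ⁅(Q ⊔ B).lowerCentralSeries k, Q ⊔ B⁆ := Subgroup.commutator_mono ih le_sup_right
  have := key c
  rw [hc, le_bot_iff] at this
  exact hQ this

/-- normalizers and commutators -/
theorem normalizer_inf_normalizer_le_normalizer_commutator (X Y : Subgroup G) :
    Subgroup.normalizer (X : Set G) ⊓ Subgroup.normalizer (Y : Set G) ≤
      Subgroup.normalizer ((⁅X, Y⁆ : Subgroup G) : Set G) := by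
  rintro g ⟨hgX, hgY⟩
  replace hgX : g ∈ Subgroup.normalizer (X : Set G) := hgX
  replace hgY : g ∈ Subgroup.normalizer (Y : Set G) := hgY
  rw [Subgroup.mem_normalizer_iff_map_conj_eq] at hgX hgY
  rw [Subgroup.mem_normalizer_iff_map_conj_eq, Subgroup.map_commutator, hgX, hgY]

/-! ### the stability lemma -/

theorem conj_pow_eq_mul_pow (a x z : G) (hz : a * x * a⁻¹ = x * z) (hza : a * z * a⁻¹ = z) :
    ∀ k : ℕ, a ^ k * x * (a ^ k)⁻¹ = x * z ^ k
  | 0 => by simp
  | k + 1 => by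
    have ih := conj_pow_eq_mul_pow a x z hz hza k
    have hzk : a * z ^ k * a⁻¹ = z ^ k := by
      have : a * z ^ k * a⁻¹ = (a * z * a⁻¹) ^ k := by
        rw [conj_pow]
      rw [this, hza]
    calc a ^ (k + 1) * x * (a ^ (k + 1))⁻¹ = a * (a ^ k * x * (a ^ k)⁻¹) * a⁻¹ := by
          rw [pow_succ']; group
      _ = a * (x * z ^ k) * a⁻¹ := by rw [ih]
      _ = (a * x * a⁻¹) * (a * z ^ k * a⁻¹) := by group
      _ = x * z * z ^ k := by rw [hz, hzk]
      _ = x * z ^ (k + 1) := by rw [pow_succ']; group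

/-- one step of the stability argument: `a` of order prime to that of `z = x⁻¹ (a x a⁻¹)`, and
`a` centralizes `z`: then `a` centralizes `x`. -/
theorem conj_eq_self_of_coprime (a x : G) (hfin : IsOfFinOrder a)
    (hza : a * (x⁻¹ * (a * x * a⁻¹)) * a⁻¹ = x⁻¹ * (a * x * a⁻¹))
    (hcop : (orderOf a).Coprime (orderOf (x⁻¹ * (a * x * a⁻¹)))) : a * x * a⁻¹ = x := by
  set z := x⁻¹ * (a * x * a⁻¹) with hz
  have h1 : a * x * a⁻¹ = x * z := by rw [hz]; group
  have h2 := conj_pow_eq_mul_pow a x z h1 hza (orderOf a)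
  rw [pow_orderOf_eq_one] at h2
  have h3 : z ^ orderOf a = 1 := by
    have : x * z ^ orderOf a = x := by rw [← h2]; group
    exact mul_eq_left.mp this
  have h4 : orderOf z ∣ orderOf a := orderOf_dvd_of_pow_eq_one h3
  have h5 : orderOf z = 1 := Nat.Coprime.eq_one_of_dvd hcop.symm h4
  rw [orderOf_eq_one_iff] at h5
  rw [h1, h5, mul_one]

/-- `⁅Q, A⁆ ≤ Q` if `A` normalizes `Q`. -/
theorem commutator_le_of_le_normalizer {Q A : Subgroup G}
    (hA : A ≤ Subgroup.normalizer (Q : Set G)) : ⁅Q, A⁆ ≤ Q := by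
  rw [Subgroup.commutator_le]
  intro q hq a ha
  have h1 : a * q⁻¹ * a⁻¹ ∈ Q := by
    have := hA ha
    rw [Subgroup.mem_normalizer_iff] at this
    exact (this q⁻¹).mp (Q.inv_mem hq)
  have : ⁅q, a⁆ = q * (a * q⁻¹ * a⁻¹) := by
    simp only [commutatorElement_def]; group
  rw [this]
  exact Q.mul_mem hq h1

theorem le_normalizer_of_commutator_eq_bot {A B : Subgroup G} (h : ⁅A, B⁆ = ⊥) :
    A ≤ Subgroup.normalizer (B : Set G) := by
  have : A ≤ Subgroup.centralizer (B : Set G) :=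
    (Subgroup.commutator_eq_bot_iff_le_centralizer).mp h
  exact this.trans (Subgroup.centralizer_le_normalizer _)

/-- If `A` centralizes `⁅Q, A⁆` and the orders are coprime, `A` centralizes `Q`. -/
theorem le_centralizer_of_commutator_commutator_eq_bot [Finite G] {Q A : Subgroup G}
    (hcop : (Nat.card A).Coprime (Nat.card Q))
    (hAQ : A ≤ Subgroup.normalizer (Q : Set G))
    (h : ⁅⁅Q, A⁆, A⁆ = ⊥) : Q ≤ Subgroup.centralizer (A : Set G) := by
  intro x hx
  rw [Subgroup.mem_centralizer_iff]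
  intro a ha
  have hxa : x⁻¹ * (a * x * a⁻¹) ∈ ⁅Q, A⁆ := by
    have : x⁻¹ * (a * x * a⁻¹) = ⁅x⁻¹, a⁆ := by
      simp only [commutatorElement_def]; group
    rw [this]
    exact Subgroup.commutator_mem_commutator (Q.inv_mem hx) ha
  have hzQ : x⁻¹ * (a * x * a⁻¹) ∈ Q := commutator_le_of_le_normalizer hAQ hxa
  have hcen : ⁅Q, A⁆ ≤ Subgroup.centralizer (A : Set G) :=
    (Subgroup.commutator_eq_bot_iff_le_centralizer).mp h
  have hza : a * (x⁻¹ * (a * x * a⁻¹)) * a⁻¹ = x⁻¹ * (a * x * a⁻¹) := by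
    have := (Subgroup.mem_centralizer_iff.mp (hcen hxa)) a ha
    rw [this]; group
  have ho1 : orderOf a ∣ Nat.card A := by
    have := Subgroup.orderOf_dvd_natCard A ha
    exact this
  have ho2 : orderOf (x⁻¹ * (a * x * a⁻¹)) ∣ Nat.card Q := Subgroup.orderOf_dvd_natCard Q hzQ
  have hc : (orderOf a).Coprime (orderOf (x⁻¹ * (a * x * a⁻¹))) :=
    Nat.Coprime.coprime_dvd_left ho1 (Nat.Coprime.coprime_dvd_right ho2 hcop)
  have := conj_eq_self_of_coprime a x (isOfFinOrder_of_finite a) hza hc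
  calc a * x = a * x * a⁻¹ * a := by group
    _ = x * a := by rw [this]

/-- **Generalized Thompson `A × B` lemma.**  `A`, `B` normalize `Q`, commute with each other,
`|A|` prime to `|Q|`, `Q ⊔ B` nilpotent, and `A` centralizes `C_Q(B)`: then `A` centralizes
`Q`. -/
theorem thompson_AxB [Finite G] (Q A B : Subgroup G)
    (hAQ : A ≤ Subgroup.normalizer (Q : Set G)) (hBQ : B ≤ Subgroup.normalizer (Q : Set G))
    (hAB : ⁅A, B⁆ = ⊥) (hcop : (Nat.card A).Coprime (Nat.card Q))
    (hnil : Group.IsNilpotent ↥(Q ⊔ B))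
    (hC : Q ⊓ Subgroup.centralizer (B : Set G) ≤ Subgroup.centralizer (A : Set G)) :
    Q ≤ Subgroup.centralizer (A : Set G) := by
  induction hn : Nat.card Q using Nat.strong_induction_on generalizing Q with
  | _ n ih =>
    subst hn
    have hAA : A ≤ Subgroup.normalizer (A : Set G) := Subgroup.le_normalizer
    have hBB : B ≤ Subgroup.normalizer (B : Set G) := Subgroup.le_normalizer
    have hAB' : A ≤ Subgroup.normalizer (B : Set G) := le_normalizer_of_commutator_eq_bot hAB
    have hBA' : B ≤ Subgroup.normalizer (A : Set G) :=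
      le_normalizer_of_commutator_eq_bot (by rw [Subgroup.commutator_comm]; exact hAB)
    -- generic application of the induction hypothesis to a proper subgroup of `Q`
    have step : ∀ Q' : Subgroup G, Q' ≤ Q → Q' ≠ Q →
        A ≤ Subgroup.normalizer (Q' : Set G) → B ≤ Subgroup.normalizer (Q' : Set G) →
        Q' ≤ Subgroup.centralizer (A : Set G) := by
      intro Q' hle hne hA' hB'
      have hlt : Q' < Q := lt_of_le_of_ne hle hne
      have hcard : Nat.card Q' < Nat.card Q := by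
        have h1 : Nat.card Q' ∣ Nat.card Q := Subgroup.card_dvd_of_le hle
        have h2 : Nat.card Q' ≤ Nat.card Q := Nat.le_of_dvd Nat.card_pos h1
        rcases lt_or_eq_of_le h2 with h | h
        · exact h
        · exact absurd (Subgroup.eq_of_le_of_card_ge hle h.ge) hne
      refine ih (Nat.card Q') hcard Q' hA' hB' ?_ ?_ ?_ rfl
      · exact Nat.Coprime.coprime_dvd_right (Subgroup.card_dvd_of_le hle) hcop
      · exact isNilpotent_of_le (sup_le_sup_right hle B) hnil
      · exact (inf_le_inf_right _ hle).trans hC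
    by_cases hQ1 : ⁅Q, A⁆ = Q
    · -- `⁅Q, A⁆ = Q`
      by_cases hQbot : Q = ⊥
      · rw [hQbot]; exact bot_le
      have hQ2ne : ⁅Q, B⁆ ≠ Q := commutator_ne_self_of_isNilpotent_sup hnil hQbot
      have hQ2le : ⁅Q, B⁆ ≤ Q := commutator_le_of_le_normalizer hBQ
      have hA2 : A ≤ Subgroup.normalizer ((⁅Q, B⁆ : Subgroup G) : Set G) :=
        (le_inf hAQ hAB').trans (normalizer_inf_normalizer_le_normalizer_commutator Q B)
      have hB2 : B ≤ Subgroup.normalizer ((⁅Q, B⁆ : Subgroup G) : Set G) :=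
        (le_inf hBQ hBB).trans (normalizer_inf_normalizer_le_normalizer_commutator Q B)
      have h2 := step ⁅Q, B⁆ hQ2le hQ2ne hA2 hB2
      have h3 : ⁅⁅Q, B⁆, A⁆ = ⊥ :=
        (Subgroup.commutator_eq_bot_iff_le_centralizer).mpr h2
      have h4 : ⁅⁅B, A⁆, Q⁆ = ⊥ := by
        rw [Subgroup.commutator_comm B A, hAB, Subgroup.commutator_bot_left]
      have h5 : ⁅⁅A, Q⁆, B⁆ = ⊥ := Subgroup.commutator_commutator_eq_bot_of_rotate h3 h4
      rw [Subgroup.commutator_comm A Q, hQ1] at h5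
      have h6 : Q ≤ Subgroup.centralizer (B : Set G) :=
        (Subgroup.commutator_eq_bot_iff_le_centralizer).mp h5
      exact (le_inf le_rfl h6).trans hC
    · -- `⁅Q, A⁆ < Q`
      have hQ1le : ⁅Q, A⁆ ≤ Q := commutator_le_of_le_normalizer hAQ
      have hA1 : A ≤ Subgroup.normalizer ((⁅Q, A⁆ : Subgroup G) : Set G) :=
        (le_inf hAQ hAA).trans (normalizer_inf_normalizer_le_normalizer_commutator Q A)
      have hB1 : B ≤ Subgroup.normalizer ((⁅Q, A⁆ : Subgroup G) : Set G) :=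
        (le_inf hBQ hBA').trans (normalizer_inf_normalizer_le_normalizer_commutator Q A)
      have h1 := step ⁅Q, A⁆ hQ1le hQ1 hA1 hB1
      have h2 : ⁅⁅Q, A⁆, A⁆ = ⊥ :=
        (Subgroup.commutator_eq_bot_iff_le_centralizer).mpr h1
      exact le_centralizer_of_commutator_commutator_eq_bot hcop hAQ h2

end Cfsg.Agent.Helper7
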