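import Mathlib

set_option autoImplicit false

namespace Cfsg.Agent.Helper7

open scoped Pointwise

variable {G : Type*} [Group G]

/-- In a finite group a conjugate of `A` contained in `A` equals `A`. -/
theorem conj_smul_eq_of_le [Finite G] (A : Subgroup G) (k : G)
    (h : MulAut.conj k • A ≤ A) : MulAut.conj k • A = A := by
  apply Subgroup.eq_of_le_of_card_ge h
  have e : A ≃ (MulAut.conj k • A : Subgroup G) := (Subgroup.equivSMul (MulAut.conj k) A).toEquiv
  exact (Nat.card_congr e).le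

theorem mem_conj_smul_iff (A : Subgroup G) (k y : G) :
    y ∈ MulAut.conj k • A ↔ k⁻¹ * y * k ∈ A := by
  rw [Subgroup.mem_pointwise_smul_iff_inv_smul_mem]
  simp [MulAut.smul_def, MulAut.conj_apply]

theorem conj_mem_conj_smul (A : Subgroup G) (k a : G) (ha : a ∈ A) :
    k * a * k⁻¹ ∈ MulAut.conj k • A :=
  ⟨a, ha, by simp [MulAut.conj_apply]⟩

/-- A `p`-subgroup `R` of a subgroup `H` containing the Sylow `p`-subgroup `S` of `G` is
conjugate by an element of `H` into `S`. -/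
theorem exists_conj_le_sylow_of_le [Finite G] {p : ℕ} [Fact p.Prime] (S : Sylow p G)
    (H : Subgroup G) (hSH : (S : Subgroup G) ≤ H) (R : Subgroup G) (hR : IsPGroup p R)
    (hRH : R ≤ H) : ∃ h ∈ H, MulAut.conj h • R ≤ (S : Subgroup G) := by
  have hR' : IsPGroup p (R.subgroupOf H) := hR.comap_subtype
  obtain ⟨Q, hQ⟩ := hR'.exists_le_sylow
  obtain ⟨h, hh⟩ := MulAction.exists_smul_eq H Q (S.subtype hSH)
  refine ⟨h, h.2, ?_⟩
  rintro _ ⟨r, hr, rfl⟩
  have h1 : (⟨r, hRH hr⟩ : H) ∈ (Q : Subgroup H) := hQ (show (⟨r, hRH hr⟩ : H) ∈ R.subgroupOf H from hr)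
  have h2 : h * ⟨r, hRH hr⟩ * h⁻¹ ∈ ((h • Q : Sylow p H) : Subgroup H) := by
    rw [Sylow.coe_subgroup_smul]
    exact ⟨_, h1, by simp [MulAut.conj_apply]⟩
  rw [hh] at h2
  have h3 : ((h * ⟨r, hRH hr⟩ * h⁻¹ : H) : G) ∈ (S : Subgroup G) := h2
  simpa [MulAut.conj_apply] using h3

/-- A `p`-element `y` of a subgroup `H` containing the Sylow `p`-subgroup `S` of `G` is
conjugate by an element of `H` into `S`. -/
theorem exists_conj_mem_sylow_of_le [Finite G] {p : ℕ} [Fact p.Prime] (S : Sylow p G)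
    (H : Subgroup G) (hSH : (S : Subgroup G) ≤ H) (y : G) (hy : IsPGroup p (Subgroup.zpowers y))
    (hyH : y ∈ H) : ∃ h ∈ H, h * y * h⁻¹ ∈ (S : Subgroup G) := by
  obtain ⟨h, hh, hle⟩ := exists_conj_le_sylow_of_le S H hSH (Subgroup.zpowers y) hy
    (by rw [Subgroup.zpowers_le]; exact hyH)
  exact ⟨h, hh, hle (conj_mem_conj_smul _ h y (Subgroup.mem_zpowers y))⟩

end Cfsg.Agent.Helper7
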