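import Mathlib
import Cfsg.Prelude.Def_Local
import Cfsg.Agent.Lib.Helper7.Quasisimple

set_option autoImplicit false

namespace Cfsg.Agent.Helper7

open Subgroup
open scoped commutatorElement

universe u

variable {G : Type*} [Group G]

/-! ### translation between a subgroup and the ambient group -/

theorem commutator_subgroupOf_eq_bot_iff {A B X : Subgroup G} (hA : A ≤ X) (hB : B ≤ X) :
    ⁅A.subgroupOf X, B.subgroupOf X⁆ = ⊥ ↔ ⁅A, B⁆ = ⊥ := by
  rw [← Subgroup.map_eq_bot_iff_of_injective _ X.subtype_injective, Subgroup.map_commutator,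
    Subgroup.map_subgroupOf_eq_of_le hA, Subgroup.map_subgroupOf_eq_of_le hB]

theorem subgroupOf_le_subgroupOf_iff {A B X : Subgroup G} (hA : A ≤ X) :
    A.subgroupOf X ≤ B.subgroupOf X ↔ A ≤ B := by
  constructor
  · intro h a ha
    exact h (show (⟨a, hA ha⟩ : X) ∈ A.subgroupOf X from ha)
  · intro h
    exact Subgroup.comap_mono h

theorem isQuasisimple_subgroupOf {L X : Subgroup G} (hLX : L ≤ X) :
    Cfsg.IsQuasisimple ↥(L.subgroupOf X) ↔ Cfsg.IsQuasisimple ↥L :=
  isQuasisimple_congr (Subgroup.subgroupOfEquivOfLe hLX)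

theorem isQuasisimple_map_subtype {X : Subgroup G} (K : Subgroup X) :
    Cfsg.IsQuasisimple ↥(K.map X.subtype) ↔ Cfsg.IsQuasisimple ↥K :=
  (isQuasisimple_congr (K.equivMapOfInjective X.subtype X.subtype_injective)).symm

theorem isComponent_subgroupOf {L X : Subgroup G} (hLX : L ≤ X) (hL : Cfsg.IsComponent L) :
    Cfsg.IsComponent (L.subgroupOf X) :=
  ⟨hL.1.subgroupOf, (isQuasisimple_subgroupOf hLX).mpr hL.2⟩

/-- components of a subnormal subgroup are components of the group (S1260) -/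
theorem isComponent_map_subtype_iff {H : Subgroup G} (hH : H.IsSubnormal) (K : Subgroup H) :
    Cfsg.IsComponent K ↔ Cfsg.IsComponent (K.map H.subtype) := by
  constructor
  · rintro ⟨hsn, hq⟩
    exact ⟨hsn.trans' hH, (isQuasisimple_map_subtype K).mpr hq⟩
  · rintro ⟨hsn, hq⟩
    refine ⟨?_, (isQuasisimple_map_subtype K).mp hq⟩
    have := hsn.subgroupOf (K := H)
    rwa [Subgroup.subgroupOf, Subgroup.comap_map_eq_self_of_injective H.subtype_injective] at this

theorem isComponent_of_isComponent_subgroupOf {L X : Subgroup G} (hLX : L ≤ X) (hX : X.IsSubnormal)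
    (hL : Cfsg.IsComponent (L.subgroupOf X)) : Cfsg.IsComponent L := by
  have := (isComponent_map_subtype_iff hX (L.subgroupOf X)).mp hL
  rwa [Subgroup.map_subgroupOf_eq_of_le hLX] at this

theorem component_perfect {L : Subgroup G} (hL : Cfsg.IsComponent L) : ⁅L, L⁆ = L := by
  haveI := hL.2.1
  exact Subgroup.commutator_eq_self

theorem component_ne_bot {L : Subgroup G} (hL : Cfsg.IsComponent L) : L ≠ ⊥ := by
  haveI := quasisimple_nontrivial hL.2
  exact (Subgroup.nontrivial_iff_ne_bot L).mp inferInstance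

theorem card_lt_of_lt_top [Finite G] {X : Subgroup G} (hX : X < ⊤) : Nat.card X < Nat.card G := by
  apply lt_of_le_of_ne X.card_le_card_group
  intro h
  exact hX.ne (Subgroup.eq_top_of_card_eq X h)

/-! ### a component and a subnormal subgroup -/

/-- **Main lemma** (S1261): a component `L` and a subnormal subgroup `H` of a finite group satisfy
`L ≤ H` or `⁅L, H⁆ = 1`. -/
theorem component_le_or_commutator_eq_bot : ∀ (n : ℕ) (G : Type u) [Group G] [Finite G],
    Nat.card G = n → ∀ (L H : Subgroup G), Cfsg.IsComponent L → H.IsSubnormal →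
      L ≤ H ∨ ⁅L, H⁆ = ⊥ := by
  intro n
  induction n using Nat.strong_induction_on with
  | _ n ih =>
  intro G _ _ hn L H hL hH
  by_cases hLt : L = ⊤
  · -- G is quasisimple
    subst hLt
    have hq : Cfsg.IsQuasisimple G := isQuasisimple_of_mulEquiv Subgroup.topEquiv hL.2
    rcases quasisimple_subnormal_eq_top_or_le_center hq H hH with rfl | hc
    · exact Or.inl le_rfl
    · right
      rw [Subgroup.commutator_top_left_eq_bot_iff_le_center]
      exact hc
  by_cases hHt : H = ⊤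
  · subst hHt; exact Or.inl le_top
  obtain ⟨X, hXn, hLX, hXt⟩ := hL.1.exists_normal_and_le_and_lt_top_of_ne hLt
  obtain ⟨Y, hYn, hHY, hYt⟩ := hH.exists_normal_and_le_and_lt_top_of_ne hHt
  have hcardX : Nat.card X < n := hn ▸ card_lt_of_lt_top hXt
  have hcardY : Nat.card Y < n := hn ▸ card_lt_of_lt_top hYt
  -- apply induction in X to L and X ⊓ Y
  have hLX' : Cfsg.IsComponent (L.subgroupOf X) := isComponent_subgroupOf hLX hL
  have hXYn : ((X ⊓ Y).subgroupOf X).Normal := by
    haveI : (X ⊓ Y).Normal := Subgroup.normal_inf_normal X Y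
    exact Subgroup.normal_subgroupOf
  rcases ih _ hcardX X rfl _ _ hLX' hXYn.isSubnormal with h1 | h1
  · -- L ≤ X ⊓ Y ≤ Y
    have hLY : L ≤ Y := ((subgroupOf_le_subgroupOf_iff hLX).mp h1).trans inf_le_right
    have hLY' : Cfsg.IsComponent (L.subgroupOf Y) := isComponent_subgroupOf hLY hL
    rcases ih _ hcardY Y rfl _ _ hLY' (hH.subgroupOf (K := Y)) with h2 | h2
    · exact Or.inl ((subgroupOf_le_subgroupOf_iff hLY).mp h2)
    · exact Or.inr ((commutator_subgroupOf_eq_bot_iff hLY hHY).mp h2)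
  · -- ⁅L, X ⊓ Y⁆ = ⊥
    right
    have h2 : ⁅L, X ⊓ Y⁆ = ⊥ := (commutator_subgroupOf_eq_bot_iff hLX inf_le_left).mp h1
    have hYL : ⁅Y, L⁆ ≤ X ⊓ Y := by
      apply le_inf
      · exact (Subgroup.commutator_mono le_rfl hLX).trans (Subgroup.commutator_le_right Y X)
      · exact Subgroup.commutator_le_left Y L
    have h3 : ⁅⁅Y, L⁆, L⁆ = ⊥ := by
      rw [eq_bot_iff]
      calc ⁅⁅Y, L⁆, L⁆ ≤ ⁅X ⊓ Y, L⁆ := Subgroup.commutator_mono hYL le_rfl
        _ = ⊥ := by rw [Subgroup.commutator_comm]; exact h2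
    have h4 : ⁅⁅L, Y⁆, L⁆ = ⊥ := by rw [Subgroup.commutator_comm L Y]; exact h3
    have h5 : ⁅⁅L, L⁆, Y⁆ = ⊥ := Subgroup.commutator_commutator_eq_bot_of_rotate h4 h3
    rw [component_perfect hL] at h5
    rw [eq_bot_iff]
    calc ⁅L, H⁆ ≤ ⁅L, Y⁆ := Subgroup.commutator_mono le_rfl hHY
      _ = ⊥ := h5

end Cfsg.Agent.Helper7
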