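import Mathlib
import Cfsg.Prelude.Def_Local
import Cfsg.Agent.Lib.Helper7.Components

set_option autoImplicit false

namespace Cfsg.Agent.Helper7

open Subgroup
open scoped commutatorElement

universe u

variable {G : Type u} [Group G]

theorem component_le_or_commutator_eq_bot' [Finite G] (L H : Subgroup G)
    (hL : Cfsg.IsComponent L) (hH : H.IsSubnormal) : L ≤ H ∨ ⁅L, H⁆ = ⊥ :=
  component_le_or_commutator_eq_bot _ G rfl L H hL hH

theorem not_isSolvable_of_component {L : Subgroup G} (hL : Cfsg.IsComponent L) :
    ¬ Group.IsSolvable ↥L := quasisimple_not_isSolvable hL.2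

/-- A component commutes with every solvable subgroup it normalizes (S1262). -/
theorem component_commutator_solvable_eq_bot [Finite G] (L H : Subgroup G)
    (hL : Cfsg.IsComponent L) (hsolv : Group.IsSolvable ↥H)
    (hinv : L ≤ Subgroup.normalizer (H : Set G)) : ⁅L, H⁆ = ⊥ := by
  set K : Subgroup G := L ⊔ H with hK
  have hLK : L ≤ K := le_sup_left
  have hHK : H ≤ K := le_sup_right
  have hKN : K ≤ Subgroup.normalizer (H : Set G) := sup_le hinv Subgroup.le_normalizer
  have hHn : (H.subgroupOf K).Normal := (Subgroup.normal_subgroupOf_iff_le_normalizer hHK).mpr hKN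
  have hL' : Cfsg.IsComponent (L.subgroupOf K) := isComponent_subgroupOf hLK hL
  rcases component_le_or_commutator_eq_bot' _ _ hL' hHn.isSubnormal with h | h
  · exfalso
    have hLH : L ≤ H := (subgroupOf_le_subgroupOf_iff hLK).mp h
    have : Group.IsSolvable ↥L :=
      solvable_of_solvable_injective (Subgroup.inclusion_injective hLH)
    exact not_isSolvable_of_component hL this
  · exact (commutator_subgroupOf_eq_bot_iff hLK hHK).mp h

/-- every component lies in a normal subgroup `Y` with `C(Y) ≤ Y` -/
theorem component_le_of_centralizer_le [Finite G] (L Y : Subgroup G) [Y.Normal]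
    (hL : Cfsg.IsComponent L) (hC : Subgroup.centralizer (Y : Set G) ≤ Y) : L ≤ Y := by
  rcases component_le_or_commutator_eq_bot' L Y hL (Subgroup.Normal.isSubnormal inferInstance) with h | h
  · exact h
  · exact (Subgroup.commutator_eq_bot_iff_le_centralizer.mp h).trans hC

theorem layer_le_of_centralizer_le [Finite G] (Y : Subgroup G) [Y.Normal]
    (hC : Subgroup.centralizer (Y : Set G) ≤ Y) : Cfsg.layer G ≤ Y := by
  unfold Cfsg.layer
  exact sSup_le fun L hL => component_le_of_centralizer_le L Y hL hC

end Cfsg.Agent.Helper7
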