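import Mathlib
import Cfsg.Prelude.Def_Local
import Cfsg.Agent.Lib.Helper7.Quasisimple

set_option autoImplicit false

namespace Cfsg.Agent.Helper7

open Subgroup
open scoped commutatorElement

variable {G : Type*} [Group G]

/-- shifted lower central series: `lcsShift M 0 = ⊤`, `lcsShift M (i+1) = γ_{i+1}(M)`. -/
def lcsShift (M : Subgroup G) : ℕ → Subgroup G
  | 0 => ⊤
  | i + 1 => M.lowerCentralSeries i

theorem lcsShift_normal (M : Subgroup G) [M.Normal] : ∀ i, (lcsShift M i).Normal
  | 0 => by unfold lcsShift; infer_instance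
  | i + 1 => by unfold lcsShift; infer_instance

theorem commutator_lcsShift_le (M : Subgroup G) [M.Normal] (i : ℕ) (B : Subgroup G) :
    ⁅lcsShift M i ⊓ B, M⁆ ≤ lcsShift M (i + 1) := by
  cases i with
  | zero =>
    show ⁅lcsShift M 0 ⊓ B, M⁆ ≤ M.lowerCentralSeries 0
    exact Subgroup.commutator_le_right _ _
  | succ k =>
    show ⁅M.lowerCentralSeries k ⊓ B, M⁆ ≤ ⁅M.lowerCentralSeries k, M⁆
    exact Subgroup.commutator_mono inf_le_left le_rfl

/-- the bounding subgroups in Fitting's theorem -/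
def fittingBound (M N : Subgroup G) (n : ℕ) : Subgroup G :=
  ⨆ p : {p : ℕ × ℕ // p.1 + p.2 = n + 1}, lcsShift M p.1.1 ⊓ lcsShift N p.1.2

theorem le_fittingBound (M N : Subgroup G) (n i j : ℕ) (h : i + j = n + 1) :
    lcsShift M i ⊓ lcsShift N j ≤ fittingBound M N n :=
  le_iSup (fun p : {p : ℕ × ℕ // p.1 + p.2 = n + 1} => lcsShift M p.1.1 ⊓ lcsShift N p.1.2)
    ⟨(i, j), h⟩

theorem fittingBound_normal (M N : Subgroup G) [M.Normal] [N.Normal] (n : ℕ) :
    (fittingBound M N n).Normal := by
  unfold fittingBound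
  haveI : ∀ p : {p : ℕ × ℕ // p.1 + p.2 = n + 1},
      (lcsShift M p.1.1 ⊓ lcsShift N p.1.2).Normal := fun p => by
    haveI := lcsShift_normal M p.1.1
    haveI := lcsShift_normal N p.1.2
    exact Subgroup.normal_inf_normal _ _
  exact Subgroup.iSup_normal _

theorem lowerCentralSeries_sup_le (M N : Subgroup G) [M.Normal] [N.Normal] :
    ∀ n, (M ⊔ N).lowerCentralSeries n ≤ fittingBound M N n
  | 0 => by
    rw [Subgroup.lowerCentralSeries_zero]
    apply sup_le
    · have := le_fittingBound M N 0 1 0 rfl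
      simpa [lcsShift] using this
    · have := le_fittingBound M N 0 0 1 rfl
      simpa [lcsShift] using this
  | n + 1 => by
    rw [Subgroup.lowerCentralSeries_succ]
    haveI := fittingBound_normal M N (n + 1)
    refine (Subgroup.commutator_mono (lowerCentralSeries_sup_le M N n) le_rfl).trans ?_
    show ⁅⨆ p : {p : ℕ × ℕ // p.1 + p.2 = n + 1}, lcsShift M p.1.1 ⊓ lcsShift N p.1.2, M ⊔ N⁆ ≤
      fittingBound M N (n + 1)
    apply commutator_iSup_le
    rintro ⟨⟨i, j⟩, hij⟩
    simp only at hij ⊢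
    apply commutator_sup_le'
    · -- with M
      refine le_trans ?_ (le_fittingBound M N (n + 1) (i + 1) j (by omega))
      apply le_inf
      · exact commutator_lcsShift_le M i _
      · haveI := lcsShift_normal N j
        exact (Subgroup.commutator_mono inf_le_right le_rfl).trans (Subgroup.commutator_le_left _ _)
    · -- with N
      refine le_trans ?_ (le_fittingBound M N (n + 1) i (j + 1) (by omega))
      apply le_inf
      · haveI := lcsShift_normal M i
        exact (Subgroup.commutator_mono inf_le_left le_rfl).trans (Subgroup.commutator_le_left _ _)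
      · rw [inf_comm]
        exact commutator_lcsShift_le N j _

/-- **Fitting's theorem**: the join of two normal nilpotent subgroups is nilpotent. -/
theorem isNilpotent_sup_of_normal (M N : Subgroup G) [M.Normal] [N.Normal]
    (hM : Group.IsNilpotent ↥M) (hN : Group.IsNilpotent ↥N) : Group.IsNilpotent ↥(M ⊔ N) := by
  obtain ⟨c, hc⟩ := (Subgroup.isNilpotent_iff_lowerCentralSeries M).mp hM
  obtain ⟨d, hd⟩ := (Subgroup.isNilpotent_iff_lowerCentralSeries N).mp hN
  rw [Subgroup.isNilpotent_iff_lowerCentralSeries]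
  refine ⟨c + d + 1, ?_⟩
  rw [eq_bot_iff]
  refine (lowerCentralSeries_sup_le M N (c + d + 1)).trans ?_
  unfold fittingBound
  apply iSup_le
  rintro ⟨⟨i, j⟩, hij⟩
  simp only at hij ⊢
  by_cases hi : c + 1 ≤ i
  · obtain ⟨k, rfl⟩ : ∃ k, i = k + 1 := ⟨i - 1, by omega⟩
    have : lcsShift M (k + 1) ≤ ⊥ := by
      show M.lowerCentralSeries k ≤ ⊥
      rw [← hc]
      exact Subgroup.lowerCentralSeries_antitone M (by omega)
    exact inf_le_left.trans this
  · have hj : d + 1 ≤ j := by omega
    obtain ⟨k, rfl⟩ : ∃ k, j = k + 1 := ⟨j - 1, by omega⟩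
    have : lcsShift N (k + 1) ≤ ⊥ := by
      show N.lowerCentralSeries k ≤ ⊥
      rw [← hd]
      exact Subgroup.lowerCentralSeries_antitone N (by omega)
    exact inf_le_right.trans this

/-- the normal nilpotent subgroups -/
theorem fittingSubgroup_mem [Finite G] :
    (Cfsg.fittingSubgroup G).Normal ∧ Group.IsNilpotent ↥(Cfsg.fittingSubgroup G) := by
  unfold Cfsg.fittingSubgroup
  have hsc : SupClosed {N : Subgroup G | N.Normal ∧ Group.IsNilpotent ↥N} := by
    rintro M ⟨hMn, hM⟩ N ⟨hNn, hN⟩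
    exact ⟨Subgroup.sup_normal M N, isNilpotent_sup_of_normal M N hM hN⟩
  have hbot : (⊥ : Subgroup G) ∈ {N : Subgroup G | N.Normal ∧ Group.IsNilpotent ↥N} :=
    ⟨Subgroup.normal_bot, inferInstance⟩
  exact hsc.sSup_mem (Set.toFinite _) hbot subset_rfl

theorem fittingSubgroup_normal' : (Cfsg.fittingSubgroup G).Normal :=
  Subgroup.sSup_normal _ (fun _ h => h.1)

theorem fittingSubgroup_isNilpotent [Finite G] : Group.IsNilpotent ↥(Cfsg.fittingSubgroup G) :=
  fittingSubgroup_mem.2

theorem le_fittingSubgroup (N : Subgroup G) [hN : N.Normal] (h : Group.IsNilpotent ↥N) :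
    N ≤ Cfsg.fittingSubgroup G :=
  le_sSup (show N ∈ {N : Subgroup G | N.Normal ∧ Group.IsNilpotent ↥N} from ⟨hN, h⟩)

end Cfsg.Agent.Helper7
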