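import Mathlib
import Cfsg.Prelude.Def_Local
import Cfsg.Agent.Lib.Helper7.Fitting
import Cfsg.Agent.Lib.Helper7.Components

set_option autoImplicit false

namespace Cfsg.Agent.Helper7

open Subgroup
open scoped commutatorElement

universe u

section
variable {G : Type*} [Group G]

theorem fittingSubgroup_characteristic : (Cfsg.fittingSubgroup G).Characteristic := by
  rw [Subgroup.characteristic_iff_map_le]
  intro φ
  rw [Subgroup.map_le_iff_le_comap]
  unfold Cfsg.fittingSubgroup
  apply sSup_le
  rintro N ⟨hNn, hN⟩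
  rw [← Subgroup.map_le_iff_le_comap]
  apply le_sSup
  refine (⟨?_, ?_⟩ : (N.map φ.toMonoidHom).Normal ∧ Group.IsNilpotent ↥(N.map φ.toMonoidHom))
  · exact hNn.map φ.toMonoidHom φ.surjective
  · haveI := hN
    exact Group.nilpotent_of_mulEquiv (N.equivMapOfInjective φ.toMonoidHom φ.injective)

theorem isNilpotent_map_subtype {N : Subgroup G} (K : Subgroup N) (h : Group.IsNilpotent ↥K) :
    Group.IsNilpotent ↥(K.map N.subtype) := by
  haveI := h
  exact Group.nilpotent_of_mulEquiv (K.equivMapOfInjective N.subtype N.subtype_injective)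

theorem isNilpotent_subgroupOf {H N : Subgroup G} (hHN : H ≤ N) (h : Group.IsNilpotent ↥H) :
    Group.IsNilpotent ↥(H.subgroupOf N) := by
  haveI := h
  exact Group.nilpotent_of_mulEquiv (Subgroup.subgroupOfEquivOfLe hHN).symm

/-- The Fitting subgroup of a normal subgroup lies in the Fitting subgroup. -/
theorem map_subtype_fittingSubgroup_le [Finite G] (N : Subgroup G) [N.Normal] :
    (Cfsg.fittingSubgroup ↥N).map N.subtype ≤ Cfsg.fittingSubgroup G := by
  haveI : (Cfsg.fittingSubgroup ↥N).Characteristic := fittingSubgroup_characteristic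
  haveI : ((Cfsg.fittingSubgroup ↥N).map N.subtype).Normal :=
    ConjAct.normal_of_characteristic_of_normal
  exact le_fittingSubgroup _ (isNilpotent_map_subtype _ fittingSubgroup_isNilpotent)

end

/-- A subnormal nilpotent subgroup of a finite group lies in the Fitting subgroup. -/
theorem subnormal_nilpotent_le_fittingSubgroup_aux : ∀ (n : ℕ) (G : Type u) [Group G] [Finite G],
    Nat.card G = n → ∀ H : Subgroup G, H.IsSubnormal → Group.IsNilpotent ↥H →
      H ≤ Cfsg.fittingSubgroup G := by
  intro n
  induction n using Nat.strong_induction_on with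
  | _ n ih =>
  intro G _ _ hn H hH hnil
  by_cases hHt : H = ⊤
  · subst hHt
    exact le_fittingSubgroup ⊤ hnil
  obtain ⟨N, hNn, hHN, hNt⟩ := hH.exists_normal_and_le_and_lt_top_of_ne hHt
  have hcard : Nat.card N < n := hn ▸ card_lt_of_lt_top hNt
  have h1 := ih _ hcard N rfl (H.subgroupOf N) hH.subgroupOf (isNilpotent_subgroupOf hHN hnil)
  have h2 := Subgroup.map_mono (f := N.subtype) h1
  rw [Subgroup.map_subgroupOf_eq_of_le hHN] at h2
  exact h2.trans (map_subtype_fittingSubgroup_le N)

theorem subnormal_nilpotent_le_fittingSubgroup {G : Type u} [Group G] [Finite G] (H : Subgroup G)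
    (hH : H.IsSubnormal) (hnil : Group.IsNilpotent ↥H) : H ≤ Cfsg.fittingSubgroup G :=
  subnormal_nilpotent_le_fittingSubgroup_aux _ G rfl H hH hnil

end Cfsg.Agent.Helper7
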