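import Mathlib
import Cfsg.Prelude.Def_Local
import Cfsg.Agent.Lib.Helper7.Quasisimple

set_option autoImplicit false

namespace Cfsg.Agent.Helper7

open Subgroup
open scoped commutatorElement

variable {X : Type*} [Group X]

/-- If `X / Z(X)` is simple and non-abelian then `X = X' Z(X)`. -/
theorem commutator_sup_center_eq_top (hs : IsSimpleGroup (X ⧸ center X))
    (hna : ¬ IsMulCommutative (X ⧸ center X)) : commutator X ⊔ center X = ⊤ := by
  have hn : ((commutator X).map (QuotientGroup.mk' (center X))).Normal :=
    Subgroup.Normal.map inferInstance _ (QuotientGroup.mk'_surjective _)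
  rcases hn.eq_bot_or_eq_top with hb | ht
  · exfalso
    apply hna
    rw [Subgroup.map_eq_bot_iff, QuotientGroup.ker_mk'] at hb
    -- commutator ≤ center means quotient is commutative
    exact (Subgroup.Normal.quotient_commutative_iff_commutator_le).mpr hb
  · have := congrArg (Subgroup.comap (QuotientGroup.mk' (center X))) ht
    rw [Subgroup.comap_map_eq, QuotientGroup.ker_mk', Subgroup.comap_top] at this
    exact this

theorem commutator_perfect_of_sup_center (h : commutator X ⊔ center X = ⊤) :
    ⁅commutator X, commutator X⁆ = commutator X := by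
  apply le_antisymm (Subgroup.commutator_le_self _)
  calc commutator X = ⁅(⊤ : Subgroup X), ⊤⁆ := rfl
    _ = ⁅commutator X ⊔ center X, commutator X ⊔ center X⁆ := by rw [h]
    _ ≤ ⁅commutator X, commutator X⁆ := commutator_sup_center_le _ _ le_rfl

/-- when `X = A Z(X)`, the centre of `A` is `A ∩ Z(X)`. -/
theorem center_eq_of_sup_center_eq_top (A : Subgroup X) (h : A ⊔ center X = ⊤) :
    center ↥A = (center X).subgroupOf A := by
  ext ⟨a, ha⟩
  rw [Subgroup.mem_subgroupOf, Subgroup.mem_center_iff, Subgroup.mem_center_iff]
  constructor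
  · intro hc
    -- centralizer of a contains A and the centre
    have h1 : A ≤ Subgroup.centralizer ({a} : Set X) := by
      intro b hb
      rw [Subgroup.mem_centralizer_singleton_iff]
      have := hc ⟨b, hb⟩
      have := congrArg Subtype.val this
      simpa using this
    have h2 : center X ≤ Subgroup.centralizer ({a} : Set X) := Subgroup.center_le_centralizer _
    have h3 : (⊤ : Subgroup X) ≤ Subgroup.centralizer ({a} : Set X) := h ▸ sup_le h1 h2
    intro g
    have := h3 (Subgroup.mem_top g)
    rw [Subgroup.mem_centralizer_singleton_iff] at this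
    exact this
  · intro hc g
    apply Subtype.ext
    exact hc g

/-- If `X / Z(X)` is simple and non-abelian then `X'` is quasisimple (S1258). -/
theorem quasisimple_commutator (hs : IsSimpleGroup (X ⧸ center X))
    (hna : ¬ IsMulCommutative (X ⧸ center X)) : Cfsg.IsQuasisimple ↥(commutator X) := by
  have h1 := commutator_sup_center_eq_top hs hna
  refine ⟨(Subgroup.isPerfect_iff).mpr (commutator_perfect_of_sup_center h1), ?_⟩
  -- the composite X' → X → X/Z is surjective with kernel Z(X')
  let f : ↥(commutator X) →* X ⧸ center X := (QuotientGroup.mk' (center X)).comp (commutator X).subtype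
  have hf : Function.Surjective f := by
    intro q
    obtain ⟨x, rfl⟩ := QuotientGroup.mk'_surjective _ q
    have hx : x ∈ commutator X ⊔ center X := h1 ▸ Subgroup.mem_top x
    obtain ⟨a, ha, z, hz, rfl⟩ := Subgroup.mem_sup_of_normal_right.mp hx
    refine ⟨⟨a, ha⟩, ?_⟩
    show (QuotientGroup.mk' (center X)) a = (QuotientGroup.mk' (center X)) (a * z)
    have hz1 : (QuotientGroup.mk' (center X)) z = 1 := (QuotientGroup.eq_one_iff z).mpr hz
    rw [map_mul, hz1, mul_one]
  have hker : f.ker = center ↥(commutator X) := by
    rw [center_eq_of_sup_center_eq_top _ h1]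
    ext ⟨a, ha⟩
    rw [MonoidHom.mem_ker, Subgroup.mem_subgroupOf]
    show (QuotientGroup.mk' (center X)) a = 1 ↔ a ∈ center X
    exact QuotientGroup.eq_one_iff a
  have e1 : ↥(commutator X) ⧸ f.ker ≃* X ⧸ center X := QuotientGroup.quotientKerEquivOfSurjective f hf
  have e2 : ↥(commutator X) ⧸ center ↥(commutator X) ≃* ↥(commutator X) ⧸ f.ker :=
    QuotientGroup.quotientMulEquivOfEq hker.symm
  exact (e2.trans e1).isSimpleGroup

end Cfsg.Agent.Helper7
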