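import Mathlib
import Cfsg.Prelude.Def_Local
import Cfsg.Agent.Lib.Helper7.Fitting2
import Cfsg.Agent.Lib.Helper7.Components2
import Cfsg.Agent.Lib.Helper7.Quasisimple2

set_option autoImplicit false

namespace Cfsg.Agent.Helper7

open Subgroup
open scoped commutatorElement Pointwise

universe u

section
variable {G : Type*} [Group G]

theorem isComponent_map_mulEquiv {G' : Type*} [Group G'] (φ : G ≃* G') {L : Subgroup G}
    (hL : Cfsg.IsComponent L) : Cfsg.IsComponent (L.map φ.toMonoidHom) :=
  ⟨hL.1.map φ.surjective,
    isQuasisimple_of_mulEquiv (L.equivMapOfInjective φ.toMonoidHom φ.injective) hL.2⟩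

theorem layer_characteristic : (Cfsg.layer G).Characteristic := by
  rw [Subgroup.characteristic_iff_map_le]
  intro φ
  rw [Subgroup.map_le_iff_le_comap]
  unfold Cfsg.layer
  apply sSup_le
  intro L hL
  rw [← Subgroup.map_le_iff_le_comap]
  exact le_sSup (show Cfsg.IsComponent (L.map φ.toMonoidHom) from isComponent_map_mulEquiv φ hL)

instance layer_normal : (Cfsg.layer G).Normal :=
  haveI := layer_characteristic (G := G)
  Subgroup.normal_of_characteristic _

instance fittingSubgroup_normal : (Cfsg.fittingSubgroup G).Normal :=
  fittingSubgroup_normal'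

theorem generalizedFittingSubgroup_characteristic :
    (Cfsg.generalizedFittingSubgroup G).Characteristic := by
  unfold Cfsg.generalizedFittingSubgroup
  haveI := layer_characteristic (G := G)
  haveI := fittingSubgroup_characteristic (G := G)
  infer_instance

instance generalizedFittingSubgroup_normal : (Cfsg.generalizedFittingSubgroup G).Normal :=
  haveI := generalizedFittingSubgroup_characteristic (G := G)
  Subgroup.normal_of_characteristic _

theorem component_le_layer {L : Subgroup G} (hL : Cfsg.IsComponent L) : L ≤ Cfsg.layer G :=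
  le_sSup hL

theorem layer_le_generalizedFittingSubgroup : Cfsg.layer G ≤ Cfsg.generalizedFittingSubgroup G :=
  le_sup_left

theorem fittingSubgroup_le_generalizedFittingSubgroup :
    Cfsg.fittingSubgroup G ≤ Cfsg.generalizedFittingSubgroup G :=
  le_sup_right

/-- If every proper normal subgroup of `X` is central then `X / Z(X)` has only trivial normal
subgroups. -/
theorem isSimpleGroup_quotient_center_of_forall_normal_le {X : Type*} [Group X]
    (hne : center X ≠ ⊤)
    (h : ∀ N : Subgroup X, N.Normal → N ≠ ⊤ → N ≤ center X) :
    IsSimpleGroup (X ⧸ center X) := by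
  haveI : Nontrivial (X ⧸ center X) := by
    by_contra hn
    rw [not_nontrivial_iff_subsingleton] at hn
    apply hne
    rw [eq_top_iff]
    intro x _
    have : (QuotientGroup.mk' (center X)) x = 1 := Subsingleton.elim _ _
    exact (QuotientGroup.eq_one_iff x).mp this
  refine ⟨fun Nbar hN => ?_⟩
  set N := Nbar.comap (QuotientGroup.mk' (center X)) with hNdef
  have hNn : N.Normal := hN.comap _
  by_cases hNt : N = ⊤
  · right
    have := congrArg (Subgroup.map (QuotientGroup.mk' (center X))) hNt
    rw [hNdef, Subgroup.map_comap_eq_self_of_surjective (QuotientGroup.mk'_surjective _),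
      Subgroup.map_top_of_surjective _ (QuotientGroup.mk'_surjective _)] at this
    exact this
  · left
    have h1 := h N hNn hNt
    rw [eq_bot_iff]
    intro q hq
    obtain ⟨x, rfl⟩ := QuotientGroup.mk'_surjective _ q
    have hx : x ∈ N := hq
    rw [Subgroup.mem_bot]
    exact (QuotientGroup.eq_one_iff x).mpr (h1 hx)

end

section
variable {G : Type u} [Group G] [Finite G]

/-- **Bender / Fitting**: the generalized Fitting subgroup contains its centralizer (S1265). -/
theorem centralizer_generalizedFittingSubgroup_le :
    Subgroup.centralizer (Cfsg.generalizedFittingSubgroup G : Set G) ≤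
      Cfsg.generalizedFittingSubgroup G := by
  set Fs := Cfsg.generalizedFittingSubgroup G with hFs
  set C := Subgroup.centralizer (Fs : Set G) with hC
  by_contra hcon
  -- the set of counterexamples
  let S : Set (Subgroup G) := {X | X.IsSubnormal ∧ X ≤ C ∧ ¬ X ≤ Fs}
  have hCS : C ∈ S := ⟨(inferInstance : C.Normal).isSubnormal, le_rfl, hcon⟩
  -- choose one of minimal cardinality
  obtain ⟨X, hXS, hXmin⟩ := Set.exists_min_image S (fun X : Subgroup G => Nat.card X)
    (Set.toFinite S) ⟨C, hCS⟩
  obtain ⟨hXsn, hXC, hXF⟩ := hXS
  -- Z = C ⊓ Fs commutes with C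
  have hcomm : ∀ c ∈ C, ∀ z ∈ Fs, z * c = c * z := fun c hc z hz =>
    Subgroup.mem_centralizer_iff.mp hc z hz
  -- proper normal subgroups of X are central in X
  have hprop : ∀ N : Subgroup ↥X, N.Normal → N ≠ ⊤ → N ≤ center ↥X := by
    intro N hNn hNt
    have hNsn : (N.map X.subtype).IsSubnormal := hNn.isSubnormal.trans' hXsn
    have hNX : N.map X.subtype ≤ X := Subgroup.map_subtype_le N
    have hNF : N.map X.subtype ≤ Fs := by
      by_contra hNF
      have hmem : N.map X.subtype ∈ S := ⟨hNsn, hNX.trans hXC, hNF⟩
      have hle := hXmin _ hmem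
      -- card N.map < card X
      have hlt : Nat.card (N.map X.subtype) < Nat.card X := by
        rw [Nat.card_congr (N.equivMapOfInjective X.subtype X.subtype_injective).symm.toEquiv]
        exact card_lt_of_lt_top hNt.lt_top
      omega
    intro n hn
    rw [Subgroup.mem_center_iff]
    intro x
    apply Subtype.ext
    have hnF : (n : G) ∈ Fs := hNF ⟨n, hn, rfl⟩
    have hxC : (x : G) ∈ C := hXC x.2
    have := hcomm x hxC n hnF
    simpa using this.symm
  -- X is not nilpotent
  have hXnil : ¬ Group.IsNilpotent ↥X := by
    intro hnil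
    exact hXF ((subnormal_nilpotent_le_fittingSubgroup X hXsn hnil).trans
      fittingSubgroup_le_generalizedFittingSubgroup)
  have hcne : center ↥X ≠ ⊤ := by
    intro hc
    apply hXnil
    haveI : IsMulCommutative ↥X := Subgroup.center_eq_top_iff.mp hc
    letI : CommGroup ↥X := { (inferInstance : Group ↥X) with mul_comm := fun a b => mul_comm' a b }
    infer_instance
  have hsimple : IsSimpleGroup (↥X ⧸ center ↥X) :=
    isSimpleGroup_quotient_center_of_forall_normal_le hcne hprop
  have hna : ¬ IsMulCommutative (↥X ⧸ center ↥X) := by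
    intro hab
    apply hXnil
    apply Group.of_quotient_center_nilpotent
    letI : CommGroup (↥X ⧸ center ↥X) :=
      { (inferInstance : Group (↥X ⧸ center ↥X)) with mul_comm := fun a b => mul_comm' a b }
    infer_instance
  have hq : Cfsg.IsQuasisimple ↥(commutator ↥X) := quasisimple_commutator hsimple hna
  -- X' is a component of G
  set X' : Subgroup G := (commutator ↥X).map X.subtype with hX'
  have hX'comp : Cfsg.IsComponent X' :=
    ⟨(inferInstance : (commutator ↥X).Normal).isSubnormal.trans' hXsn,
      (isQuasisimple_map_subtype _).mpr hq⟩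
  have hX'F : X' ≤ Fs := (component_le_layer hX'comp).trans layer_le_generalizedFittingSubgroup
  have hX'C : X' ≤ C := (Subgroup.map_subtype_le _).trans hXC
  -- so X' is abelian
  have hab : IsMulCommutative ↥X' := by
    refine ⟨⟨fun a b => ?_⟩⟩
    apply Subtype.ext
    have := hcomm a (hX'C a.2) b (hX'F b.2)
    simpa using this.symm
  exact quasisimple_not_isMulCommutative hX'comp.2 hab

end

end Cfsg.Agent.Helper7
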