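import Mathlib
import Cfsg.Prelude.Def_Local
import Cfsg.Agent.Lib.Helper7.FStar

set_option autoImplicit false

namespace Cfsg.Agent.Helper7

open Subgroup
open scoped commutatorElement Pointwise

universe u

variable {G : Type u} [Group G]

theorem layer_eq_bot_iff : Cfsg.layer G = ⊥ ↔ ∀ L : Subgroup G, ¬ Cfsg.IsComponent L := by
  constructor
  · intro h L hL
    have := component_le_layer hL
    rw [h, le_bot_iff] at this
    exact component_ne_bot hL this
  · intro h
    unfold Cfsg.layer
    rw [eq_bot_iff]
    exact sSup_le fun L hL => absurd hL (h L)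

/-- components centralize the Fitting subgroup -/
theorem component_commutator_fittingSubgroup [Finite G] {L : Subgroup G} (hL : Cfsg.IsComponent L) :
    ⁅L, Cfsg.fittingSubgroup G⁆ = ⊥ := by
  rw [eq_bot_iff]
  unfold Cfsg.fittingSubgroup
  apply commutator_sSup_le'
  rintro N ⟨hNn, hN⟩
  haveI := hN
  rw [component_commutator_solvable_eq_bot L N hL inferInstance
    (by rw [Subgroup.normalizer_eq_top]; exact le_top)]

/-- the layer centralizes the Fitting subgroup -/
theorem layer_commutator_fittingSubgroup [Finite G] :
    ⁅Cfsg.layer G, Cfsg.fittingSubgroup G⁆ = ⊥ := by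
  rw [eq_bot_iff]
  unfold Cfsg.layer
  apply commutator_sSup_le
  intro L hL
  rw [component_commutator_fittingSubgroup hL]

/-- S1326 -/
theorem centralizer_fittingSubgroup_le_iff [Finite G] :
    Subgroup.centralizer (Cfsg.fittingSubgroup G : Set G) ≤ Cfsg.fittingSubgroup G ↔
      Cfsg.layer G = ⊥ := by
  constructor
  · intro h
    rw [layer_eq_bot_iff]
    intro L hL
    have h1 : ⁅L, Cfsg.fittingSubgroup G⁆ = ⊥ := component_commutator_fittingSubgroup hL
    have h2 : L ≤ Cfsg.fittingSubgroup G :=
      (Subgroup.commutator_eq_bot_iff_le_centralizer.mp h1).trans h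
    have h3 : ⁅L, L⁆ = ⊥ := by
      rw [eq_bot_iff, ← h1]
      exact Subgroup.commutator_mono le_rfl h2
    rw [component_perfect hL] at h3
    exact component_ne_bot hL h3
  · intro h
    have h1 : Cfsg.generalizedFittingSubgroup G = Cfsg.fittingSubgroup G := by
      unfold Cfsg.generalizedFittingSubgroup
      rw [h, bot_sup_eq]
    have := centralizer_generalizedFittingSubgroup_le (G := G)
    rw [h1] at this
    exact this

end Cfsg.Agent.Helper7
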