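import Mathlib
import Cfsg.Prelude.Def_Local
import Cfsg.Agent.Lib.Helper7.FStar2

set_option autoImplicit false

namespace Cfsg.Agent.Helper7

open Subgroup
open scoped commutatorElement Pointwise

universe u

variable {G : Type u} [Group G]

theorem map_subtype_center (F : Subgroup G) :
    (center ↥F).map F.subtype = F ⊓ Subgroup.centralizer (F : Set G) := by
  ext x
  constructor
  · rintro ⟨y, hy, rfl⟩
    replace hy : y ∈ center ↥F := hy
    refine ⟨y.2, ?_⟩
    show (y : G) ∈ Subgroup.centralizer (F : Set G)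
    rw [Subgroup.mem_centralizer_iff]
    intro f hf
    have := (Subgroup.mem_center_iff.mp hy) ⟨f, hf⟩
    exact congrArg Subtype.val this
  · rintro ⟨hxF, hxC⟩
    replace hxC : x ∈ Subgroup.centralizer (F : Set G) := hxC
    refine ⟨⟨x, hxF⟩, ?_, rfl⟩
    show (⟨x, hxF⟩ : ↥F) ∈ center ↥F
    rw [Subgroup.mem_center_iff]
    intro f
    apply Subtype.ext
    exact Subgroup.mem_centralizer_iff.mp hxC f f.2

theorem normalizer_le_normalizer_commutator (N : Subgroup G) :
    Subgroup.normalizer (N : Set G) ≤ Subgroup.normalizer ((⁅N, N⁆ : Subgroup G) : Set G) := by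
  intro g hg
  rw [Subgroup.mem_normalizer_iff_map_conj_eq] at hg ⊢
  rw [Subgroup.map_commutator, hg]

/-- a group whose derived subgroup is central is nilpotent -/
theorem isNilpotent_of_commutator_le_center {N : Type*} [Group N]
    (h : commutator N ≤ center N) : Group.IsNilpotent N := by
  apply Group.of_quotient_center_nilpotent
  have hc : IsMulCommutative (N ⧸ center N) :=
    (Subgroup.Normal.quotient_commutative_iff_commutator_le).mpr h
  letI : CommGroup (N ⧸ center N) :=
    { (inferInstance : Group (N ⧸ center N)) with mul_comm := fun a b => mul_comm' a b }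
  infer_instance

/-- a subgroup `N` with `⁅⁅N, N⁆, N⁆ = ⊥` is nilpotent -/
theorem isNilpotent_of_commutator_commutator_eq_bot (N : Subgroup G) (h : ⁅⁅N, N⁆, N⁆ = ⊥) :
    Group.IsNilpotent ↥N := by
  apply isNilpotent_of_commutator_le_center
  intro c hc
  rw [Subgroup.mem_center_iff]
  intro n
  apply Subtype.ext
  have hc' : (c : G) ∈ ⁅N, N⁆ := by
    rw [← Subgroup.map_subtype_commutator]
    exact ⟨c, hc, rfl⟩
  have h1 : ⁅(c : G), (n : G)⁆ ∈ ⁅⁅N, N⁆, N⁆ := Subgroup.commutator_mem_commutator hc' n.2
  rw [h, Subgroup.mem_bot, commutatorElement_eq_one_iff_mul_comm] at h1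
  exact h1.symm

theorem solvable_le_fittingSubgroup_aux [Finite G] : ∀ (n : ℕ) (N : Subgroup G), Nat.card N = n →
    N ≤ Subgroup.centralizer (Cfsg.fittingSubgroup G : Set G) →
    Subgroup.centralizer (Cfsg.fittingSubgroup G : Set G) ≤ Subgroup.normalizer (N : Set G) →
    Group.IsSolvable ↥N → N ≤ Cfsg.fittingSubgroup G := by
  intro n
  induction n using Nat.strong_induction_on with
  | _ n ih =>
  intro N hn hN hnorm hsolv
  set F := Cfsg.fittingSubgroup G with hF
  set C := Subgroup.centralizer (F : Set G) with hC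
  by_cases hbot : N = ⊥
  · rw [hbot]; exact bot_le
  haveI : Nontrivial ↥N := (Subgroup.nontrivial_iff_ne_bot N).mpr hbot
  have hlt : commutator ↥N < ⊤ := hsolv.commutator_lt_top_of_nontrivial
  have hN'le : ⁅N, N⁆ ≤ N := Subgroup.commutator_le_self N
  have hcard : Nat.card ↥⁅N, N⁆ < n := by
    rw [← hn, ← Subgroup.map_subtype_commutator,
      Nat.card_congr ((commutator ↥N).equivMapOfInjective N.subtype N.subtype_injective).symm.toEquiv]
    exact card_lt_of_lt_top hlt
  have hsolv' : Group.IsSolvable ↥⁅N, N⁆ :=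
    solvable_of_solvable_injective (Subgroup.inclusion_injective hN'le)
  have h1 : ⁅N, N⁆ ≤ F := ih _ hcard ⁅N, N⁆ rfl (hN'le.trans hN)
    (hnorm.trans (normalizer_le_normalizer_commutator N)) hsolv'
  have h2 : ⁅⁅N, N⁆, N⁆ = ⊥ := by
    rw [Subgroup.commutator_eq_bot_iff_le_centralizer]
    intro x hx
    rw [Subgroup.mem_centralizer_iff]
    intro m hm
    have := Subgroup.mem_centralizer_iff.mp (hN hm) x (h1 hx)
    exact this.symm
  have hnil : Group.IsNilpotent ↥N := isNilpotent_of_commutator_commutator_eq_bot N h2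
  have hsn : N.IsSubnormal :=
    Subgroup.IsSubnormal.step N C hN (inferInstance : C.Normal).isSubnormal
      ((Subgroup.normal_subgroupOf_iff_le_normalizer hN).mpr hnorm)
  exact subnormal_nilpotent_le_fittingSubgroup N hsn hnil

/-- S1264 -/
theorem solvable_le_center_fittingSubgroup [Finite G] (N : Subgroup G)
    (hN : N ≤ Subgroup.centralizer (Cfsg.fittingSubgroup G : Set G))
    (hnorm : Subgroup.centralizer (Cfsg.fittingSubgroup G : Set G) ≤ Subgroup.normalizer (N : Set G))
    (hsolv : Group.IsSolvable ↥N) :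
    N ≤ (Subgroup.center ↥(Cfsg.fittingSubgroup G)).map (Cfsg.fittingSubgroup G).subtype := by
  rw [map_subtype_center]
  exact le_inf (solvable_le_fittingSubgroup_aux _ N rfl hN hnorm hsolv) hN

end Cfsg.Agent.Helper7
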