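import Mathlib
import Cfsg.Prelude.Def_Local
import Cfsg.Agent.Lib.Helper7.FStar3

set_option autoImplicit false

namespace Cfsg.Agent.Helper7

open Subgroup
open scoped commutatorElement Pointwise

universe u

variable {G : Type u} [Group G]

theorem isNilpotent_of_isMulCommutative (H : Type*) [Group H] [IsMulCommutative H] :
    Group.IsNilpotent H := by
  letI : CommGroup H := { (inferInstance : Group H) with mul_comm := fun a b => mul_comm' a b }
  infer_instance

/-- a component contained in another component equals it -/
theorem component_eq_of_le [Finite G] {L K : Subgroup G} (hL : Cfsg.IsComponent L)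
    (hK : Cfsg.IsComponent K) (hLK : L ≤ K) : L = K := by
  have h1 : (L.subgroupOf K).IsSubnormal := hL.1.subgroupOf
  rcases quasisimple_subnormal_eq_top_or_le_center hK.2 _ h1 with h | h
  · rw [Subgroup.subgroupOf_eq_top] at h
    exact le_antisymm hLK h
  · exfalso
    -- L is abelian
    have hab : ⁅L, L⁆ = ⊥ := by
      rw [Subgroup.commutator_eq_bot_iff_le_centralizer]
      intro x hx
      rw [Subgroup.mem_centralizer_iff]
      intro y hy
      have hx' : (⟨x, hLK hx⟩ : K) ∈ center ↥K := h (show (⟨x, hLK hx⟩ : K) ∈ L.subgroupOf K from hx)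
      have := (Subgroup.mem_center_iff.mp hx') ⟨y, hLK hy⟩
      exact congrArg Subtype.val this
    rw [component_perfect hL] at hab
    exact component_ne_bot hL hab

/-- distinct components commute -/
theorem component_commutator_eq_bot_of_ne [Finite G] {L K : Subgroup G} (hL : Cfsg.IsComponent L)
    (hK : Cfsg.IsComponent K) (hne : L ≠ K) : ⁅L, K⁆ = ⊥ := by
  rcases component_le_or_commutator_eq_bot' L K hL hK.1 with h | h
  · exact absurd (component_eq_of_le hL hK h) hne
  · exact h

/-- the layer is perfect -/
theorem layer_perfect : ⁅Cfsg.layer G, Cfsg.layer G⁆ = Cfsg.layer G := by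
  apply le_antisymm (Subgroup.commutator_le_self _)
  conv_lhs => unfold Cfsg.layer
  apply sSup_le
  intro L hL
  calc L = ⁅L, L⁆ := (component_perfect hL).symm
    _ ≤ ⁅Cfsg.layer G, Cfsg.layer G⁆ :=
      Subgroup.commutator_mono (component_le_layer hL) (component_le_layer hL)

/-- the layer normalizes each component -/
theorem layer_le_normalizer_component [Finite G] {L : Subgroup G} (hL : Cfsg.IsComponent L) :
    Cfsg.layer G ≤ Subgroup.normalizer (L : Set G) := by
  unfold Cfsg.layer
  apply sSup_le
  intro K hK
  by_cases h : K = L
  · rw [h]; exact Subgroup.le_normalizer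
  · have := component_commutator_eq_bot_of_ne hK hL h
    exact (Subgroup.commutator_eq_bot_iff_le_centralizer.mp this).trans
      (Subgroup.centralizer_le_normalizer _)

/-- S1317: the centre of the layer is `F(X) ∩ E(X)`. -/
theorem map_subtype_center_layer [Finite G] :
    (center ↥(Cfsg.layer G)).map (Cfsg.layer G).subtype = Cfsg.fittingSubgroup G ⊓ Cfsg.layer G := by
  apply le_antisymm
  · apply le_inf _ (Subgroup.map_subtype_le _)
    haveI : ((center ↥(Cfsg.layer G)).map (Cfsg.layer G).subtype).Normal :=
      ConjAct.normal_of_characteristic_of_normal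
    apply le_fittingSubgroup
    exact isNilpotent_map_subtype _ (isNilpotent_of_isMulCommutative _)
  · rw [map_subtype_center]
    rintro x ⟨hxF, hxE⟩
    refine ⟨hxE, ?_⟩
    have h := layer_commutator_fittingSubgroup (G := G)
    rw [Subgroup.commutator_comm, Subgroup.commutator_eq_bot_iff_le_centralizer] at h
    exact h hxF

end Cfsg.Agent.Helper7
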