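import Mathlib
import Cfsg.Prelude.Def_Local
import Cfsg.Agent.Lib.Helper7.Layer

set_option autoImplicit false

namespace Cfsg.Agent.Helper7

open Subgroup
open scoped commutatorElement Pointwise

universe u

variable {G : Type u} [Group G]

theorem layer_eq_iSup : Cfsg.layer G = ⨆ L : {K : Subgroup G // Cfsg.IsComponent K}, (L : Subgroup G) := by
  unfold Cfsg.layer
  rw [sSup_eq_iSup']
  rfl

theorem components_pairwise_commute [Finite G] :
    Pairwise fun i j : {K : Subgroup G // Cfsg.IsComponent K} =>
      ∀ x y : G, x ∈ (i : Subgroup G) → y ∈ (j : Subgroup G) → Commute x y := by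
  intro i j hij x y hx hy
  have h := component_commutator_eq_bot_of_ne i.2 j.2 (fun h => hij (Subtype.ext h))
  rw [Subgroup.commutator_eq_bot_iff_le_centralizer] at h
  exact (Subgroup.mem_centralizer_iff.mp (h hx) y hy).symm

/-- every element of the layer is a product of elements of the components -/
theorem exists_of_mem_layer [Finite G] [Fintype {K : Subgroup G // Cfsg.IsComponent K}] (z : G)
    (hz : z ∈ Cfsg.layer G) :
    ∃ l : ∀ i : {K : Subgroup G // Cfsg.IsComponent K}, (i : Subgroup G),
      Subgroup.noncommPiCoprod components_pairwise_commute l = z := by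
  rw [layer_eq_iSup, ← Subgroup.noncommPiCoprod_range (hcomm := components_pairwise_commute)] at hz
  exact hz

/-- S1263 -/
theorem map_subtype_center_layer_eq_iSup [Finite G] :
    (center ↥(Cfsg.layer G)).map (Cfsg.layer G).subtype =
      ⨆ L : {K : Subgroup G // Cfsg.IsComponent K},
        (center ↥(L : Subgroup G)).map (L : Subgroup G).subtype := by
  classical
  letI : Fintype {K : Subgroup G // Cfsg.IsComponent K} := Fintype.ofFinite _
  simp only [map_subtype_center]
  apply le_antisymm
  · rintro z ⟨hzE, hzC⟩
    replace hzC : z ∈ Subgroup.centralizer (Cfsg.layer G : Set G) := hzC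
    obtain ⟨l, rfl⟩ := exists_of_mem_layer z hzE
    rw [Subgroup.noncommPiCoprod_apply]
    apply Subgroup.noncommProd_mem
    intro i _
    refine Subgroup.mem_iSup_of_mem i ⟨(l i).2, ?_⟩
    show ((l i : (i : Subgroup G)) : G) ∈ Subgroup.centralizer ((i : Subgroup G) : Set G)
    rw [Subgroup.mem_centralizer_iff]
    intro x hx
    -- decompose l
    have hdec : l = Pi.mulSingle i (l i) * Function.update l i 1 := by
      funext j
      by_cases hj : j = i
      · subst hj; simp
      · simp [Pi.mulSingle_apply, Function.update_of_ne hj, hj]
    set w : G := Subgroup.noncommPiCoprod components_pairwise_commute (Function.update l i 1) with hw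
    have hzw : Subgroup.noncommPiCoprod components_pairwise_commute l = (l i : G) * w := by
      conv_lhs => rw [hdec]
      rw [map_mul, Subgroup.noncommPiCoprod_mulSingle]
    have hxw : Commute x w := by
      rw [hw, Subgroup.noncommPiCoprod_apply]
      apply Finset.noncommProd_commute
      intro j _
      by_cases hj : j = i
      · subst hj; simp
      · rw [Function.update_of_ne hj]
        exact components_pairwise_commute (Ne.symm hj) x _ hx (l j).2
    have hxz : x * Subgroup.noncommPiCoprod components_pairwise_commute l =
        Subgroup.noncommPiCoprod components_pairwise_commute l * x :=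
      Subgroup.mem_centralizer_iff.mp hzC x (component_le_layer i.2 hx)
    rw [hzw] at hxz
    -- x * (li * w) = li * w * x = li * x * w
    have : x * (l i : G) * w = (l i : G) * x * w := by
      calc x * (l i : G) * w = x * ((l i : G) * w) := by group
        _ = (l i : G) * w * x := hxz
        _ = (l i : G) * (w * x) := by group
        _ = (l i : G) * (x * w) := by rw [hxw.eq]
        _ = (l i : G) * x * w := by group
    exact mul_right_cancel this
  · apply iSup_le
    rintro ⟨L, hL⟩ x ⟨hxL, hxC⟩
    replace hxC : x ∈ Subgroup.centralizer (L : Set G) := hxC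
    refine ⟨component_le_layer hL hxL, ?_⟩
    show x ∈ Subgroup.centralizer (Cfsg.layer G : Set G)
    have : Cfsg.layer G ≤ Subgroup.centralizer ({x} : Set G) := by
      unfold Cfsg.layer
      apply sSup_le
      intro K hK y hy
      rw [Subgroup.mem_centralizer_singleton_iff]
      by_cases hKL : K = L
      · subst hKL
        exact (Subgroup.mem_centralizer_iff.mp hxC y hy)
      · have h := component_commutator_eq_bot_of_ne hK hL hKL
        rw [Subgroup.commutator_eq_bot_iff_le_centralizer] at h
        exact (Subgroup.mem_centralizer_iff.mp (h hy) x hxL).symm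
    rw [Subgroup.mem_centralizer_iff]
    intro y hy
    have := this hy
    rw [Subgroup.mem_centralizer_singleton_iff] at this
    exact this

end Cfsg.Agent.Helper7
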