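import Mathlib
import Cfsg.Prelude.Def_Local
import Cfsg.Agent.Lib.Helper7.Layer2
import Cfsg.Agent.Lib.Helper7.Basic

set_option autoImplicit false

namespace Cfsg.Agent.Helper7

open Subgroup
open scoped commutatorElement Pointwise

universe u

variable {G : Type u} [Group G]

theorem isComponent_conj_smul {L : Subgroup G} (hL : Cfsg.IsComponent L) (g : G) :
    Cfsg.IsComponent (MulAut.conj g • L) :=
  isComponent_map_mulEquiv (MulAut.conj g) hL

/-- a normal subgroup of a component is everything or central; version inside the ambient group -/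
theorem component_inf_le_center {L N : Subgroup G} (hL : Cfsg.IsComponent L)
    (hN : L ≤ Subgroup.normalizer (N : Set G)) (hLN : ¬ L ≤ N) :
    ⁅L ⊓ N, L⁆ = ⊥ := by
  have hn : ((L ⊓ N).subgroupOf L).Normal := by
    rw [Subgroup.normal_subgroupOf_iff_le_normalizer inf_le_left]
    exact le_trans (le_inf Subgroup.le_normalizer hN) Subgroup.inf_normalizer_le_normalizer_inf
  rcases quasisimple_normal_eq_top_or_le_center hL.2 ((L ⊓ N).subgroupOf L) with h | h
  · exfalso
    rw [Subgroup.subgroupOf_eq_top] at h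
    exact hLN (h.trans inf_le_right)
  · rw [Subgroup.commutator_eq_bot_iff_le_centralizer]
    intro x hx
    rw [Subgroup.mem_centralizer_iff]
    intro y hy
    have hx' : (⟨x, hx.1⟩ : L) ∈ center ↥L := h (show (⟨x, hx.1⟩ : L) ∈ (L ⊓ N).subgroupOf L from hx)
    have := (Subgroup.mem_center_iff.mp hx') ⟨y, hy⟩
    exact congrArg Subtype.val this

/-- S1321 -/
theorem layer_eq_centralizer_sup_commutator [Finite G] (U : Subgroup G) :
    Cfsg.layer G = (Cfsg.layer G ⊓ Subgroup.centralizer (U : Set G)) ⊔ ⁅Cfsg.layer G, U⁆ ∧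
      ⁅Cfsg.layer G, U⁆ ≤ Cfsg.layer G := by
  have h2 : ⁅Cfsg.layer G, U⁆ ≤ Cfsg.layer G := Subgroup.commutator_le_left _ _
  refine ⟨?_, h2⟩
  apply le_antisymm _ (sup_le inf_le_left h2)
  set E := Cfsg.layer G with hE
  set N := ⁅E, U⁆ with hN
  have hEN : E ≤ Subgroup.normalizer (N : Set G) := Subgroup.normalizer_commutator_ge_left E U
  conv_lhs => rw [hE]; unfold Cfsg.layer
  apply sSup_le
  intro L hL
  have hLE : L ≤ E := component_le_layer hL
  by_cases hU : ∀ u ∈ U, MulAut.conj u • L = L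
  · -- U normalizes L
    by_cases hLN : L ≤ N
    · exact hLN.trans le_sup_right
    · have hUL : U ≤ Subgroup.normalizer (L : Set G) := fun u hu =>
        Subgroup.mem_normalizer_iff_map_conj_eq.mpr (hU u hu)
      have h3 : ⁅L, U⁆ ≤ L ⊓ N := by
        apply le_inf
        · exact (Subgroup.le_normalizer_iff_commutator_le_left).mp hUL
        · exact Subgroup.commutator_mono hLE le_rfl
      have h4 : ⁅⁅L, U⁆, L⁆ = ⊥ := by
        rw [eq_bot_iff, ← component_inf_le_center hL (hLE.trans hEN) hLN]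
        exact Subgroup.commutator_mono h3 le_rfl
      have h5 : ⁅⁅U, L⁆, L⁆ = ⊥ := by rw [Subgroup.commutator_comm U L]; exact h4
      have h6 : ⁅⁅L, L⁆, U⁆ = ⊥ := Subgroup.commutator_commutator_eq_bot_of_rotate h4 h5
      rw [component_perfect hL, Subgroup.commutator_eq_bot_iff_le_centralizer] at h6
      exact (le_inf hLE h6).trans le_sup_left
  · -- some u moves L
    obtain ⟨u, hU'⟩ := not_forall.mp hU
    obtain ⟨hu, hne⟩ := Classical.not_imp.mp hU'
    have hL' : Cfsg.IsComponent (MulAut.conj u • L) := isComponent_conj_smul hL u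
    have hcomm := component_commutator_eq_bot_of_ne hL' hL hne
    rw [Subgroup.commutator_eq_bot_iff_le_centralizer] at hcomm
    have hLN : L ≤ N := by
      rw [← component_perfect hL, Subgroup.commutator_le]
      intro l hl m hm
      -- x = ⁅l, u⁆ ∈ N
      have hx : ⁅l, u⁆ ∈ N := Subgroup.commutator_mem_commutator (hLE hl) hu
      -- m normalizes N
      have hm' : m * ⁅l, u⁆⁻¹ * m⁻¹ ∈ N := by
        have := (Subgroup.mem_normalizer_iff.mp (hEN (hLE hm))) (⁅l, u⁆⁻¹)
        exact this.mp (N.inv_mem hx)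
      have h7 : ⁅⁅l, u⁆, m⁆ ∈ N := by
        have : ⁅⁅l, u⁆, m⁆ = ⁅l, u⁆ * (m * ⁅l, u⁆⁻¹ * m⁻¹) := by
          simp only [commutatorElement_def]; group
        rw [this]
        exact N.mul_mem hx hm'
      -- ⁅⁅l,u⁆, m⁆ = ⁅l, m⁆ since u l⁻¹ u⁻¹ commutes with m
      have hl' : u * l⁻¹ * u⁻¹ ∈ MulAut.conj u • L :=
        conj_mem_conj_smul L u l⁻¹ (L.inv_mem hl)
      have hc : m * (u * l⁻¹ * u⁻¹) = (u * l⁻¹ * u⁻¹) * m :=
        Subgroup.mem_centralizer_iff.mp (hcomm hl') m hm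
      have h8 : ⁅⁅l, u⁆, m⁆ = ⁅l, m⁆ := by
        simp only [commutatorElement_def]
        have e1 : l * u * l⁻¹ * u⁻¹ = l * (u * l⁻¹ * u⁻¹) := by group
        have e2 : (l * u * l⁻¹ * u⁻¹)⁻¹ = (u * l⁻¹ * u⁻¹)⁻¹ * l⁻¹ := by group
        rw [e2, e1]
        have hc' : (u * l⁻¹ * u⁻¹) * m * (u * l⁻¹ * u⁻¹)⁻¹ = m := by
          rw [← hc]; group
        calc l * (u * l⁻¹ * u⁻¹) * m * ((u * l⁻¹ * u⁻¹)⁻¹ * l⁻¹) * m⁻¹
            = l * ((u * l⁻¹ * u⁻¹) * m * (u * l⁻¹ * u⁻¹)⁻¹) * l⁻¹ * m⁻¹ := by group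
          _ = l * m * l⁻¹ * m⁻¹ := by rw [hc']
      rw [← h8]
      exact h7
    exact hLN.trans le_sup_right

end Cfsg.Agent.Helper7
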