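import Mathlib
import Cfsg.Prelude.Def_Local
import Cfsg.Agent.Lib.Helper7.Layer3

set_option autoImplicit false

namespace Cfsg.Agent.Helper7

open Subgroup
open scoped commutatorElement Pointwise

universe u

variable {G : Type u} [Group G]

/-- the layer of a subnormal subgroup lies in the layer -/
theorem map_subtype_layer_le {A : Subgroup G} (hsn : A.IsSubnormal) :
    (Cfsg.layer ↥A).map A.subtype ≤ Cfsg.layer G := by
  rw [Subgroup.map_le_iff_le_comap]
  conv_lhs => unfold Cfsg.layer
  apply sSup_le
  intro K hK
  rw [← Subgroup.map_le_iff_le_comap]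
  exact component_le_layer ((isComponent_map_subtype_iff hsn K).mp hK)

/-- the layer normalizes every subnormal subgroup -/
theorem layer_le_normalizer_of_isSubnormal [Finite G] {A : Subgroup G} (hsn : A.IsSubnormal) :
    Cfsg.layer G ≤ Subgroup.normalizer (A : Set G) := by
  unfold Cfsg.layer
  apply sSup_le
  intro L hL
  rcases component_le_or_commutator_eq_bot' L A hL hsn with h | h
  · exact h.trans Subgroup.le_normalizer
  · exact (Subgroup.commutator_eq_bot_iff_le_centralizer.mp h).trans
      (Subgroup.centralizer_le_normalizer _)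

/-- S1319 -/
theorem le_layer_of_layer_eq_top [Finite G] (A : Subgroup G) (hsn : A.IsSubnormal)
    (hA : Cfsg.layer ↥A = ⊤) :
    A ≤ Cfsg.layer G ∧ (A.subgroupOf (Cfsg.layer G)).Normal := by
  have h1 : A ≤ Cfsg.layer G := by
    have := map_subtype_layer_le hsn
    rw [hA, ← MonoidHom.range_eq_map, Subgroup.range_subtype] at this
    exact this
  exact ⟨h1, (Subgroup.normal_subgroupOf_iff_le_normalizer h1).mpr
    (layer_le_normalizer_of_isSubnormal hsn)⟩

end Cfsg.Agent.Helper7
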