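import Mathlib
import Cfsg.Prelude.Def_Local
import Cfsg.Agent.Lib.Helper7.Layer4

set_option autoImplicit false

namespace Cfsg.Agent.Helper7

open Subgroup
open scoped commutatorElement Pointwise

universe u

variable {G : Type u} [Group G]

/-- derived series of a subgroup computed in the ambient group -/
def dser (H : Subgroup G) : ℕ → Subgroup G
  | 0 => H
  | n + 1 => ⁅dser H n, dser H n⁆

theorem map_subtype_derivedSeries (H : Subgroup G) :
    ∀ n, (derivedSeries ↥H n).map H.subtype = dser H n
  | 0 => by
    rw [derivedSeries_zero, ← MonoidHom.range_eq_map, Subgroup.range_subtype]; rfl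
  | n + 1 => by
    rw [derivedSeries_succ, Subgroup.map_commutator, map_subtype_derivedSeries H n]; rfl

theorem dser_normal (H : Subgroup G) [H.Normal] : ∀ n, (dser H n).Normal
  | 0 => by unfold dser; infer_instance
  | n + 1 => by
    unfold dser
    haveI := dser_normal H n
    infer_instance

theorem exists_dser_eq_bot (H : Subgroup G) (h : Group.IsSolvable ↥H) : ∃ n, dser H n = ⊥ := by
  obtain ⟨n, hn⟩ := (isSolvable_def ↥H).mp h
  refine ⟨n, ?_⟩
  rw [← map_subtype_derivedSeries, hn, Subgroup.map_bot]

/-- S1316 -/
theorem iInf_derivedSeries_generalizedFittingSubgroup [Finite G] :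
    (⨅ n : ℕ, (derivedSeries ↥(Cfsg.generalizedFittingSubgroup G) n).map
      (Cfsg.generalizedFittingSubgroup G).subtype) = Cfsg.layer G := by
  simp only [map_subtype_derivedSeries]
  set E := Cfsg.layer G with hE
  set F := Cfsg.fittingSubgroup G with hF
  apply le_antisymm
  · have hbound : ∀ n, dser (Cfsg.generalizedFittingSubgroup G) n ≤ E ⊔ dser F n := by
      intro n
      induction n with
      | zero => exact le_rfl
      | succ n ih =>
        haveI := dser_normal F n
        haveI := dser_normal F (n + 1)
        show ⁅dser (Cfsg.generalizedFittingSubgroup G) n, dser (Cfsg.generalizedFittingSubgroup G) n⁆ ≤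
          E ⊔ dser F (n + 1)
        refine (Subgroup.commutator_mono ih ih).trans ?_
        apply commutator_sup_le
        · exact (Subgroup.commutator_le_left _ _).trans le_sup_left
        · apply commutator_sup_le'
          · exact (Subgroup.commutator_le_right _ _).trans le_sup_left
          · exact le_sup_right
    haveI : Group.IsNilpotent ↥F := fittingSubgroup_isNilpotent
    obtain ⟨n, hn⟩ := exists_dser_eq_bot F inferInstance
    refine (iInf_le _ n).trans ?_
    have := hbound n
    rwa [hn, sup_bot_eq] at this
  · apply le_iInf
    intro n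
    induction n with
    | zero => exact layer_le_generalizedFittingSubgroup
    | succ n ih =>
      show E ≤ ⁅dser (Cfsg.generalizedFittingSubgroup G) n, dser (Cfsg.generalizedFittingSubgroup G) n⁆
      calc E = ⁅E, E⁆ := layer_perfect.symm
        _ ≤ _ := Subgroup.commutator_mono ih ih

end Cfsg.Agent.Helper7
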