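import Mathlib
import Cfsg.Prelude.Def_Local
import Cfsg.Agent.Lib.Helper7.Layer5

set_option autoImplicit false

namespace Cfsg.Agent.Helper7

open Subgroup
open scoped commutatorElement Pointwise

universe u

variable {G : Type u} [Group G]

/-- Fitting subgroup of a subnormal subgroup -/
theorem map_subtype_fittingSubgroup_eq [Finite G] {S : Subgroup G} (hsn : S.IsSubnormal) :
    (Cfsg.fittingSubgroup ↥S).map S.subtype = Cfsg.fittingSubgroup G ⊓ S := by
  apply le_antisymm
  · apply le_inf _ (Subgroup.map_subtype_le _)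
    apply subnormal_nilpotent_le_fittingSubgroup
    · exact (fittingSubgroup_normal' (G := ↥S)).isSubnormal.trans' hsn
    · exact isNilpotent_map_subtype _ fittingSubgroup_isNilpotent
  · have hn : ((Cfsg.fittingSubgroup G ⊓ S).subgroupOf S).Normal := by
      rw [Subgroup.inf_subgroupOf_right]
      exact Subgroup.normal_subgroupOf
    have hnil : Group.IsNilpotent ↥((Cfsg.fittingSubgroup G ⊓ S).subgroupOf S) := by
      apply isNilpotent_subgroupOf inf_le_right
      haveI : Group.IsNilpotent ↥(Cfsg.fittingSubgroup G) := fittingSubgroup_isNilpotent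
      exact Group.nilpotent_of_mulEquiv
        (Subgroup.subgroupOfEquivOfLe (inf_le_left : Cfsg.fittingSubgroup G ⊓ S ≤ Cfsg.fittingSubgroup G))
    have h1 := @le_fittingSubgroup ↥S _ _ hn hnil
    have h2 := Subgroup.map_mono (f := S.subtype) h1
    rwa [Subgroup.map_subgroupOf_eq_of_le inf_le_right] at h2

/-- a subgroup `T ≤ A ⊔ F` commuting with `A`, where `F` is normal nilpotent and commutes with `A`,
is nilpotent -/
theorem isNilpotent_of_le_sup_of_commute (T A F : Subgroup G) [F.Normal]
    (hF : Group.IsNilpotent ↥F) (hT : T ≤ A ⊔ F) (hTA : ⁅T, A⁆ = ⊥) (hFA : ⁅F, A⁆ = ⊥) :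
    Group.IsNilpotent ↥T := by
  have key : ∀ k, T.lowerCentralSeries (k + 1) ≤ F.lowerCentralSeries k := by
    intro k
    induction k with
    | zero =>
      show ⁅T, T⁆ ≤ F
      refine (Subgroup.commutator_mono le_rfl hT).trans ?_
      apply commutator_sup_le'
      · rw [hTA]; exact bot_le
      · exact Subgroup.commutator_le_right _ _
    | succ k ih =>
      show ⁅T.lowerCentralSeries (k + 1), T⁆ ≤ ⁅F.lowerCentralSeries k, F⁆
      refine (Subgroup.commutator_mono ih hT).trans ?_
      haveI : (⁅F.lowerCentralSeries k, F⁆).Normal := by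
        have := Subgroup.lowerCentralSeries_normal F (k + 1)
        exact this
      apply commutator_sup_le'
      · have : ⁅F.lowerCentralSeries k, A⁆ ≤ ⁅F, A⁆ :=
          Subgroup.commutator_mono (Subgroup.lowerCentralSeries_le_self F k) le_rfl
        rw [hFA] at this
        exact this.trans bot_le
      · exact le_rfl
  obtain ⟨c, hc⟩ := (Subgroup.isNilpotent_iff_lowerCentralSeries F).mp hF
  rw [Subgroup.isNilpotent_iff_lowerCentralSeries]
  refine ⟨c + 1, ?_⟩
  rw [eq_bot_iff, ← hc]
  exact key c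

end Cfsg.Agent.Helper7

namespace Cfsg.Agent.Helper7

open Subgroup
open scoped commutatorElement Pointwise

universe u

variable {G : Type u} [Group G]

/-- S1318, second part, in the ambient group: a subnormal subgroup of `F*(G)` is generated by its
layer and its Fitting subgroup. -/
theorem le_layer_sup_fitting_of_subnormal [Finite G] {S : Subgroup G} (hsn : S.IsSubnormal)
    (hS : S ≤ Cfsg.generalizedFittingSubgroup G) :
    S ≤ (Cfsg.layer ↥S).map S.subtype ⊔ (Cfsg.fittingSubgroup G ⊓ S) := by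
  set E := Cfsg.layer G with hE
  set F := Cfsg.fittingSubgroup G with hF
  set E₁ : Subgroup G := sSup {L | Cfsg.IsComponent L ∧ L ≤ S} with hE₁
  set E₂ : Subgroup G := sSup {L | Cfsg.IsComponent L ∧ ⁅L, S⁆ = ⊥} with hE₂
  have hE₁S : E₁ ≤ S := sSup_le fun L hL => hL.2
  have hE₂S : E₂ ≤ Subgroup.centralizer (S : Set G) :=
    sSup_le fun L hL => Subgroup.commutator_eq_bot_iff_le_centralizer.mp hL.2
  have hE₂E : E₂ ≤ E := sSup_le fun L hL => component_le_layer hL.1
  have hEle : E ≤ E₁ ⊔ E₂ := by
    rw [hE]; unfold Cfsg.layer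
    apply sSup_le
    intro L hL
    rcases component_le_or_commutator_eq_bot' L S hL hsn with h | h
    · exact (le_sSup (show L ∈ {L | Cfsg.IsComponent L ∧ L ≤ S} from ⟨hL, h⟩)).trans le_sup_left
    · exact (le_sSup (show L ∈ {L | Cfsg.IsComponent L ∧ ⁅L, S⁆ = ⊥} from ⟨hL, h⟩)).trans le_sup_right
  have hE₁ES : E₁ ≤ (Cfsg.layer ↥S).map S.subtype := by
    apply sSup_le
    rintro L ⟨hL, hLS⟩
    have h1 : L.subgroupOf S ≤ Cfsg.layer ↥S := component_le_layer (isComponent_subgroupOf hLS hL)
    have h2 := Subgroup.map_mono (f := S.subtype) h1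
    rwa [Subgroup.map_subgroupOf_eq_of_le hLS] at h2
  have hE₁E₂ : E₁ ≤ Subgroup.normalizer (E₂ : Set G) := by
    refine le_trans ?_ (Subgroup.centralizer_le_normalizer _)
    intro x hx
    rw [Subgroup.mem_centralizer_iff]
    intro y hy
    exact (Subgroup.mem_centralizer_iff.mp (hE₂S hy) x (hE₁S hx)).symm
  intro s hs
  have hs' : s ∈ (E₁ ⊔ E₂) ⊔ F := by
    have : Cfsg.generalizedFittingSubgroup G ≤ (E₁ ⊔ E₂) ⊔ F := by
      unfold Cfsg.generalizedFittingSubgroup
      exact sup_le_sup_right hEle _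
    exact this (hS hs)
  obtain ⟨e, he, f, hf, rfl⟩ := Subgroup.mem_sup_of_normal_right.mp hs'
  have he' : e ∈ (E₁ : Set G) * (E₂ : Set G) := by
    rw [← Subgroup.coe_mul_of_left_le_normalizer_right E₁ E₂ hE₁E₂]; exact he
  obtain ⟨e₁, he₁, e₂, he₂, rfl⟩ := Set.mem_mul.mp he'
  -- t = e₂ * f ∈ S
  have ht : e₂ * f ∈ S := by
    have : e₂ * f = e₁⁻¹ * (e₁ * e₂ * f) := by group
    rw [this]
    exact S.mul_mem (S.inv_mem (hE₁S he₁)) hs
  -- e₂ centralizes E
  have hFE : ∀ x ∈ E, ∀ y ∈ F, y * x = x * y := by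
    intro x hx y hy
    have h := layer_commutator_fittingSubgroup (G := G)
    rw [Subgroup.commutator_eq_bot_iff_le_centralizer] at h
    exact Subgroup.mem_centralizer_iff.mp (h hx) y hy
  have he₂C : e₂ ∈ Subgroup.centralizer (E : Set G) := by
    have : E ≤ Subgroup.centralizer ({e₂} : Set G) := by
      rw [hE]; unfold Cfsg.layer
      apply sSup_le
      intro L hL x hx
      rw [Subgroup.mem_centralizer_singleton_iff]
      rcases component_le_or_commutator_eq_bot' L S hL hsn with h | h
      · -- L ≤ S, so E₂ commutes with L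
        exact (Subgroup.mem_centralizer_iff.mp (hE₂S he₂) x (h hx))
      · -- L commutes with S and F
        rw [Subgroup.commutator_eq_bot_iff_le_centralizer] at h
        have h1 : (e₂ * f) * x = x * (e₂ * f) := Subgroup.mem_centralizer_iff.mp (h hx) _ ht
        have h2 : f * x = x * f := hFE x (component_le_layer hL hx) f hf
        -- e₂ = (e₂ f) f⁻¹
        calc x * e₂ = x * (e₂ * f) * f⁻¹ := by group
          _ = (e₂ * f) * x * f⁻¹ := by rw [← h1]
          _ = e₂ * (f * x) * f⁻¹ := by group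
          _ = e₂ * (x * f) * f⁻¹ := by rw [h2]
          _ = e₂ * x := by group
    rw [Subgroup.mem_centralizer_iff]
    intro x hx
    have := this hx
    rw [Subgroup.mem_centralizer_singleton_iff] at this
    exact this
  have he₂F : e₂ ∈ F := by
    have h1 : e₂ ∈ E ⊓ Subgroup.centralizer (E : Set G) := ⟨hE₂E he₂, he₂C⟩
    rw [← map_subtype_center, map_subtype_center_layer] at h1
    exact h1.1
  have htF : e₂ * f ∈ F ⊓ S := ⟨F.mul_mem he₂F hf, ht⟩
  have : e₁ * e₂ * f = e₁ * (e₂ * f) := by group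
  rw [this]
  exact Subgroup.mul_mem_sup (hE₁ES he₁) htF

/-- S1318 -/
theorem fitting_sup_layer_eq_top_of_subnormal [Finite G] (S : Subgroup G)
    (hS : S ≤ Cfsg.generalizedFittingSubgroup G)
    (hsn : (S.subgroupOf (Cfsg.generalizedFittingSubgroup G)).IsSubnormal) :
    (Cfsg.fittingSubgroup ↥S).map S.subtype = Cfsg.fittingSubgroup G ⊓ S ∧
      Cfsg.fittingSubgroup ↥S ⊔ Cfsg.layer ↥S = ⊤ := by
  have hsn' : S.IsSubnormal :=
    Subgroup.IsSubnormal.trans hS hsn (generalizedFittingSubgroup_normal (G := G)).isSubnormal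
  refine ⟨map_subtype_fittingSubgroup_eq hsn', ?_⟩
  rw [eq_top_iff]
  intro x _
  have h1 := le_layer_sup_fitting_of_subnormal hsn' hS x.2
  rw [← map_subtype_fittingSubgroup_eq hsn', ← Subgroup.map_sup, sup_comm] at h1
  obtain ⟨y, hy, hyx⟩ := h1
  have : y = x := Subtype.ext hyx
  rwa [this] at hy

end Cfsg.Agent.Helper7

namespace Cfsg.Agent.Helper7

open Subgroup
open scoped commutatorElement Pointwise

universe u

variable {G : Type u} [Group G]

theorem map_subtype_layer_eq {S : Subgroup G} (hsn : S.IsSubnormal) :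
    (Cfsg.layer ↥S).map S.subtype = sSup {L | Cfsg.IsComponent L ∧ L ≤ S} := by
  apply le_antisymm
  · rw [Subgroup.map_le_iff_le_comap]
    conv_lhs => unfold Cfsg.layer
    apply sSup_le
    intro K hK
    rw [← Subgroup.map_le_iff_le_comap]
    exact le_sSup ⟨(isComponent_map_subtype_iff hsn K).mp hK, Subgroup.map_subtype_le K⟩
  · apply sSup_le
    rintro L ⟨hL, hLS⟩
    have h1 : L.subgroupOf S ≤ Cfsg.layer ↥S := component_le_layer (isComponent_subgroupOf hLS hL)
    have h2 := Subgroup.map_mono (f := S.subtype) h1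
    rwa [Subgroup.map_subgroupOf_eq_of_le hLS] at h2

theorem map_subtype_layer_mono {S T : Subgroup G} (hS : S.IsSubnormal) (hT : T.IsSubnormal)
    (hST : S ≤ T) : (Cfsg.layer ↥S).map S.subtype ≤ (Cfsg.layer ↥T).map T.subtype := by
  rw [map_subtype_layer_eq hS, map_subtype_layer_eq hT]
  exact sSup_le_sSup fun L hL => ⟨hL.1, hL.2.trans hST⟩

/-- S1320 -/
theorem generalizedFittingSubgroup_inf_normal [Finite G] (B : Subgroup G) [hB : B.Normal] :
    Cfsg.generalizedFittingSubgroup G ⊓ B = (Cfsg.generalizedFittingSubgroup ↥B).map B.subtype := by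
  have hBsn : B.IsSubnormal := hB.isSubnormal
  have hmap : (Cfsg.generalizedFittingSubgroup ↥B).map B.subtype =
      (Cfsg.layer ↥B).map B.subtype ⊔ (Cfsg.fittingSubgroup G ⊓ B) := by
    unfold Cfsg.generalizedFittingSubgroup
    rw [Subgroup.map_sup, map_subtype_fittingSubgroup_eq hBsn]
  rw [hmap]
  apply le_antisymm
  · set X := Cfsg.generalizedFittingSubgroup G ⊓ B with hX
    have hXn : X.Normal := Subgroup.normal_inf_normal _ _
    have hXsn : X.IsSubnormal := hXn.isSubnormal
    have h1 := le_layer_sup_fitting_of_subnormal hXsn (inf_le_left : X ≤ _)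
    refine h1.trans (sup_le_sup ?_ ?_)
    · exact map_subtype_layer_mono hXsn hBsn inf_le_right
    · exact inf_le_inf_left _ inf_le_right
  · apply le_inf
    · unfold Cfsg.generalizedFittingSubgroup
      exact sup_le_sup (map_subtype_layer_le hBsn) inf_le_left
    · exact sup_le (Subgroup.map_subtype_le _) inf_le_right

end Cfsg.Agent.Helper7
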