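import Mathlib
import Cfsg.Prelude.Def_Local
import Cfsg.Agent.Lib.Helper7.Layer6

set_option autoImplicit false

namespace Cfsg.Agent.Helper7

open Subgroup
open scoped commutatorElement Pointwise

universe u

variable {G : Type u} [Group G]

theorem pCore_isPGroup (p : ℕ) [Fact p.Prime] : IsPGroup p ↥(Cfsg.pCore p G) :=
  Sylow.sSup_of_normal _ (fun _ h => h.2) (fun _ h => h.1)

theorem le_pCore {p : ℕ} {N : Subgroup G} (hn : N.Normal) (h : IsPGroup p ↥N) :
    N ≤ Cfsg.pCore p G :=
  le_sSup ⟨hn, h⟩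

theorem isSolvable_of_isPGroup [Finite G] {p : ℕ} [Fact p.Prime] {H : Subgroup G}
    (h : IsPGroup p ↥H) : Group.IsSolvable ↥H := by
  haveI : Group.IsNilpotent ↥H := h.isNilpotent
  infer_instance

/-- relative subnormality passes to intermediate subgroups -/
theorem isSubnormal_subgroupOf_of_le {K C N : Subgroup G} (hCN : C ≤ N)
    (h : (K.subgroupOf N).IsSubnormal) : (K.subgroupOf C).IsSubnormal := by
  have := h.comap (Subgroup.inclusion hCN)
  convert this using 1
  ext x
  rfl

/-- **Key lemma**: a component of the normalizer of a `p`-subgroup `P ≤ O_p(G)` centralizes `O_p(G)`. -/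
theorem component_normalizer_commutator_pCore [Finite G] (p : ℕ) [Fact p.Prime] (P : Subgroup G)
    (hP : P ≤ Cfsg.pCore p G) (K : Subgroup G) (hKN : K ≤ Subgroup.normalizer (P : Set G))
    (hK : Cfsg.IsComponent (K.subgroupOf (Subgroup.normalizer (P : Set G)))) :
    ⁅K, Cfsg.pCore p G⁆ = ⊥ := by
  set Q := Cfsg.pCore p G with hQ
  set N := Subgroup.normalizer (P : Set G) with hN
  have hQp : IsPGroup p ↥Q := pCore_isPGroup p
  have hKperf : ⁅K, K⁆ = K := by
    have hq : Cfsg.IsQuasisimple ↥K := (isQuasisimple_subgroupOf hKN).mp hK.2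
    haveI := hq.1
    exact Subgroup.commutator_eq_self
  set D := Q ⊓ Subgroup.centralizer (K : Set G) with hD
  have hDK : ⁅D, K⁆ = ⊥ := by
    rw [Subgroup.commutator_eq_bot_iff_le_centralizer]
    exact inf_le_right
  -- Step 1
  have h1 : Q ⊓ N ≤ D := by
    apply le_inf inf_le_left
    have hsolv : Group.IsSolvable ↥((Q ⊓ N).subgroupOf N) := by
      have : IsPGroup p ↥((Q ⊓ N).subgroupOf N) := (hQp.to_le inf_le_left).comap_subtype
      haveI : Group.IsNilpotent ↥((Q ⊓ N).subgroupOf N) := this.isNilpotent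
      infer_instance
    have hnorm : ((Q ⊓ N).subgroupOf N).Normal := by
      rw [Subgroup.inf_subgroupOf_right]
      exact Subgroup.normal_subgroupOf
    have h := component_commutator_solvable_eq_bot (K.subgroupOf N) ((Q ⊓ N).subgroupOf N) hK hsolv
      (by rw [Subgroup.normalizer_eq_top]; exact le_top)
    rw [commutator_subgroupOf_eq_bot_iff hKN inf_le_right, Subgroup.commutator_comm,
      Subgroup.commutator_eq_bot_iff_le_centralizer] at h
    exact h
  have hPD : P ≤ D := (le_inf hP Subgroup.le_normalizer).trans h1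
  -- Step 2
  have hDQ : D = Q := by
    by_contra hne
    have hlt : D.subgroupOf Q < ⊤ := by
      rw [lt_top_iff_ne_top, Ne, Subgroup.subgroupOf_eq_top]
      intro h
      exact hne (le_antisymm inf_le_left h)
    haveI : Group.IsNilpotent ↥Q := hQp.isNilpotent
    have hnc := normalizerCondition_of_isNilpotent (G := ↥Q) _ hlt
    rw [← Subgroup.subgroupOf_normalizer_eq (inf_le_left : D ≤ Q)] at hnc
    obtain ⟨x, hxN, hxD⟩ := SetLike.exists_of_lt hnc
    set Q₂ := Q ⊓ Subgroup.normalizer (D : Set G) with hQ₂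
    have hxQ₂ : (x : G) ∈ Q₂ := ⟨x.2, hxN⟩
    have hQ₂D : ⁅Q₂, D⁆ ≤ D := (Subgroup.le_normalizer_iff_commutator_le_right).mp inf_le_right
    have e1 : ⁅⁅Q₂, D⁆, K⁆ = ⊥ := by
      rw [eq_bot_iff, ← hDK]
      exact Subgroup.commutator_mono hQ₂D le_rfl
    have e2 : ⁅⁅D, K⁆, Q₂⁆ = ⊥ := by rw [hDK, Subgroup.commutator_bot_left]
    have e3 : ⁅⁅K, Q₂⁆, D⁆ = ⊥ := Subgroup.commutator_commutator_eq_bot_of_rotate e1 e2
    have hKQ₂D : ⁅K, Q₂⁆ ≤ D := by
      have a1 : ⁅K, Q₂⁆ ≤ Q :=
        (Subgroup.commutator_mono le_rfl inf_le_left).trans (Subgroup.commutator_le_right K Q)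
      have a2 : ⁅K, Q₂⁆ ≤ Subgroup.centralizer (D : Set G) :=
        Subgroup.commutator_eq_bot_iff_le_centralizer.mp e3
      have a3 : Subgroup.centralizer (D : Set G) ≤ N :=
        (Subgroup.centralizer_le hPD).trans (Subgroup.centralizer_le_normalizer _)
      exact (le_inf a1 (a2.trans a3)).trans h1
    have e4 : ⁅⁅K, Q₂⁆, K⁆ = ⊥ := by
      rw [eq_bot_iff, ← hDK]
      exact Subgroup.commutator_mono hKQ₂D le_rfl
    have e5 : ⁅⁅Q₂, K⁆, K⁆ = ⊥ := by rw [Subgroup.commutator_comm Q₂ K]; exact e4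
    have e6 : ⁅⁅K, K⁆, Q₂⁆ = ⊥ := Subgroup.commutator_commutator_eq_bot_of_rotate e4 e5
    rw [hKperf, Subgroup.commutator_comm, Subgroup.commutator_eq_bot_iff_le_centralizer] at e6
    exact hxD ⟨x.2, e6 hxQ₂⟩
  have : Q ≤ Subgroup.centralizer (K : Set G) := by
    rw [← hDQ]; exact inf_le_right
  rw [Subgroup.commutator_comm, Subgroup.commutator_eq_bot_iff_le_centralizer]
  exact this

/-- S1267 -/
theorem map_subtype_layer_normalizer_eq [Finite G] (p : ℕ) [Fact p.Prime] (P : Subgroup G)
    (hP : P ≤ Cfsg.pCore p G) :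
    (Cfsg.layer ↥(Subgroup.normalizer (P : Set G))).map (Subgroup.normalizer (P : Set G)).subtype =
      Cfsg.layer G := by
  set Q := Cfsg.pCore p G with hQ
  set N := Subgroup.normalizer (P : Set G) with hN
  have hQp : IsPGroup p ↥Q := pCore_isPGroup p
  haveI hQn : Q.Normal := Cfsg.pCore_normal p G
  have hCN : Subgroup.centralizer (Q : Set G) ≤ N :=
    (Subgroup.centralizer_le hP).trans (Subgroup.centralizer_le_normalizer _)
  apply le_antisymm
  · rw [Subgroup.map_le_iff_le_comap]
    conv_lhs => unfold Cfsg.layer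
    apply sSup_le
    intro K' hK'
    rw [← Subgroup.map_le_iff_le_comap]
    set K := K'.map N.subtype with hKdef
    have hKN : K ≤ N := Subgroup.map_subtype_le K'
    have hKK' : K.subgroupOf N = K' := by
      rw [hKdef, Subgroup.subgroupOf, Subgroup.comap_map_eq_self_of_injective N.subtype_injective]
    have hK : Cfsg.IsComponent (K.subgroupOf N) := by rw [hKK']; exact hK'
    have hKQ := component_normalizer_commutator_pCore p P hP K hKN hK
    have hKC : K ≤ Subgroup.centralizer (Q : Set G) :=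
      Subgroup.commutator_eq_bot_iff_le_centralizer.mp hKQ
    have hsn : K.IsSubnormal :=
      Subgroup.IsSubnormal.trans hKC (isSubnormal_subgroupOf_of_le hCN hK.1)
        (inferInstance : (Subgroup.centralizer (Q : Set G)).Normal).isSubnormal
    exact component_le_layer ⟨hsn, (isQuasisimple_subgroupOf hKN).mp hK.2⟩
  · conv_lhs => unfold Cfsg.layer
    apply sSup_le
    intro L hL
    have h1 : ⁅L, Q⁆ = ⊥ := component_commutator_solvable_eq_bot L Q hL (isSolvable_of_isPGroup hQp)
      (by rw [Subgroup.normalizer_eq_top]; exact le_top)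
    have hLN : L ≤ N := (Subgroup.commutator_eq_bot_iff_le_centralizer.mp h1).trans hCN
    have h2 : L.subgroupOf N ≤ Cfsg.layer ↥N := component_le_layer (isComponent_subgroupOf hLN hL)
    have h3 := Subgroup.map_mono (f := N.subtype) h2
    rwa [Subgroup.map_subgroupOf_eq_of_le hLN] at h3

end Cfsg.Agent.Helper7
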