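import Mathlib
import Cfsg.Prelude.Def_Local
import Cfsg.Agent.Lib.Helper7.Coprime
import Cfsg.Agent.Lib.Helper7.PLocal

set_option autoImplicit false

namespace Cfsg.Agent.Helper7

open Subgroup
open scoped commutatorElement Pointwise

variable {G : Type*} [Group G]

/-- Some `p`-power power of `x` has order prime to `p`. -/
theorem exists_pow_coprime [Finite G] (p : ℕ) [hp : Fact p.Prime] (x : G) :
    ∃ k : ℕ, (orderOf (x ^ p ^ k)).Coprime p := by
  have hpos : orderOf x ≠ 0 := (orderOf_pos x).ne'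
  obtain ⟨k, m, hm, hkm⟩ := Nat.exists_eq_pow_mul_and_not_dvd hpos p hp.out.ne_one
  refine ⟨k, ?_⟩
  have h1 : orderOf (x ^ p ^ k) = m := by
    rw [orderOf_pow_of_dvd (pow_ne_zero _ hp.out.ne_zero) ⟨m, hkm⟩, hkm,
      Nat.mul_div_cancel_left _ (pow_pos hp.out.pos _)]
  rw [h1]
  exact ((Nat.Prime.coprime_iff_not_dvd hp.out).mpr hm).symm

/-- an element of a `p`-group whose order is prime to `p` is trivial -/
theorem eq_one_of_isPGroup_of_coprime {p : ℕ} [Fact p.Prime] {Q : Subgroup G} (hQ : IsPGroup p ↥Q)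
    {a : G} (ha : a ∈ Q) (hcop : (orderOf a).Coprime p) : a = 1 := by
  obtain ⟨k, hk⟩ := (IsPGroup.iff_orderOf.mp hQ) ⟨a, ha⟩
  rw [Subgroup.orderOf_mk] at hk
  have h1 : (orderOf a).Coprime (orderOf a) := by
    conv_rhs => rw [hk]
    exact Nat.Coprime.pow_right k hcop
  rw [Nat.coprime_self] at h1
  exact orderOf_eq_one_iff.mp h1

/-- A perfect subgroup `E`, each of whose elements has a `p`-power power in the normal subgroup
`M`, lies in `M`. -/
theorem le_of_perfect_of_pow_mem [Finite G] (p : ℕ) [Fact p.Prime] (E M : Subgroup G) [M.Normal]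
    (hE : ⁅E, E⁆ = E) (h : ∀ x ∈ E, ∃ k : ℕ, x ^ p ^ k ∈ M) : E ≤ M := by
  set ψ := QuotientGroup.mk' M with hψ
  have hperf : ⁅E.map ψ, E.map ψ⁆ = E.map ψ := by
    rw [← Subgroup.map_commutator, hE]
  have hp : IsPGroup p ↥(E.map ψ) := by
    rintro ⟨y, hy⟩
    obtain ⟨x, hx, rfl⟩ := hy
    obtain ⟨k, hk⟩ := h x hx
    refine ⟨k, ?_⟩
    apply Subtype.ext
    show (ψ x) ^ p ^ k = 1
    rw [← map_pow, hψ, QuotientGroup.mk'_apply]
    exact (QuotientGroup.eq_one_iff _).mpr hk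
  have hnil : Group.IsNilpotent ↥(E.map ψ ⊔ E.map ψ) := by
    rw [sup_idem]; exact hp.isNilpotent
  have hbot : E.map ψ = ⊥ := by
    by_contra hne
    exact commutator_ne_self_of_isNilpotent_sup hnil hne hperf
  rw [Subgroup.map_eq_bot_iff, QuotientGroup.ker_mk'] at hbot
  exact hbot

/-- Normal subgroups of coprime orders commute. -/
theorem commutator_eq_bot_of_normal_of_coprime {A B : Subgroup G} [A.Normal] [B.Normal]
    (h : (Nat.card A).Coprime (Nat.card B)) : ⁅A, B⁆ = ⊥ := by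
  rw [eq_bot_iff, ← Subgroup.inf_eq_bot_of_coprime h]
  exact le_inf (Subgroup.commutator_le_left A B) (Subgroup.commutator_le_right A B)

/-- **Thompson's `A × B` lemma**, for a `p'`-element `a`: `Q` and `P` are `p`-subgroups, `P` and `a`
normalize `Q`, and `a` centralizes `P` and `C_Q(P)`.  Then `a` centralizes `Q`. -/
theorem thompson_AxB_element [Finite G] (p : ℕ) [Fact p.Prime] (Q P : Subgroup G)
    (hQ : IsPGroup p ↥Q) (hP : IsPGroup p ↥P) (hPQ : P ≤ Subgroup.normalizer (Q : Set G))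
    (a : G) (haQ : a ∈ Subgroup.normalizer (Q : Set G)) (hcop : (orderOf a).Coprime p)
    (haP : a ∈ Subgroup.centralizer (P : Set G))
    (haC : a ∈ Subgroup.centralizer ((Q ⊓ Subgroup.centralizer (P : Set G) : Subgroup G) : Set G)) :
    a ∈ Subgroup.centralizer (Q : Set G) := by
  have h1 : Subgroup.zpowers a ≤ Subgroup.normalizer (Q : Set G) := Subgroup.zpowers_le.mpr haQ
  have h2 : ⁅Subgroup.zpowers a, P⁆ = ⊥ :=
    Subgroup.commutator_eq_bot_iff_le_centralizer.mpr (Subgroup.zpowers_le.mpr haP)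
  have h3 : (Nat.card (Subgroup.zpowers a)).Coprime (Nat.card Q) := by
    rw [Nat.card_zpowers]
    obtain ⟨n, hn⟩ := IsPGroup.iff_card.mp hQ
    rw [hn]
    exact Nat.Coprime.pow_right n hcop
  have h4 : Group.IsNilpotent ↥(Q ⊔ P) := (hQ.to_sup_of_normal_left' hP hPQ).isNilpotent
  have h5 : Q ⊓ Subgroup.centralizer (P : Set G) ≤
      Subgroup.centralizer ((Subgroup.zpowers a : Subgroup G) : Set G) :=
    Subgroup.le_centralizer_iff.mp (Subgroup.zpowers_le.mpr haC)
  have key := thompson_AxB Q (Subgroup.zpowers a) P h1 hPQ h2 h3 h4 h5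
  exact Subgroup.le_centralizer_iff.mp key (Subgroup.mem_zpowers a)

end Cfsg.Agent.Helper7
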