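import Mathlib
import Cfsg.Prelude.Def_Local
import Cfsg.Agent.Lib.Helper15.SylowIn
import Cfsg.Agent.Lib.Helper7.PLocal2

set_option autoImplicit false

namespace Cfsg.Agent.Helper7

open Subgroup
open scoped commutatorElement
open Cfsg.Agent.Helper15 (IsSylowIn)

variable {G : Type*} [Group G]

/-- a `p`-subgroup and a `p'`-subgroup meet trivially -/
theorem inf_eq_bot_of_isPGroup_of_coprime [Finite G] {p : ℕ} [Fact p.Prime] {P R : Subgroup G}
    (hP : IsPGroup p ↥P) (hR : (Nat.card ↥R).Coprime p) : P ⊓ R = ⊥ := by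
  apply Subgroup.inf_eq_bot_of_coprime
  obtain ⟨n, hn⟩ := IsPGroup.iff_card.mp hP
  rw [hn]
  exact (Nat.Coprime.pow_right n hR).symm

/-- A `p`-subgroup `P` is a Sylow `p`-subgroup of `P R`, for a normal `p'`-subgroup `R`. -/
theorem isSylowIn_sup_of_coprime [Finite G] {p : ℕ} [Fact p.Prime] {P R : Subgroup G} [R.Normal]
    (hP : IsPGroup p ↥P) (hR : (Nat.card ↥R).Coprime p) : IsSylowIn p P (P ⊔ R) := by
  refine ⟨le_sup_left, hP, ?_⟩
  intro T' hT' hle hTK
  apply le_antisymm _ hle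
  intro x hx
  obtain ⟨u, hu, r, hr, hur⟩ := Subgroup.mem_sup_of_normal_right.mp (hTK hx)
  have hrT : r ∈ T' ⊓ R := by
    refine ⟨?_, hr⟩
    have : r = u⁻¹ * x := by rw [← hur]; group
    rw [this]
    exact T'.mul_mem (T'.inv_mem (hle hu)) hx
  rw [inf_eq_bot_of_isPGroup_of_coprime hT' hR, Subgroup.mem_bot] at hrT
  rw [← hur, hrT, mul_one]
  exact hu

/-- Frattini argument for a normal `p'`-subgroup `R`: an element normalizing `P R` lies in
`R N(P)`. -/
theorem exists_mul_mem_normalizer [Finite G] {p : ℕ} [Fact p.Prime] {P R : Subgroup G} [R.Normal]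
    (hP : IsPGroup p ↥P) (hR : (Nat.card ↥R).Coprime p) {x : G}
    (hx : x ∈ Subgroup.normalizer ((P ⊔ R : Subgroup G) : Set G)) :
    ∃ r ∈ R, r * x ∈ Subgroup.normalizer (P : Set G) := by
  have h₁ := isSylowIn_sup_of_coprime hP hR
  have h₂ := h₁.map_conj_of_mem_normalizer hx
  obtain ⟨k, hk, hkP⟩ := h₂.exists_conj h₁
  rw [Cfsg.Agent.Helper15.map_conj_map_conj] at hkP
  have hkx : k * x ∈ Subgroup.normalizer (P : Set G) :=
    Cfsg.Agent.Helper15.mem_normalizer_of_map_conj_eq hkP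
  obtain ⟨u, hu, r, hr, hur⟩ := Subgroup.mem_sup_of_normal_right.mp hk
  refine ⟨r, hr, ?_⟩
  have : r * x = u⁻¹ * (k * x) := by rw [← hur]; group
  rw [this]
  exact Subgroup.mul_mem _ (Subgroup.inv_mem _ (Subgroup.le_normalizer hu)) hkx

/-- `N_{G/R}(PR/R) = N_G(P)R/R` for a `p`-subgroup `P` and a normal `p'`-subgroup `R`. -/
theorem normalizer_map_mk'_eq [Finite G] {p : ℕ} [Fact p.Prime] {P R : Subgroup G} [R.Normal]
    (hP : IsPGroup p ↥P) (hR : (Nat.card ↥R).Coprime p) :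
    Subgroup.normalizer ((P.map (QuotientGroup.mk' R) : Subgroup (G ⧸ R)) : Set (G ⧸ R)) =
      (Subgroup.normalizer (P : Set G)).map (QuotientGroup.mk' R) := by
  apply le_antisymm _ (Subgroup.le_normalizer_map _)
  intro y hy
  obtain ⟨x, rfl⟩ := QuotientGroup.mk'_surjective R y
  have hx : x ∈ Subgroup.normalizer ((P ⊔ R : Subgroup G) : Set G) := by
    have h1 : (P.map (QuotientGroup.mk' R)).comap (QuotientGroup.mk' R) = P ⊔ R := by
      rw [QuotientGroup.comap_map_mk', sup_comm]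
    rw [← h1, Subgroup.mem_normalizer_iff]
    intro z
    rw [Subgroup.mem_comap, Subgroup.mem_comap, map_mul, map_mul, map_inv]
    exact (Subgroup.mem_normalizer_iff.mp hy) _
  obtain ⟨r, hr, hrx⟩ := exists_mul_mem_normalizer hP hR hx
  refine ⟨r * x, hrx, ?_⟩
  rw [map_mul]
  have : QuotientGroup.mk' R r = 1 := (QuotientGroup.eq_one_iff r).mpr hr
  rw [this, one_mul]

/-- `C_{G/R}(PR/R) = C_G(P)R/R` for a `p`-subgroup `P` and a normal `p'`-subgroup `R`. -/
theorem centralizer_map_mk'_eq [Finite G] {p : ℕ} [Fact p.Prime] {P R : Subgroup G} [R.Normal]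
    (hP : IsPGroup p ↥P) (hR : (Nat.card ↥R).Coprime p) :
    Subgroup.centralizer ((P.map (QuotientGroup.mk' R) : Subgroup (G ⧸ R)) : Set (G ⧸ R)) =
      (Subgroup.centralizer (P : Set G)).map (QuotientGroup.mk' R) := by
  apply le_antisymm
  · intro y hy
    have hyN : y ∈ Subgroup.normalizer
        ((P.map (QuotientGroup.mk' R) : Subgroup (G ⧸ R)) : Set (G ⧸ R)) :=
      Subgroup.centralizer_le_normalizer _ hy
    rw [normalizer_map_mk'_eq hP hR] at hyN
    obtain ⟨n, hn, rfl⟩ := hyN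
    refine ⟨n, ?_, rfl⟩
    replace hn : n ∈ Subgroup.normalizer (P : Set G) := hn
    show n ∈ Subgroup.centralizer (P : Set G)
    rw [Subgroup.mem_centralizer_iff]
    intro u hu
    -- `⁅n, u⁆ ∈ P ∩ R = 1`
    have h1 : n * u * n⁻¹ ∈ P := (Subgroup.mem_normalizer_iff.mp hn u).mp hu
    have h2 : n * u * n⁻¹ * u⁻¹ ∈ P := P.mul_mem h1 (P.inv_mem hu)
    have h3 : n * u * n⁻¹ * u⁻¹ ∈ R := by
      rw [← QuotientGroup.eq_one_iff, ← QuotientGroup.mk'_apply]
      have hc := Subgroup.mem_centralizer_iff.mp hy (QuotientGroup.mk' R u)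
        (Subgroup.mem_map_of_mem _ hu)
      simp only [map_mul, map_inv]
      rw [← hc]; group
    have h4 : n * u * n⁻¹ * u⁻¹ ∈ P ⊓ R := ⟨h2, h3⟩
    rw [inf_eq_bot_of_isPGroup_of_coprime hP hR, Subgroup.mem_bot] at h4
    calc u * n = (n * u * n⁻¹ * u⁻¹)⁻¹ * (n * u) := by group
      _ = n * u := by rw [h4, inv_one, one_mul]
  · rintro y ⟨c, hc, rfl⟩
    rw [Subgroup.mem_centralizer_iff]
    rintro z ⟨u, hu, rfl⟩
    rw [← map_mul, ← map_mul, Subgroup.mem_centralizer_iff.mp hc u hu]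

end Cfsg.Agent.Helper7
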