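import Mathlib
import Cfsg.Prelude.Def_Local
import Cfsg.Agent.Lib.Helper7.Fitting2
import Cfsg.Agent.Lib.Helper7.PLocal
import Cfsg.Agent.Lib.Helper22.PPrimeCore

set_option autoImplicit false

namespace Cfsg.Agent.Helper7

open Subgroup
open scoped commutatorElement

universe u

section
variable {G : Type*} [Group G]

theorem pCore_characteristic (p : ℕ) : (Cfsg.pCore p G).Characteristic := by
  rw [Subgroup.characteristic_iff_map_le]
  intro φ
  rw [Subgroup.map_le_iff_le_comap]
  unfold Cfsg.pCore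
  apply sSup_le
  rintro N ⟨hNn, hN⟩
  rw [← Subgroup.map_le_iff_le_comap]
  apply le_sSup
  refine (⟨?_, ?_⟩ : (N.map φ.toMonoidHom).Normal ∧ IsPGroup p ↥(N.map φ.toMonoidHom))
  · exact hNn.map φ.toMonoidHom φ.surjective
  · exact hN.map φ.toMonoidHom

theorem pPrimeCore_characteristic (p : ℕ) : (Cfsg.pPrimeCore p G).Characteristic := by
  rw [Subgroup.characteristic_iff_map_le]
  intro φ
  rw [Subgroup.map_le_iff_le_comap]
  unfold Cfsg.pPrimeCore
  apply sSup_le
  rintro N ⟨hNn, hN⟩
  rw [← Subgroup.map_le_iff_le_comap]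
  apply le_sSup
  refine (⟨?_, ?_⟩ : (N.map φ.toMonoidHom).Normal ∧ (Nat.card ↥(N.map φ.toMonoidHom)).Coprime p)
  · exact hNn.map φ.toMonoidHom φ.surjective
  · rw [Nat.card_congr (N.equivMapOfInjective φ.toMonoidHom φ.injective).symm.toEquiv]
    exact hN

instance pPrimeCore_normal' (p : ℕ) : (Cfsg.pPrimeCore p G).Normal :=
  Cfsg.Agent.Helper22.pPrimeCore_normal p

theorem card_map_subtype {N : Subgroup G} (K : Subgroup N) :
    Nat.card ↥(K.map N.subtype) = Nat.card ↥K :=
  Nat.card_congr (K.equivMapOfInjective N.subtype N.subtype_injective).symm.toEquiv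

theorem card_subgroupOf_of_le {H N : Subgroup G} (hHN : H ≤ N) :
    Nat.card ↥(H.subgroupOf N) = Nat.card ↥H :=
  Nat.card_congr (Subgroup.subgroupOfEquivOfLe hHN).toEquiv

/-- `O_p` of a normal subgroup lies in `O_p`. -/
theorem map_subtype_pCore_le (p : ℕ) [Fact p.Prime] (N : Subgroup G) [N.Normal] :
    (Cfsg.pCore p ↥N).map N.subtype ≤ Cfsg.pCore p G := by
  haveI : (Cfsg.pCore p ↥N).Characteristic := pCore_characteristic p
  haveI : ((Cfsg.pCore p ↥N).map N.subtype).Normal :=
    ConjAct.normal_of_characteristic_of_normal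
  exact le_pCore inferInstance ((pCore_isPGroup p).map N.subtype)

/-- `O_{p'}` of a normal subgroup lies in `O_{p'}`. -/
theorem map_subtype_pPrimeCore_le [Finite G] (p : ℕ) (N : Subgroup G) [N.Normal] :
    (Cfsg.pPrimeCore p ↥N).map N.subtype ≤ Cfsg.pPrimeCore p G := by
  haveI : (Cfsg.pPrimeCore p ↥N).Characteristic := pPrimeCore_characteristic p
  haveI : ((Cfsg.pPrimeCore p ↥N).map N.subtype).Normal :=
    ConjAct.normal_of_characteristic_of_normal
  apply Cfsg.Agent.Helper22.le_pPrimeCore p _ inferInstance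
  rw [card_map_subtype]
  exact Cfsg.Agent.Helper22.card_pPrimeCore_coprime p

end

/-- A subnormal `p`-subgroup of a finite group lies in `O_p`. -/
theorem subnormal_isPGroup_le_pCore_aux (p : ℕ) [Fact p.Prime] :
    ∀ (n : ℕ) (G : Type u) [Group G] [Finite G],
    Nat.card G = n → ∀ H : Subgroup G, H.IsSubnormal → IsPGroup p ↥H →
      H ≤ Cfsg.pCore p G := by
  intro n
  induction n using Nat.strong_induction_on with
  | _ n ih =>
  intro G _ _ hn H hH hp
  by_cases hHt : H = ⊤
  · subst hHt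
    exact le_pCore inferInstance hp
  obtain ⟨N, hNn, hHN, hNt⟩ := hH.exists_normal_and_le_and_lt_top_of_ne hHt
  have hcard : Nat.card N < n := hn ▸ card_lt_of_lt_top hNt
  have h1 := ih _ hcard N rfl (H.subgroupOf N) hH.subgroupOf hp.comap_subtype
  have h2 := Subgroup.map_mono (f := N.subtype) h1
  rw [Subgroup.map_subgroupOf_eq_of_le hHN] at h2
  exact h2.trans (map_subtype_pCore_le p N)

theorem subnormal_isPGroup_le_pCore {G : Type u} [Group G] [Finite G] (p : ℕ) [Fact p.Prime]
    (H : Subgroup G) (hH : H.IsSubnormal) (hp : IsPGroup p ↥H) : H ≤ Cfsg.pCore p G :=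
  subnormal_isPGroup_le_pCore_aux p _ G rfl H hH hp

/-- A subnormal `p'`-subgroup of a finite group lies in `O_{p'}`. -/
theorem subnormal_coprime_le_pPrimeCore_aux (p : ℕ) :
    ∀ (n : ℕ) (G : Type u) [Group G] [Finite G],
    Nat.card G = n → ∀ H : Subgroup G, H.IsSubnormal → (Nat.card ↥H).Coprime p →
      H ≤ Cfsg.pPrimeCore p G := by
  intro n
  induction n using Nat.strong_induction_on with
  | _ n ih =>
  intro G _ _ hn H hH hp
  by_cases hHt : H = ⊤
  · subst hHt
    exact Cfsg.Agent.Helper22.le_pPrimeCore p _ inferInstance hp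
  obtain ⟨N, hNn, hHN, hNt⟩ := hH.exists_normal_and_le_and_lt_top_of_ne hHt
  have hcard : Nat.card N < n := hn ▸ card_lt_of_lt_top hNt
  have h1 := ih _ hcard N rfl (H.subgroupOf N) hH.subgroupOf
    (by rw [card_subgroupOf_of_le hHN]; exact hp)
  have h2 := Subgroup.map_mono (f := N.subtype) h1
  rw [Subgroup.map_subgroupOf_eq_of_le hHN] at h2
  exact h2.trans (map_subtype_pPrimeCore_le p N)

theorem subnormal_coprime_le_pPrimeCore {G : Type u} [Group G] [Finite G] (p : ℕ)
    (H : Subgroup G) (hH : H.IsSubnormal) (hp : (Nat.card ↥H).Coprime p) :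
    H ≤ Cfsg.pPrimeCore p G :=
  subnormal_coprime_le_pPrimeCore_aux p _ G rfl H hH hp

end Cfsg.Agent.Helper7
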