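import Mathlib
import Cfsg.Prelude.Def_Local
import Cfsg.Agent.Lib.Helper7.PLocal2
import Cfsg.Agent.Lib.Helper7.FStar2
import Cfsg.Agent.Lib.Helper7.Components2
import Cfsg.Agent.Lib.Helper7.Layer

set_option autoImplicit false

namespace Cfsg.Agent.Helper7

open Subgroup
open scoped commutatorElement Pointwise

variable {G : Type*} [Group G]

/-- an element stabilizing a chain `D 0 ≥ D 1 ≥ ⋯ ≥ D n = 1` of subgroups of `H`, of order prime to
`|H|`, centralizes `D 0`. -/
theorem conj_eq_self_of_chain [Finite G] (a : G) (H : Subgroup G)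
    (hcop : (orderOf a).Coprime (Nat.card H)) (n : ℕ) (D : ℕ → Subgroup G) (hDH : ∀ i, D i ≤ H)
    (hDn : D n = ⊥) (hD : ∀ i, ∀ x ∈ D i, x⁻¹ * (a * x * a⁻¹) ∈ D (i + 1)) :
    ∀ x ∈ D 0, a * x * a⁻¹ = x := by
  have claim : ∀ j i, i + j = n → ∀ x ∈ D i, a * x * a⁻¹ = x := by
    intro j
    induction j with
    | zero =>
      intro i hi x hx
      rw [Nat.add_zero] at hi
      rw [hi, hDn, Subgroup.mem_bot] at hx
      subst hx; simp
    | succ j ih =>
      intro i hi x hx
      have hz := hD i x hx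
      have hza := ih (i + 1) (by omega) _ hz
      apply conj_eq_self_of_coprime a x (isOfFinOrder_of_finite a) hza
      exact Nat.Coprime.coprime_dvd_right (Subgroup.orderOf_dvd_natCard H (hDH _ hz)) hcop
  exact claim n 0 (by omega)

/-- In a nilpotent group `F`, an element of order prime to `|Q|` centralizes the normal subgroup
`Q` of `F`. -/
theorem mem_centralizer_of_isNilpotent_of_coprime [Finite G] (F Q : Subgroup G)
    (hF : Group.IsNilpotent ↥F) (hQF : Q ≤ F) (hFQ : F ≤ Subgroup.normalizer (Q : Set G))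
    (c : G) (hc : c ∈ F) (hcop : (orderOf c).Coprime (Nat.card Q)) :
    c ∈ Subgroup.centralizer (Q : Set G) := by
  obtain ⟨n, hn⟩ := (Subgroup.isNilpotent_iff_lowerCentralSeries F).mp hF
  have key := conj_eq_self_of_chain c Q hcop n (fun i => Q ⊓ F.lowerCentralSeries i)
    (fun i => inf_le_left) (by simp only [hn]; exact inf_bot_eq _) ?_
  · rw [Subgroup.mem_centralizer_iff]
    intro x hx
    have h1 := key x ⟨hx, by rw [Subgroup.lowerCentralSeries_zero]; exact hQF hx⟩
    calc x * c = (c * x * c⁻¹) * c := by rw [h1]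
      _ = c * x := by group
  · intro i x hx
    have h2 : x⁻¹ * (c * x * c⁻¹) = ⁅x⁻¹, c⁆ := by
      simp only [commutatorElement_def]; group
    refine ⟨?_, ?_⟩
    · have hcx : c * x * c⁻¹ ∈ Q := by
        have := hFQ hc
        rw [Subgroup.mem_normalizer_iff] at this
        exact (this x).mp hx.1
      exact Q.mul_mem (Q.inv_mem hx.1) hcx
    · rw [Subgroup.lowerCentralSeries_succ, h2]
      exact Subgroup.commutator_mem_commutator (Subgroup.inv_mem _ hx.2) hc

/-- A finite subgroup all of whose `p'`-elements are trivial is a `p`-group. -/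
theorem isPGroup_of_forall_coprime_eq_one [Finite G] {p : ℕ} [Fact p.Prime] {H : Subgroup G}
    (h : ∀ c ∈ H, (orderOf c).Coprime p → c = 1) : IsPGroup p ↥H := by
  intro g
  obtain ⟨k, hk⟩ := exists_pow_coprime p (g : G)
  refine ⟨k, ?_⟩
  have := h _ (H.pow_mem g.2 _) hk
  exact Subtype.ext (by simpa using this)

/-- If `C_G(O_p(G)) ≤ O_p(G)` then `F*(G) = O_p(G)`. -/
theorem generalizedFittingSubgroup_eq_pCore_of_centralizer_le [Finite G] (p : ℕ) [Fact p.Prime]
    (h : Subgroup.centralizer (Cfsg.pCore p G : Set G) ≤ Cfsg.pCore p G) :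
    Cfsg.generalizedFittingSubgroup G = Cfsg.pCore p G := by
  have hQF : Cfsg.pCore p G ≤ Cfsg.fittingSubgroup G :=
    le_fittingSubgroup _ (pCore_isPGroup p).isNilpotent
  have hlayer : Cfsg.layer G = ⊥ := by
    rw [layer_eq_bot_iff]
    intro K hK
    have h1 : K ≤ Subgroup.centralizer (Cfsg.fittingSubgroup G : Set G) :=
      Subgroup.commutator_eq_bot_iff_le_centralizer.mp (component_commutator_fittingSubgroup hK)
    have h2 : K ≤ Cfsg.pCore p G :=
      (h1.trans (Subgroup.centralizer_le (by exact_mod_cast hQF))).trans h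
    exact not_isSolvable_of_component hK (isSolvable_of_isPGroup ((pCore_isPGroup p).to_le h2))
  have hfit : Cfsg.fittingSubgroup G ≤ Cfsg.pCore p G := by
    apply le_pCore inferInstance
    apply isPGroup_of_forall_coprime_eq_one
    intro c hc hcop
    have hcq : (orderOf c).Coprime (Nat.card (Cfsg.pCore p G)) := by
      obtain ⟨n, hn⟩ := IsPGroup.iff_card.mp (pCore_isPGroup (G := G) p)
      rw [hn]; exact Nat.Coprime.pow_right n hcop
    have h3 := mem_centralizer_of_isNilpotent_of_coprime (Cfsg.fittingSubgroup G) (Cfsg.pCore p G)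
      fittingSubgroup_isNilpotent hQF
      (by rw [Subgroup.normalizer_eq_top]; exact le_top) c hc hcq
    exact eq_one_of_isPGroup_of_coprime (pCore_isPGroup p) (h h3) hcop
  unfold Cfsg.generalizedFittingSubgroup
  rw [hlayer, bot_sup_eq]
  exact le_antisymm hfit hQF

/-- If `F*(G) = O_p(G)` then `C_G(O_p(G)) ≤ O_p(G)`. -/
theorem centralizer_pCore_le_of_generalizedFittingSubgroup_eq [Finite G] (p : ℕ)
    (h : Cfsg.generalizedFittingSubgroup G = Cfsg.pCore p G) :
    Subgroup.centralizer (Cfsg.pCore p G : Set G) ≤ Cfsg.pCore p G := by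
  have := centralizer_generalizedFittingSubgroup_le (G := G)
  rwa [h] at this

/-- If `C_G(O_p(G)) ≤ O_p(G)`, the same holds in the normalizer `N` of any `p`-subgroup `P`. -/
theorem centralizer_pCore_normalizer_le [Finite G] (p : ℕ) [Fact p.Prime]
    (h : Subgroup.centralizer (Cfsg.pCore p G : Set G) ≤ Cfsg.pCore p G)
    (P : Subgroup G) (hP : IsPGroup p ↥P) :
    Subgroup.centralizer (Cfsg.pCore p ↥(Subgroup.normalizer (P : Set G)) :
      Set ↥(Subgroup.normalizer (P : Set G))) ≤ Cfsg.pCore p ↥(Subgroup.normalizer (P : Set G)) := by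
  set N := Subgroup.normalizer (P : Set G) with hN
  set Q := Cfsg.pCore p G with hQ
  haveI hTPn : (P.subgroupOf N).Normal := Subgroup.normal_in_normalizer
  have hTP : P.subgroupOf N ≤ Cfsg.pCore p ↥N := le_pCore hTPn hP.comap_subtype
  have hTQ : Q.subgroupOf N ≤ Cfsg.pCore p ↥N :=
    le_pCore inferInstance (pCore_isPGroup p).comap_subtype
  have hQtop : Subgroup.normalizer (Q : Set G) = ⊤ := Subgroup.normalizer_eq_top Q
  apply le_pCore inferInstance
  apply isPGroup_of_forall_coprime_eq_one
  intro x hx hcop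
  have hxQ : (x : G) ∈ Subgroup.centralizer (Q : Set G) := by
    apply thompson_AxB_element p Q P (pCore_isPGroup p) hP _ (x : G) _ _ _ _
    · rw [hQtop]; exact le_top
    · rw [hQtop]; exact Subgroup.mem_top _
    · rw [Subgroup.orderOf_coe]; exact hcop
    · rw [Subgroup.mem_centralizer_iff]
      intro y hy
      have hyN : y ∈ N := Subgroup.le_normalizer hy
      have hy' : (⟨y, hyN⟩ : ↥N) ∈ Cfsg.pCore p ↥N := hTP (Subgroup.mem_subgroupOf.mpr hy)
      have := Subgroup.mem_centralizer_iff.mp hx ⟨y, hyN⟩ hy'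
      exact congrArg Subtype.val this
    · rw [Subgroup.mem_centralizer_iff]
      intro y hy
      have hyN : y ∈ N := Subgroup.centralizer_le_normalizer _ hy.2
      have hy' : (⟨y, hyN⟩ : ↥N) ∈ Cfsg.pCore p ↥N := hTQ (Subgroup.mem_subgroupOf.mpr hy.1)
      have := Subgroup.mem_centralizer_iff.mp hx ⟨y, hyN⟩ hy'
      exact congrArg Subtype.val this
  have h1 : (x : G) = 1 := by
    apply eq_one_of_isPGroup_of_coprime (pCore_isPGroup (G := G) p) (h hxQ)
    rw [Subgroup.orderOf_coe]; exact hcop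
  exact Subtype.ext h1

end Cfsg.Agent.Helper7
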