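import Mathlib
import Cfsg.Prelude.Def_Local
import Cfsg.Agent.Lib.Helper7.PLocal4
import Cfsg.Agent.Lib.Helper7.Cores
import Cfsg.Agent.Lib.Helper7.FStar
import Cfsg.Agent.Lib.Helper7.Frattini

set_option autoImplicit false

namespace Cfsg.Agent.Helper7

open Subgroup
open scoped commutatorElement

variable {Y : Type*} [Group Y] [Finite Y]

/-- If `O_{p'}(Y) = 1` then `F(Y) = O_p(Y)`. -/
theorem fittingSubgroup_le_pCore_of_pPrimeCore_eq_bot (p : ℕ) [Fact p.Prime]
    (hY : Cfsg.pPrimeCore p Y = ⊥) : Cfsg.fittingSubgroup Y ≤ Cfsg.pCore p Y := by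
  set F := Cfsg.fittingSubgroup Y with hF
  haveI : Group.IsNilpotent ↥F := fittingSubgroup_isNilpotent
  apply le_pCore inferInstance
  have hq' : ∀ q : ℕ, q.Prime → q ∣ Nat.card ↥F → q = p := by
    intro q hq hdvd
    by_contra hne
    haveI : Fact q.Prime := ⟨hq⟩
    obtain S : Sylow q ↥F := default
    haveI : (S : Subgroup ↥F).Characteristic := S.characteristic_of_normal inferInstance
    haveI : ((S : Subgroup ↥F).map F.subtype).Normal := ConjAct.normal_of_characteristic_of_normal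
    have hcard : Nat.card ↥((S : Subgroup ↥F).map F.subtype) =
        q ^ (Nat.card ↥F).factorization q := by
      rw [card_map_subtype, S.card_eq_multiplicity]
    have hcop : (Nat.card ↥((S : Subgroup ↥F).map F.subtype)).Coprime p := by
      rw [hcard]
      exact Nat.Coprime.pow_left _ ((Nat.coprime_primes hq Fact.out).mpr hne)
    have hle := Cfsg.Agent.Helper22.le_pPrimeCore p _ inferInstance hcop
    rw [hY, le_bot_iff] at hle
    have h1 : q ^ (Nat.card ↥F).factorization q = 1 := by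
      rw [← hcard, hle, Subgroup.card_bot]
    have hpos : 0 < (Nat.card ↥F).factorization q :=
      hq.factorization_pos_of_dvd Nat.card_pos.ne' hdvd
    have := Nat.one_lt_pow hpos.ne' hq.one_lt
    omega
  have hk : Nat.card ↥F = p ^ (Nat.card ↥F).primeFactorsList.length :=
    Nat.eq_prime_pow_of_unique_prime_dvd Nat.card_pos.ne' (fun {q} hq hd => hq' q hq hd)
  exact IsPGroup.of_card hk

/-- If `O_{p'}(Y) = 1` and `E(Y) = 1` then `F*(Y) = O_p(Y)`. -/
theorem generalizedFittingSubgroup_eq_pCore_of_layer_eq_bot (p : ℕ) [Fact p.Prime]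
    (hY : Cfsg.pPrimeCore p Y = ⊥) (hE : Cfsg.layer Y = ⊥) :
    Cfsg.generalizedFittingSubgroup Y = Cfsg.pCore p Y := by
  unfold Cfsg.generalizedFittingSubgroup
  rw [hE, bot_sup_eq]
  exact le_antisymm (fittingSubgroup_le_pCore_of_pPrimeCore_eq_bot p hY)
    (le_fittingSubgroup _ (pCore_isPGroup p).isNilpotent)

/-- If `F*(Y) = O_p(Y)` then `E(Y) = 1` and `O_{p'}(Y) = 1`. -/
theorem layer_eq_bot_of_generalizedFittingSubgroup_eq_pCore (p : ℕ) [Fact p.Prime]
    (h : Cfsg.generalizedFittingSubgroup Y = Cfsg.pCore p Y) : Cfsg.layer Y = ⊥ := by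
  rw [layer_eq_bot_iff]
  intro K hK
  have h1 : K ≤ Cfsg.pCore p Y := by
    rw [← h]; exact (component_le_layer hK).trans layer_le_generalizedFittingSubgroup
  exact not_isSolvable_of_component hK (isSolvable_of_isPGroup ((pCore_isPGroup p).to_le h1))

theorem pPrimeCore_eq_bot_of_generalizedFittingSubgroup_eq_pCore (p : ℕ) [Fact p.Prime]
    (h : Cfsg.generalizedFittingSubgroup Y = Cfsg.pCore p Y) : Cfsg.pPrimeCore p Y = ⊥ := by
  have hc := centralizer_pCore_le_of_generalizedFittingSubgroup_eq p h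
  have h1 : ⁅Cfsg.pPrimeCore p Y, Cfsg.pCore p Y⁆ = ⊥ := by
    apply commutator_eq_bot_of_normal_of_coprime
    obtain ⟨n, hn⟩ := IsPGroup.iff_card.mp (pCore_isPGroup (G := Y) p)
    rw [hn]
    exact Nat.Coprime.pow_right n (Cfsg.Agent.Helper22.card_pPrimeCore_coprime p)
  have h2 : Cfsg.pPrimeCore p Y ≤ Cfsg.pCore p Y :=
    (Subgroup.commutator_eq_bot_iff_le_centralizer.mp h1).trans hc
  have h3 : Cfsg.pPrimeCore p Y ⊓ Cfsg.pCore p Y = ⊥ := by
    rw [inf_comm]
    exact inf_eq_bot_of_isPGroup_of_coprime (pCore_isPGroup p)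
      (Cfsg.Agent.Helper22.card_pPrimeCore_coprime p)
  rw [eq_bot_iff, ← h3]
  exact le_inf le_rfl h2

end Cfsg.Agent.Helper7
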