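import Mathlib
import Cfsg.Prelude.Def_Local
import Cfsg.Prelude.Def_Amalgam
import Cfsg.Agent.Lib.Helper7.Cores
import Cfsg.Agent.Lib.Helper7.PLocal2
import Cfsg.Agent.Lib.Helper7.Components2

set_option autoImplicit false

namespace Cfsg.Agent.Helper7

open Subgroup
open scoped commutatorElement

section pElementClosure

variable {X : Type*} [Group X]

theorem pElementClosure_le' (p : ℕ) (H : Subgroup X) : Cfsg.pElementClosure p H ≤ H := by
  unfold Cfsg.pElementClosure
  rw [Subgroup.closure_le]
  intro x hx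
  exact hx.1

theorem mem_pElementClosure {p : ℕ} {H : Subgroup X} {x : X} (hx : x ∈ H)
    (hk : ∃ k : ℕ, orderOf x = p ^ k) : x ∈ Cfsg.pElementClosure p H :=
  Subgroup.subset_closure ⟨hx, hk⟩

theorem pElementClosure_le_of_forall {p : ℕ} {H M : Subgroup X}
    (h : ∀ x ∈ H, (∃ k : ℕ, orderOf x = p ^ k) → x ∈ M) : Cfsg.pElementClosure p H ≤ M := by
  unfold Cfsg.pElementClosure
  rw [Subgroup.closure_le]
  intro x hx
  exact h x hx.1 hx.2

theorem pElementClosure_idem (p : ℕ) (H : Subgroup X) :
    Cfsg.pElementClosure p (Cfsg.pElementClosure p H) = Cfsg.pElementClosure p H := by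
  apply le_antisymm (pElementClosure_le' p _)
  apply pElementClosure_le_of_forall
  intro x hx hk
  exact mem_pElementClosure (mem_pElementClosure hx hk) hk

theorem pElementClosure_mono (p : ℕ) {H K : Subgroup X} (h : H ≤ K) :
    Cfsg.pElementClosure p H ≤ Cfsg.pElementClosure p K :=
  pElementClosure_le_of_forall fun _ hx hk => mem_pElementClosure (h hx) hk

theorem map_pElementClosure_of_injective {Y : Type*} [Group Y] (p : ℕ) (f : X →* Y)
    (hf : Function.Injective f) (H : Subgroup X) :
    (Cfsg.pElementClosure p H).map f = Cfsg.pElementClosure p (H.map f) := by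
  unfold Cfsg.pElementClosure
  rw [MonoidHom.map_closure]
  congr 1
  ext y
  constructor
  · rintro ⟨x, ⟨hx, k, hk⟩, rfl⟩
    exact ⟨Subgroup.mem_map_of_mem f hx, k, by rw [orderOf_injective f hf, hk]⟩
  · rintro ⟨⟨x, hx, rfl⟩, k, hk⟩
    exact ⟨x, ⟨hx, k, by rw [← orderOf_injective f hf, hk]⟩, rfl⟩

theorem normalizer_le_normalizer_pElementClosure (p : ℕ) (H : Subgroup X) :
    Subgroup.normalizer (H : Set X) ≤
      Subgroup.normalizer ((Cfsg.pElementClosure p H : Subgroup X) : Set X) := by
  intro g hg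
  rw [Subgroup.mem_normalizer_iff_map_conj_eq] at hg ⊢
  rw [map_pElementClosure_of_injective p _ (MulAut.conj g).injective, hg]

/-- a subgroup `H'` of `H` normalized by `H` is subnormal if `H` is -/
theorem isSubnormal_of_le_of_le_normalizer {H' H : Subgroup X} (hle : H' ≤ H)
    (hn : H ≤ Subgroup.normalizer (H' : Set X)) (hH : H.IsSubnormal) : H'.IsSubnormal :=
  Subgroup.IsSubnormal.step H' H hle hH (Subgroup.normal_subgroupOf_of_le_normalizer hn)

theorem isSubnormal_pElementClosure (p : ℕ) {H : Subgroup X} (hH : H.IsSubnormal) :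
    (Cfsg.pElementClosure p H).IsSubnormal :=
  isSubnormal_of_le_of_le_normalizer (pElementClosure_le' p H)
    (Subgroup.le_normalizer.trans (normalizer_le_normalizer_pElementClosure p H)) hH

theorem isSubnormal_commutator_self {H : Subgroup X} (hH : H.IsSubnormal) :
    (⁅H, H⁆ : Subgroup X).IsSubnormal :=
  isSubnormal_of_le_of_le_normalizer (Subgroup.commutator_le_self H)
    (Subgroup.le_normalizer.trans
      ((le_inf le_rfl le_rfl).trans (normalizer_inf_normalizer_le_normalizer_commutator H H))) hH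

end pElementClosure

section main

variable {X : Type*} [Group X] [Finite X]

/-- In a subnormal subgroup `H`, every `p`-element of `H R` (`R` a normal `p'`-subgroup) lies in
`H`. -/
theorem pElement_mem_of_isSubnormal (p : ℕ) [Fact p.Prime] (R : Subgroup X) [R.Normal]
    (hR : (Nat.card R).Coprime p) {H : Subgroup X} (hH : H.IsSubnormal) :
    ∀ d : X, (∃ k : ℕ, orderOf d = p ^ k) →
      QuotientGroup.mk' R d ∈ H.map (QuotientGroup.mk' R) → d ∈ H := by
  induction hH with
  | top => intros; trivial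
  | step H K hle hK hN ih =>
    intro d hd hφ
    have hdK : d ∈ K := ih d hd (Subgroup.map_mono hle hφ)
    obtain ⟨h, hh, hhd⟩ := hφ
    have hr : h⁻¹ * d ∈ R := by
      have : (QuotientGroup.mk' R) h = (QuotientGroup.mk' R) d := hhd
      simp only [QuotientGroup.mk'_apply] at this
      exact QuotientGroup.eq.mp this
    obtain ⟨k, hk⟩ := hd
    have hhK : h ∈ K := hle hh
    have hrK : h⁻¹ * d ∈ K := K.mul_mem (K.inv_mem hhK) hdK
    set q := QuotientGroup.mk' (H.subgroupOf K) with hq
    have e1 : q ⟨d, hdK⟩ = q ⟨h⁻¹ * d, hrK⟩ := by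
      have h1 : (⟨d, hdK⟩ : ↥K) = ⟨h, hhK⟩ * ⟨h⁻¹ * d, hrK⟩ := by
        apply Subtype.ext; simp
      have h2 : q ⟨h, hhK⟩ = 1 := by
        rw [hq, QuotientGroup.mk'_apply, QuotientGroup.eq_one_iff]
        exact Subgroup.mem_subgroupOf.mpr hh
      rw [h1, map_mul, h2, one_mul]
    have o1 : orderOf (q ⟨d, hdK⟩) ∣ p ^ k := by
      have := orderOf_map_dvd q (⟨d, hdK⟩ : ↥K)
      rw [Subgroup.orderOf_mk, hk] at this
      exact this
    have o2 : orderOf (q ⟨d, hdK⟩) ∣ Nat.card R := by
      rw [e1]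
      have h3 := orderOf_map_dvd q (⟨h⁻¹ * d, hrK⟩ : ↥K)
      rw [Subgroup.orderOf_mk] at h3
      exact h3.trans (Subgroup.orderOf_dvd_natCard R hr)
    have o3 : orderOf (q ⟨d, hdK⟩) = 1 :=
      Nat.eq_one_of_dvd_coprimes (Nat.Coprime.pow_right k hR) o2 o1
    rw [orderOf_eq_one_iff, hq, QuotientGroup.mk'_apply, QuotientGroup.eq_one_iff] at o3
    exact Subgroup.mem_subgroupOf.mp o3

theorem pPrimeCore_quotient_eq_bot' (p : ℕ) :
    Cfsg.pPrimeCore p (X ⧸ Cfsg.pPrimeCore p X) = ⊥ := by
  set R := Cfsg.pPrimeCore p X with hR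
  set S := Cfsg.pPrimeCore p (X ⧸ R) with hS
  have h1 : Nat.card (S.comap (QuotientGroup.mk' R)) = Nat.card R * Nat.card S :=
    QuotientGroup.card_preimage_mk R (S : Set (X ⧸ R))
  have h2 : (Nat.card (S.comap (QuotientGroup.mk' R))).Coprime p := by
    rw [h1]
    exact Nat.Coprime.mul_left (Cfsg.Agent.Helper22.card_pPrimeCore_coprime p)
      (Cfsg.Agent.Helper22.card_pPrimeCore_coprime p)
  have h3 : S.comap (QuotientGroup.mk' R) ≤ R :=
    Cfsg.Agent.Helper22.le_pPrimeCore p _ inferInstance h2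
  rw [eq_bot_iff]
  intro y hy
  obtain ⟨x, rfl⟩ := QuotientGroup.mk'_surjective R y
  have : x ∈ R := h3 (Subgroup.mem_comap.mpr hy)
  rw [Subgroup.mem_bot, QuotientGroup.mk'_apply, QuotientGroup.eq_one_iff]
  exact this

/-- Burnside: a perfect finite group all of whose `p`-elements are central has order prime to `p`. -/
theorem coprime_card_of_perfect_of_pElements_central {H : Type*} [Group H] [Finite H] (p : ℕ)
    [hp : Fact p.Prime] (hperf : commutator H = ⊤)
    (hc : ∀ x : H, (∃ k : ℕ, orderOf x = p ^ k) → x ∈ Subgroup.center H) :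
    (Nat.card H).Coprime p := by
  obtain P : Sylow p H := default
  have hPc : (P : Subgroup H) ≤ Subgroup.center H := by
    intro x hx
    apply hc x
    obtain ⟨k, hk⟩ := (IsPGroup.iff_orderOf.mp P.2) ⟨x, hx⟩
    exact ⟨k, by rw [← hk, Subgroup.orderOf_mk]⟩
  have hP : Subgroup.normalizer ((P : Subgroup H) : Set H) ≤
      Subgroup.centralizer ((P : Subgroup H) : Set H) := by
    intro g _
    rw [Subgroup.mem_centralizer_iff]
    intro x hx
    exact (Subgroup.mem_center_iff.mp (hPc hx) g).symm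
  have hcompl := MonoidHom.ker_transferSylow_isComplement' P hP
  letI : CommGroup ↥(P : Subgroup H) :=
    { (inferInstance : Group ↥(P : Subgroup H)) with
      mul_comm := fun a b => Subtype.ext (hP (Subgroup.le_normalizer b.2) a a.2) }
  have hker : (MonoidHom.transferSylow P hP).ker = ⊤ := by
    rw [eq_top_iff, ← hperf]
    exact Abelianization.commutator_subset_ker _
  rw [hker] at hcompl
  have hcard := hcompl.card_mul_card
  rw [Subgroup.card_top] at hcard
  have hP1 : Nat.card ↥(P : Subgroup H) = 1 := by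
    have hpos : 0 < Nat.card H := Nat.card_pos
    exact Nat.eq_of_mul_eq_mul_left hpos (by rw [hcard, mul_one])
  rw [P.card_eq_multiplicity] at hP1
  have hf : (Nat.card H).factorization p = 0 := by
    by_contra hne
    have : 1 < p ^ (Nat.card H).factorization p := Nat.one_lt_pow hne hp.out.one_lt
    omega
  rw [Nat.factorization_eq_zero_iff] at hf
  rcases hf with hf | hf | hf
  · exact absurd hp.out hf
  · exact ((Nat.Prime.coprime_iff_not_dvd hp.out).mpr hf).symm
  · exact absurd hf Nat.card_pos.ne'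

/-- Some power `x ^ m`, `m` prime to `p`, is a `p`-element. -/
theorem exists_pow_pElement (p : ℕ) [hp : Fact p.Prime] (x : X) :
    ∃ m : ℕ, m.Coprime p ∧ ∃ a : ℕ, orderOf (x ^ m) = p ^ a := by
  have hpos : orderOf x ≠ 0 := (orderOf_pos x).ne'
  obtain ⟨a, m, hm, ham⟩ := Nat.exists_eq_pow_mul_and_not_dvd hpos p hp.out.ne_one
  refine ⟨m, ((Nat.Prime.coprime_iff_not_dvd hp.out).mpr hm).symm, a, ?_⟩
  have hm0 : m ≠ 0 := by
    rintro rfl
    exact hm (dvd_zero p)
  rw [orderOf_pow_of_dvd hm0 ⟨p ^ a, by rw [ham, mul_comm]⟩, ham,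
    Nat.mul_div_cancel _ (Nat.pos_of_ne_zero hm0)]

/-- components of a group with trivial `O_{p'}` are not `p'`-groups -/
theorem component_not_coprime {Y : Type*} [Group Y] [Finite Y] (p : ℕ)
    (hY : Cfsg.pPrimeCore p Y = ⊥) {K : Subgroup Y} (hK : Cfsg.IsComponent K) :
    ¬ (Nat.card K).Coprime p := by
  intro h
  have := subnormal_coprime_le_pPrimeCore p K hK.1 h
  rw [hY, le_bot_iff] at this
  exact component_ne_bot hK this

/-- In a group with trivial `O_{p'}`, a normal subgroup of a component `K` containing all the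
`p`-elements of `K` is `K`. -/
theorem component_le_of_pElements_mem {Y : Type*} [Group Y] [Finite Y] (p : ℕ) [Fact p.Prime]
    (hY : Cfsg.pPrimeCore p Y = ⊥) {K M : Subgroup Y} (hK : Cfsg.IsComponent K)
    (hM : K ≤ Subgroup.normalizer (M : Set Y))
    (h : ∀ x ∈ K, (∃ k : ℕ, orderOf x = p ^ k) → x ∈ M) : K ≤ M := by
  by_contra hKM
  have hc := component_inf_le_center hK hM hKM
  apply component_not_coprime p hY hK
  apply coprime_card_of_perfect_of_pElements_central p hK.2.1.commutator_eq_top
  intro x hx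
  rw [Subgroup.mem_center_iff]
  intro y
  have hxM : (x : Y) ∈ K ⊓ M := by
    refine ⟨x.2, h x x.2 ?_⟩
    obtain ⟨k, hk⟩ := hx
    exact ⟨k, by rw [Subgroup.orderOf_coe]; exact hk⟩
  have h1 := (Subgroup.commutator_eq_bot_iff_le_centralizer.mp hc) hxM
  have h2 := Subgroup.mem_centralizer_iff.mp h1 y y.2
  exact Subtype.ext h2

variable (p : ℕ) [Fact p.Prime]

/-- `O^{p'}` of the preimage of a component of `X / O_{p'}(X)` maps onto the component. -/
theorem map_pElementClosure_comap {Kbar : Subgroup (X ⧸ Cfsg.pPrimeCore p X)}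
    (hK : Cfsg.IsComponent Kbar) :
    (Cfsg.pElementClosure p (Kbar.comap (QuotientGroup.mk' (Cfsg.pPrimeCore p X)))).map
      (QuotientGroup.mk' (Cfsg.pPrimeCore p X)) = Kbar := by
  set R := Cfsg.pPrimeCore p X with hR
  set φ := QuotientGroup.mk' R with hφ
  have hsurj : Function.Surjective φ := QuotientGroup.mk'_surjective R
  set K₁ := Kbar.comap φ with hK₁
  have hK₁map : K₁.map φ = Kbar := Subgroup.map_comap_eq_self_of_surjective hsurj Kbar
  apply le_antisymm
  · rw [← hK₁map]
    exact Subgroup.map_mono (pElementClosure_le' p K₁)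
  · apply component_le_of_pElements_mem p (pPrimeCore_quotient_eq_bot' p) hK
    · have h1 : K₁ ≤ Subgroup.normalizer ((Cfsg.pElementClosure p K₁ : Subgroup X) : Set X) :=
        Subgroup.le_normalizer.trans (normalizer_le_normalizer_pElementClosure p K₁)
      calc Kbar = K₁.map φ := hK₁map.symm
        _ ≤ (Subgroup.normalizer ((Cfsg.pElementClosure p K₁ : Subgroup X) : Set X)).map φ :=
          Subgroup.map_mono h1
        _ ≤ _ := Subgroup.le_normalizer_map φ
    · intro ybar hy hk
      obtain ⟨y, rfl⟩ := hsurj ybar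
      have hyK : y ∈ K₁ := Subgroup.mem_comap.mpr hy
      obtain ⟨m, hm, a, ha⟩ := exists_pow_pElement p y
      have h1 : y ^ m ∈ Cfsg.pElementClosure p K₁ :=
        mem_pElementClosure (K₁.pow_mem hyK m) ⟨a, ha⟩
      have h2 : (φ y) ^ m ∈ (Cfsg.pElementClosure p K₁).map φ := by
        rw [← map_pow]; exact Subgroup.mem_map_of_mem φ h1
      obtain ⟨k, hk⟩ := hk
      have hcop : m.Coprime (orderOf (φ y)) := by
        rw [hk]; exact Nat.Coprime.pow_right k hm
      obtain ⟨n, hn⟩ := exists_pow_eq_self_of_coprime hcop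
      rw [← hn]
      exact Subgroup.pow_mem _ h2 n

/-- `O^{p'}` of the preimage of a component `Kbar` lies in every subnormal subgroup covering
`Kbar`. -/
theorem pElementClosure_comap_le {Kbar : Subgroup (X ⧸ Cfsg.pPrimeCore p X)}
    {H : Subgroup X} (hH : H.IsSubnormal)
    (hle : Kbar ≤ H.map (QuotientGroup.mk' (Cfsg.pPrimeCore p X))) :
    Cfsg.pElementClosure p (Kbar.comap (QuotientGroup.mk' (Cfsg.pPrimeCore p X))) ≤ H := by
  apply pElementClosure_le_of_forall
  intro d hd hk
  exact pElement_mem_of_isSubnormal p (Cfsg.pPrimeCore p X)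
    (Cfsg.Agent.Helper22.card_pPrimeCore_coprime p) hH d hk (hle (Subgroup.mem_comap.mp hd))

theorem isPComponent_pElementClosure_comap {Kbar : Subgroup (X ⧸ Cfsg.pPrimeCore p X)}
    (hK : Cfsg.IsComponent Kbar) :
    Cfsg.IsPComponent p
      (Cfsg.pElementClosure p (Kbar.comap (QuotientGroup.mk' (Cfsg.pPrimeCore p X)))) := by
  refine ⟨isSubnormal_pElementClosure p (hK.1.comap _), ?_, ?_⟩
  · rw [map_pElementClosure_comap p hK]; exact hK
  · intro H hH hle hmap
    rw [map_pElementClosure_comap p hK] at hmap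
    exact le_antisymm hle (pElementClosure_comap_le p hH hmap.ge)

theorem IsPComponent.eq_pElementClosure {K : Subgroup X} (hK : Cfsg.IsPComponent p K) :
    K = Cfsg.pElementClosure p
      ((K.map (QuotientGroup.mk' (Cfsg.pPrimeCore p X))).comap
        (QuotientGroup.mk' (Cfsg.pPrimeCore p X))) := by
  have h1 := pElementClosure_comap_le p hK.1 (le_refl (K.map (QuotientGroup.mk' (Cfsg.pPrimeCore p X))))
  have h2 := hK.2.2 _ (isPComponent_pElementClosure_comap p hK.2.1).1 h1
    (map_pElementClosure_comap p hK.2.1)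
  exact h2.symm

theorem IsPComponent.eq_of_map_eq {K K' : Subgroup X} (hK : Cfsg.IsPComponent p K)
    (hK' : Cfsg.IsPComponent p K')
    (h : K.map (QuotientGroup.mk' (Cfsg.pPrimeCore p X)) =
      K'.map (QuotientGroup.mk' (Cfsg.pPrimeCore p X))) : K = K' := by
  rw [IsPComponent.eq_pElementClosure p hK, IsPComponent.eq_pElementClosure p hK', h]

/-- A `p`-component lies in every subnormal subgroup covering its image. -/
theorem IsPComponent.le_of_map_le {K H : Subgroup X} (hK : Cfsg.IsPComponent p K)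
    (hH : H.IsSubnormal)
    (h : K.map (QuotientGroup.mk' (Cfsg.pPrimeCore p X)) ≤
      H.map (QuotientGroup.mk' (Cfsg.pPrimeCore p X))) : K ≤ H := by
  rw [IsPComponent.eq_pElementClosure p hK]
  exact pElementClosure_comap_le p hH h

end main

end Cfsg.Agent.Helper7
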