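import Mathlib
import Cfsg.Prelude.Def_Local
import Cfsg.Prelude.Def_Amalgam
import Cfsg.Agent.Lib.Helper7.PComp
import Cfsg.Agent.Lib.Helper7.Layer

set_option autoImplicit false

namespace Cfsg.Agent.Helper7

open Subgroup
open scoped commutatorElement

variable {X : Type*} [Group X] [Finite X] (p : ℕ) [Fact p.Prime]

theorem IsPComponent.perfect {K : Subgroup X} (hK : Cfsg.IsPComponent p K) : ⁅K, K⁆ = K := by
  apply hK.2.2 _ (isSubnormal_commutator_self hK.1) (Subgroup.commutator_le_self K)
  rw [Subgroup.map_commutator, component_perfect hK.2.1]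

theorem IsPComponent.dvd_card {K : Subgroup X} (hK : Cfsg.IsPComponent p K) :
    p ∣ Nat.card ↥K := by
  by_contra hnd
  have hcop : (Nat.card ↥K).Coprime p :=
    ((Nat.Prime.coprime_iff_not_dvd (Fact.out : p.Prime)).mpr hnd).symm
  apply component_not_coprime p (pPrimeCore_quotient_eq_bot' p) hK.2.1
  exact Nat.Coprime.coprime_dvd_left (Subgroup.card_map_dvd _ _) hcop

/-- a subnormal perfect subgroup of a `p`-component `K`, of order divisible by `p`, is `K` -/
theorem IsPComponent.eq_of_perfect {K H : Subgroup X} (hK : Cfsg.IsPComponent p K)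
    (hle : H ≤ K) (hH : H.IsSubnormal) (hperf : ⁅H, H⁆ = H) (hdvd : p ∣ Nat.card ↥H) :
    H = K := by
  set φ := QuotientGroup.mk' (Cfsg.pPrimeCore p X) with hφ
  have hsurj : Function.Surjective φ := QuotientGroup.mk'_surjective _
  rcases component_le_or_commutator_eq_bot' (K.map φ) (H.map φ) hK.2.1 (hH.map hsurj) with h | h
  · exact le_antisymm hle (IsPComponent.le_of_map_le p hK hH h)
  · exfalso
    have h1 : ⁅H.map φ, H.map φ⁆ = ⊥ := by
      rw [eq_bot_iff, ← h]
      exact Subgroup.commutator_mono (Subgroup.map_mono hle) le_rfl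
    rw [← Subgroup.map_commutator, hperf, Subgroup.map_eq_bot_iff, hφ,
      QuotientGroup.ker_mk'] at h1
    have h2 : Nat.card ↥H ∣ Nat.card ↥(Cfsg.pPrimeCore p X) := Subgroup.card_dvd_of_le h1
    have h3 : (Nat.card ↥H).Coprime p :=
      Nat.Coprime.coprime_dvd_left h2 (Cfsg.Agent.Helper22.card_pPrimeCore_coprime p)
    have h4 : p ∣ Nat.gcd (Nat.card ↥H) p := Nat.dvd_gcd hdvd dvd_rfl
    rw [h3] at h4
    exact (Fact.out : p.Prime).one_lt.ne' (Nat.dvd_one.mp h4)

theorem IsPComponent.pElementClosure_eq {K : Subgroup X} (hK : Cfsg.IsPComponent p K) :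
    Cfsg.pElementClosure p K = K := by
  conv_rhs => rw [IsPComponent.eq_pElementClosure p hK]
  conv_lhs => rw [IsPComponent.eq_pElementClosure p hK]
  exact pElementClosure_idem p _

theorem IsPComponent.le_of_pElements_mem {K M : Subgroup X} (hK : Cfsg.IsPComponent p K)
    (h : ∀ x ∈ K, (∃ k : ℕ, orderOf x = p ^ k) → x ∈ M) : K ≤ M := by
  rw [← IsPComponent.pElementClosure_eq p hK]
  exact pElementClosure_le_of_forall h

/-- a normal subgroup of index prime to `p` contains all `p`-elements -/
theorem mem_of_pElement_of_index_coprime {Y : Type*} [Group Y] (N : Subgroup Y) [N.Normal]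
    (hidx : (N.index).Coprime p) (x : Y) (hx : ∃ k : ℕ, orderOf x = p ^ k) : x ∈ N := by
  obtain ⟨k, hk⟩ := hx
  have o1 : orderOf (QuotientGroup.mk' N x) ∣ p ^ k := hk ▸ orderOf_map_dvd _ x
  have o2 : orderOf (QuotientGroup.mk' N x) ∣ N.index := by
    rw [Subgroup.index_eq_card]
    exact orderOf_dvd_natCard _
  have o3 : orderOf (QuotientGroup.mk' N x) = 1 :=
    Nat.eq_one_of_dvd_coprimes (Nat.Coprime.pow_right k hidx) o2 o1
  rw [orderOf_eq_one_iff, QuotientGroup.mk'_apply, QuotientGroup.eq_one_iff] at o3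
  exact o3

/-- An element whose image normalizes the image of the `p`-component `K` normalizes `K`. -/
theorem IsPComponent.mem_normalizer {K : Subgroup X} (hK : Cfsg.IsPComponent p K) {g : X}
    (hg : QuotientGroup.mk' (Cfsg.pPrimeCore p X) g ∈
      Subgroup.normalizer ((K.map (QuotientGroup.mk' (Cfsg.pPrimeCore p X)) :
        Subgroup (X ⧸ Cfsg.pPrimeCore p X)) : Set (X ⧸ Cfsg.pPrimeCore p X))) :
    g ∈ Subgroup.normalizer (K : Set X) := by
  set φ := QuotientGroup.mk' (Cfsg.pPrimeCore p X) with hφ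
  have h1 : g ∈ Subgroup.normalizer (((K.map φ).comap φ : Subgroup X) : Set X) := by
    rw [Subgroup.mem_normalizer_iff]
    intro y
    rw [Subgroup.mem_comap, Subgroup.mem_comap, map_mul, map_mul, map_inv]
    exact (Subgroup.mem_normalizer_iff.mp hg) (φ y)
  have h2 := normalizer_le_normalizer_pElementClosure p _ h1
  rwa [← IsPComponent.eq_pElementClosure p hK] at h2

theorem IsPComponent.le_pLayer {K : Subgroup X} (hK : Cfsg.IsPComponent p K) :
    K ≤ Cfsg.pLayer p X := le_sSup hK

theorem map_pLayer_le_layer :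
    (Cfsg.pLayer p X).map (QuotientGroup.mk' (Cfsg.pPrimeCore p X)) ≤
      Cfsg.layer (X ⧸ Cfsg.pPrimeCore p X) := by
  rw [Subgroup.map_le_iff_le_comap]
  unfold Cfsg.pLayer
  apply sSup_le
  intro K hK
  rw [← Subgroup.map_le_iff_le_comap]
  exact component_le_layer hK.2.1

/-- the `p`-layer normalizes every `p`-component -/
theorem IsPComponent.pLayer_le_normalizer {K : Subgroup X} (hK : Cfsg.IsPComponent p K) :
    Cfsg.pLayer p X ≤ Subgroup.normalizer (K : Set X) := by
  intro g hg
  apply IsPComponent.mem_normalizer p hK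
  apply layer_le_normalizer_component hK.2.1
  exact map_pLayer_le_layer p (Subgroup.mem_map_of_mem _ hg)

end Cfsg.Agent.Helper7
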