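import Mathlib
import Cfsg.Prelude.Def_Local
import Cfsg.Prelude.Def_Amalgam
import Cfsg.Agent.Lib.Helper7.PComp2
import Cfsg.Agent.Lib.Helper7.FStar

set_option autoImplicit false

namespace Cfsg.Agent.Helper7

open Subgroup
open scoped commutatorElement

section general

variable {Y : Type*} [Group Y]

/-- A perfect central extension of a quasisimple group is quasisimple. -/
theorem isQuasisimple_of_quotient_central (O : Subgroup Y) [O.Normal] (hO : O ≤ center Y)
    (hperf : commutator Y = ⊤) (hq : Cfsg.IsQuasisimple (Y ⧸ O)) : Cfsg.IsQuasisimple Y := by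
  have hperf' : ⁅(⊤ : Subgroup Y), (⊤ : Subgroup Y)⁆ = ⊤ := hperf
  refine ⟨⟨hperf⟩, isSimpleGroup_quotient_center_of_forall_normal_le ?_ ?_⟩
  · intro hc
    haveI := quasisimple_nontrivial hq
    have h1 : ⁅(⊤ : Subgroup Y), (⊤ : Subgroup Y)⁆ = ⊥ := by
      rw [Subgroup.commutator_eq_bot_iff_le_centralizer, ← hc]
      intro x hx
      rw [Subgroup.mem_centralizer_iff]
      intro y _
      exact (Subgroup.mem_center_iff.mp hx y)
    rw [hperf'] at h1
    haveI : Subsingleton (Subgroup Y) := subsingleton_of_bot_eq_top h1.symm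
    haveI : Subsingleton Y := Subgroup.subsingleton_iff.mp inferInstance
    exact not_subsingleton (Y ⧸ O) inferInstance
  · intro N hN hNt
    haveI : (N.map (QuotientGroup.mk' O)).Normal := hN.map _ (QuotientGroup.mk'_surjective O)
    rcases quasisimple_normal_eq_top_or_le_center hq (N.map (QuotientGroup.mk' O)) with h | h
    · exfalso
      apply hNt
      have h1 : N ⊔ O = ⊤ := by
        rw [sup_comm, ← QuotientGroup.comap_map_mk' O N, h, Subgroup.comap_top]
      have hOc : ∀ Z : Subgroup Y, ⁅O, Z⁆ = ⊥ := by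
        intro Z
        rw [Subgroup.commutator_eq_bot_iff_le_centralizer]
        intro x hx
        rw [Subgroup.mem_centralizer_iff]
        intro y _
        exact (Subgroup.mem_center_iff.mp (hO hx) y)
      have h2 : ⁅N ⊔ O, N ⊔ O⁆ ≤ N :=
        commutator_sup_le N O (N ⊔ O) N (Subgroup.commutator_le_left N _)
          (by rw [hOc]; exact bot_le)
      rw [h1, hperf'] at h2
      exact top_le_iff.mp h2
    · have h1 : ⁅N, (⊤ : Subgroup Y)⁆ ≤ O := by
        rw [Subgroup.commutator_le]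
        intro n hn y _
        have hn' : QuotientGroup.mk' O n ∈ center (Y ⧸ O) := h (Subgroup.mem_map_of_mem _ hn)
        have h2 : QuotientGroup.mk' O ⁅n, y⁆ = 1 := by
          rw [map_commutatorElement, commutatorElement_eq_one_iff_commute]
          exact (Subgroup.mem_center_iff.mp hn' _).symm
        exact (QuotientGroup.eq_one_iff _).mp h2
      have h3 : ⁅⁅N, (⊤ : Subgroup Y)⁆, (⊤ : Subgroup Y)⁆ = ⊥ := by
        rw [Subgroup.commutator_eq_bot_iff_le_centralizer]
        intro x hx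
        rw [Subgroup.mem_centralizer_iff]
        intro y _
        exact (Subgroup.mem_center_iff.mp (hO (h1 hx)) y)
      have h4 : ⁅⁅(⊤ : Subgroup Y), N⁆, (⊤ : Subgroup Y)⁆ = ⊥ := by
        rw [Subgroup.commutator_comm ⊤ N]; exact h3
      have h5 : ⁅⁅(⊤ : Subgroup Y), (⊤ : Subgroup Y)⁆, N⁆ = ⊥ :=
        Subgroup.commutator_commutator_eq_bot_of_rotate h4 h3
      rw [hperf', Subgroup.commutator_comm, Subgroup.commutator_eq_bot_iff_le_centralizer] at h5
      intro n hn
      rw [Subgroup.mem_center_iff]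
      intro y
      exact (Subgroup.mem_centralizer_iff.mp (h5 hn) y (Subgroup.mem_top y))

end general

section pcomp

variable {X : Type*} [Group X] [Finite X] (p : ℕ)

theorem subgroupOf_map_subtype_self {K : Subgroup X} (H : Subgroup ↥K) :
    (H.map K.subtype).subgroupOf K = H :=
  Subgroup.comap_map_eq_self_of_injective K.subtype_injective H

/-- `O_{p'}(K) = K ∩ O_{p'}(X)` for a subnormal subgroup `K`. -/
theorem pPrimeCore_eq_subgroupOf_of_isSubnormal {K : Subgroup X} (hK : K.IsSubnormal) :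
    Cfsg.pPrimeCore p ↥K = (Cfsg.pPrimeCore p X).subgroupOf K := by
  apply le_antisymm
  · have hT : ((Cfsg.pPrimeCore p ↥K).map K.subtype).IsSubnormal := by
      apply Subgroup.IsSubnormal.step _ K (Subgroup.map_subtype_le _) hK
      rw [subgroupOf_map_subtype_self]
      infer_instance
    have h1 := subnormal_coprime_le_pPrimeCore p _ hT
      (by rw [card_map_subtype]; exact Cfsg.Agent.Helper22.card_pPrimeCore_coprime p)
    intro x hx
    rw [Subgroup.mem_subgroupOf]
    exact h1 (Subgroup.mem_map_of_mem _ hx)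
  · apply Cfsg.Agent.Helper22.le_pPrimeCore p _ inferInstance
    have h1 : Nat.card ↥((Cfsg.pPrimeCore p X).subgroupOf K) ∣ Nat.card ↥(Cfsg.pPrimeCore p X) := by
      have h2 : Nat.card ↥((Cfsg.pPrimeCore p X).subgroupOf K) =
          Nat.card ↥(Cfsg.pPrimeCore p X ⊓ K) := by
        rw [← Subgroup.subgroupOf_map_subtype, card_map_subtype]
      rw [h2]
      exact Subgroup.card_dvd_of_le inf_le_left
    exact Nat.Coprime.coprime_dvd_left h1 (Cfsg.Agent.Helper22.card_pPrimeCore_coprime p)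

theorem map_subtype_pPrimeCore_of_isSubnormal {K : Subgroup X} (hK : K.IsSubnormal) :
    (Cfsg.pPrimeCore p ↥K).map K.subtype = Cfsg.pPrimeCore p X ⊓ K := by
  rw [pPrimeCore_eq_subgroupOf_of_isSubnormal p hK, Subgroup.subgroupOf_map_subtype]

/-- `K / O_{p'}(K)` is the image of `K` in `X / O_{p'}(X)`, for subnormal `K`. -/
noncomputable def quotientPPrimeCoreEquiv {K : Subgroup X} (hK : K.IsSubnormal) :
    ↥K ⧸ Cfsg.pPrimeCore p ↥K ≃* ↥(K.map (QuotientGroup.mk' (Cfsg.pPrimeCore p X))) :=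
  (QuotientGroup.quotientMulEquivOfEq (by
    rw [pPrimeCore_eq_subgroupOf_of_isSubnormal p hK, Subgroup.ker_subgroupMap,
      QuotientGroup.ker_mk'])).trans
    (QuotientGroup.quotientKerEquivOfSurjective
      ((QuotientGroup.mk' (Cfsg.pPrimeCore p X)).subgroupMap K)
      (MonoidHom.subgroupMap_surjective _ K))

theorem IsPComponent.isQuasisimple_quotient {K : Subgroup X} (hK : Cfsg.IsPComponent p K) :
    Cfsg.IsQuasisimple (↥K ⧸ Cfsg.pPrimeCore p ↥K) :=
  isQuasisimple_of_mulEquiv (quotientPPrimeCoreEquiv p hK.1).symm hK.2.1.2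

/-- A `p`-component `K` is quasisimple iff it centralizes `O_{p'}(K)`. -/
theorem IsPComponent.isQuasisimple_iff [Fact p.Prime] {K : Subgroup X}
    (hK : Cfsg.IsPComponent p K) :
    Cfsg.IsQuasisimple ↥K ↔ ⁅K, (Cfsg.pPrimeCore p ↥K).map K.subtype⁆ = ⊥ := by
  constructor
  · intro hq
    rcases quasisimple_normal_eq_top_or_le_center hq (Cfsg.pPrimeCore p ↥K) with h | h
    · exfalso
      have h1 : (Nat.card ↥K).Coprime p := by
        have h2 := Cfsg.Agent.Helper22.card_pPrimeCore_coprime (G := ↥K) p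
        rw [h, Subgroup.card_top] at h2
        exact h2
      have h3 : p ∣ Nat.gcd (Nat.card ↥K) p :=
        Nat.dvd_gcd (IsPComponent.dvd_card p hK) dvd_rfl
      rw [h1] at h3
      exact (Fact.out : p.Prime).one_lt.ne' (Nat.dvd_one.mp h3)
    · rw [Subgroup.commutator_eq_bot_iff_le_centralizer]
      intro x hx
      rw [Subgroup.mem_centralizer_iff]
      rintro y ⟨y', hy', rfl⟩
      have := Subgroup.mem_center_iff.mp (h hy') ⟨x, hx⟩
      exact (congrArg Subtype.val this).symm
  · intro h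
    have hO : Cfsg.pPrimeCore p ↥K ≤ center ↥K := by
      intro y hy
      rw [Subgroup.mem_center_iff]
      intro x
      have h1 := Subgroup.commutator_eq_bot_iff_le_centralizer.mp h x.2
      have h2 := Subgroup.mem_centralizer_iff.mp h1 (y : X) (Subgroup.mem_map_of_mem _ hy)
      exact Subtype.ext h2.symm
    have hperf : commutator ↥K = ⊤ :=
      (Subgroup.isPerfect_iff.mpr (IsPComponent.perfect p hK)).commutator_eq_top
    exact isQuasisimple_of_quotient_central _ hO hperf (IsPComponent.isQuasisimple_quotient p hK)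

/-- Distinct `p`-components `K`, `L`: `⁅K, L⁆ ≤ O_{p'}(K) ∩ O_{p'}(L)`, and `⁅K, L⁆ = 1` if `K` is
quasisimple. -/
theorem IsPComponent.commutator_of_ne [Fact p.Prime] {K L : Subgroup X}
    (hK : Cfsg.IsPComponent p K) (hL : Cfsg.IsPComponent p L) (hne : K ≠ L) :
    ⁅K, L⁆ ≤ ((Cfsg.pPrimeCore p ↥K).map K.subtype) ⊓ ((Cfsg.pPrimeCore p ↥L).map L.subtype) ∧
      (Cfsg.IsQuasisimple ↥K → ⁅K, L⁆ = ⊥) := by
  set φ := QuotientGroup.mk' (Cfsg.pPrimeCore p X) with hφ
  have hne' : K.map φ ≠ L.map φ := fun h => hne (IsPComponent.eq_of_map_eq p hK hL h)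
  have h1 : ⁅K.map φ, L.map φ⁆ = ⊥ := component_commutator_eq_bot_of_ne hK.2.1 hL.2.1 hne'
  have hR : ⁅K, L⁆ ≤ Cfsg.pPrimeCore p X := by
    rw [← Subgroup.map_commutator, Subgroup.map_eq_bot_iff, hφ, QuotientGroup.ker_mk'] at h1
    exact h1
  have hKl : ⁅K, L⁆ ≤ K :=
    commutator_le_of_le_normalizer
      ((IsPComponent.le_pLayer p hL).trans (IsPComponent.pLayer_le_normalizer p hK))
  have hLl : ⁅K, L⁆ ≤ L := by
    rw [Subgroup.commutator_comm]
    exact commutator_le_of_le_normalizer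
      ((IsPComponent.le_pLayer p hK).trans (IsPComponent.pLayer_le_normalizer p hL))
  have hKO : ⁅K, L⁆ ≤ (Cfsg.pPrimeCore p ↥K).map K.subtype := by
    rw [map_subtype_pPrimeCore_of_isSubnormal p hK.1]; exact le_inf hR hKl
  have hLO : ⁅K, L⁆ ≤ (Cfsg.pPrimeCore p ↥L).map L.subtype := by
    rw [map_subtype_pPrimeCore_of_isSubnormal p hL.1]; exact le_inf hR hLl
  refine ⟨le_inf hKO hLO, ?_⟩
  intro hq
  have h2 := (IsPComponent.isQuasisimple_iff p hK).mp hq
  have h3 : ⁅⁅K, L⁆, K⁆ = ⊥ := by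
    rw [eq_bot_iff]
    calc ⁅⁅K, L⁆, K⁆ ≤ ⁅(Cfsg.pPrimeCore p ↥K).map K.subtype, K⁆ :=
          Subgroup.commutator_mono hKO le_rfl
      _ = ⁅K, (Cfsg.pPrimeCore p ↥K).map K.subtype⁆ := Subgroup.commutator_comm _ _
      _ = ⊥ := h2
  have h4 : ⁅⁅L, K⁆, K⁆ = ⊥ := by rw [Subgroup.commutator_comm L K]; exact h3
  have h5 : ⁅⁅K, K⁆, L⁆ = ⊥ := Subgroup.commutator_commutator_eq_bot_of_rotate h3 h4
  rwa [IsPComponent.perfect p hK] at h5

end pcomp

end Cfsg.Agent.Helper7
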