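import Mathlib
import Cfsg.Prelude.Def_Local
import Cfsg.Prelude.Def_Amalgam
import Cfsg.Agent.Lib.Helper7.PComp3
import Cfsg.Agent.Lib.Helper7.Layer3

set_option autoImplicit false

namespace Cfsg.Agent.Helper7

open Subgroup
open scoped commutatorElement

section general

variable {H : Type*} [Group H]

/-- The quotient of a quasisimple group by a central subgroup is quasisimple. -/
theorem isQuasisimple_quotient_of_le_center (hq : Cfsg.IsQuasisimple H) (M : Subgroup H)
    [M.Normal] (hM : M ≤ center H) : Cfsg.IsQuasisimple (H ⧸ M) := by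
  haveI := hq.1
  have hsurj : Function.Surjective (QuotientGroup.mk' M) := QuotientGroup.mk'_surjective M
  refine ⟨inferInstance, isSimpleGroup_quotient_center_of_forall_normal_le ?_ ?_⟩
  · intro hc
    apply quasisimple_center_ne_top hq
    -- `H / M` is abelian and perfect, so trivial
    have h1 : ⁅(⊤ : Subgroup (H ⧸ M)), (⊤ : Subgroup (H ⧸ M))⁆ = ⊥ := by
      rw [Subgroup.commutator_eq_bot_iff_le_centralizer, ← hc]
      intro x hx
      rw [Subgroup.mem_centralizer_iff]
      intro y _
      exact (Subgroup.mem_center_iff.mp hx y)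
    have h2 : ⁅(⊤ : Subgroup (H ⧸ M)), (⊤ : Subgroup (H ⧸ M))⁆ = ⊤ :=
      (inferInstance : Group.IsPerfect (H ⧸ M)).commutator_eq_top
    rw [h2] at h1
    rw [eq_top_iff]
    intro x _
    apply hM
    have : (QuotientGroup.mk' M x) ∈ (⊤ : Subgroup (H ⧸ M)) := Subgroup.mem_top _
    rw [h1, Subgroup.mem_bot] at this
    exact (QuotientGroup.eq_one_iff x).mp this
  · intro N hN hNt
    have h1 : N.comap (QuotientGroup.mk' M) ≠ ⊤ := by
      intro h
      apply hNt
      rw [← Subgroup.map_comap_eq_self_of_surjective hsurj N, h,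
        Subgroup.map_top_of_surjective _ hsurj]
    haveI : (N.comap (QuotientGroup.mk' M)).Normal := hN.comap _
    rcases quasisimple_normal_eq_top_or_le_center hq (N.comap (QuotientGroup.mk' M)) with h | h
    · exact absurd h h1
    · intro y hy
      obtain ⟨x, rfl⟩ := hsurj y
      have hx : x ∈ center H := h (Subgroup.mem_comap.mpr hy)
      rw [Subgroup.mem_center_iff]
      intro z
      obtain ⟨w, rfl⟩ := hsurj z
      rw [← map_mul, ← map_mul, Subgroup.mem_center_iff.mp hx w]

end general

section comp

variable {X : Type*} [Group X]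

/-- The image of a component in a quotient is trivial or a component. -/
theorem isComponent_map_mk'_or_eq_bot (R : Subgroup X) [R.Normal] {L : Subgroup X}
    (hL : Cfsg.IsComponent L) :
    L.map (QuotientGroup.mk' R) = ⊥ ∨ Cfsg.IsComponent (L.map (QuotientGroup.mk' R)) := by
  by_cases hLR : L ≤ R
  · left
    rw [Subgroup.map_eq_bot_iff, QuotientGroup.ker_mk']
    exact hLR
  · right
    have hc := component_inf_le_center hL
      (by rw [Subgroup.normalizer_eq_top R]; exact le_top) hLR
    refine ⟨hL.1.map (QuotientGroup.mk'_surjective R), ?_⟩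
    haveI : (R.subgroupOf L).Normal := inferInstance
    have hcen : R.subgroupOf L ≤ center ↥L := by
      intro y hy
      rw [Subgroup.mem_center_iff]
      intro x
      have h1 : (y : X) ∈ L ⊓ R := ⟨y.2, Subgroup.mem_subgroupOf.mp hy⟩
      have h2 := Subgroup.commutator_eq_bot_iff_le_centralizer.mp hc h1
      have h3 := Subgroup.mem_centralizer_iff.mp h2 (x : X) x.2
      exact Subtype.ext h3
    have hq := isQuasisimple_quotient_of_le_center hL.2 (R.subgroupOf L) hcen
    have e : ↥L ⧸ R.subgroupOf L ≃* ↥(L.map (QuotientGroup.mk' R)) :=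
      (QuotientGroup.quotientMulEquivOfEq (by
        rw [Subgroup.ker_subgroupMap, QuotientGroup.ker_mk'])).trans
      (QuotientGroup.quotientKerEquivOfSurjective ((QuotientGroup.mk' R).subgroupMap L)
        (MonoidHom.subgroupMap_surjective _ L))
    exact isQuasisimple_of_mulEquiv e hq

theorem map_layer_le_layer (R : Subgroup X) [R.Normal] :
    (Cfsg.layer X).map (QuotientGroup.mk' R) ≤ Cfsg.layer (X ⧸ R) := by
  rw [Subgroup.map_le_iff_le_comap]
  unfold Cfsg.layer
  apply sSup_le
  intro L hL
  rw [← Subgroup.map_le_iff_le_comap]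
  rcases isComponent_map_mk'_or_eq_bot R hL with h | h
  · rw [h]; exact bot_le
  · exact le_sSup h

end comp

section pcomp

variable {X : Type*} [Group X] [Finite X] (p : ℕ) [Fact p.Prime]

theorem map_pLayer_eq_layer :
    (Cfsg.pLayer p X).map (QuotientGroup.mk' (Cfsg.pPrimeCore p X)) =
      Cfsg.layer (X ⧸ Cfsg.pPrimeCore p X) := by
  apply le_antisymm (map_pLayer_le_layer p)
  unfold Cfsg.layer
  apply sSup_le
  intro Kbar hK
  rw [← map_pElementClosure_comap p hK]
  apply Subgroup.map_mono
  exact le_sSup (isPComponent_pElementClosure_comap p hK)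

/-- `E(X)` covers `E(X / O_{p'}(X))` iff every `p`-component is a component. -/
theorem map_layer_eq_layer_iff :
    (Cfsg.layer X).map (QuotientGroup.mk' (Cfsg.pPrimeCore p X)) =
      Cfsg.layer (X ⧸ Cfsg.pPrimeCore p X) ↔ Cfsg.pLayer p X ≤ Cfsg.layer X := by
  set φ := QuotientGroup.mk' (Cfsg.pPrimeCore p X) with hφ
  constructor
  · intro h
    unfold Cfsg.pLayer
    apply sSup_le
    intro K hK
    have hex : ∃ L : Subgroup X, Cfsg.IsComponent L ∧ K.map φ ≤ L.map φ := by
      by_contra hcon
      push_neg at hcon
      have h1 : Cfsg.layer X ≤ (Subgroup.centralizer ((K.map φ : Subgroup _) : Set _)).comap φ := by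
        unfold Cfsg.layer
        apply sSup_le
        intro L hL
        rw [← Subgroup.map_le_iff_le_comap, ← Subgroup.commutator_eq_bot_iff_le_centralizer,
          Subgroup.commutator_comm]
        rcases isComponent_map_mk'_or_eq_bot (Cfsg.pPrimeCore p X) hL with h2 | h2
        · rw [h2, Subgroup.commutator_bot_right]
        · rcases component_le_or_commutator_eq_bot' (K.map φ) (L.map φ) hK.2.1 h2.1 with h3 | h3
          · exact absurd h3 (hcon L hL)
          · exact h3
      have h2 : K.map φ ≤ Subgroup.centralizer ((K.map φ : Subgroup _) : Set _) := by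
        calc K.map φ ≤ Cfsg.layer (X ⧸ Cfsg.pPrimeCore p X) := component_le_layer hK.2.1
          _ = (Cfsg.layer X).map φ := h.symm
          _ ≤ _ := Subgroup.map_le_iff_le_comap.mpr h1
      have h3 : ⁅K.map φ, K.map φ⁆ = ⊥ := Subgroup.commutator_eq_bot_iff_le_centralizer.mpr h2
      rw [component_perfect hK.2.1] at h3
      exact component_ne_bot hK.2.1 h3
    obtain ⟨L, hL, hKL⟩ := hex
    exact (IsPComponent.le_of_map_le p hK hL.1 hKL).trans (component_le_layer hL)
  · intro h
    apply le_antisymm (map_layer_le_layer _)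
    rw [← map_pLayer_eq_layer p]
    exact Subgroup.map_mono h

end pcomp

end Cfsg.Agent.Helper7
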