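import Mathlib
import Cfsg.Prelude.Def_Local
import Cfsg.Agent.Lib.Helper7.FStarP
import Cfsg.Agent.Lib.Helper7.PComp4
import Cfsg.Agent.Lib.Helper1.QuotientCard

set_option autoImplicit false

namespace Cfsg.Agent.Helper7

open Subgroup
open scoped commutatorElement

variable {X : Type*} [Group X] [Finite X] (p : ℕ) [hp : Fact p.Prime]

/-- A Sylow `p`-subgroup of `O_{p',p}(X)` maps onto `O_p(X / O_{p'}(X))`. -/
theorem map_sylow_pPrimePCore_aux (W : Subgroup X)
    (hW : W = (Cfsg.pCore p (X ⧸ Cfsg.pPrimeCore p X)).comap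
      (QuotientGroup.mk' (Cfsg.pPrimeCore p X))) (P : Sylow p ↥W) :
    ((P : Subgroup ↥W).map W.subtype).map
      (QuotientGroup.mk' (Cfsg.pPrimeCore p X)) = Cfsg.pCore p (X ⧸ Cfsg.pPrimeCore p X) := by
  set R := Cfsg.pPrimeCore p X with hR
  set φ := QuotientGroup.mk' R with hφ
  set Qb := Cfsg.pCore p (X ⧸ R) with hQb
  set P' := (P : Subgroup ↥W).map W.subtype with hP'
  have hsurj : Function.Surjective φ := QuotientGroup.mk'_surjective R
  have hWmap : W.map φ = Qb := by
    rw [hW]; exact Subgroup.map_comap_eq_self_of_surjective hsurj Qb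
  have hP'W : P' ≤ W := Subgroup.map_subtype_le _
  have hle : P'.map φ ≤ Qb := hWmap ▸ Subgroup.map_mono hP'W
  have hP'p : IsPGroup p ↥P' := P.isPGroup'.map _
  have hRcop : (Nat.card ↥R).Coprime p := Cfsg.Agent.Helper22.card_pPrimeCore_coprime p
  have hdisj : R ⊓ P' = ⊥ := by
    rw [inf_comm]; exact inf_eq_bot_of_isPGroup_of_coprime hP'p hRcop
  have hc1 : Nat.card ↥(P'.map φ) = Nat.card ↥P' :=
    Cfsg.Agent.Helper1.card_map_mk'_of_disjoint R hdisj
  have hc2 : Nat.card ↥P' = p ^ (Nat.card ↥W).factorization p := by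
    rw [hP', card_map_subtype, P.card_eq_multiplicity]
  have hc3 : Nat.card ↥W = Nat.card ↥R * Nat.card ↥Qb := by
    rw [hW]; exact Cfsg.Agent.Helper1.card_comap_mk' R Qb
  obtain ⟨k, hk⟩ := IsPGroup.iff_card.mp (pCore_isPGroup (G := X ⧸ R) p)
  have hc4 : (Nat.card ↥W).factorization p = k := by
    rw [hc3, Nat.factorization_mul Nat.card_pos.ne' Nat.card_pos.ne', hk]
    have h0 : (Nat.card ↥R).factorization p = 0 := by
      apply Nat.factorization_eq_zero_of_not_dvd
      intro hd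
      have := Nat.dvd_gcd hd dvd_rfl
      rw [hRcop] at this
      exact hp.out.one_lt.ne' (Nat.dvd_one.mp this)
    simp [h0, hp.out.factorization_self]
  apply Subgroup.eq_of_le_of_card_ge hle
  rw [hc1, hc2, hc4, ← hk]

theorem map_sylow_pPrimePCore (P : Sylow p ↥(Cfsg.pPrimePCore p X)) :
    ((P : Subgroup ↥(Cfsg.pPrimePCore p X)).map (Cfsg.pPrimePCore p X).subtype).map
      (QuotientGroup.mk' (Cfsg.pPrimeCore p X)) = Cfsg.pCore p (X ⧸ Cfsg.pPrimeCore p X) :=
  map_sylow_pPrimePCore_aux p (Cfsg.pPrimePCore p X) rfl P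

/-- `X` is `p`-constrained iff `C(O_p(X̄)) ≤ O_p(X̄)` in `X̄ = X / O_{p'}(X)`. -/
theorem isPConstrained_iff_centralizer_le :
    Cfsg.IsPConstrained p X ↔
      Subgroup.centralizer (Cfsg.pCore p (X ⧸ Cfsg.pPrimeCore p X) : Set (X ⧸ Cfsg.pPrimeCore p X))
        ≤ Cfsg.pCore p (X ⧸ Cfsg.pPrimeCore p X) := by
  set R := Cfsg.pPrimeCore p X with hR
  set φ := QuotientGroup.mk' R with hφ
  have hsurj : Function.Surjective φ := QuotientGroup.mk'_surjective R
  have hRcop : (Nat.card ↥R).Coprime p := Cfsg.Agent.Helper22.card_pPrimeCore_coprime p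
  have key : ∀ P : Sylow p ↥(Cfsg.pPrimePCore p X),
      Subgroup.centralizer (Cfsg.pCore p (X ⧸ R) : Set (X ⧸ R)) =
      (Subgroup.centralizer (((P : Subgroup ↥(Cfsg.pPrimePCore p X)).map
        (Cfsg.pPrimePCore p X).subtype : Subgroup X) : Set X)).map φ := by
    intro P
    rw [← map_sylow_pPrimePCore p P]
    exact centralizer_map_mk'_eq (P.isPGroup'.map _) hRcop
  constructor
  · intro h
    obtain P : Sylow p ↥(Cfsg.pPrimePCore p X) := default
    rw [key P]
    have := Subgroup.map_mono (f := φ) (h P)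
    refine this.trans ?_
    unfold Cfsg.pPrimePCore
    rw [Subgroup.map_comap_eq_self_of_surjective hsurj]
  · intro h P
    intro x hx
    have h1 : φ x ∈ Subgroup.centralizer (Cfsg.pCore p (X ⧸ R) : Set (X ⧸ R)) := by
      rw [key P]; exact Subgroup.mem_map_of_mem _ hx
    exact Subgroup.mem_comap.mpr (h h1)

/-- `X` is `p`-constrained iff `L_{p'}(X) = 1`. -/
theorem isPConstrained_iff_pLayer_eq_bot :
    Cfsg.IsPConstrained p X ↔ Cfsg.pLayer p X = ⊥ := by
  rw [isPConstrained_iff_centralizer_le]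
  have hO := pPrimeCore_quotient_eq_bot' (X := X) p
  constructor
  · intro h
    have h1 := generalizedFittingSubgroup_eq_pCore_of_centralizer_le p h
    have h2 := layer_eq_bot_of_generalizedFittingSubgroup_eq_pCore p h1
    unfold Cfsg.pLayer
    rw [sSup_eq_bot]
    intro K hK
    exfalso
    have h3 : K.map (QuotientGroup.mk' (Cfsg.pPrimeCore p X)) ≤
        Cfsg.layer (X ⧸ Cfsg.pPrimeCore p X) := component_le_layer hK.2.1
    rw [h2, le_bot_iff] at h3
    exact component_ne_bot hK.2.1 h3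
  · intro h
    have h1 : Cfsg.layer (X ⧸ Cfsg.pPrimeCore p X) = ⊥ := by
      rw [← map_pLayer_eq_layer p, h, Subgroup.map_bot]
    have h2 := generalizedFittingSubgroup_eq_pCore_of_layer_eq_bot p hO h1
    exact centralizer_pCore_le_of_generalizedFittingSubgroup_eq p h2

end Cfsg.Agent.Helper7
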