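import Mathlib
import Cfsg.Agent.Lib.Helper22.PPrimeCore

/-!
# Group-theoretic preliminaries for the Klein four / quaternion principal block analysis
(helper7's library)
-/

set_option autoImplicit false

namespace Cfsg.Agent.Helper7

open Cfsg

/-- Burnside: if `N(P) ≤ C(P)` for a Sylow `p`-subgroup `P`, then `O_{p'}(G)` has `p`-power
index. -/
theorem index_pPrimeCore_of_normalizer_le_centralizer {G : Type*} [Group G] [Finite G] {p : ℕ}
    [hp : Fact p.Prime] (P : Sylow p G)
    (hP : Subgroup.normalizer ((P : Subgroup G) : Set G) ≤ Subgroup.centralizer ((P : Subgroup G) : Set G)) :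
    ∃ k : ℕ, (Cfsg.pPrimeCore p G).index = p ^ k := by
  set K := (MonoidHom.transferSylow P hP).ker with hK
  have hnd : ¬ p ∣ Nat.card K := MonoidHom.not_dvd_card_ker_transferSylow P hP
  have hcop : (Nat.card K).Coprime p :=
    (Nat.Coprime.symm ((Nat.Prime.coprime_iff_not_dvd hp.out).mpr hnd))
  have hle : K ≤ Cfsg.pPrimeCore p G :=
    Cfsg.Agent.Helper22.le_pPrimeCore p K inferInstance hcop
  have hidx : K.index = Nat.card (P : Subgroup G) :=
    (MonoidHom.ker_transferSylow_isComplement' P hP).symm.index_eq_card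
  have hdvd : (Cfsg.pPrimeCore p G).index ∣ K.index := Subgroup.index_dvd_of_le hle
  rw [hidx, P.card_eq_multiplicity] at hdvd
  obtain ⟨k, -, hk⟩ := (Nat.dvd_prime_pow hp.out).mp hdvd
  exact ⟨k, hk⟩

/-- A `p`-regular element lies in every normal subgroup of `p`-power index. -/
theorem mem_of_index_eq_pow_of_not_dvd {K : Type*} [Group K] {p : ℕ} (hp : p.Prime)
    (N : Subgroup K) [N.Normal] {k : ℕ} (hN : N.index = p ^ k) {y : K}
    (hy : ¬ p ∣ orderOf y) : y ∈ N := by
  have h1 : y ^ (p ^ k) ∈ N := hN ▸ Subgroup.pow_index_mem N y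
  have h2 : Nat.Coprime (p ^ k) (orderOf y) :=
    Nat.Coprime.pow_left k ((Nat.Prime.coprime_iff_not_dvd hp).mpr hy)
  obtain ⟨m, hm⟩ := exists_pow_eq_self_of_coprime h2
  rw [← hm]
  exact N.pow_mem h1 m

/-- In a group with a Klein four Sylow `2`-subgroup `P` containing a central involution, the
normalizer of `P` centralizes `P`. -/
theorem klein_normalizer_le_centralizer {H : Type*} [Group H] [Finite H] (P : Sylow 2 H)
    (hP : IsKleinFour (P : Subgroup H)) {z : H} (hzP : z ∈ (P : Subgroup H)) (hz1 : z ≠ 1)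
    (hzc : ∀ h : H, h * z = z * h) :
    Subgroup.normalizer ((P : Subgroup H) : Set H) ≤ Subgroup.centralizer ((P : Subgroup H) : Set H) := by
  classical
  intro n hn
  rw [Subgroup.mem_centralizer_iff]
  intro a ha
  have ha' : a ∈ (P : Subgroup H) := ha
  -- commutativity inside `P`
  have hcomm : ∀ x ∈ (P : Subgroup H), ∀ y ∈ (P : Subgroup H), x * y = y * x := by
    intro x hx y hy
    have := mul_comm_of_exponent_two (G := (P : Subgroup H)) hP.exponent_two ⟨x, hx⟩ ⟨y, hy⟩
    exact congrArg Subtype.val this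
  have hsq : ∀ x ∈ (P : Subgroup H), x * x = 1 := by
    intro x hx
    have := IsKleinFour.mul_self (G := (P : Subgroup H)) ⟨x, hx⟩
    exact congrArg Subtype.val this
  by_cases ha1 : a = 1
  · rw [ha1, one_mul, mul_one]
  by_cases haz : a = z
  · rw [haz]
    exact (hzc n).symm
  set b := n * a * n⁻¹ with hb
  have hbP : b ∈ (P : Subgroup H) := (Subgroup.mem_normalizer_iff.mp hn a).mp ha'
  have hb1 : b ≠ 1 := by
    intro h
    apply ha1
    have : a = n⁻¹ * b * n := by rw [hb]; group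
    rw [this, h]; group
  have hbz : b ≠ z := by
    intro h
    apply haz
    have : a = n⁻¹ * b * n := by rw [hb]; group
    rw [this, h, mul_assoc, ← hzc n, ← mul_assoc, inv_mul_cancel, one_mul]
  by_cases hba : b = a
  · rw [hb] at hba
    calc a * n = (n * a * n⁻¹) * n := by rw [hba]
      _ = n * a := by group
  exfalso
  -- `b = z * a`
  have hbza : b = z * a := by
    have := IsKleinFour.eq_mul_of_ne_all (G := (P : Subgroup H))
      (x := ⟨z, hzP⟩) (y := ⟨a, ha'⟩) (z := ⟨b, hbP⟩)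
      (by intro h; exact hz1 (congrArg Subtype.val h))
      (by intro h; exact ha1 (congrArg Subtype.val h))
      (by intro h; exact haz (congrArg Subtype.val h).symm)
      (by intro h; exact hb1 (congrArg Subtype.val h))
      (by intro h; exact hbz (congrArg Subtype.val h))
      (by intro h; exact hba (congrArg Subtype.val h))
    exact congrArg Subtype.val this
  have hzz : z * z = 1 := hsq z hzP
  -- conjugation by powers of `n`
  have hpow : ∀ k : ℕ, n ^ k * a * (n ^ k)⁻¹ = if Even k then a else z * a := by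
    intro k
    induction k with
    | zero => simp
    | succ k ih =>
      have e : n ^ (k + 1) * a * (n ^ (k + 1))⁻¹ = n * (n ^ k * a * (n ^ k)⁻¹) * n⁻¹ := by
        rw [pow_succ']; group
      rw [e, ih]
      by_cases hk : Even k
      · rw [if_pos hk, if_neg (by rw [Nat.even_add_one]; exact not_not.mpr hk)]
        rw [← hbza]
      · rw [if_neg hk, if_pos (by rw [Nat.even_add_one]; exact hk)]
        have : n * (z * a) * n⁻¹ = (n * z * n⁻¹) * (n * a * n⁻¹) := by group
        rw [this, hzc n, mul_inv_cancel_right, ← hb, hbza, ← mul_assoc, hzz, one_mul]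
  -- the odd part of the order of `n`
  have ho : orderOf n ≠ 0 := (orderOf_pos n).ne'
  obtain ⟨e, m, hm, hnm⟩ := Nat.exists_eq_two_pow_mul_odd ho
  have hnmP : n ^ m ∈ (P : Subgroup H) := by
    have hQ : IsPGroup 2 (Subgroup.zpowers (n ^ m)) := by
      intro x
      obtain ⟨j, hj⟩ := Subgroup.mem_zpowers_iff.mp x.2
      refine ⟨e, Subtype.ext ?_⟩
      rw [Subgroup.coe_pow, ← hj, Subgroup.coe_one, ← zpow_natCast, ← zpow_mul, mul_comm,
        zpow_mul, zpow_natCast, ← pow_mul, mul_comm m, ← hnm, pow_orderOf_eq_one, one_zpow]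
    have hnorm : Subgroup.zpowers (n ^ m) ≤ Subgroup.normalizer ((P : Subgroup H) : Set H) := by
      rw [Subgroup.zpowers_le]
      exact Subgroup.pow_mem _ hn m
    have hsup : IsPGroup 2 (Subgroup.zpowers (n ^ m) ⊔ (P : Subgroup H) : Subgroup H) :=
      IsPGroup.to_sup_of_normal_right' hQ P.2 hnorm
    have := P.is_maximal' hsup le_sup_right
    have h2 : Subgroup.zpowers (n ^ m) ≤ (P : Subgroup H) := by
      rw [← this]; exact le_sup_left
    exact h2 (Subgroup.mem_zpowers _)
  have h3 := hpow m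
  rw [if_neg (Nat.not_even_iff_odd.mpr hm)] at h3
  have h4 : n ^ m * a * (n ^ m)⁻¹ = a := by
    rw [hcomm _ hnmP a ha', mul_inv_cancel_right]
  rw [h4] at h3
  apply hz1
  calc z = (z * a) * a⁻¹ := by group
    _ = a * a⁻¹ := by rw [← h3]
    _ = 1 := mul_inv_cancel a


/-- A Klein four subgroup of a subgroup. -/
theorem isKleinFour_subgroupOf {G : Type*} [Group G] {P N : Subgroup G} (hP : IsKleinFour P)
    (h : P ≤ N) : IsKleinFour (P.subgroupOf N) := by
  have e : P.subgroupOf N ≃* P := Subgroup.subgroupOfEquivOfLe h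
  exact ⟨(Nat.card_congr e.toEquiv).trans hP.card_four,
    (Monoid.exponent_eq_of_mulEquiv e).trans hP.exponent_two⟩

/-- The centralizer of an involution of a Klein four Sylow `2`-subgroup has a normal
`2`-complement. -/
theorem klein_centralizer_pNilpotent {G : Type*} [Group G] [Finite G] (P : Sylow 2 G)
    (hP : IsKleinFour (P : Subgroup G)) {z : G} (hzP : z ∈ (P : Subgroup G)) (hz1 : z ≠ 1) :
    ∃ k : ℕ, (Cfsg.pPrimeCore 2 (Subgroup.centralizer ({z} : Set G))).index = 2 ^ k := by
  haveI : Fact (2 : ℕ).Prime := ⟨Nat.prime_two⟩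
  have hPH : (P : Subgroup G) ≤ Subgroup.centralizer ({z} : Set G) := by
    intro x hx
    rw [Subgroup.mem_centralizer_iff]
    intro w hw
    rw [Set.mem_singleton_iff] at hw
    rw [hw]
    have := mul_comm_of_exponent_two (G := (P : Subgroup G)) hP.exponent_two ⟨z, hzP⟩ ⟨x, hx⟩
    exact congrArg Subtype.val this
  set P' : Sylow 2 (Subgroup.centralizer ({z} : Set G)) := P.subtype hPH with hP'
  have hK : IsKleinFour ((P' : Subgroup (Subgroup.centralizer ({z} : Set G)))) := by
    rw [hP', Sylow.coe_subtype]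
    exact isKleinFour_subgroupOf hP hPH
  have hzH : z ∈ Subgroup.centralizer ({z} : Set G) := hPH hzP
  apply index_pPrimeCore_of_normalizer_le_centralizer P'
  apply klein_normalizer_le_centralizer P' hK (z := ⟨z, hzH⟩)
  · rw [hP', Sylow.coe_subtype, Subgroup.mem_subgroupOf]
    exact hzP
  · intro h
    exact hz1 (congrArg Subtype.val h)
  · intro h
    apply Subtype.ext
    have := Subgroup.mem_centralizer_iff.mp h.2 z (Set.mem_singleton z)
    exact this.symm

/-- In a group with a Klein four Sylow `2`-subgroup and one class of involutions, every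
`2`-singular element is conjugate to `z * y` with `y` of odd order centralizing the fixed
involution `z`. -/
theorem klein_two_part {G : Type*} [Group G] [Finite G] (P : Sylow 2 G)
    (hP : IsKleinFour (P : Subgroup G))
    (hone : ∀ s t : G, orderOf s = 2 → orderOf t = 2 → IsConj s t) {z : G}
    (hz : orderOf z = 2) (g : G) (hg : 2 ∣ orderOf g) :
    ∃ t y : G, g = t * (z * y) * t⁻¹ ∧ y ∈ Subgroup.centralizer ({z} : Set G) ∧
      ¬ 2 ∣ orderOf y := by
  haveI : Fact (2 : ℕ).Prime := ⟨Nat.prime_two⟩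
  -- the `2`-part of `g`
  have hex : ∃ x y₀ : G, x * y₀ = g ∧ Commute x y₀ ∧ (∃ k : ℕ, orderOf x = 2 ^ k) ∧
      ¬ 2 ∣ orderOf y₀ := by
    set n := orderOf g with hn
    have hn0 : n ≠ 0 := (orderOf_pos g).ne'
    set a := n.factorization 2 with ha
    set m := n / 2 ^ a with hm
    have hnm : 2 ^ a * m = n := Nat.ordProj_mul_ordCompl_eq_self n 2
    have hcop : Nat.Coprime (2 ^ a) m :=
      Nat.Coprime.pow_left a (Nat.coprime_ordCompl Nat.prime_two hn0)
    -- Bezout
    obtain ⟨u, v, huv⟩ : ∃ u v : ℤ, (1 : ℤ) = (2 ^ a : ℕ) * u + m * v := by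
      have := Nat.gcd_eq_gcd_ab (2 ^ a) m
      rw [hcop.gcd_eq_one] at this
      exact ⟨_, _, by exact_mod_cast this⟩
    refine ⟨g ^ ((m : ℤ) * v), g ^ (((2 ^ a : ℕ) : ℤ) * u), ?_, ?_, ?_, ?_⟩
    · rw [← zpow_add, add_comm, ← huv, zpow_one]
    · exact (Commute.refl g).zpow_zpow _ _
    · -- order of `g ^ (m v)` is a power of two
      have h1 : (g ^ ((m : ℤ) * v)) ^ (2 ^ a) = 1 := by
        rw [← zpow_natCast, ← zpow_mul, mul_comm, ← mul_assoc]
        have : (((2 ^ a : ℕ) : ℤ) * (m : ℤ)) = (n : ℤ) := by exact_mod_cast hnm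
        rw [this, zpow_mul, zpow_natCast, hn, pow_orderOf_eq_one, one_zpow]
      obtain ⟨k, -, hk⟩ := (Nat.dvd_prime_pow Nat.prime_two).mp (orderOf_dvd_of_pow_eq_one h1)
      exact ⟨k, hk⟩
    · intro h2
      have h1 : (g ^ (((2 ^ a : ℕ) : ℤ) * u)) ^ m = 1 := by
        rw [← zpow_natCast, ← zpow_mul, mul_comm, ← mul_assoc]
        have : ((m : ℤ) * ((2 ^ a : ℕ) : ℤ)) = (n : ℤ) := by
          rw [mul_comm]; exact_mod_cast hnm
        rw [this, zpow_mul, zpow_natCast, hn, pow_orderOf_eq_one, one_zpow]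
      have h3 : 2 ∣ m := dvd_trans h2 (orderOf_dvd_of_pow_eq_one h1)
      exact Nat.not_dvd_ordCompl Nat.prime_two hn0 h3
  obtain ⟨x, y₀, hxy, hc, ⟨k, hk⟩, hy₀⟩ := hex
  -- `x` is an involution
  have hx1 : x ≠ 1 := by
    intro h
    rw [h, one_mul] at hxy
    rw [← hxy] at hg
    exact hy₀ hg
  have hxQ : IsPGroup 2 (Subgroup.zpowers x) := by
    intro w
    obtain ⟨j, hj⟩ := Subgroup.mem_zpowers_iff.mp w.2
    refine ⟨k, Subtype.ext ?_⟩
    rw [Subgroup.coe_pow, ← hj, Subgroup.coe_one, ← zpow_natCast, ← zpow_mul, mul_comm,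
      zpow_mul, zpow_natCast, ← hk, pow_orderOf_eq_one, one_zpow]
  obtain ⟨Q, hQ⟩ := hxQ.exists_le_sylow
  obtain ⟨s, hs⟩ := MulAction.exists_smul_eq G P Q
  have hxQ' : x ∈ (Q : Subgroup G) := hQ (Subgroup.mem_zpowers x)
  rw [← hs, Sylow.coe_subgroup_smul, Subgroup.mem_pointwise_smul_iff_inv_smul_mem] at hxQ'
  have hxP : s⁻¹ * x * s ∈ (P : Subgroup G) := by
    have : (MulAut.conj s)⁻¹ • x = s⁻¹ * x * s := by
      rw [MulAut.smul_def, MulAut.conj_inv_apply]
    rw [← this]
    exact hxQ'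
  have hxx : x * x = 1 := by
    have := IsKleinFour.mul_self (G := (P : Subgroup G)) ⟨_, hxP⟩
    have h1 : (s⁻¹ * x * s) * (s⁻¹ * x * s) = 1 := congrArg Subtype.val this
    have : x * x = s * ((s⁻¹ * x * s) * (s⁻¹ * x * s)) * s⁻¹ := by group
    rw [this, h1]; group
  have hx2 : orderOf x = 2 := orderOf_eq_prime (by rw [pow_two]; exact hxx) hx1
  obtain ⟨t, ht⟩ := isConj_iff.mp (hone z x hz hx2)
  refine ⟨t, t⁻¹ * y₀ * t, ?_, ?_, ?_⟩
  · rw [← hxy, ← ht]; group
  · rw [Subgroup.mem_centralizer_iff]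
    intro w hw
    rw [Set.mem_singleton_iff] at hw
    rw [hw]
    have h1 : (t * z * t⁻¹) * y₀ = y₀ * (t * z * t⁻¹) := by rw [ht]; exact hc.eq
    calc z * (t⁻¹ * y₀ * t) = t⁻¹ * ((t * z * t⁻¹) * y₀) * t := by group
      _ = t⁻¹ * (y₀ * (t * z * t⁻¹)) * t := by rw [h1]
      _ = t⁻¹ * y₀ * t * z := by group
  · have : orderOf (t⁻¹ * y₀ * t) = orderOf y₀ := by
      have := (MulAut.conj t⁻¹).orderOf_eq y₀
      rw [MulAut.conj_apply, inv_inv] at this
      exact this
    rw [this]
    exact hy₀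

end Cfsg.Agent.Helper7
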