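import Mathlib
import Cfsg.Agent.Lib.Helper7.BSKlein
import Cfsg.Agent.S0942
import Cfsg.Agent.S0944
import Cfsg.Agent.S0947
import Cfsg.Agent.Lib.Helper23.BlockDefectZero
import Cfsg.Agent.Lib.Helper23.BlockSecondMain4
import Cfsg.Agent.Lib.Helper23.BlockDefect

/-!
# The principal 2-block of a group with Klein four Sylow 2-subgroups (helper7's library)
-/

set_option autoImplicit false

namespace Cfsg.Agent.Helper7

open Cfsg Cfsg.Agent.Helper24 Cfsg.Agent.Helper23 Cfsg.Agent.Helper23.Blk
open scoped ComplexConjugate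

universe u

section

variable {G : Type u} [Group G] [Finite G]

/-- characters of the principal block are constant on the `2`-singular elements -/
theorem klein_block_const (M : Ideal AlgInt) (hM : IsPModular 2 M) (P : Sylow 2 G)
    (hP : IsKleinFour (P : Subgroup G))
    (hone : ∀ s t : G, orderOf s = 2 → orderOf t = 2 → IsConj s t) {z : G}
    (hzP : z ∈ (P : Subgroup G)) (hz : orderOf z = 2) (χ : IrrCharacter G)
    (hχ : χ ∈ principalBlock M G) (g : G) (hg : 2 ∣ orderOf g) :
    (χ : G → ℂ) g = (χ : G → ℂ) z := by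
  haveI : Fact (2 : ℕ).Prime := ⟨Nat.prime_two⟩
  have hz1 : z ≠ 1 := by
    intro h
    rw [h, orderOf_one] at hz
    omega
  obtain ⟨k, hk⟩ := klein_centralizer_pNilpotent P hP hzP hz1
  obtain ⟨t, y, hgy, hyC, hyo⟩ := klein_two_part P hP hone hz g hg
  have hcf := isClassFunction_of_isIrrCharacter χ.2
  rw [hgy, hcf (z * y) t]
  apply Cfsg.Agent.S0942.result 2 M hM z ⟨1, by rw [hz, pow_one]⟩ y _ χ hχ
  unfold centralizerPPrimeCore
  rw [Subgroup.mem_map]
  refine ⟨⟨y, hyC⟩, ?_, rfl⟩
  haveI : (pPrimeCore 2 (Subgroup.centralizer ({z} : Set G))).Normal :=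
    Cfsg.Agent.Helper22.pPrimeCore_normal 2
  apply mem_of_index_eq_pow_of_not_dvd Nat.prime_two _ hk
  rw [← Subgroup.orderOf_coe]
  exact hyo

/-- the sum of squares at an involution -/
theorem klein_block_sum_sq (M : Ideal AlgInt) (hM : IsPModular 2 M) (P : Sylow 2 G)
    (hP : IsKleinFour (P : Subgroup G)) {z : G}
    (hzP : z ∈ (P : Subgroup G)) (hz : orderOf z = 2) :
    ∑ᶠ ζ ∈ principalBlock M G, ‖(ζ : G → ℂ) z‖ ^ 2 = 4 := by
  haveI : Fact (2 : ℕ).Prime := ⟨Nat.prime_two⟩
  have hz1 : z ≠ 1 := by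
    intro h
    rw [h, orderOf_one] at hz
    omega
  have hnil := klein_centralizer_pNilpotent P hP hzP hz1
  have h1 := (Cfsg.Agent.S0947.result 2 M hM z ⟨1, by rw [hz, pow_one]⟩ hz1
    (1 : Subgroup.centralizer ({z} : Set G)) (by rw [orderOf_one]; norm_num)).2 hnil
  rw [Subgroup.coe_one, mul_one] at h1
  rw [h1]
  -- the `2`-part of the order of the centralizer
  have hPH : (P : Subgroup G) ≤ Subgroup.centralizer ({z} : Set G) := by
    intro x hx
    rw [Subgroup.mem_centralizer_iff]
    intro w hw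
    rw [Set.mem_singleton_iff] at hw
    rw [hw]
    have := mul_comm_of_exponent_two (G := (P : Subgroup G)) hP.exponent_two ⟨z, hzP⟩ ⟨x, hx⟩
    exact congrArg Subtype.val this
  have hcP : Nat.card (P : Subgroup G) = 4 := hP.card_four
  have hG0 : Nat.card G ≠ 0 := Nat.card_pos.ne'
  have hC0 : Nat.card (Subgroup.centralizer ({z} : Set G)) ≠ 0 := Nat.card_pos.ne'
  have hfG : (Nat.card G).factorization 2 = 2 := by
    have h2 := P.card_eq_multiplicity
    rw [hcP] at h2
    have : (2 : ℕ) ^ 2 = 2 ^ (Nat.card G).factorization 2 := by rw [← h2]; norm_num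
    exact (Nat.pow_right_injective (le_refl 2) this).symm
  have hfC : (Nat.card (Subgroup.centralizer ({z} : Set G))).factorization 2 = 2 := by
    apply le_antisymm
    · have := (Nat.factorization_le_iff_dvd hC0 hG0).mpr
        (Subgroup.card_subgroup_dvd_card (Subgroup.centralizer ({z} : Set G))) 2
      rw [hfG] at this
      exact this
    · have h4 : 2 ^ 2 ∣ Nat.card (Subgroup.centralizer ({z} : Set G)) := by
        have := Subgroup.card_dvd_of_le hPH
        rw [hcP] at this
        exact this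
      exact (Nat.Prime.pow_dvd_iff_le_factorization Nat.prime_two hC0).mp h4
  rw [hfC]
  norm_num

/-- characters of the principal block do not vanish at the involutions -/
theorem klein_block_ne_zero (M : Ideal AlgInt) (hM : IsPModular 2 M) (P : Sylow 2 G)
    (hP : IsKleinFour (P : Subgroup G))
    (hone : ∀ s t : G, orderOf s = 2 → orderOf t = 2 → IsConj s t) {z : G}
    (hzP : z ∈ (P : Subgroup G)) (hz : orderOf z = 2) (χ : IrrCharacter G)
    (hχ : χ ∈ principalBlock M G) : (χ : G → ℂ) z ≠ 0 := by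
  haveI : Fact (2 : ℕ).Prime := ⟨Nat.prime_two⟩
  haveI hMp : M.IsPrime := hM.2.1.isPrime
  haveI : Fintype G := Fintype.ofFinite G
  intro h0
  have hv : ∀ y : G, 2 ∣ orderOf y → (χ : G → ℂ) y = 0 := by
    intro y hy
    rw [klein_block_const M hM P hP hone hzP hz χ hχ y hy, h0]
  have h1 := not_dvd_card_div_degree_of_vanish (p := 2) χ.2 hv
  have h2 := (not_dvd_iff_blockOf_eq_singleton hM χ).1 h1
  have h3 : principalChar G ∈ blockOf M (χ : G → ℂ) := by
    have : SameBlock M (fun _ : G => (1 : ℂ)) (χ : G → ℂ) := hχ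
    exact sameBlock_symm (G := G) this
  rw [h2, Set.mem_singleton_iff] at h3
  have : (χ : G → ℂ) z = 1 := by rw [← h3]; rfl
  rw [this] at h0
  exact one_ne_zero h0

end

/-- pure combinatorics: a finite family of nonzero integers whose squares sum to `4`, one of them
being `1`, has exactly four members, all equal to `±1`. -/
theorem card_four_of_sum_sq {α : Type*} [DecidableEq α] (s : Finset α) (n : α → ℤ)
    (hn : ∀ a ∈ s, n a ≠ 0) (hs : ∑ a ∈ s, (n a) ^ 2 = 4) (a₀ : α) (ha₀ : a₀ ∈ s)
    (h₀ : n a₀ = 1) : s.card = 4 ∧ ∀ a ∈ s, n a = 1 ∨ n a = -1 := by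
  have hall : ∀ a ∈ s, n a = 1 ∨ n a = -1 := by
    intro a₁ ha₁
    by_contra hcon
    push_neg at hcon
    have hne : a₁ ≠ a₀ := by
      intro h
      rw [h] at hcon
      exact hcon.1 h₀
    have h4 : 4 ≤ (n a₁) ^ 2 := by
      have h0 := hn a₁ ha₁
      have : n a₁ ≤ -2 ∨ 2 ≤ n a₁ := by omega
      rcases this with h | h <;> nlinarith
    have hsub : ({a₀, a₁} : Finset α) ⊆ s := by
      intro x hx
      rw [Finset.mem_insert, Finset.mem_singleton] at hx
      rcases hx with rfl | rfl
      · exact ha₀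
      · exact ha₁
    have h5 := Finset.sum_le_sum_of_subset_of_nonneg (f := fun a => (n a) ^ 2) hsub
      (fun a _ _ => sq_nonneg (n a))
    rw [Finset.sum_pair hne.symm, hs, h₀] at h5
    linarith
  refine ⟨?_, hall⟩
  have h1 : ∑ a ∈ s, (n a) ^ 2 = ∑ a ∈ s, (1 : ℤ) := by
    apply Finset.sum_congr rfl
    intro a ha
    rcases hall a ha with h | h <;> rw [h] <;> norm_num
  rw [hs, Finset.sum_const, nsmul_eq_mul, mul_one] at h1
  exact_mod_cast h1.symm

end Cfsg.Agent.Helper7
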