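import Mathlib
import Cfsg.Agent.S0164
import Cfsg.Agent.Lib.Helper18.GenChar
import Cfsg.Agent.Lib.Helper18.BrauerQE
import Cfsg.Agent.Lib.Helper18.BrauerSpan
import Cfsg.Agent.Lib.Helper8.CharExtra
import Cfsg.Agent.Lib.Helper23.BlockRank

/-!
# The lifting lemma for a central involution (helper7's library)

If `ρ` is a generalized character of `H` invariant under translation by the central involution
`u` and vanishing off the elements whose `2`-part lies in `⟨u⟩`, then twice the `2`-regular part
of `ρ` is a generalized character.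
-/

set_option autoImplicit false

universe u

namespace Cfsg.Agent.Helper7

open Cfsg Cfsg.Agent.Helper24 Cfsg.Agent.Helper18
open scoped ComplexConjugate

section Exponent

variable {H : Type u} [Group H] [Finite H]

/-- an exponent picking out the `2'`-part -/
theorem exists_oddPart_exponent :
    ∃ s : ℕ, (∀ g : H, Odd (orderOf g) → g ^ s = g) ∧
      (∀ g : H, (∃ k : ℕ, orderOf g = 2 ^ k) → g ^ s = 1) := by
  obtain ⟨a, m, hm, hcard⟩ := Nat.exists_eq_two_pow_mul_odd (Nat.card_pos (α := H)).ne'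
  have h2m : Nat.Coprime 2 m := (Nat.Prime.coprime_iff_not_dvd Nat.prime_two).2
    (fun h => (Nat.not_even_iff_odd.2 hm) (even_iff_two_dvd.2 h))
  have hcop : Nat.Coprime (2 ^ a) m := Nat.Coprime.pow_left a h2m
  let s := Nat.chineseRemainder hcop 0 1
  refine ⟨(s : ℕ), ?_, ?_⟩
  · intro g hg
    have h1 : orderOf g ∣ 2 ^ a * m := by rw [← hcard]; exact orderOf_dvd_natCard g
    have h2 : Nat.Coprime (orderOf g) (2 ^ a) := by
      apply Nat.Coprime.pow_right
      rw [Nat.coprime_comm, Nat.Prime.coprime_iff_not_dvd Nat.prime_two]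
      intro h; exact (Nat.not_even_iff_odd.2 hg) (even_iff_two_dvd.2 h)
    have h3 : orderOf g ∣ m := Nat.Coprime.dvd_of_dvd_mul_left h2 h1
    have h4 : (s : ℕ) ≡ 1 [MOD orderOf g] := (s.2.2).of_dvd h3
    calc g ^ (s : ℕ) = g ^ 1 := (pow_eq_pow_iff_modEq).2 h4
      _ = g := pow_one g
  · rintro g ⟨k, hk⟩
    have h1 : orderOf g ∣ 2 ^ a * m := by rw [← hcard]; exact orderOf_dvd_natCard g
    have h2 : Nat.Coprime (orderOf g) m := by
      rw [hk]
      apply Nat.Coprime.pow_left
      rw [Nat.Prime.coprime_iff_not_dvd Nat.prime_two]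
      intro h; exact (Nat.not_even_iff_odd.2 hm) (even_iff_two_dvd.2 h)
    have h3 : orderOf g ∣ 2 ^ a := Nat.Coprime.dvd_of_dvd_mul_right h2 h1
    have h4 : (s : ℕ) ≡ 0 [MOD orderOf g] := (s.2.1).of_dvd h3
    calc g ^ (s : ℕ) = g ^ 0 := (pow_eq_pow_iff_modEq).2 h4
      _ = 1 := pow_zero g

end Exponent

section PowMul

variable {E : Type u} [Group E] [Finite E]

/-- the `2'`-part map is multiplicative on an elementary group -/
theorem pow_mul_of_isElementary (s : ℕ) (hodd : ∀ g : E, Odd (orderOf g) → g ^ s = g)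
    (h2 : ∀ g : E, (∃ k : ℕ, orderOf g = 2 ^ k) → g ^ s = 1) (p : ℕ) (hp : p.Prime)
    (hE : IsElementary p E) (e e' : E) : (e * e') ^ s = e ^ s * e' ^ s := by
  haveI : Fact p.Prime := ⟨hp⟩
  obtain ⟨x, hxc, hxp, k, hk⟩ := hE
  obtain ⟨P⟩ : Nonempty (Sylow p E) := inferInstance
  have hCcen : Subgroup.zpowers x ≤ Subgroup.center E := by
    rw [Subgroup.zpowers_le]
    exact hxc
  haveI : (Subgroup.zpowers x).Normal := normal_of_le_center hCcen
  have hsup : Subgroup.zpowers x ⊔ (P : Subgroup E) = ⊤ := sup_sylow_eq_top _ hk P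
  have hP : (∀ y ∈ (P : Subgroup E), y ^ s = y) ∨ (∀ y ∈ (P : Subgroup E), y ^ s = 1) := by
    have hord : ∀ y ∈ (P : Subgroup E), ∃ j : ℕ, orderOf y = p ^ j := by
      intro y hy
      obtain ⟨j, hj⟩ := P.isPGroup' ⟨y, hy⟩
      have h1 : y ^ p ^ j = 1 := congrArg Subtype.val hj
      obtain ⟨i, -, hi⟩ := (Nat.dvd_prime_pow hp).1 (orderOf_dvd_of_pow_eq_one h1)
      exact ⟨i, hi⟩
    by_cases hp2 : p = 2
    · right
      intro y hy
      obtain ⟨j, hj⟩ := hord y hy
      exact h2 y ⟨j, by rw [hj, hp2]⟩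
    · left
      intro y hy
      obtain ⟨j, hj⟩ := hord y hy
      apply hodd
      rw [hj]
      exact Odd.pow (hp.odd_of_ne_two hp2)
  have hPmul : ∀ y ∈ (P : Subgroup E), ∀ y' ∈ (P : Subgroup E),
      (y * y') ^ s = y ^ s * y' ^ s := by
    intro y hy y' hy'
    rcases hP with h | h
    · rw [h _ ((P : Subgroup E).mul_mem hy hy'), h y hy, h y' hy']
    · rw [h _ ((P : Subgroup E).mul_mem hy hy'), h y hy, h y' hy', one_mul]
  have hdec : ∀ e : E, ∃ z ∈ Subgroup.zpowers x, ∃ y ∈ (P : Subgroup E), e = z * y := by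
    intro e
    have he : e ∈ ((Subgroup.zpowers x ⊔ (P : Subgroup E) : Subgroup E) : Set E) := by
      rw [hsup]
      trivial
    rw [Subgroup.normal_mul] at he
    obtain ⟨z, hz, y, hy, rfl⟩ := Set.mem_mul.1 he
    exact ⟨z, hz, y, hy, rfl⟩
  obtain ⟨z, hz, y, hy, rfl⟩ := hdec e
  obtain ⟨z', hz', y', hy', rfl⟩ := hdec e'
  have hzc : ∀ w : E, Commute z w := fun w =>
    (Subgroup.mem_center_iff.1 (hCcen hz) w).symm
  have hz'c : ∀ w : E, Commute z' w := fun w =>
    (Subgroup.mem_center_iff.1 (hCcen hz') w).symm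
  have h1 : z * y * (z' * y') = (z * z') * (y * y') := by
    rw [mul_assoc, ← mul_assoc y, ← (hz'c y).eq, mul_assoc, ← mul_assoc]
  rw [h1, ((hzc _).mul_left (hz'c _)).mul_pow, (hzc z').mul_pow, hPmul y hy y' hy',
    (hzc y).mul_pow, (hz'c y').mul_pow]
  have h2' : Commute (z' ^ s) (y ^ s) := ((hz'c y).pow_left _).pow_right _
  rw [mul_assoc, mul_assoc, ← mul_assoc (z' ^ s), h2'.eq, mul_assoc]

end PowMul

section Lift

variable {H : Type u} [Group H] [Finite H]

open Cfsg.Agent.Helper23.Blk Cfsg.Agent.Helper8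

/-- translating an element of odd order by a commuting involution gives even order -/
theorem two_dvd_orderOf_mul_of_odd {u y : H} (hu : orderOf u = 2) (hc : Commute u y)
    (hy : ¬ 2 ∣ orderOf y) : 2 ∣ orderOf (u * y) := by
  have hcop : Nat.Coprime (orderOf u) (orderOf y) := by
    rw [hu]
    exact (Nat.Prime.coprime_iff_not_dvd Nat.prime_two).2 hy
  rw [hc.orderOf_mul_eq_mul_orderOf_of_coprime hcop, hu]
  exact dvd_mul_right 2 _

set_option maxHeartbeats 1600000 in
/-- **The lifting lemma.** -/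
theorem bsq_lift (u : H) (hu : orderOf u = 2) (huc : ∀ h : H, h * u = u * h)
    (ρ : H → ℂ) (hρ : IsGeneralizedCharacter H ρ) (hinv : ∀ h, ρ (u * h) = ρ h)
    (hvan : ∀ h, ρ h ≠ 0 → ¬ 2 ∣ orderOf h ∨ ¬ 2 ∣ orderOf (u * h)) :
    IsGeneralizedCharacter H ((2 : ℂ) • pRegularPart 2 ρ) := by
  classical
  haveI : Fintype H := Fintype.ofFinite H
  have hcf : IsClassFunction H ρ := isClassFunction_of_isGeneralizedCharacter hρ
  obtain ⟨s, hs1, hs2⟩ := exists_oddPart_exponent (H := H)
  have hodd_iff : ∀ h : H, ¬ 2 ∣ orderOf h ↔ Odd (orderOf h) := by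
    intro h
    rw [← Nat.not_even_iff_odd, even_iff_two_dvd]
  have hus : u ^ s = 1 := hs2 u ⟨1, by rw [hu, pow_one]⟩
  have hθcf : IsClassFunction H ((2 : ℂ) • pRegularPart 2 ρ) := by
    intro g h
    simp only [Pi.smul_apply]
    rw [isClassFunction_pRegularPart 2 hcf g h]
  apply Cfsg.Agent.S0164.result _ hθcf
  intro E p hp hE
  haveI : Fintype E := Fintype.ofFinite E
  letI : Fintype (IrrCharacter E) := irrFintype
  have hsE1 : ∀ g : E, Odd (orderOf g) → g ^ s = g := by
    intro g hg
    apply Subtype.ext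
    rw [Subgroup.coe_pow]
    apply hs1
    rwa [Subgroup.orderOf_coe]
  have hsE2 : ∀ g : E, (∃ k : ℕ, orderOf g = 2 ^ k) → g ^ s = 1 := by
    rintro g ⟨k, hk⟩
    apply Subtype.ext
    rw [Subgroup.coe_pow]
    apply hs2
    exact ⟨k, by rw [Subgroup.orderOf_coe, hk]⟩
  let π : E →* E :=
    { toFun := fun e => e ^ s
      map_one' := one_pow s
      map_mul' := pow_mul_of_isElementary s hsE1 hsE2 p hp hE }
  have hπ : ∀ e : E, ((π e : E) : H) = (e : H) ^ s := fun e => by
    change ((e ^ s : E) : H) = _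
    rw [Subgroup.coe_pow]
  apply isGenChar_of_int_inner
  · intro g h
    exact hθcf g h
  intro μ
  have hμπ : IsGeneralizedCharacter E ((μ : E → ℂ) ∘ π) :=
    isGenChar_comp π (isGenChar_of_isCharacter (isCharacter_of_isIrrCharacter μ.2))
  obtain ⟨n, hn⟩ := genChar_inner_genChar_int (isGenChar_restrict E hρ) hμπ
  -- the auxiliary function
  set g : E → ℂ := fun e => if 2 ∣ orderOf (e : H) then 0 else ρ e * conj ((μ : E → ℂ) e)
    with hg
  have hθg : classInner (fun e : E => ((2 : ℂ) • pRegularPart 2 ρ) (e : H)) (μ : E → ℂ) =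
      (Nat.card E : ℂ)⁻¹ * (2 * ∑ e : E, g e) := by
    unfold classInner
    congr 1
    rw [Finset.mul_sum]
    apply Finset.sum_congr rfl
    intro e _
    simp only [hg, Pi.smul_apply, smul_eq_mul]
    rw [pRegularPart_apply]
    split_ifs <;> ring
  -- elements of odd order are fixed by `π`
  have hπodd : ∀ e : E, ¬ 2 ∣ orderOf (e : H) → π e = e := by
    intro e he
    apply Subtype.ext
    rw [hπ]
    exact hs1 _ ((hodd_iff _).1 he)
  -- elements with odd translate
  have hπtr : ∀ e : E, ¬ 2 ∣ orderOf (u * (e : H)) → ((π e : E) : H) = u * (e : H) := by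
    intro e he
    rw [hπ]
    have h1 : (e : H) = u * (u * (e : H)) := by
      rw [← mul_assoc, ← pow_two, ← hu, pow_orderOf_eq_one, one_mul]
    have hc : Commute u (u * (e : H)) := by
      have : Commute u (e : H) := (huc (e : H)).symm
      exact (Commute.refl u).mul_right this
    calc (e : H) ^ s = (u * (u * (e : H))) ^ s := by rw [← h1]
      _ = u ^ s * (u * (e : H)) ^ s := hc.mul_pow s
      _ = u * (e : H) := by rw [hus, one_mul, hs1 _ ((hodd_iff _).1 he)]
  by_cases huE : u ∈ E
  · -- the involution lies in `E`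
    set ũ : E := ⟨u, huE⟩ with hũ
    have hpt : ∀ e : E, ρ (e : H) * conj (((μ : E → ℂ) ∘ π) e) = g e + g (ũ * e) := by
      intro e
      by_cases he : 2 ∣ orderOf (e : H)
      · by_cases he' : 2 ∣ orderOf (u * (e : H))
        · have h0 : ρ (e : H) = 0 := by
            by_contra hne
            rcases hvan _ hne with h | h
            · exact h he
            · exact h he'
          simp only [hg, Subgroup.coe_mul]
          rw [if_pos he, if_pos he', h0, zero_mul, add_zero]
        · have h1 : π e = ũ * e := by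
            apply Subtype.ext
            rw [hπtr e he']
            rfl
          simp only [hg, Subgroup.coe_mul, Function.comp_apply]
          rw [if_pos he, if_neg he', h1, zero_add, hinv]
      · have he' : 2 ∣ orderOf (u * (e : H)) :=
          two_dvd_orderOf_mul_of_odd hu (huc (e : H)).symm he
        simp only [hg, Subgroup.coe_mul, Function.comp_apply]
        rw [if_neg he, if_pos he', hπodd e he, add_zero]
    have hsum : ∑ e : E, ρ (e : H) * conj (((μ : E → ℂ) ∘ π) e) = 2 * ∑ e : E, g e := by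
      rw [Finset.sum_congr rfl (fun e _ => hpt e), Finset.sum_add_distrib]
      have : ∑ e : E, g (ũ * e) = ∑ e : E, g e :=
        Fintype.sum_equiv (Equiv.mulLeft ũ) _ _ (fun e => rfl)
      rw [this]; ring
    refine ⟨n, ?_⟩
    rw [hθg, ← hn]
    unfold classInner
    rw [hsum]
  · -- the involution does not lie in `E`
    have hpt : ∀ e : E, ρ (e : H) * conj (((μ : E → ℂ) ∘ π) e) = g e := by
      intro e
      by_cases he : 2 ∣ orderOf (e : H)
      · have h0 : ρ (e : H) = 0 := by
          by_contra hne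
          rcases hvan _ hne with h | h
          · exact h he
          · apply huE
            have h1 := hπtr e h
            have h2 : u = ((π e : E) : H) * ((e : E) : H)⁻¹ := by
              rw [h1, mul_inv_cancel_right]
            rw [h2]
            exact E.mul_mem (π e).2 (E.inv_mem e.2)
        simp only [hg]
        rw [if_pos he, h0, zero_mul]
      · simp only [hg, Function.comp_apply]
        rw [if_neg he, hπodd e he]
    refine ⟨2 * n, ?_⟩
    rw [hθg]
    push_cast
    rw [← hn]
    unfold classInner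
    rw [Finset.sum_congr rfl (fun e _ => hpt e)]
    ring

end Lift

end Cfsg.Agent.Helper7
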