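import Mathlib
import Cfsg.Agent.Lib.Helper7.BSQLift

/-!
# Class functions on a group with a central involution (helper7's library)
-/

set_option autoImplicit false

universe u

namespace Cfsg.Agent.Helper7

open Cfsg Cfsg.Agent.Helper24 Cfsg.Agent.Helper18 Cfsg.Agent.Helper23.Blk
open scoped ComplexConjugate

section HalfSum

variable {H : Type u} [Group H] [Fintype H]

/-- a function invariant under the central involution and supported on the elements whose
`2`-part lies in `⟨u⟩` has twice the sum of its `2`-regular part -/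
theorem sum_eq_two_mul_sum_odd (u : H) (hu : orderOf u = 2) (huc : ∀ h : H, h * u = u * h)
    (f : H → ℂ) (hinv : ∀ h, f (u * h) = f h)
    (hvan : ∀ h, f h ≠ 0 → ¬ 2 ∣ orderOf h ∨ ¬ 2 ∣ orderOf (u * h)) :
    ∑ h : H, f h = 2 * ∑ h : H, (if 2 ∣ orderOf h then 0 else f h) := by
  classical
  set g : H → ℂ := fun h => if 2 ∣ orderOf h then 0 else f h with hg
  have hpt : ∀ h : H, f h = g h + g (u * h) := by
    intro h
    by_cases he : 2 ∣ orderOf h
    · by_cases he' : 2 ∣ orderOf (u * h)
      · have h0 : f h = 0 := by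
          by_contra hne
          rcases hvan _ hne with h1 | h1
          · exact h1 he
          · exact h1 he'
        simp only [hg]
        rw [if_pos he, if_pos he', h0, add_zero]
      · simp only [hg]
        rw [if_pos he, if_neg he', hinv, zero_add]
    · have he' : 2 ∣ orderOf (u * h) :=
        two_dvd_orderOf_mul_of_odd hu (huc h).symm he
      simp only [hg]
      rw [if_neg he, if_pos he', add_zero]
  rw [Finset.sum_congr rfl (fun h _ => hpt h), Finset.sum_add_distrib]
  have : ∑ h : H, g (u * h) = ∑ h : H, g h :=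
    Fintype.sum_equiv (Equiv.mulLeft u) _ _ (fun h => rfl)
  rw [this]; ring

/-- pairing an invariant function with twice the `2`-regular part -/
theorem classInner_two_smul_pRegularPart_right (u : H) (hu : orderOf u = 2)
    (huc : ∀ h : H, h * u = u * h) (φ ρ : H → ℂ) (hφ : ∀ h, φ (u * h) = φ h)
    (hinv : ∀ h, ρ (u * h) = ρ h)
    (hvan : ∀ h, ρ h ≠ 0 → ¬ 2 ∣ orderOf h ∨ ¬ 2 ∣ orderOf (u * h)) :
    classInner φ ((2 : ℂ) • pRegularPart 2 ρ) = classInner φ ρ := by
  classical
  unfold classInner
  congr 1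
  rw [sum_eq_two_mul_sum_odd u hu huc (fun h => φ h * conj (ρ h))
    (fun h => by simp only [hφ, hinv])
    (fun h hne => hvan h (fun h0 => hne (by simp only [h0, map_zero, mul_zero]))),
    Finset.mul_sum]
  apply Finset.sum_congr rfl
  intro h _
  simp only [Pi.smul_apply, smul_eq_mul]
  rw [pRegularPart_apply]
  split_ifs
  · simp
  · rw [map_mul]
    have : conj (2 : ℂ) = 2 := Complex.conj_ofNat 2
    rw [this]; ring

/-- the inner product of two doubled `2`-regular parts -/
theorem classInner_two_smul_pRegularPart (u : H) (hu : orderOf u = 2)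
    (huc : ∀ h : H, h * u = u * h) (ρ ρ' : H → ℂ) (hinv : ∀ h, ρ (u * h) = ρ h)
    (hinv' : ∀ h, ρ' (u * h) = ρ' h)
    (hvan : ∀ h, ρ h ≠ 0 → ¬ 2 ∣ orderOf h ∨ ¬ 2 ∣ orderOf (u * h)) :
    classInner ((2 : ℂ) • pRegularPart 2 ρ) ((2 : ℂ) • pRegularPart 2 ρ') =
      2 * classInner ρ ρ' := by
  classical
  unfold classInner
  rw [← mul_assoc, mul_comm (2 : ℂ), mul_assoc]
  congr 1
  rw [sum_eq_two_mul_sum_odd u hu huc (fun h => ρ h * conj (ρ' h))
    (fun h => by simp only [hinv, hinv'])
    (fun h hne => hvan h (fun h0 => hne (by simp only [h0, zero_mul]))),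
    Finset.mul_sum, Finset.mul_sum]
  apply Finset.sum_congr rfl
  intro h _
  simp only [Pi.smul_apply, smul_eq_mul]
  rw [pRegularPart_apply, pRegularPart_apply]
  split_ifs
  · simp
  · rw [map_mul]
    have : conj (2 : ℂ) = 2 := Complex.conj_ofNat 2
    rw [this]; ring

end HalfSum

section Quot

variable {H : Type u} [Group H] [Finite H]

/-- an element with image of odd order in the quotient by a central involution -/
theorem odd_or_odd_mul_of_quot (u : H) (hu : orderOf u = 2) (huc : ∀ h : H, h * u = u * h)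
    [(Subgroup.zpowers u).Normal] (h : H)
    (hh : ¬ 2 ∣ orderOf ((h : H) : H ⧸ Subgroup.zpowers u)) :
    ¬ 2 ∣ orderOf h ∨ ¬ 2 ∣ orderOf (u * h) := by
  set k := orderOf ((h : H) : H ⧸ Subgroup.zpowers u) with hk
  have hkodd : Odd k := by
    rw [← Nat.not_even_iff_odd, even_iff_two_dvd]; exact hh
  have h1 : ((h ^ k : H) : H ⧸ Subgroup.zpowers u) = 1 := by
    rw [QuotientGroup.mk_pow, hk]
    exact pow_orderOf_eq_one _
  rw [QuotientGroup.eq_one_iff] at h1
  obtain ⟨i, hi⟩ := Subgroup.mem_zpowers_iff.1 h1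
  have hu2 : u ^ 2 = 1 := by rw [← hu]; exact pow_orderOf_eq_one u
  have hcases : h ^ k = 1 ∨ h ^ k = u := by
    rw [← hi]
    rcases Int.even_or_odd' i with ⟨j, rfl | rfl⟩
    · left
      rw [zpow_mul, zpow_two, ← pow_two, hu2, one_zpow]
    · right
      rw [zpow_add, zpow_mul, zpow_two, ← pow_two, hu2, one_zpow, one_mul, zpow_one]
  rcases hcases with h2 | h2
  · left
    intro hd
    have h3 : orderOf h ∣ k := orderOf_dvd_of_pow_eq_one h2
    exact hh (dvd_trans hd h3)
  · right
    intro hd
    have h3 : (u * h) ^ k = 1 := by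
      have hc : Commute u h := (huc h).symm
      rw [hc.mul_pow, h2]
      obtain ⟨j, hj⟩ := hkodd
      rw [hj, pow_succ, pow_mul, hu2, one_pow, one_mul, ← pow_two, hu2]
    have h4 : orderOf (u * h) ∣ k := orderOf_dvd_of_pow_eq_one h3
    exact hh (dvd_trans hd h4)

end Quot

end Cfsg.Agent.Helper7
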