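import Mathlib
import Cfsg.Agent.Lib.Helper7.BSQLocal1
import Cfsg.Agent.Lib.Helper7.BSKleinBlock
import Cfsg.Agent.Lib.Helper23.BlockDim
import Cfsg.Agent.Lib.Helper24.CharQuotient
import Cfsg.Agent.Lib.Helper12.SL2Res
import Cfsg.Agent.S0948
import Cfsg.Agent.S0941

/-!
# The principal `2`-block of a group with a central involution and Klein four quotient Sylow
(helper7's library)
-/

set_option autoImplicit false

universe u

namespace Cfsg.Agent.Helper7

open Cfsg Cfsg.Agent.Helper24 Cfsg.Agent.Helper18 Cfsg.Agent.Helper23 Cfsg.Agent.Helper23.Blk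
open scoped ComplexConjugate

section Local

variable {H : Type u} [Group H] [Fintype H]

/-- values of an irreducible character at translates by a central involution -/
theorem irr_central_invol {χ : H → ℂ} (hχ : IsIrrCharacter H χ) (u : H) (hu : orderOf u = 2)
    (huc : ∀ h : H, h * u = u * h) :
    (χ u = χ 1 ∧ ∀ h, χ (u * h) = χ h) ∨ (χ u = - χ 1 ∧ ∀ h, χ (u * h) = - χ h) := by
  have h1 : ∀ x : H, χ (x * u) = χ x * χ u / χ 1 :=
    fun x => Cfsg.Agent.Helper12.irr_mul_central hχ x u huc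
  have hd : χ 1 ≠ 0 := irr_one_ne_zero hχ
  have hu2 : u * u = 1 := by
    rw [← pow_two, ← hu]; exact pow_orderOf_eq_one u
  have h2 := h1 u
  rw [hu2] at h2
  have h3 : (χ u - χ 1) * (χ u + χ 1) = 0 := by
    field_simp at h2
    linear_combination -h2
  rcases mul_eq_zero.1 h3 with h | h
  · left
    have hu1 : χ u = χ 1 := by linear_combination h
    refine ⟨hu1, fun h' => ?_⟩
    rw [← huc h', h1 h', hu1]
    field_simp
  · right
    have hu1 : χ u = - χ 1 := by linear_combination h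
    refine ⟨hu1, fun h' => ?_⟩
    rw [← huc h', h1 h', hu1]
    field_simp

/-- the four characters of the principal block having the central involution in the kernel -/
structure LocalData (M : Ideal AlgInt) (u : H) where
  ζ1 : IrrCharacter H
  ζ2 : IrrCharacter H
  ζ3 : IrrCharacter H
  ζ4 : IrrCharacter H
  ε : ℤ
  hε : ε = 1 ∨ ε = -1
  h1 : (ζ1 : H → ℂ) = fun _ => 1
  h12 : ζ1 ≠ ζ2
  h13 : ζ1 ≠ ζ3
  h14 : ζ1 ≠ ζ4
  h23 : ζ2 ≠ ζ3
  h24 : ζ2 ≠ ζ4
  h34 : ζ3 ≠ ζ4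
  mem1 : ζ1 ∈ principalBlock M H
  mem2 : ζ2 ∈ principalBlock M H
  mem3 : ζ3 ∈ principalBlock M H
  mem4 : ζ4 ∈ principalBlock M H
  inv2 : ∀ h, (ζ2 : H → ℂ) (u * h) = (ζ2 : H → ℂ) h
  inv3 : ∀ h, (ζ3 : H → ℂ) (u * h) = (ζ3 : H → ℂ) h
  inv4 : ∀ h, (ζ4 : H → ℂ) (u * h) = (ζ4 : H → ℂ) h
  sing : ∀ h, 2 ∣ orderOf h → 2 ∣ orderOf (u * h) →
    (ζ2 : H → ℂ) h = 1 ∧ (ζ3 : H → ℂ) h = (ε : ℂ) ∧ (ζ4 : H → ℂ) h = -1
  f2 : ℕ
  f3 : ℕ
  f4 : ℕ
  d2 : (ζ2 : H → ℂ) 1 = f2
  d3 : (ζ3 : H → ℂ) 1 = f3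
  d4 : (ζ4 : H → ℂ) 1 = f4
  odd2 : f2 % 2 = 1
  odd3 : f3 % 2 = 1
  rel : (f4 : ℤ) = 1 + f2 + ε * f3
  exhaust : ∀ χ : IrrCharacter H, χ ∈ principalBlock M H → (χ : H → ℂ) u = (χ : H → ℂ) 1 →
    χ = ζ1 ∨ χ = ζ2 ∨ χ = ζ3 ∨ χ = ζ4

set_option maxHeartbeats 1600000 in
/-- the local data exist when the quotient by the central involution has Klein four Sylow
`2`-subgroups and one class of involutions -/
theorem exists_localData (M : Ideal AlgInt) (hM : IsPModular 2 M) (u : H) (hu : orderOf u = 2)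
    (huc : ∀ h : H, h * u = u * h) [hN : (Subgroup.zpowers u).Normal]
    (P : Sylow 2 (H ⧸ Subgroup.zpowers u))
    (hP : IsKleinFour (P : Subgroup (H ⧸ Subgroup.zpowers u)))
    (hone : ∀ s t : H ⧸ Subgroup.zpowers u, orderOf s = 2 → orderOf t = 2 → IsConj s t) :
    Nonempty (LocalData M u) := by
  classical
  haveI : Fact (2 : ℕ).Prime := ⟨Nat.prime_two⟩
  haveI hMp : M.IsPrime := hM.2.1.isPrime
  set N : Subgroup H := Subgroup.zpowers u with hNdef
  haveI : Fintype (H ⧸ N) := Fintype.ofFinite _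
  obtain ⟨ξ2, ξ3, ξ4, ε, hε, h2ne, h3ne, h23, h24, h34, hblock, hval, hd2, hd3, hd4, hrel⟩ :=
    Cfsg.Agent.S0948.result M hM P hP hone
  -- an involution of the quotient
  obtain ⟨z, hzP, hz⟩ : ∃ z ∈ (P : Subgroup (H ⧸ N)), orderOf z = 2 := by
    have hc : Nat.card (P : Subgroup (H ⧸ N)) = 4 := hP.card_four
    haveI : Nontrivial (P : Subgroup (H ⧸ N)) := by
      rw [← Finite.one_lt_card_iff_nontrivial, hc]; norm_num
    obtain ⟨w, hw⟩ := exists_ne (1 : (P : Subgroup (H ⧸ N)))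
    refine ⟨w, w.2, ?_⟩
    have h1 : w * w = 1 := IsKleinFour.mul_self w
    have h2 : orderOf w = 2 := orderOf_eq_prime (by rw [pow_two]; exact h1) hw
    rw [Subgroup.orderOf_coe]
    exact h2
  obtain ⟨hv2, hv3, hv4⟩ := hval z hz
  -- membership in the principal block of the quotient
  have hm2 : ξ2 ∈ principalBlock M (H ⧸ N) := by rw [hblock]; right; left; rfl
  have hm3 : ξ3 ∈ principalBlock M (H ⧸ N) := by rw [hblock]; right; right; left; rfl
  have hm4 : ξ4 ∈ principalBlock M (H ⧸ N) := by rw [hblock]; right; right; right; rfl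
  -- the inflation correspondence of blocks
  have hNp : IsPGroup 2 N := by
    apply IsPGroup.of_card (n := 1)
    rw [hNdef, Nat.card_zpowers, hu, pow_one]
  have hcen : Subgroup.centralizer (N : Set H) = ⊤ := by
    rw [eq_top_iff]
    intro x _
    rw [Subgroup.mem_centralizer_iff]
    intro y hy
    obtain ⟨i, hi⟩ := Subgroup.mem_zpowers_iff.1 hy
    rw [← hi]
    have : Commute u x := (huc x).symm
    exact (this.zpow_left i).eq
  have hC : ∃ k : ℕ, (Subgroup.centralizer (N : Set H)).index = 2 ^ k :=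
    ⟨0, by rw [hcen, Subgroup.index_top, pow_zero]⟩
  obtain ⟨hS, -⟩ := Cfsg.Agent.S0941.result 2 M hM N hNp hC
  have hinfl : ∀ ξ : IrrCharacter (H ⧸ N),
      ((inflateEquiv N ξ).1 : IrrCharacter H) ∈ principalBlock M H ↔
        ξ ∈ principalBlock M (H ⧸ N) := by
    intro ξ
    have := hS (principalChar (H ⧸ N)) ξ
    exact this.symm
  have hmku : ((u : H) : H ⧸ N) = 1 := by
    rw [QuotientGroup.eq_one_iff]
    exact Subgroup.mem_zpowers u
  have hinvar : ∀ (ξ : IrrCharacter (H ⧸ N)) (h : H),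
      (((inflateEquiv N ξ).1 : IrrCharacter H) : H → ℂ) (u * h) =
        (((inflateEquiv N ξ).1 : IrrCharacter H) : H → ℂ) h := by
    intro ξ h
    rw [inflateEquiv_coe]
    simp only [Function.comp_apply]
    rw [QuotientGroup.mk_mul, hmku, one_mul]
  have hsing : ∀ (ξ : IrrCharacter (H ⧸ N)), ξ ∈ principalBlock M (H ⧸ N) → ∀ h : H,
      2 ∣ orderOf h → 2 ∣ orderOf (u * h) →
      (((inflateEquiv N ξ).1 : IrrCharacter H) : H → ℂ) h = (ξ : H ⧸ N → ℂ) z := by
    intro ξ hξ h hh hh'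
    rw [inflateEquiv_coe]
    simp only [Function.comp_apply]
    apply klein_block_const M hM P hP hone hzP hz ξ hξ
    by_contra hcon
    rcases odd_or_odd_mul_of_quot u hu huc h hcon with h1 | h1
    · exact h1 hh
    · exact h1 hh'
  have hdeg : ∀ (ξ : IrrCharacter (H ⧸ N)),
      (((inflateEquiv N ξ).1 : IrrCharacter H) : H → ℂ) 1 =
        (charDegree (ξ : H ⧸ N → ℂ) : ℂ) := by
    intro ξ
    rw [inflateEquiv_coe]
    simp only [Function.comp_apply]
    rw [QuotientGroup.mk_one, irr_one_eq_charDegree ξ.2]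
  have hinj : ∀ ξ ξ' : IrrCharacter (H ⧸ N),
      ((inflateEquiv N ξ).1 : IrrCharacter H) = ((inflateEquiv N ξ').1 : IrrCharacter H) →
        ξ = ξ' := by
    intro ξ ξ' h
    exact (inflateEquiv N).injective (Subtype.ext h)
  have hp1 : (principalChar (H ⧸ N) : IrrCharacter (H ⧸ N)) ≠ ξ2 := by
    intro h; apply h2ne; rw [← h]; rfl
  have hp3 : (principalChar (H ⧸ N) : IrrCharacter (H ⧸ N)) ≠ ξ3 := by
    intro h; apply h3ne; rw [← h]; rfl
  have hp4 : (principalChar (H ⧸ N) : IrrCharacter (H ⧸ N)) ≠ ξ4 := by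
    intro h
    have h' : (ξ4 : H ⧸ N → ℂ) z = 1 := by rw [← h]; rfl
    rw [hv4] at h'
    norm_num at h'
  have hrel1 := hrel 1 (by rw [orderOf_one]; exact odd_one)
  rw [irr_one_eq_charDegree ξ2.2, irr_one_eq_charDegree ξ3.2, irr_one_eq_charDegree ξ4.2] at hrel1
  refine ⟨{
    ζ1 := (inflateEquiv N (principalChar (H ⧸ N))).1
    ζ2 := (inflateEquiv N ξ2).1
    ζ3 := (inflateEquiv N ξ3).1
    ζ4 := (inflateEquiv N ξ4).1
    ε := ε
    hε := hε
    h1 := rfl
    h12 := fun h => hp1 (hinj _ _ h)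
    h13 := fun h => hp3 (hinj _ _ h)
    h14 := fun h => hp4 (hinj _ _ h)
    h23 := fun h => h23 (hinj _ _ h)
    h24 := fun h => h24 (hinj _ _ h)
    h34 := fun h => h34 (hinj _ _ h)
    mem1 := (hinfl _).2 principalChar_mem_principalBlock
    mem2 := (hinfl _).2 hm2
    mem3 := (hinfl _).2 hm3
    mem4 := (hinfl _).2 hm4
    inv2 := hinvar ξ2
    inv3 := hinvar ξ3
    inv4 := hinvar ξ4
    sing := fun h hh hh' => ⟨by rw [hsing ξ2 hm2 h hh hh', hv2],
      by rw [hsing ξ3 hm3 h hh hh', hv3], by rw [hsing ξ4 hm4 h hh hh', hv4]⟩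
    f2 := charDegree (ξ2 : H ⧸ N → ℂ)
    f3 := charDegree (ξ3 : H ⧸ N → ℂ)
    f4 := charDegree (ξ4 : H ⧸ N → ℂ)
    d2 := hdeg ξ2
    d3 := hdeg ξ3
    d4 := hdeg ξ4
    odd2 := by
      obtain ⟨k, hk⟩ := hd2
      omega
    odd3 := by
      obtain ⟨k, hk⟩ := hd3
      rcases hε with h | h <;> rw [h] at hk <;> omega
    rel := by
      have : ((charDegree (ξ4 : H ⧸ N → ℂ) : ℤ) : ℂ) =
          ((1 + (charDegree (ξ2 : H ⧸ N → ℂ) : ℤ) + ε * (charDegree (ξ3 : H ⧸ N → ℂ) : ℤ) : ℤ) : ℂ) := by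
        push_cast
        linear_combination -hrel1
      exact_mod_cast this
    exhaust := ?_ }⟩
  intro χ hχ hχu
  have hker : ∀ n ∈ N, (χ : H → ℂ) n = (χ : H → ℂ) 1 := by
    intro n hn
    obtain ⟨i, hi⟩ := Subgroup.mem_zpowers_iff.1 hn
    have hu2 : u ^ 2 = 1 := by rw [← hu]; exact pow_orderOf_eq_one u
    rcases Int.even_or_odd' i with ⟨j, rfl | rfl⟩
    · rw [← hi, zpow_mul, zpow_two, ← pow_two, hu2, one_zpow]
    · rw [← hi, zpow_add, zpow_mul, zpow_two, ← pow_two, hu2, one_zpow, one_mul, zpow_one, hχu]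
  set ξ : IrrCharacter (H ⧸ N) := (inflateEquiv N).symm ⟨χ, hker⟩ with hξ
  have hξχ : ((inflateEquiv N ξ).1 : IrrCharacter H) = χ := by
    rw [hξ, Equiv.apply_symm_apply]
  have hξB : ξ ∈ principalBlock M (H ⧸ N) := by
    rw [← hinfl, hξχ]
    exact hχ
  rw [hblock] at hξB
  rcases hξB with h | h | h | h
  · left
    rw [← hξχ]
    congr 2
    apply Subtype.ext
    exact h
  · right; left
    rw [← hξχ, h]
  · right; right; left
    rw [← hξχ, h]
  · right; right; right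
    rw [← hξχ, h]

end Local

end Cfsg.Agent.Helper7
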