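import Mathlib
import Cfsg.Agent.Lib.Helper23.BlockSubsectionCount
import Cfsg.Agent.Lib.Helper7.BSQLocal2
import Cfsg.Agent.S0947

/-!
# Counting the characters of the principal block by sections (helper7's library)

The section sums of `helper23`'s `BlockSubsectionCount`, evaluated at the identity, at a central
involution, and at a `p`-element whose centralizer has a normal `p`-complement.
-/

set_option autoImplicit false
set_option linter.unusedSectionVars false

universe u

namespace Cfsg.Agent.Helper7

open Cfsg Cfsg.Agent.Helper24 Cfsg.Agent.Helper18 Cfsg.Agent.Helper23 Cfsg.Agent.Helper23.Blk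
open scoped ComplexConjugate

section Count

variable {G : Type u} [Group G] [Fintype G] [Fintype (IrrCharacter G)] {M : Ideal AlgInt} {p : ℕ}

theorem isPPart_one_iff (g : G) : IsPPart p g 1 ↔ ¬ p ∣ orderOf g := by
  constructor
  · rintro ⟨y, hy, -, -, hy'⟩
    rw [one_mul] at hy
    rw [← hy]
    exact hy'
  · intro h
    exact ⟨g, one_mul g, Commute.one_left g, ⟨0, by rw [orderOf_one, pow_zero]⟩, h⟩

/-- the section sum at the identity is the group order times the rank of the block -/
theorem secSum_one (hM : IsPModular p M) {B : Set (IrrCharacter G)} (hB : IsPBlock M B) :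
    secSum p B (1 : G) = (Nat.card G : ℂ) * (blockRank p B : ℂ) := by
  classical
  rw [blockRank_block p hM hB]
  unfold secSum
  have hG0 : (Nat.card G : ℂ) ≠ 0 := by exact_mod_cast (Nat.card_pos (α := G)).ne'
  have h1 : ∀ ψ : IrrCharacter G,
      (if ψ ∈ B then classInner (pRegularPart p (ψ : G → ℂ)) (ψ : G → ℂ) else 0) =
      (Nat.card G : ℂ)⁻¹ * ∑ g : G, if IsPPart p g 1 then
        B.indicator (fun ζ : IrrCharacter G => (ζ : G → ℂ) g * conj ((ζ : G → ℂ) g)) ψ else 0 := by
    intro ψ
    by_cases hψ : ψ ∈ B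
    · rw [if_pos hψ]
      unfold classInner
      congr 1
      refine Finset.sum_congr rfl fun g _ => ?_
      rw [Set.indicator_of_mem hψ]
      by_cases hg : p ∣ orderOf g
      · rw [pRegularPart_of_dvd p _ hg, zero_mul, if_neg]
        rw [isPPart_one_iff]
        exact fun h => h hg
      · rw [pRegularPart_of_not_dvd p _ hg, if_pos ((isPPart_one_iff g).2 hg)]
    · rw [if_neg hψ]
      symm
      rw [mul_eq_zero]
      right
      apply Finset.sum_eq_zero
      intro g _
      rw [Set.indicator_of_notMem hψ, ite_self]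
  rw [Finset.sum_congr rfl (fun ψ _ => h1 ψ), ← Finset.mul_sum, ← mul_assoc, mul_inv_cancel₀ hG0,
    one_mul, Finset.sum_comm]
  refine Finset.sum_congr rfl fun g _ => ?_
  by_cases hg : IsPPart p g 1
  · simp only [if_pos hg]
    rfl
  · simp only [if_neg hg]
    rw [Finset.sum_const_zero]

/-- the block sum of squares is invariant under translation by a central involution -/
theorem blockSq_central_invol (B : Set (IrrCharacter G)) (u : G) (hu : orderOf u = 2)
    (huc : ∀ h : G, h * u = u * h) (g : G) : blockSq B (u * g) = blockSq B g := by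
  unfold blockSq
  refine Finset.sum_congr rfl fun ζ _ => ?_
  by_cases hζ : ζ ∈ B
  · rw [Set.indicator_of_mem hζ, Set.indicator_of_mem hζ]
    rcases irr_central_invol ζ.2 u hu huc with ⟨-, h⟩ | ⟨-, h⟩
    · rw [h g]
    · rw [h g, map_neg, neg_mul_neg]
  · rw [Set.indicator_of_notMem hζ, Set.indicator_of_notMem hζ]

/-- the section sum at a central involution equals the section sum at the identity -/
theorem secSum_central_invol (B : Set (IrrCharacter G)) (u : G) (hu : orderOf u = 2)
    (huc : ∀ h : G, h * u = u * h) : secSum 2 B u = secSum 2 B (1 : G) := by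
  classical
  unfold secSum
  rw [← Fintype.sum_equiv (Equiv.mulLeft u) (fun g => if IsPPart 2 (u * g) u then
    blockSq B (u * g) else 0) _ (fun g => rfl)]
  refine Finset.sum_congr rfl fun g _ => ?_
  have hu' : ∃ k : ℕ, orderOf u = 2 ^ k := ⟨1, by rw [hu, pow_one]⟩
  have h1 : IsPPart 2 (u * g) u ↔ IsPPart 2 g 1 := by
    rw [isPPart_mul_iff hu', isPPart_one_iff]
    constructor
    · exact fun h => h.2
    · intro h
      refine ⟨?_, h⟩
      rw [Subgroup.mem_centralizer_iff]
      intro w hw
      rw [Set.mem_singleton_iff] at hw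
      rw [hw]
      exact (huc g).symm
  by_cases h : IsPPart 2 g 1
  · rw [if_pos h, if_pos (h1.2 h), blockSq_central_invol B u hu huc]
  · rw [if_neg h, if_neg (fun h' => h (h1.1 h'))]

/-- the block sum of squares as a real `finsum` -/
theorem blockSq_eq_finsum (B : Set (IrrCharacter G)) (g : G) :
    blockSq B g = ((∑ᶠ ζ ∈ B, ‖(ζ : G → ℂ) g‖ ^ 2 : ℝ) : ℂ) := by
  classical
  rw [finsum_mem_def, finsum_eq_sum_of_fintype, Complex.ofReal_sum]
  unfold blockSq
  refine Finset.sum_congr rfl fun ζ _ => ?_
  by_cases hζ : ζ ∈ B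
  · rw [Set.indicator_of_mem hζ, Set.indicator_of_mem hζ, Complex.mul_conj,
      Complex.normSq_eq_norm_sq]
  · rw [Set.indicator_of_notMem hζ, Set.indicator_of_notMem hζ, Complex.ofReal_zero]

end Count

section Nilp

/-- in a group with a normal `p`-complement, the `p`-regular elements are the elements of the
complement -/
theorem card_pRegular_mul_of_pNilpotent {K : Type*} [Group K] [Fintype K] {p : ℕ} (hp : p.Prime)
    (hnil : ∃ k : ℕ, (Cfsg.pPrimeCore p K).index = p ^ k)
    [DecidablePred (fun y : K => p ∣ orderOf y)] :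
    (Finset.univ.filter (fun y : K => ¬ p ∣ orderOf y)).card * p ^ (Nat.card K).factorization p =
      Nat.card K := by
  classical
  obtain ⟨k, hk⟩ := hnil
  haveI : (Cfsg.pPrimeCore p K).Normal := Cfsg.Agent.Helper22.pPrimeCore_normal p
  have hcop : (Nat.card (Cfsg.pPrimeCore p K)).Coprime p :=
    Cfsg.Agent.Helper22.card_pPrimeCore_coprime p
  have hset : Finset.univ.filter (fun y : K => ¬ p ∣ orderOf y) =
      Finset.univ.filter (fun y : K => y ∈ Cfsg.pPrimeCore p K) := by
    ext y
    rw [Finset.mem_filter, Finset.mem_filter]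
    constructor
    · rintro ⟨-, hy⟩
      exact ⟨Finset.mem_univ _, mem_of_index_eq_pow_of_not_dvd hp _ hk hy⟩
    · rintro ⟨-, hy⟩
      refine ⟨Finset.mem_univ _, fun hd => ?_⟩
      have h1 : orderOf y ∣ Nat.card (Cfsg.pPrimeCore p K) := by
        have := orderOf_dvd_natCard (⟨y, hy⟩ : Cfsg.pPrimeCore p K)
        rwa [← Subgroup.orderOf_coe] at this
      have h2 : p ∣ Nat.gcd (Nat.card (Cfsg.pPrimeCore p K)) p :=
        Nat.dvd_gcd (dvd_trans hd h1) dvd_rfl
      rw [hcop] at h2
      exact hp.one_lt.ne' (Nat.dvd_one.1 h2)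
  have hcard : (Finset.univ.filter (fun y : K => y ∈ Cfsg.pPrimeCore p K)).card =
      Nat.card (Cfsg.pPrimeCore p K) := by
    rw [Nat.card_eq_fintype_card, Fintype.card_subtype]
  have hmul : Nat.card (Cfsg.pPrimeCore p K) * p ^ k = Nat.card K := by
    rw [← hk]
    exact Subgroup.card_mul_index _
  have hfac : (Nat.card K).factorization p = k := by
    rw [← hmul, Nat.factorization_mul (Nat.card_pos).ne' (pow_ne_zero _ hp.ne_zero),
      Nat.factorization_pow, Finsupp.add_apply, Finsupp.smul_apply, hp.factorization_self,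
      smul_eq_mul, mul_one]
    have : (Nat.card (Cfsg.pPrimeCore p K)).factorization p = 0 := by
      apply Nat.factorization_eq_zero_of_not_dvd
      intro hd
      have h2 : p ∣ Nat.gcd (Nat.card (Cfsg.pPrimeCore p K)) p := Nat.dvd_gcd hd dvd_rfl
      rw [hcop] at h2
      exact hp.one_lt.ne' (Nat.dvd_one.1 h2)
    rw [this, zero_add]
  rw [hset, hcard, hfac, hmul]

variable {G : Type u} [Group G] [Fintype G] [Fintype (IrrCharacter G)] {M : Ideal AlgInt} {p : ℕ}

/-- the section sum of the principal block at a nontrivial `p`-element whose centralizer has a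
normal `p`-complement is the order of the centralizer -/
theorem secSum_of_pNilpotent (hM : IsPModular p M) {z : G} (hz : ∃ k : ℕ, orderOf z = p ^ k)
    (hz1 : z ≠ 1)
    (hnil : ∃ k : ℕ, (Cfsg.pPrimeCore p (Subgroup.centralizer ({z} : Set G))).index = p ^ k) :
    secSum p (principalBlock M G) z = (Nat.card (Subgroup.centralizer ({z} : Set G)) : ℂ) := by
  classical
  haveI : Fact p.Prime := ⟨hM.1⟩
  rw [secSum_eq_sum_centralizer _ hz]
  have h1 : ∀ y : Subgroup.centralizer ({z} : Set G),
      (if p ∣ orderOf y then (0 : ℂ) else blockSq (principalBlock M G) (z * (y : G))) =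
      if ¬ p ∣ orderOf y then
        ((p ^ (Nat.card (Subgroup.centralizer ({z} : Set G))).factorization p : ℕ) : ℂ) else 0 := by
    intro y
    by_cases hy : p ∣ orderOf y
    · rw [if_pos hy, if_neg (not_not.2 hy)]
    · rw [if_neg hy, if_pos hy, blockSq_eq_finsum,
        (Cfsg.Agent.S0947.result p M hM z hz hz1 y hy).2 hnil]
      norm_cast
  rw [Finset.sum_congr rfl (fun y _ => h1 y), ← Finset.sum_filter, Finset.sum_const, nsmul_eq_mul,
    ← Nat.cast_mul, card_pRegular_mul_of_pNilpotent hM.1 hnil]

end Nilp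

end Cfsg.Agent.Helper7
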