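import Mathlib
import Cfsg.Agent.Lib.Helper7.BSKlein
import Cfsg.Agent.Lib.Helper21.KleinSylow

/-!
# Groups of order `4 g₀` without a normal `2`-complement (helper7's library)
-/

set_option autoImplicit false

namespace Cfsg.Agent.Helper7

open Cfsg

/-- The `2`-part of `4 * g₀` for odd `g₀`. -/
theorem factorization_four_mul_odd {g₀ : ℕ} (hg₀ : Odd g₀) : (4 * g₀).factorization 2 = 2 := by
  have hg0 : g₀ ≠ 0 := by
    rintro rfl
    exact absurd hg₀ (by decide)
  rw [Nat.factorization_mul (by norm_num) hg0]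
  have h4 : (4 : ℕ).factorization 2 = 2 := by
    rw [show (4 : ℕ) = 2 ^ 2 by norm_num, Nat.Prime.factorization_pow Nat.prime_two]
    simp
  have hg : g₀.factorization 2 = 0 := by
    apply Nat.factorization_eq_zero_of_not_dvd
    intro h
    exact (Nat.not_even_iff_odd.mpr hg₀) (even_iff_two_dvd.mpr h)
  simp [h4, hg]

/-- A group of order four which is not cyclic is a Klein four-group. -/
theorem isKleinFour_of_card_four_of_not_isCyclic {P : Type*} [Group P] (hc : Nat.card P = 4)
    (hn : ¬ IsCyclic P) : IsKleinFour P := by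
  haveI : Finite P := Nat.finite_of_card_ne_zero (by rw [hc]; norm_num)
  refine ⟨hc, ?_⟩
  have hsq : ∀ x : P, x ^ 2 = 1 := by
    intro x
    have hd : orderOf x ∣ 4 := hc ▸ orderOf_dvd_natCard x
    have h4 : orderOf x ≠ 4 := by
      intro h
      exact hn (isCyclic_of_orderOf_eq_card x (by rw [h, hc]))
    have : orderOf x ∣ 2 := by
      have hle : orderOf x ≤ 4 := Nat.le_of_dvd (by norm_num) hd
      interval_cases h : orderOf x
      · simp at hd
      · exact one_dvd _
      · exact dvd_rfl
      · omega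
      · exact absurd rfl h4
    exact orderOf_dvd_iff_pow_eq_one.mp this
  have h1 : Monoid.exponent P ∣ 2 := Monoid.exponent_dvd_of_forall_pow_eq_one hsq
  have h2 : Monoid.exponent P ≠ 1 := by
    intro h
    rw [Monoid.exp_eq_one_iff] at h
    have : Nat.card P = 1 := Nat.card_eq_one_iff_unique.mpr ⟨h, ⟨1⟩⟩
    omega
  rcases (Nat.dvd_prime Nat.prime_two).1 h1 with h | h
  · exact absurd h h2
  · exact h

/-- **Lemma A**: a group of order `4 g₀`, `g₀` odd, without a normal subgroup of order `g₀`
has Klein four Sylow `2`-subgroups and one class of involutions. -/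
theorem klein_of_no_complement {G : Type*} [Group G] [Finite G] (g₀ : ℕ) (hg₀ : Odd g₀)
    (hG : Nat.card G = 4 * g₀) (hnc : ¬ ∃ N : Subgroup G, N.Normal ∧ Nat.card N = g₀)
    (P : Sylow 2 G) :
    IsKleinFour (P : Subgroup G) ∧
      ∀ s t : G, orderOf s = 2 → orderOf t = 2 → IsConj s t := by
  haveI : Fact (2 : ℕ).Prime := ⟨Nat.prime_two⟩
  have hcP : Nat.card (P : Subgroup G) = 4 := by
    rw [P.card_eq_multiplicity, hG, factorization_four_mul_odd hg₀]
    norm_num
  -- no Burnside
  have hNC : ¬ (Subgroup.normalizer ((P : Subgroup G) : Set G) ≤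
      Subgroup.centralizer ((P : Subgroup G) : Set G)) := by
    intro h
    apply hnc
    refine ⟨(MonoidHom.transferSylow P h).ker, inferInstance, ?_⟩
    have hcomp := MonoidHom.ker_transferSylow_isComplement' P h
    have := hcomp.card_mul
    rw [hcP, hG] at this
    omega
  have hp : (Nat.card G).minFac = 2 := by
    rw [Nat.minFac_eq_two_iff, hG]
    exact ⟨2 * g₀, by ring⟩
  have hncyc : ¬ IsCyclic (P : Subgroup G) := fun h =>
    hNC (IsCyclic.normalizer_le_centralizer hp h)
  have hK : IsKleinFour (P : Subgroup G) := isKleinFour_of_card_four_of_not_isCyclic hcP hncyc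
  refine ⟨hK, ?_⟩
  -- fusion
  obtain ⟨n, hn, hnot⟩ := SetLike.not_le_iff_exists.mp hNC
  rw [Subgroup.mem_centralizer_iff] at hnot
  push Not at hnot
  obtain ⟨x, hx, hxn⟩ := hnot
  have hxP : x ∈ (P : Subgroup G) := hx
  have hyP : n⁻¹ * x * n ∈ (P : Subgroup G) := (Subgroup.mem_normalizer_iff''.mp hn x).mp hxP
  set y := n⁻¹ * x * n with hy
  have hx1 : x ≠ 1 := by
    rintro rfl
    simp at hxn
  have hy1 : y ≠ 1 := by
    intro h
    apply hx1
    have : x = n * y * n⁻¹ := by rw [hy]; group
    rw [this, h]; group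
  have hxy : x ≠ y := by
    intro h
    apply hxn
    have : n * y = x * n := by rw [hy]; group
    rw [← h] at this
    exact this.symm
  have hconj : IsConj x y := by
    rw [isConj_iff]
    exact ⟨n⁻¹, by rw [hy, inv_inv]⟩
  have hfus := Cfsg.Agent.Helper21.klein_fusion P hK x y hxP hyP hx1 hy1 hxy hconj
  obtain ⟨hxx, hyy, hcomm⟩ : x * x = 1 ∧ y * y = 1 ∧ x * y = y * x := by
    refine ⟨?_, ?_, ?_⟩
    · exact congrArg Subtype.val (IsKleinFour.mul_self (⟨x, hxP⟩ : (P : Subgroup G)))
    · exact congrArg Subtype.val (IsKleinFour.mul_self (⟨y, hyP⟩ : (P : Subgroup G)))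
    · exact congrArg Subtype.val
        (mul_comm_of_exponent_two (IsKleinFour.exponent_two (G := (P : Subgroup G)))
          (⟨x, hxP⟩ : (P : Subgroup G)) ⟨y, hyP⟩)
  -- every involution is conjugate to `x`
  have key : ∀ s : G, orderOf s = 2 → IsConj x s := by
    intro s hs
    obtain ⟨g, hg⟩ := Cfsg.Agent.Helper21.involution_conj_into_sylow P s hs
    have hs1 : g⁻¹ * s * g ≠ 1 := by
      intro h
      have : s = g * (g⁻¹ * s * g) * g⁻¹ := by group
      rw [h] at this
      have h1 : s = 1 := by rw [this]; group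
      rw [h1, orderOf_one] at hs
      omega
    have hsc : IsConj (g⁻¹ * s * g) s := by
      rw [isConj_iff]
      exact ⟨g, by group⟩
    classical
    haveI := Fintype.ofFinite (P : Subgroup G)
    have huniv := IsKleinFour.eq_finset_univ (G := (P : Subgroup G)) (x := ⟨x, hxP⟩) (y := ⟨y, hyP⟩)
      (fun h => hx1 (congrArg Subtype.val h)) (fun h => hy1 (congrArg Subtype.val h))
      (fun h => hxy (congrArg Subtype.val h))
    have hmem : (⟨g⁻¹ * s * g, hg⟩ : (P : Subgroup G)) ∈
        ({⟨x, hxP⟩ * ⟨y, hyP⟩, ⟨x, hxP⟩, ⟨y, hyP⟩, 1} : Finset (P : Subgroup G)) := by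
      rw [huniv]; exact Finset.mem_univ _
    simp only [Finset.mem_insert, Finset.mem_singleton] at hmem
    rcases hmem with h | h | h | h
    · have h' : g⁻¹ * s * g = x * y := congrArg Subtype.val h
      rw [h'] at hsc
      exact (hconj.trans hfus).trans hsc
    · have h' : g⁻¹ * s * g = x := congrArg Subtype.val h
      rw [h'] at hsc
      exact hsc
    · have h' : g⁻¹ * s * g = y := congrArg Subtype.val h
      rw [h'] at hsc
      exact hconj.trans hsc
    · exact absurd (congrArg Subtype.val h) hs1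
  intro s t hs ht
  exact (key s hs).symm.trans (key t ht)

end Cfsg.Agent.Helper7
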