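import Mathlib
import Cfsg.Agent.Lib.Helper7.BrOrd1

/-!
# Involutions in a `2`-nilpotent group with Klein four Sylow `2`-subgroups (helper7's library)
-/

set_option autoImplicit false

namespace Cfsg.Agent.Helper7

open Cfsg

section

variable {H : Type*} [Group H] [Finite H]

/-- In a `2`-nilpotent group with Klein four Sylow `2`-subgroup, the quotient by the
`2'`-core is commutative: conjugate elements are congruent modulo the core. -/
theorem klein_nilpotent_conj_mem (Q : Sylow 2 H) (hQ : IsKleinFour (Q : Subgroup H))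
    (hnil : ∃ k : ℕ, (pPrimeCore 2 H).index = 2 ^ k) (a h : H) :
    (h * a * h⁻¹) * a⁻¹ ∈ pPrimeCore 2 H := by
  haveI : Fact (2 : ℕ).Prime := ⟨Nat.prime_two⟩
  haveI hON : (pPrimeCore 2 H).Normal := Cfsg.Agent.Helper22.pPrimeCore_normal 2
  obtain ⟨k, hk⟩ := hnil
  have hodd : ¬ 2 ∣ Nat.card (pPrimeCore 2 H) :=
    Cfsg.Agent.Helper22.not_dvd_card_pPrimeCore 2 Nat.prime_two
  have hcQ : Nat.card (Q : Subgroup H) = 4 := hQ.card_four
  have hmul := Subgroup.card_mul_index (pPrimeCore 2 H)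
  have hf : (Nat.card H).factorization 2 = 2 := by
    have h2 := Q.card_eq_multiplicity
    rw [hcQ] at h2
    have : (2 : ℕ) ^ 2 = 2 ^ (Nat.card H).factorization 2 := by rw [← h2]; norm_num
    exact (Nat.pow_right_injective (le_refl 2) this).symm
  have hk2 : k = 2 := by
    rw [← hmul, hk] at hf
    rw [Nat.factorization_mul Nat.card_pos.ne' (by positivity)] at hf
    have h0 : (Nat.card (pPrimeCore 2 H)).factorization 2 = 0 :=
      Nat.factorization_eq_zero_of_not_dvd hodd
    rw [Finsupp.add_apply, h0, Nat.Prime.factorization_pow Nat.prime_two] at hf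
    simpa using hf
  have hcq : Nat.card (H ⧸ pPrimeCore 2 H) = 2 ^ 2 := by
    rw [← Subgroup.index_eq_card, hk, hk2]
  have hcomm := IsPGroup.commutative_of_card_eq_prime_sq hcq
  rw [← QuotientGroup.eq_one_iff]
  simp only [QuotientGroup.mk_mul, QuotientGroup.mk_inv]
  rw [hcomm (h : H ⧸ pPrimeCore 2 H) (a : H ⧸ pPrimeCore 2 H)]
  group

/-- An element of a Klein four Sylow subgroup lying in the `2'`-core is trivial. -/
theorem klein_inter_core (Q : Sylow 2 H) (hQ : IsKleinFour (Q : Subgroup H)) {x : H}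
    (hxQ : x ∈ (Q : Subgroup H)) (hxO : x ∈ pPrimeCore 2 H) : x = 1 := by
  have hodd : ¬ 2 ∣ Nat.card (pPrimeCore 2 H) :=
    Cfsg.Agent.Helper22.not_dvd_card_pPrimeCore 2 Nat.prime_two
  have hxx : x * x = 1 :=
    congrArg Subtype.val (IsKleinFour.mul_self (⟨x, hxQ⟩ : (Q : Subgroup H)))
  have h1 : orderOf x ∣ 2 := orderOf_dvd_of_pow_eq_one (by rw [pow_two]; exact hxx)
  have h2 : orderOf x ∣ Nat.card (pPrimeCore 2 H) := by
    have := orderOf_dvd_natCard (⟨x, hxO⟩ : pPrimeCore 2 H)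
    rwa [Subgroup.orderOf_mk] at this
  rcases (Nat.dvd_prime Nat.prime_two).1 h1 with h | h
  · exact orderOf_eq_one_iff.mp h
  · rw [h] at h2
    exact absurd h2 hodd

/-- **Lemma C**: in a `2`-nilpotent group with Klein four Sylow `2`-subgroup `Q`, the class of
an involution `p ∈ Q` consists of the involutions `t` with `t * p` of odd order. -/
theorem klein_nilpotent_class_iff (Q : Sylow 2 H) (hQ : IsKleinFour (Q : Subgroup H))
    (hnil : ∃ k : ℕ, (pPrimeCore 2 H).index = 2 ^ k) {p : H} (hpQ : p ∈ (Q : Subgroup H))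
    (hp1 : p ≠ 1) (t : H) :
    (orderOf t = 2 ∧ ¬ 2 ∣ orderOf (t * p)) ↔ IsConj p t := by
  haveI : Fact (2 : ℕ).Prime := ⟨Nat.prime_two⟩
  haveI hON : (pPrimeCore 2 H).Normal := Cfsg.Agent.Helper22.pPrimeCore_normal 2
  have hodd : ¬ 2 ∣ Nat.card (pPrimeCore 2 H) :=
    Cfsg.Agent.Helper22.not_dvd_card_pPrimeCore 2 Nat.prime_two
  have hpp : p * p = 1 :=
    congrArg Subtype.val (IsKleinFour.mul_self (⟨p, hpQ⟩ : (Q : Subgroup H)))
  have hp2 : orderOf p = 2 := orderOf_eq_prime (by rw [pow_two]; exact hpp) hp1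
  constructor
  · rintro ⟨ht, htp⟩
    obtain ⟨k, hk⟩ := hnil
    have hmem : t * p ∈ pPrimeCore 2 H :=
      mem_of_index_eq_pow_of_not_dvd Nat.prime_two _ hk htp
    obtain ⟨h, hh⟩ := Cfsg.Agent.Helper21.involution_conj_into_sylow Q t ht
    set q := h⁻¹ * t * h with hq
    have h1 := klein_nilpotent_conj_mem Q hQ ⟨k, hk⟩ t h⁻¹
    rw [inv_inv] at h1
    -- `q * t⁻¹ ∈ O`, `t * p ∈ O` so `q * p ∈ O`
    have h2 : q * p ∈ pPrimeCore 2 H := by
      have : q * p = (q * t⁻¹) * (t * p) := by group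
      rw [this]
      exact Subgroup.mul_mem _ h1 hmem
    have h3 : q * p = 1 := klein_inter_core Q hQ (Subgroup.mul_mem _ hh hpQ) h2
    have h4 : q = p := by
      have : q = (q * p) * p := by rw [mul_assoc, hpp, mul_one]
      rw [this, h3, one_mul]
    rw [isConj_iff]
    refine ⟨h, ?_⟩
    rw [← h4, hq]; group
  · intro hc
    obtain ⟨h, hh⟩ := isConj_iff.mp hc
    refine ⟨?_, ?_⟩
    · rw [← hh]
      have : h * p * h⁻¹ = MulAut.conj h p := rfl
      rw [this, MulEquiv.orderOf_eq, hp2]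
    · have h1 := klein_nilpotent_conj_mem Q hQ hnil p h
      rw [hh] at h1
      have h2 : t * p ∈ pPrimeCore 2 H := by
        have : t * p = (t * p⁻¹) * (p * p) := by group
        rw [this, hpp, mul_one]
        exact h1
      intro hdvd
      have h3 : orderOf (t * p) ∣ Nat.card (pPrimeCore 2 H) := by
        have := orderOf_dvd_natCard (⟨t * p, h2⟩ : pPrimeCore 2 H)
        rwa [Subgroup.orderOf_mk] at this
      exact hodd (dvd_trans hdvd h3)

/-- Distinct elements of the Klein four Sylow subgroup of a `2`-nilpotent group are not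
conjugate. -/
theorem klein_nilpotent_not_conj (Q : Sylow 2 H) (hQ : IsKleinFour (Q : Subgroup H))
    (hnil : ∃ k : ℕ, (pPrimeCore 2 H).index = 2 ^ k) {p q : H} (hpQ : p ∈ (Q : Subgroup H))
    (hqQ : q ∈ (Q : Subgroup H)) (hc : IsConj p q) : p = q := by
  obtain ⟨h, hh⟩ := isConj_iff.mp hc
  have h1 := klein_nilpotent_conj_mem Q hQ hnil p h
  rw [hh] at h1
  have h2 : q * p⁻¹ = 1 :=
    klein_inter_core Q hQ (Subgroup.mul_mem _ hqQ (Subgroup.inv_mem _ hpQ)) h1
  exact (mul_inv_eq_one.mp h2).symm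

end

end Cfsg.Agent.Helper7
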