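import Mathlib
import Cfsg.Agent.Lib.Helper7.BrOrd2
import Cfsg.Agent.Lib.Helper13.KleinCount
import Cfsg.Agent.Lib.Helper23.BlockSecondMain4
import Cfsg.Agent.Lib.Helper23.BlockSubsectionCount
import Cfsg.Agent.Lib.Helper7.BlkCount

/-!
# Counting involutions in a group with Klein four Sylow `2`-subgroups (helper7's library)
-/

set_option autoImplicit false

namespace Cfsg.Agent.Helper7

open Cfsg

section Generic

variable {G : Type*} [Group G] [Finite G]

/-- **Lemma E**: the size of the class of `a` under conjugation by a subgroup `H`. -/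
theorem card_subgroup_class (H : Subgroup G) (a : G) :
    Nat.card {t : G // ∃ c ∈ H, c * a * c⁻¹ = t} *
      Nat.card (H ⊓ Subgroup.centralizer ({a} : Set G) : Subgroup G) = Nat.card H := by
  classical
  letI : MulAction H G := MulAction.compHom G ((MulAut.conj (G := G)).comp H.subtype)
  have hsmul : ∀ (c : H) (x : G), c • x = (c : G) * x * (c : G)⁻¹ := fun c x => rfl
  have h1 : Nat.card (MulAction.orbit H a) = Nat.card (H ⧸ MulAction.stabilizer H a) :=
    Nat.card_congr (MulAction.orbitEquivQuotientStabilizer H a)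
  have h2 := Subgroup.card_eq_card_quotient_mul_card_subgroup (MulAction.stabilizer H a)
  have h3 : Nat.card (MulAction.orbit H a) = Nat.card {t : G // ∃ c ∈ H, c * a * c⁻¹ = t} := by
    apply Nat.card_congr
    apply Equiv.subtypeEquivRight
    intro t
    rw [MulAction.mem_orbit_iff]
    constructor
    · rintro ⟨c, hc⟩
      exact ⟨c, c.2, by rw [← hc, hsmul]⟩
    · rintro ⟨c, hc, hct⟩
      exact ⟨⟨c, hc⟩, by rw [hsmul]; exact hct⟩
  have h4 : Nat.card (MulAction.stabilizer H a) =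
      Nat.card (H ⊓ Subgroup.centralizer ({a} : Set G) : Subgroup G) := by
    apply Nat.card_congr
    refine ⟨fun c => ⟨c.1.1, ?_⟩, fun x => ⟨⟨x.1, x.2.1⟩, ?_⟩, ?_, ?_⟩
    · refine ⟨c.1.2, ?_⟩
      change (c.1 : G) ∈ Subgroup.centralizer ({a} : Set G)
      rw [Subgroup.mem_centralizer_singleton_iff]
      have := MulAction.mem_stabilizer_iff.mp c.2
      rw [hsmul] at this
      calc (c.1 : G) * a = ((c.1 : G) * a * (c.1 : G)⁻¹) * c.1 := by group
        _ = a * c.1 := by rw [this]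
    · rw [MulAction.mem_stabilizer_iff, hsmul]
      have := Subgroup.mem_centralizer_singleton_iff.mp x.2.2
      change x.1 * a * x.1⁻¹ = a
      rw [this]; group
    · intro c; rfl
    · intro x; rfl
  rw [← h3, ← h4, h1, ← h2]

/-- Centralizers of Sylow subgroups have the same order. -/
theorem card_centralizer_sylow_eq {p : ℕ} [Fact p.Prime] (P Q : Sylow p G) :
    Nat.card (Subgroup.centralizer ((Q : Subgroup G) : Set G)) =
      Nat.card (Subgroup.centralizer ((P : Subgroup G) : Set G)) := by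
  obtain ⟨g, rfl⟩ := MulAction.exists_smul_eq G P Q
  have hmem : ∀ x : G, x ∈ ((g • P : Sylow p G) : Subgroup G) ↔ g⁻¹ * x * g ∈ (P : Subgroup G) :=
    fun x => Cfsg.Agent.S4347.mem_smul_sylow g x P
  apply Nat.card_congr
  refine ⟨fun y => ⟨g⁻¹ * y.1 * g, ?_⟩, fun y => ⟨g * y.1 * g⁻¹, ?_⟩, ?_, ?_⟩
  · rw [Subgroup.mem_centralizer_iff]
    intro h hh
    have hh' : g * h * g⁻¹ ∈ ((g • P : Sylow p G) : Subgroup G) := by
      rw [hmem]
      have : g⁻¹ * (g * h * g⁻¹) * g = h := by group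
      rw [this]; exact hh
    have := Subgroup.mem_centralizer_iff.mp y.2 _ hh'
    calc h * (g⁻¹ * y.1 * g) = g⁻¹ * ((g * h * g⁻¹) * y.1) * g := by group
      _ = g⁻¹ * (y.1 * (g * h * g⁻¹)) * g := by rw [this]
      _ = g⁻¹ * y.1 * g * h := by group
  · rw [Subgroup.mem_centralizer_iff]
    intro h hh
    have hh' : g⁻¹ * h * g ∈ (P : Subgroup G) := (hmem h).mp hh
    have := Subgroup.mem_centralizer_iff.mp y.2 _ hh'
    calc h * (g * y.1 * g⁻¹) = g * ((g⁻¹ * h * g) * y.1) * g⁻¹ := by group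
      _ = g * (y.1 * (g⁻¹ * h * g)) * g⁻¹ := by rw [this]
      _ = g * y.1 * g⁻¹ * h := by group
  · intro y
    apply Subtype.ext
    change g * (g⁻¹ * y.1 * g) * g⁻¹ = y.1
    group
  · intro y
    apply Subtype.ext
    change g⁻¹ * (g * y.1 * g⁻¹) * g = y.1
    group

/-- In a group with Klein four Sylow `2`-subgroups, the nontrivial `2`-elements are
involutions. -/
theorem klein_two_elt_order (P : Sylow 2 G) (hP : IsKleinFour (P : Subgroup G)) {x : G}
    (hx : ∃ k : ℕ, orderOf x = 2 ^ k) (hx1 : x ≠ 1) : orderOf x = 2 := by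
  haveI : Fact (2 : ℕ).Prime := ⟨Nat.prime_two⟩
  obtain ⟨k, hk⟩ := hx
  have hxQ : IsPGroup 2 (Subgroup.zpowers x) := by
    apply IsPGroup.of_card (n := k)
    rw [Nat.card_zpowers, hk]
  obtain ⟨Q, hQ⟩ := hxQ.exists_le_sylow
  obtain ⟨s, hs⟩ := MulAction.exists_smul_eq G P Q
  have hxQ'' : x ∈ (Q : Subgroup G) := hQ (Subgroup.mem_zpowers x)
  rw [← hs] at hxQ''
  have hxQ' : s⁻¹ * x * s ∈ (P : Subgroup G) := (Cfsg.Agent.S4347.mem_smul_sylow s x P).mp hxQ''
  have h1 : (s⁻¹ * x * s) * (s⁻¹ * x * s) = 1 :=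
    congrArg Subtype.val (IsKleinFour.mul_self (G := (P : Subgroup G)) ⟨_, hxQ'⟩)
  have hxx : x * x = 1 := by
    have : x * x = s * ((s⁻¹ * x * s) * (s⁻¹ * x * s)) * s⁻¹ := by group
    rw [this, h1]; group
  exact orderOf_eq_prime (by rw [pow_two]; exact hxx) hx1

end Generic

end Cfsg.Agent.Helper7
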