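import Mathlib
import Cfsg.Agent.Lib.Helper7.BrOrd3

/-!
# Counting involutions in a group with Klein four Sylow `2`-subgroups, II (helper7's library)
-/

set_option autoImplicit false

namespace Cfsg.Agent.Helper7

open Cfsg Cfsg.Agent.Helper23.Blk

section Count

variable {G : Type*} [Group G] [Finite G]

/-- The `2`-part of the order of a group with Klein four Sylow `2`-subgroups. -/
theorem klein_factorization (P : Sylow 2 G) (hP : IsKleinFour (P : Subgroup G)) :
    (Nat.card G).factorization 2 = 2 := by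
  haveI : Fact (2 : ℕ).Prime := ⟨Nat.prime_two⟩
  have hcQ : Nat.card (P : Subgroup G) = 4 := hP.card_four
  have h2 := P.card_eq_multiplicity
  rw [hcQ] at h2
  have : (2 : ℕ) ^ 2 = 2 ^ (Nat.card G).factorization 2 := by rw [← h2]; norm_num
  exact (Nat.pow_right_injective (le_refl 2) this).symm

/-- The elements of a four-group. -/
theorem klein_elements (V : Subgroup G) (hV : IsKleinFour V) {a b : G} (ha : a ∈ V) (hb : b ∈ V)
    (ha1 : a ≠ 1) (hb1 : b ≠ 1) (hab : a ≠ b) :
    ∀ x ∈ V, x = 1 ∨ x = a ∨ x = b ∨ x = a * b := by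
  classical
  haveI := Fintype.ofFinite V
  intro x hx
  have huniv := IsKleinFour.eq_finset_univ (G := V) (x := ⟨a, ha⟩) (y := ⟨b, hb⟩)
    (fun h => ha1 (congrArg Subtype.val h)) (fun h => hb1 (congrArg Subtype.val h))
    (fun h => hab (congrArg Subtype.val h))
  have hmem : (⟨x, hx⟩ : V) ∈ ({⟨a, ha⟩ * ⟨b, hb⟩, ⟨a, ha⟩, ⟨b, hb⟩, 1} : Finset V) := by
    rw [huniv]; exact Finset.mem_univ _
  simp only [Finset.mem_insert, Finset.mem_singleton] at hmem
  rcases hmem with h | h | h | h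
  · right; right; right; exact congrArg Subtype.val h
  · right; left; exact congrArg Subtype.val h
  · right; right; left; exact congrArg Subtype.val h
  · left; exact congrArg Subtype.val h

/-- The centralizer of a four-group. -/
theorem centralizer_klein_eq (V : Subgroup G) {a b : G} (ha : a ∈ V) (hb : b ∈ V)
    (hV : ∀ x ∈ V, x = 1 ∨ x = a ∨ x = b ∨ x = a * b) :
    Subgroup.centralizer ({a} : Set G) ⊓ Subgroup.centralizer ({b} : Set G) =
      Subgroup.centralizer (V : Set G) := by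
  ext x
  rw [Subgroup.mem_inf, Subgroup.mem_centralizer_singleton_iff,
    Subgroup.mem_centralizer_singleton_iff, Subgroup.mem_centralizer_iff]
  constructor
  · rintro ⟨h1, h2⟩ y hy
    rcases hV y hy with rfl | rfl | rfl | rfl
    · simp
    · exact h1.symm
    · exact h2.symm
    · rw [mul_assoc, ← h2, ← mul_assoc, ← h1, mul_assoc]
  · intro h
    exact ⟨(h a ha).symm, (h b hb).symm⟩

theorem ncard_setOf_eq_card_filter {α : Type*} [Fintype α] (p : α → Prop) [DecidablePred p] :
    Set.ncard {x | p x} = (Finset.univ.filter p).card := by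
  rw [← Set.ncard_coe_finset]
  congr 1
  ext
  simp

theorem sq_eq_one_of_orderOf_two {x : G} (hx : orderOf x = 2) : x * x = 1 := by
  rw [← pow_two, ← hx, pow_orderOf_eq_one]

theorem orderOf_conj' (c g : G) : orderOf (c * g * c⁻¹) = orderOf g := by
  have := (MulAut.conj c).orderOf_eq g
  rwa [MulAut.conj_apply] at this

theorem ne_one_of_orderOf_two {x : G} (hx : orderOf x = 2) : x ≠ 1 := by
  rintro rfl
  rw [orderOf_one] at hx
  omega

/-- The class of an involution `q ≠ J` of `P` under the centralizer of `J`. -/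
theorem klein_count_class (P : Sylow 2 G) (hP : IsKleinFour (P : Subgroup G)) {J q : G}
    (hJP : J ∈ (P : Subgroup G)) (hqP : q ∈ (P : Subgroup G)) (hJ1 : J ≠ 1) (hq1 : q ≠ 1)
    (hJq : J ≠ q) :
    Set.ncard {w : G | ∃ c ∈ Subgroup.centralizer ({J} : Set G), c * q * c⁻¹ = w} *
      Nat.card (Subgroup.centralizer ((P : Subgroup G) : Set G)) =
        Nat.card (Subgroup.centralizer ({J} : Set G)) := by
  have hall := klein_elements (P : Subgroup G) hP hJP hqP hJ1 hq1 hJq
  have hcent := centralizer_klein_eq (P : Subgroup G) hJP hqP hall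
  have hE := card_subgroup_class (Subgroup.centralizer ({J} : Set G)) q
  rw [hcent] at hE
  rw [← hE]
  congr 1

/-- The involutions `w ≠ J` centralizing `J`. -/
theorem klein_count_W (P : Sylow 2 G) (hP : IsKleinFour (P : Subgroup G)) {J : G}
    (hJP : J ∈ (P : Subgroup G)) (hJ2 : orderOf J = 2) :
    Set.ncard {w : G | orderOf w = 2 ∧ w ≠ J ∧ J * w = w * J} *
      Nat.card (Subgroup.centralizer ((P : Subgroup G) : Set G)) =
        2 * Nat.card (Subgroup.centralizer ({J} : Set G)) := by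
  classical
  haveI : Fact (2 : ℕ).Prime := ⟨Nat.prime_two⟩
  have hJ1 : J ≠ 1 := ne_one_of_orderOf_two hJ2
  have hJJ : J * J = 1 := sq_eq_one_of_orderOf_two hJ2
  -- a third element
  obtain ⟨w₀, hw₀P, hw₀1, hw₀J⟩ : ∃ w₀ ∈ (P : Subgroup G), w₀ ≠ 1 ∧ w₀ ≠ J := by
    haveI := Fintype.ofFinite (P : Subgroup G)
    by_contra hcon
    push Not at hcon
    have hsub : (Finset.univ : Finset (P : Subgroup G)) ⊆ {1, ⟨J, hJP⟩} := by
      intro x _
      by_cases hx : x = 1
      · simp [hx]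
      · have : (x : G) = J := hcon x.1 x.2 (fun h => hx (Subtype.ext h))
        have : x = ⟨J, hJP⟩ := Subtype.ext this
        simp [this]
    have := Finset.card_le_card hsub
    rw [Finset.card_univ, ← Nat.card_eq_fintype_card, hP.card_four] at this
    have h3 : ({1, ⟨J, hJP⟩} : Finset (P : Subgroup G)).card ≤ 2 := Finset.card_le_two
    omega
  have hall := klein_elements (P : Subgroup G) hP hJP hw₀P hJ1 hw₀1 (Ne.symm hw₀J)
  have hw₀w₀ : w₀ * w₀ = 1 :=
    congrArg Subtype.val (IsKleinFour.mul_self (⟨w₀, hw₀P⟩ : (P : Subgroup G)))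
  have hJw₀ : J * w₀ = w₀ * J :=
    congrArg Subtype.val
      (mul_comm_of_exponent_two (IsKleinFour.exponent_two (G := (P : Subgroup G)))
        (⟨J, hJP⟩ : (P : Subgroup G)) ⟨w₀, hw₀P⟩)
  set H := Subgroup.centralizer ({J} : Set G) with hH
  have hPH : (P : Subgroup G) ≤ H := by
    intro x hx
    rw [hH, Subgroup.mem_centralizer_singleton_iff]
    exact congrArg Subtype.val
      (mul_comm_of_exponent_two (IsKleinFour.exponent_two (G := (P : Subgroup G)))
        (⟨x, hx⟩ : (P : Subgroup G)) ⟨J, hJP⟩)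
  set Q' : Sylow 2 H := P.subtype hPH with hQ'
  have hK : IsKleinFour ((Q' : Subgroup H)) := by
    rw [hQ', Sylow.coe_subtype]
    exact isKleinFour_subgroupOf hP hPH
  have hnil := klein_centralizer_pNilpotent P hP hJP hJ1
  have hmemQ' : ∀ x : H, x ∈ (Q' : Subgroup H) ↔ (x : G) ∈ (P : Subgroup G) := by
    intro x
    rw [hQ', Sylow.coe_subtype, Subgroup.mem_subgroupOf]
  set q₂ := J * w₀ with hq₂
  have hq₂P : q₂ ∈ (P : Subgroup G) := Subgroup.mul_mem _ hJP hw₀P
  have hq₂1 : q₂ ≠ 1 := by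
    intro h
    apply hw₀J
    have : w₀ = J * (J * w₀) := by rw [← mul_assoc, hJJ, one_mul]
    rw [this, ← hq₂, h, mul_one]
  have hq₂J : J ≠ q₂ := by
    intro h
    apply hw₀1
    have : J * 1 = J * w₀ := by rw [mul_one]; exact h
    exact (mul_left_cancel this).symm
  have hcA := klein_count_class P hP hJP hw₀P hJ1 hw₀1 (Ne.symm hw₀J)
  have hcB := klein_count_class P hP hJP hq₂P hJ1 hq₂1 hq₂J
  -- the set of involutions splits
  have hsplit : {w : G | orderOf w = 2 ∧ w ≠ J ∧ J * w = w * J} =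
      {w : G | ∃ c ∈ H, c * w₀ * c⁻¹ = w} ∪ {w : G | ∃ c ∈ H, c * q₂ * c⁻¹ = w} := by
    have hsub : ∀ q ∈ (P : Subgroup G), orderOf q = 2 → q ≠ J → ∀ w : G,
        (∃ c ∈ H, c * q * c⁻¹ = w) → orderOf w = 2 ∧ w ≠ J ∧ J * w = w * J := by
      rintro q hqP hq2 hqJ w ⟨c, hc, rfl⟩
      have hcJ : c * J = J * c := Subgroup.mem_centralizer_singleton_iff.mp hc
      refine ⟨by rw [orderOf_conj', hq2], ?_, ?_⟩
      · intro h
        apply hqJ
        have : q = c⁻¹ * (c * q * c⁻¹) * c := by group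
        rw [this, h, mul_assoc, ← hcJ]; group
      · have hqH : q ∈ H := hPH hqP
        have hmem : c * q * c⁻¹ ∈ H := Subgroup.mul_mem _ (Subgroup.mul_mem _ hc hqH)
          (Subgroup.inv_mem _ hc)
        exact (Subgroup.mem_centralizer_singleton_iff.mp hmem).symm
    ext w
    simp only [Set.mem_setOf_eq, Set.mem_union]
    constructor
    · rintro ⟨hw2, hwJ, hcomm⟩
      have hwH : w ∈ H := Subgroup.mem_centralizer_singleton_iff.mpr hcomm.symm
      have hw2' : orderOf (⟨w, hwH⟩ : H) = 2 := by rw [Subgroup.orderOf_mk, hw2]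
      obtain ⟨h, hh⟩ := Cfsg.Agent.Helper21.involution_conj_into_sylow Q' ⟨w, hwH⟩ hw2'
      replace hh := (hmemQ' _).mp hh
      have hval : ((h⁻¹ * ⟨w, hwH⟩ * h : H) : G) = (h : G)⁻¹ * w * h := rfl
      rw [hval] at hh
      have hw_eq : w = (h : G) * ((h : G)⁻¹ * w * h) * (h : G)⁻¹ := by group
      rcases hall _ hh with h1 | h1 | h1 | h1
      · exfalso
        rw [h1] at hw_eq
        have : w = 1 := by rw [hw_eq]; group
        exact ne_one_of_orderOf_two hw2 this
      · exfalso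
        apply hwJ
        rw [h1] at hw_eq
        have hhJ : (h : G) * J = J * h := Subgroup.mem_centralizer_singleton_iff.mp h.2
        rw [hw_eq, hhJ]; group
      · left
        exact ⟨h, h.2, by rw [← h1]; exact hw_eq.symm⟩
      · right
        exact ⟨h, h.2, by rw [← h1]; exact hw_eq.symm⟩
    · rintro (hw | hw)
      · exact hsub w₀ hw₀P (orderOf_eq_prime (by rw [pow_two]; exact hw₀w₀) hw₀1) hw₀J w hw
      · refine hsub q₂ hq₂P ?_ (Ne.symm hq₂J) w hw
        have : q₂ * q₂ = 1 :=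
          congrArg Subtype.val (IsKleinFour.mul_self (⟨q₂, hq₂P⟩ : (P : Subgroup G)))
        exact orderOf_eq_prime (by rw [pow_two]; exact this) hq₂1
  have hdisj : Disjoint {w : G | ∃ c ∈ H, c * w₀ * c⁻¹ = w}
      {w : G | ∃ c ∈ H, c * q₂ * c⁻¹ = w} := by
    rw [Set.disjoint_left]
    rintro w ⟨c, hc, rfl⟩ ⟨c', hc', hcc⟩
    have hw₀H : w₀ ∈ H := hPH hw₀P
    have hq₂H : q₂ ∈ H := hPH hq₂P
    have hconj : IsConj (⟨w₀, hw₀H⟩ : H) ⟨q₂, hq₂H⟩ := by
      rw [isConj_iff]
      refine ⟨⟨c', hc'⟩⁻¹ * ⟨c, hc⟩, ?_⟩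
      apply Subtype.ext
      change (c'⁻¹ * c) * w₀ * (c'⁻¹ * c)⁻¹ = q₂
      have : q₂ = c'⁻¹ * (c' * q₂ * c'⁻¹) * c' := by group
      rw [this, hcc]; group
    have := klein_nilpotent_not_conj Q' hK hnil ((hmemQ' _).mpr hw₀P) ((hmemQ' _).mpr hq₂P) hconj
    have h2 : w₀ = q₂ := congrArg Subtype.val this
    apply hJ1
    have : 1 * w₀ = J * w₀ := by rw [one_mul]; exact h2
    exact (mul_right_cancel this).symm
  rw [hsplit, Set.ncard_union_eq hdisj (Set.toFinite _) (Set.toFinite _), add_mul, hcA, hcB]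
  ring

end Count

end Cfsg.Agent.Helper7
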