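import Mathlib
import Cfsg.Agent.Lib.Helper7.BrOrd4
import Cfsg.Agent.Lib.Helper24.CharBrauerPerm

/-!
# Counting involutions in a group with Klein four Sylow `2`-subgroups, III (helper7's library)
-/

set_option autoImplicit false

namespace Cfsg.Agent.Helper7

open Cfsg Cfsg.Agent.Helper23.Blk Cfsg.Agent.Helper13.KleinCount

section Count

variable {G : Type*} [Group G] [Finite G]

/-- The involutions `t` such that `J * t` has `2`-part `w`. -/
theorem klein_count_Tw (P : Sylow 2 G) (hP : IsKleinFour (P : Subgroup G))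
    (hone : ∀ s t : G, orderOf s = 2 → orderOf t = 2 → IsConj s t) {J w : G}
    (hJ2 : orderOf J = 2) (hw2 : orderOf w = 2) (hwJ : w ≠ J) (hcomm : J * w = w * J) :
    Set.ncard {t : G | orderOf t = 2 ∧ IsPPart 2 (J * t) w} *
      Nat.card (Subgroup.centralizer ((P : Subgroup G) : Set G)) =
        Nat.card (Subgroup.centralizer ({J} : Set G)) := by
  classical
  haveI : Fact (2 : ℕ).Prime := ⟨Nat.prime_two⟩
  haveI := Fintype.ofFinite G
  have hJ1 : J ≠ 1 := ne_one_of_orderOf_two hJ2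
  have hw1 : w ≠ 1 := ne_one_of_orderOf_two hw2
  have hJJ : J * J = 1 := sq_eq_one_of_orderOf_two hJ2
  have hww : w * w = 1 := sq_eq_one_of_orderOf_two hw2
  -- the four-group generated by `J` and `w` is a Sylow subgroup
  have hcV : Nat.card (kleinOf J w hJJ hww hcomm) = 2 ^ (Nat.card G).factorization 2 := by
    rw [card_kleinOf hJJ hww hcomm hJ1 hw1 (Ne.symm hwJ), klein_factorization P hP]
    norm_num
  set Q : Sylow 2 G := Sylow.ofCard (kleinOf J w hJJ hww hcomm) hcV with hQdef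
  have hQcoe : (Q : Subgroup G) = kleinOf J w hJJ hww hcomm := rfl
  have hQ : IsKleinFour (Q : Subgroup G) := by
    rw [hQcoe]
    exact isKleinFour_kleinOf hJJ hww hcomm hJ1 hw1 (Ne.symm hwJ)
  have hJQ : J ∈ (Q : Subgroup G) := by
    rw [hQcoe]; exact mem_kleinOf.2 (Or.inr (Or.inl rfl))
  have hwQ : w ∈ (Q : Subgroup G) := by
    rw [hQcoe]; exact mem_kleinOf.2 (Or.inr (Or.inr (Or.inl rfl)))
  have hcQP := card_centralizer_sylow_eq P Q
  have hcwJ : Nat.card (Subgroup.centralizer ({w} : Set G)) =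
      Nat.card (Subgroup.centralizer ({J} : Set G)) :=
    Cfsg.Agent.Helper24.card_centralizer_eq_of_isConj (hone w J hw2 hJ2)
  set p₀ := J * w with hp₀
  have hp₀Q : p₀ ∈ (Q : Subgroup G) := Subgroup.mul_mem _ hJQ hwQ
  have hp₀1 : p₀ ≠ 1 := by
    intro h
    apply hwJ
    have : w = J * (J * w) := by rw [← mul_assoc, hJJ, one_mul]
    rw [this, ← hp₀, h, mul_one]
  have hwp₀ : w ≠ p₀ := by
    intro h
    apply hJ1
    have : 1 * w = J * w := by rw [one_mul]; exact h
    exact (mul_right_cancel this).symm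
  have hcl := klein_count_class Q hQ hwQ hp₀Q hw1 hp₀1 hwp₀
  rw [hcQP, hcwJ] at hcl
  rw [← hcl]
  congr 2
  -- the key equivalence
  set H := Subgroup.centralizer ({w} : Set G) with hH
  have hQH : (Q : Subgroup G) ≤ H := by
    intro x hx
    rw [hH, Subgroup.mem_centralizer_singleton_iff]
    exact congrArg Subtype.val
      (mul_comm_of_exponent_two (IsKleinFour.exponent_two (G := (Q : Subgroup G)))
        (⟨x, hx⟩ : (Q : Subgroup G)) ⟨w, hwQ⟩)
  set Q' : Sylow 2 H := Q.subtype hQH with hQ'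
  have hK : IsKleinFour ((Q' : Subgroup H)) := by
    rw [hQ', Sylow.coe_subtype]
    exact isKleinFour_subgroupOf hQ hQH
  have hnil := klein_centralizer_pNilpotent Q hQ hwQ hw1
  have hmemQ' : ∀ x : H, x ∈ (Q' : Subgroup H) ↔ (x : G) ∈ (Q : Subgroup G) := by
    intro x
    rw [hQ', Sylow.coe_subtype, Subgroup.mem_subgroupOf]
  have hp₀H : p₀ ∈ H := hQH hp₀Q
  have hJH : J ∈ H := hQH hJQ
  have hwH : w ∈ H := hQH hwQ
  have lemC := klein_nilpotent_class_iff Q' hK hnil (p := ⟨p₀, hp₀H⟩) ((hmemQ' _).mpr hp₀Q)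
    (fun h => hp₀1 (congrArg Subtype.val h))
  have hw2k : ∃ k : ℕ, orderOf w = 2 ^ k := ⟨1, by rw [hw2, pow_one]⟩
  -- `J * t = w * (p₀ * t)`
  have hdecomp : ∀ t : G, J * t = w * (p₀ * t) := by
    intro t
    rw [hp₀, ← mul_assoc, ← mul_assoc, ← hcomm, mul_assoc J w w, hww, mul_one]
  have hord : ∀ t : G, orderOf (p₀ * t) = orderOf (t * p₀) := by
    intro t
    have : p₀ * t = p₀ * (t * p₀) * p₀⁻¹ := by group
    rw [this, orderOf_conj']
  ext t
  simp only [Set.mem_setOf_eq]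
  rw [hdecomp t, isPPart_mul_iff hw2k]
  constructor
  · rintro ⟨ht2, hmem, hodd⟩
    have htH : t ∈ H := by
      have : t = p₀⁻¹ * (p₀ * t) := by group
      rw [this]
      exact Subgroup.mul_mem _ (Subgroup.inv_mem _ hp₀H) hmem
    have h1 : orderOf (⟨t, htH⟩ : H) = 2 := by rw [Subgroup.orderOf_mk, ht2]
    have h2 : ¬ 2 ∣ orderOf ((⟨t, htH⟩ : H) * ⟨p₀, hp₀H⟩) := by
      rw [← Subgroup.orderOf_coe]
      change ¬ 2 ∣ orderOf (t * p₀)
      rw [← hord]
      exact hodd
    obtain ⟨c, hc⟩ := isConj_iff.mp ((lemC ⟨t, htH⟩).mp ⟨h1, h2⟩)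
    exact ⟨c, c.2, congrArg Subtype.val hc⟩
  · rintro ⟨c, hc, rfl⟩
    have htH : c * p₀ * c⁻¹ ∈ H :=
      Subgroup.mul_mem _ (Subgroup.mul_mem _ hc hp₀H) (Subgroup.inv_mem _ hc)
    have hconj : IsConj (⟨p₀, hp₀H⟩ : H) ⟨c * p₀ * c⁻¹, htH⟩ := by
      rw [isConj_iff]
      exact ⟨⟨c, hc⟩, rfl⟩
    obtain ⟨h1, h2⟩ := (lemC _).mpr hconj
    rw [Subgroup.orderOf_mk] at h1
    rw [← Subgroup.orderOf_coe] at h2
    refine ⟨h1, Subgroup.mul_mem _ hp₀H htH, ?_⟩
    rw [hord]
    exact h2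

theorem isPPart_one_iff' {p : ℕ} (g : G) : IsPPart p g 1 ↔ ¬ p ∣ orderOf g := by
  constructor
  · rintro ⟨y, hy, -, -, hy'⟩
    rw [one_mul] at hy
    rw [← hy]
    exact hy'
  · intro h
    exact ⟨g, one_mul g, Commute.one_left g, ⟨0, by rw [orderOf_one, pow_zero]⟩, h⟩

/-- The number of involutions `t` with `J * t` of even order. -/
theorem klein_count_T (P : Sylow 2 G) (hP : IsKleinFour (P : Subgroup G))
    (hone : ∀ s t : G, orderOf s = 2 → orderOf t = 2 → IsConj s t) {J : G}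
    (hJP : J ∈ (P : Subgroup G)) (hJ2 : orderOf J = 2) :
    Set.ncard {t : G | orderOf t = 2 ∧ 2 ∣ orderOf (J * t)} *
      Nat.card (Subgroup.centralizer ((P : Subgroup G) : Set G)) ^ 2 =
        2 * Nat.card (Subgroup.centralizer ({J} : Set G)) ^ 2 := by
  classical
  haveI : Fact (2 : ℕ).Prime := ⟨Nat.prime_two⟩
  haveI := Fintype.ofFinite G
  have hJ1 : J ≠ 1 := ne_one_of_orderOf_two hJ2
  have hJJ : J * J = 1 := sq_eq_one_of_orderOf_two hJ2
  have hJinv : J⁻¹ = J := inv_eq_of_mul_eq_one_right hJJ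
  set cP := Nat.card (Subgroup.centralizer ((P : Subgroup G) : Set G)) with hcP
  set cJ := Nat.card (Subgroup.centralizer ({J} : Set G)) with hcJ
  set W := Finset.univ.filter (fun w : G => orderOf w = 2 ∧ w ≠ J ∧ J * w = w * J) with hW
  set T := Finset.univ.filter (fun t : G => orderOf t = 2 ∧ 2 ∣ orderOf (J * t)) with hT
  set Tw : G → Finset G := fun w =>
    Finset.univ.filter (fun t : G => orderOf t = 2 ∧ IsPPart 2 (J * t) w) with hTw
  have hWc : W.card * cP = 2 * cJ := by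
    rw [hW, ← ncard_setOf_eq_card_filter]
    exact klein_count_W P hP hJP hJ2
  have hTwc : ∀ w ∈ W, (Tw w).card * cP = cJ := by
    intro w hw
    rw [hW, Finset.mem_filter] at hw
    obtain ⟨-, hw2, hwJ, hcomm⟩ := hw
    simp only [hTw]
    rw [← ncard_setOf_eq_card_filter]
    exact klein_count_Tw P hP hone hJ2 hw2 hwJ hcomm
  have hunion : T = W.biUnion Tw := by
    ext t
    simp only [hT, hW, hTw, Finset.mem_biUnion, Finset.mem_filter, Finset.mem_univ, true_and]
    constructor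
    · rintro ⟨ht2, hdvd⟩
      have htt : t * t = 1 := sq_eq_one_of_orderOf_two ht2
      have htinv : t⁻¹ = t := inv_eq_of_mul_eq_one_right htt
      obtain ⟨w, hpp⟩ := exists_isPPart Nat.prime_two (J * t) (orderOf_pos _)
      have hw1 : w ≠ 1 := by
        rintro rfl
        exact (isPPart_one_iff' _).mp hpp hdvd
      have hwk : ∃ k : ℕ, orderOf w = 2 ^ k := hpp.choose_spec.2.2.1
      have hw2 : orderOf w = 2 := klein_two_elt_order P hP hwk hw1
      have hww : w * w = 1 := sq_eq_one_of_orderOf_two hw2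
      have hwinv : w⁻¹ = w := inv_eq_of_mul_eq_one_right hww
      refine ⟨w, ⟨hw2, ?_, ?_⟩, ht2, hpp⟩
      · rintro rfl
        have hk : ∃ k : ℕ, orderOf w = 2 ^ k := ⟨1, by rw [hJ2, pow_one]⟩
        have := (isPPart_mul_iff hk).mp hpp
        apply this.2
        rw [ht2]
      · have hz : w ∈ Subgroup.zpowers (J * t) := by
          have := IsPPart.mem_zpowers_pow Nat.prime_two hpp 1 (by norm_num)
          rwa [pow_one] at this
        obtain ⟨n, hn⟩ := Subgroup.mem_zpowers_iff.mp hz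
        have hinv : J * (J * t) * J⁻¹ = (J * t)⁻¹ := by
          rw [mul_inv_rev, htinv, hJinv, ← mul_assoc, hJJ, one_mul]
        have h1 : J * w * J⁻¹ = w := by
          rw [← hn, ← conj_zpow, hinv, inv_zpow, hn, hwinv]
        calc J * w = (J * w * J⁻¹) * J := by group
          _ = w * J := by rw [h1]
    · rintro ⟨w, ⟨hw2, -, -⟩, ht2, hpp⟩
      refine ⟨ht2, ?_⟩
      by_contra hnd
      have h1 : IsPPart 2 (J * t) 1 := (isPPart_one_iff' _).mpr hnd
      have := isPPart_unique Nat.prime_two hpp h1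
      exact ne_one_of_orderOf_two hw2 this
  have hdisj : (W : Set G).PairwiseDisjoint Tw := by
    intro w _ w' _ hne
    rw [Function.onFun, Finset.disjoint_left]
    intro t ht ht'
    simp only [hTw, Finset.mem_filter, Finset.mem_univ, true_and] at ht ht'
    exact hne (isPPart_unique Nat.prime_two ht.2 ht'.2)
  have hTc : T.card * cP = W.card * cJ := by
    rw [hunion, Finset.card_biUnion hdisj, Finset.sum_mul, Finset.sum_congr rfl hTwc,
      Finset.sum_const, smul_eq_mul]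
  have hTdef : {t : G | orderOf t = 2 ∧ 2 ∣ orderOf (J * t)}.ncard = T.card := by
    rw [hT, ← ncard_setOf_eq_card_filter]
  calc {t : G | orderOf t = 2 ∧ 2 ∣ orderOf (J * t)}.ncard * cP ^ 2
      = ({t : G | orderOf t = 2 ∧ 2 ∣ orderOf (J * t)}.ncard * cP) * cP := by ring
    _ = (W.card * cP) * cJ := by rw [hTdef, hTc]; ring
    _ = 2 * cJ ^ 2 := by rw [hWc]; ring

end Count

end Cfsg.Agent.Helper7
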