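import Mathlib
import Cfsg.Agent.Lib.Helper24.CharAbelian
import Cfsg.Agent.Lib.Helper24.CharComplete
import Cfsg.Agent.Lib.Helper24.CharLinear
import Cfsg.Agent.Lib.Helper5.Clifford

/-!
# Fourier analysis on a finite abelian group, in the `Cfsg` character vocabulary
(helper7's library, used for Brauer's theorem on homocyclic Sylow 2-subgroups)
-/

set_option autoImplicit false

namespace Cfsg.Agent.Helper7.Homo

open Cfsg Cfsg.Agent.Helper24
open scoped ComplexConjugate

universe u

section Abelian

variable {A : Type u} [Group A] [Fintype A] [Fintype (IrrCharacter A)]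

theorem lin_one (hcomm : ∀ a b : A, a * b = b * a) (ψ : IrrCharacter A) :
    (ψ : A → ℂ) 1 = 1 := by
  have h := charDegree_eq_one_of_comm hcomm ψ.2
  rw [irr_one_eq_charDegree ψ.2, h, Nat.cast_one]

theorem lin_mul (hcomm : ∀ a b : A, a * b = b * a) (ψ : IrrCharacter A) (a b : A) :
    (ψ : A → ℂ) (a * b) = (ψ : A → ℂ) a * (ψ : A → ℂ) b :=
  char_mul_of_degree_one (isCharacter_of_isIrrCharacter ψ.2) (lin_one hcomm ψ) a b

theorem lin_conj (ψ : IrrCharacter A) (a : A) :
    conj ((ψ : A → ℂ) a) = (ψ : A → ℂ) a⁻¹ :=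
  (irr_inv (isCharacter_of_isIrrCharacter ψ.2) a).symm

theorem lin_mul_conj (hcomm : ∀ a b : A, a * b = b * a) (ψ : IrrCharacter A) (a : A) :
    (ψ : A → ℂ) a * conj ((ψ : A → ℂ) a) = 1 := by
  rw [lin_conj, ← lin_mul hcomm, mul_inv_cancel, lin_one hcomm]

theorem lin_ne_zero (hcomm : ∀ a b : A, a * b = b * a) (ψ : IrrCharacter A) (a : A) :
    (ψ : A → ℂ) a ≠ 0 := by
  intro h
  have := lin_mul_conj hcomm ψ a
  rw [h, zero_mul] at this
  exact zero_ne_one this

theorem card_ne_zero' : (Nat.card A : ℂ) ≠ 0 := by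
  exact_mod_cast (Nat.card_pos (α := A)).ne'

/-- first orthogonality, summed form -/
theorem sum_lin_conj (ψ ψ' : IrrCharacter A) :
    ∑ a : A, (ψ : A → ℂ) a * conj ((ψ' : A → ℂ) a) =
      if ψ = ψ' then (Nat.card A : ℂ) else 0 := by
  have h := irr_orthogonality' ψ ψ'
  unfold classInner at h
  have hc : (Nat.card A : ℂ) ≠ 0 := card_ne_zero'
  have h2 : ∑ a : A, (ψ : A → ℂ) a * conj ((ψ' : A → ℂ) a) =
      (Nat.card A : ℂ) * (if ψ = ψ' then 1 else 0) := by
    rw [← h, ← mul_assoc, mul_inv_cancel₀ hc, one_mul]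
  rw [h2]
  split_ifs <;> simp

/-- second orthogonality for an abelian group -/
theorem sum_irr_conj [DecidableEq A] (hcomm : ∀ a b : A, a * b = b * a) (a b : A) :
    ∑ ψ : IrrCharacter A, (ψ : A → ℂ) a * conj ((ψ : A → ℂ) b) =
      if a = b then (Nat.card A : ℂ) else 0 := by
  rw [second_orthogonality]
  by_cases hab : a = b
  · rw [if_pos hab]
    congr 1
    subst hab
    have : ∀ y : A, y * a * y⁻¹ = a := by
      intro y
      rw [hcomm y a, mul_inv_cancel_right]
    rw [Nat.card_congr (Equiv.subtypeUnivEquiv (fun y => this y))]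
  · rw [if_neg hab]
    have : IsEmpty {y : A // y * b * y⁻¹ = a} := by
      constructor
      rintro ⟨y, hy⟩
      apply hab
      rw [← hy, hcomm y b, mul_inv_cancel_right]
    rw [Nat.card_of_isEmpty, Nat.cast_zero]

omit [Fintype A] [Fintype (IrrCharacter A)] in
theorem principalChar_apply (a : A) : ((principalChar A : IrrCharacter A) : A → ℂ) a = 1 := rfl

theorem sum_lin (ψ : IrrCharacter A) :
    ∑ a : A, (ψ : A → ℂ) a = if ψ = principalChar A then (Nat.card A : ℂ) else 0 := by
  have := sum_lin_conj ψ (principalChar A)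
  simpa [principalChar_apply] using this

theorem sum_lin_conj' (ψ : IrrCharacter A) :
    ∑ a : A, conj ((ψ : A → ℂ) a) = if ψ = principalChar A then (Nat.card A : ℂ) else 0 := by
  have := sum_lin_conj (principalChar A) ψ
  simp only [principalChar_apply, one_mul] at this
  rw [this]
  by_cases h : ψ = principalChar A
  · rw [if_pos h, if_pos h.symm]
  · rw [if_neg h, if_neg (fun h' => h h'.symm)]

theorem sum_irr [DecidableEq A] (hcomm : ∀ a b : A, a * b = b * a) (a : A) :
    ∑ ψ : IrrCharacter A, (ψ : A → ℂ) a = if a = 1 then (Nat.card A : ℂ) else 0 := by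
  have := sum_irr_conj hcomm a 1
  simpa [lin_one hcomm] using this

theorem sum_irr_conj' [DecidableEq A] (hcomm : ∀ a b : A, a * b = b * a) (a : A) :
    ∑ ψ : IrrCharacter A, conj ((ψ : A → ℂ) a) = if a = 1 then (Nat.card A : ℂ) else 0 := by
  have := sum_irr_conj hcomm 1 a
  simp only [lin_one hcomm, one_mul] at this
  rw [this]
  by_cases h : a = 1
  · rw [if_pos h, if_pos h.symm]
  · rw [if_neg h, if_neg (fun h' => h h'.symm)]

theorem card_irr_abelian (hcomm : ∀ a b : A, a * b = b * a) :
    Fintype.card (IrrCharacter A) = Nat.card A := by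
  classical
  have := sum_irr hcomm (1 : A)
  simp only [lin_one hcomm, if_true, Finset.sum_const, Finset.card_univ, nsmul_eq_mul,
    mul_one] at this
  exact_mod_cast this

/-- precomposition of an irreducible character with an automorphism -/
noncomputable def compIrr (ν : A ≃* A) (ψ : IrrCharacter A) : IrrCharacter A :=
  ⟨(ψ : A → ℂ) ∘ ν, Cfsg.Agent.Helper5.isIrrCharacter_comp_equiv ν ψ.2⟩

omit [Fintype A] [Fintype (IrrCharacter A)] in
theorem compIrr_apply (ν : A ≃* A) (ψ : IrrCharacter A) (a : A) :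
    (compIrr ν ψ : A → ℂ) a = (ψ : A → ℂ) (ν a) := rfl

omit [Fintype A] [Fintype (IrrCharacter A)] in
theorem compIrr_principal (ν : A ≃* A) : compIrr ν (principalChar A) = principalChar A := by
  apply Subtype.ext
  funext a
  rfl

omit [Fintype A] [Fintype (IrrCharacter A)] in
theorem compIrr_injective (ν : A ≃* A) : Function.Injective (compIrr ν) := by
  intro ψ ψ' h
  apply Subtype.ext
  funext a
  have := congrFun (congrArg Subtype.val h) (ν.symm a)
  simpa [compIrr_apply] using this

/-- A fixed-point-free automorphism of a finite abelian group fixes no nontrivial linear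
character. -/
theorem compIrr_fpf (hcomm : ∀ a b : A, a * b = b * a) (ν : A ≃* A)
    (hfpf : ∀ a : A, ν a = a → a = 1) (ψ : IrrCharacter A) (h : compIrr ν ψ = ψ) :
    ψ = principalChar A := by
  have hinj : Function.Injective (fun a : A => a⁻¹ * ν a) := by
    intro a b hab
    have hab' : a⁻¹ * ν a = b⁻¹ * ν b := hab
    have h1 : ν (a * b⁻¹) = a * b⁻¹ := by
      rw [map_mul, map_inv]
      have : ν a = a * (b⁻¹ * ν b) := by rw [← hab', mul_inv_cancel_left]
      rw [this, mul_assoc, mul_assoc, mul_inv_cancel, mul_one]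
    have := hfpf _ h1
    rwa [mul_inv_eq_one] at this
  have hsurj : Function.Surjective (fun a : A => a⁻¹ * ν a) :=
    Finite.surjective_of_injective hinj
  apply Subtype.ext
  funext b
  obtain ⟨a, ha⟩ := hsurj b
  have ha' : a⁻¹ * ν a = b := ha
  rw [principalChar_apply, ← ha', lin_mul hcomm, ← lin_conj]
  have h2 : (ψ : A → ℂ) (ν a) = (ψ : A → ℂ) a := by
    have := congrFun (congrArg Subtype.val h) a
    exact this
  rw [h2, mul_comm, lin_mul_conj hcomm]

end Abelian

end Cfsg.Agent.Helper7.Homo
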