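import Mathlib
import Cfsg.Agent.Lib.Helper7.Homo1

/-!
# Multiplicities of the restrictions of the principal block characters to a homocyclic
Sylow subgroup: the Gram relations (helper7's library)
-/

set_option autoImplicit false

namespace Cfsg.Agent.Helper7.Homo

open Cfsg Cfsg.Agent.Helper24
open scoped ComplexConjugate

universe u

section Mult

variable {A : Type u} [Group A] [Fintype A] [Fintype (IrrCharacter A)]

/-- the multiplicity of `ψ` in `g` minus the multiplicity of the principal character -/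
noncomputable def bco (g : A → ℂ) (ψ : IrrCharacter A) : ℂ :=
  classInner g (ψ : A → ℂ) - classInner g ((principalChar A : IrrCharacter A) : A → ℂ)

theorem bco_principal (g : A → ℂ) : bco g (principalChar A) = 0 := by
  unfold bco
  rw [sub_self]

theorem bco_eq (g : A → ℂ) (ψ : IrrCharacter A) :
    bco g ψ = (Nat.card A : ℂ)⁻¹ * ∑ a : A, g a * (conj ((ψ : A → ℂ) a) - 1) := by
  unfold bco classInner
  rw [← mul_sub, ← Finset.sum_sub_distrib]
  congr 1
  refine Finset.sum_congr rfl fun a _ => ?_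
  rw [principalChar_apply, map_one]
  ring

theorem conj_bco_eq (g : A → ℂ) (ψ : IrrCharacter A) :
    conj (bco g ψ) = (Nat.card A : ℂ)⁻¹ * ∑ a : A, conj (g a) * ((ψ : A → ℂ) a - 1) := by
  rw [bco_eq, map_mul, map_inv₀, map_natCast, map_sum]
  congr 1
  refine Finset.sum_congr rfl fun a _ => ?_
  rw [map_mul, map_sub, Complex.conj_conj, map_one]

/-- the multiplicities are natural numbers -/
theorem exists_int_bco {g : A → ℂ} (hg : IsCharacter A g) (ψ : IrrCharacter A) :
    ∃ n : ℤ, bco g ψ = n := by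
  obtain ⟨m, hm⟩ := (isCharacter_decomp hg).1 ψ
  obtain ⟨m', hm'⟩ := (isCharacter_decomp hg).1 (principalChar A)
  refine ⟨(m : ℤ) - m', ?_⟩
  unfold bco
  rw [hm, hm']
  push_cast
  ring

/-- value of a character off the identity through the `bco` -/
theorem char_eq_sum_bco [DecidableEq A] (hcomm : ∀ a b : A, a * b = b * a) {g : A → ℂ}
    (hg : IsCharacter A g) (a : A) (ha : a ≠ 1) :
    g a = ∑ ψ : IrrCharacter A, bco g ψ * (ψ : A → ℂ) a := by
  have h := (isCharacter_decomp hg).2
  have h1 := congrFun h a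
  simp only [Finset.sum_apply, Pi.smul_apply, smul_eq_mul] at h1
  have h2 : ∑ ψ : IrrCharacter A, bco g ψ * (ψ : A → ℂ) a =
      ∑ ψ : IrrCharacter A, classInner g (ψ : A → ℂ) * (ψ : A → ℂ) a -
        classInner g ((principalChar A : IrrCharacter A) : A → ℂ) *
          ∑ ψ : IrrCharacter A, (ψ : A → ℂ) a := by
    rw [Finset.mul_sum, ← Finset.sum_sub_distrib]
    refine Finset.sum_congr rfl fun ψ _ => ?_
    unfold bco
    ring
  rw [h2, sum_irr hcomm, if_neg ha, mul_zero, sub_zero]
  exact h1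

/-- the degree through the `bco` -/
theorem char_one_eq_sum_bco [DecidableEq A] (hcomm : ∀ a b : A, a * b = b * a) {g : A → ℂ}
    (hg : IsCharacter A g) :
    g 1 = (Nat.card A : ℂ) * classInner g ((principalChar A : IrrCharacter A) : A → ℂ) +
      ∑ ψ : IrrCharacter A, bco g ψ := by
  have h := (isCharacter_decomp hg).2
  have h1 := congrFun h 1
  simp only [Finset.sum_apply, Pi.smul_apply, smul_eq_mul] at h1
  have h2 : ∑ ψ : IrrCharacter A, bco g ψ =
      ∑ ψ : IrrCharacter A, classInner g (ψ : A → ℂ) * (ψ : A → ℂ) 1 -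
        classInner g ((principalChar A : IrrCharacter A) : A → ℂ) *
          ∑ ψ : IrrCharacter A, (ψ : A → ℂ) 1 := by
    rw [Finset.mul_sum, ← Finset.sum_sub_distrib]
    refine Finset.sum_congr rfl fun ψ _ => ?_
    unfold bco
    rw [lin_one hcomm]
    ring
  rw [h2, sum_irr hcomm, if_pos rfl, ← h1]
  ring

/-- invariance of the multiplicities under an automorphism fixing the character -/
theorem bco_compIrr (ν : A ≃* A) {g : A → ℂ} (hinv : ∀ a, g (ν a) = g a) (ψ : IrrCharacter A) :
    bco g (compIrr ν ψ) = bco g ψ := by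
  rw [bco_eq, bco_eq]
  congr 1
  rw [← Equiv.sum_comp ν.toEquiv (fun a => g a * (conj ((ψ : A → ℂ) a) - 1))]
  refine Finset.sum_congr rfl fun a _ => ?_
  simp only [MulEquiv.toEquiv_eq_coe, EquivLike.coe_coe, compIrr_apply, hinv]

end Mult

section Gram

variable {A : Type u} [Group A] [Fintype A] [Fintype (IrrCharacter A)] [DecidableEq A]
variable {ι : Type*} (X : Finset ι) (f : ι → A → ℂ) (ν : A ≃* A)

/-- a weighted sum against a nontrivial pair of linear characters -/
theorem sum_weight (ψ φ : IrrCharacter A) (hψ : ψ ≠ principalChar A)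
    (hφ : φ ≠ principalChar A) :
    ∑ a : A, (conj ((ψ : A → ℂ) a) - 1) * ((φ : A → ℂ) a - 1) =
      (Nat.card A : ℂ) * ((if ψ = φ then 1 else 0) + 1) := by
  have e : ∀ a : A, (conj ((ψ : A → ℂ) a) - 1) * ((φ : A → ℂ) a - 1) =
      (φ : A → ℂ) a * conj ((ψ : A → ℂ) a) - conj ((ψ : A → ℂ) a) - (φ : A → ℂ) a + 1 := by
    intro a; ring
  simp only [e]
  rw [Finset.sum_add_distrib, Finset.sum_sub_distrib, Finset.sum_sub_distrib, sum_lin_conj,
    sum_lin_conj', sum_lin, if_neg hψ, if_neg hφ]
  simp only [Finset.sum_const, Finset.card_univ, nsmul_eq_mul, mul_one, sub_zero,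
    Nat.card_eq_fintype_card]
  by_cases h : ψ = φ
  · rw [if_pos h, if_pos h.symm]; ring
  · rw [if_neg h, if_neg (fun h' => h h'.symm)]; ring

omit [Fintype A] [Fintype (IrrCharacter A)] [DecidableEq A] in
theorem compIrr_ne_principal {ψ : IrrCharacter A} (hψ : ψ ≠ principalChar A) :
    compIrr ν ψ ≠ principalChar A := by
  intro h
  apply hψ
  apply compIrr_injective ν
  rw [h, compIrr_principal]

/-- **The Gram relations** for the reduced multiplicities. -/
theorem gram_bco (hcomm : ∀ a b : A, a * b = b * a)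
    (hcol : ∀ a a' : A, a ≠ 1 → a' ≠ 1 → ∑ x ∈ X, f x a * conj (f x a') =
      (Nat.card A : ℂ) * ((if a' = a then 1 else 0) + (if a' = ν a then 1 else 0) +
        (if a' = ν (ν a) then 1 else 0)))
    (ψ ψ' : IrrCharacter A) (hψ : ψ ≠ principalChar A) (hψ' : ψ' ≠ principalChar A) :
    ∑ x ∈ X, bco (f x) ψ * conj (bco (f x) ψ') =
      3 + ((if ψ = ψ' then 1 else 0) + (if ψ = compIrr ν ψ' then 1 else 0) +
        (if ψ = compIrr ν (compIrr ν ψ') then 1 else 0)) := by
  have hc : (Nat.card A : ℂ) ≠ 0 := card_ne_zero'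
  set w : A → ℂ := fun a => conj ((ψ : A → ℂ) a) - 1 with hw
  set w' : A → ℂ := fun a => (ψ' : A → ℂ) a - 1 with hw'
  have hw1 : w 1 = 0 := by
    simp only [hw]
    rw [lin_one hcomm, map_one, sub_self]
  have hw'1 : w' 1 = 0 := by
    simp only [hw']
    rw [lin_one hcomm, sub_self]
  set ind : A → A → ℂ := fun a a' => (if a' = a then 1 else 0) + (if a' = ν a then 1 else 0) +
        (if a' = ν (ν a) then 1 else 0) with hind
  have hcol' : ∀ a a', w a * w' a' * ∑ x ∈ X, f x a * conj (f x a') =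
      w a * w' a' * ((Nat.card A : ℂ) * ind a a') := by
    intro a a'
    by_cases ha : a = 1
    · rw [ha, hw1, zero_mul, zero_mul, zero_mul]
    by_cases ha' : a' = 1
    · rw [ha', hw'1, mul_zero, zero_mul, zero_mul]
    rw [hcol a a' ha ha']
  have h1 : ∀ x, bco (f x) ψ * conj (bco (f x) ψ') = (Nat.card A : ℂ)⁻¹ * (Nat.card A : ℂ)⁻¹ *
      ∑ a, ∑ a', w a * w' a' * (f x a * conj (f x a')) := by
    intro x
    rw [bco_eq, conj_bco_eq, mul_mul_mul_comm, Finset.sum_mul_sum]
    congr 1
    refine Finset.sum_congr rfl fun a _ => Finset.sum_congr rfl fun a' _ => ?_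
    simp only [hw, hw']
    ring
  have h2 : ∀ a, ∑ a', w a * w' a' * ((Nat.card A : ℂ) * ind a a') =
      (Nat.card A : ℂ) * (w a * (w' a + w' (ν a) + w' (ν (ν a)))) := by
    intro a
    have e : ∀ a', w a * w' a' * ((Nat.card A : ℂ) * ind a a') =
        (Nat.card A : ℂ) * w a * ((if a' = a then w' a' else 0) +
          (if a' = ν a then w' a' else 0) + (if a' = ν (ν a) then w' a' else 0)) := by
      intro a'
      simp only [hind]
      split_ifs <;> ring
    simp only [e]
    rw [← Finset.mul_sum, Finset.sum_add_distrib, Finset.sum_add_distrib,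
      Finset.sum_ite_eq', Finset.sum_ite_eq', Finset.sum_ite_eq']
    simp only [Finset.mem_univ, if_true]
    ring
  have h3 : ∑ a, w a * (w' a + w' (ν a) + w' (ν (ν a))) =
      (Nat.card A : ℂ) * (3 + ((if ψ = ψ' then 1 else 0) + (if ψ = compIrr ν ψ' then 1 else 0) +
        (if ψ = compIrr ν (compIrr ν ψ') then 1 else 0))) := by
    have e : ∀ a, w a * (w' a + w' (ν a) + w' (ν (ν a))) =
        (conj ((ψ : A → ℂ) a) - 1) * ((ψ' : A → ℂ) a - 1) +
        (conj ((ψ : A → ℂ) a) - 1) * ((compIrr ν ψ' : A → ℂ) a - 1) +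
        (conj ((ψ : A → ℂ) a) - 1) * ((compIrr ν (compIrr ν ψ') : A → ℂ) a - 1) := by
      intro a
      simp only [hw, hw', compIrr_apply]
      ring
    simp only [e]
    rw [Finset.sum_add_distrib, Finset.sum_add_distrib, sum_weight ψ ψ' hψ hψ',
      sum_weight ψ _ hψ (compIrr_ne_principal ν hψ'),
      sum_weight ψ _ hψ (compIrr_ne_principal ν (compIrr_ne_principal ν hψ'))]
    ring
  calc ∑ x ∈ X, bco (f x) ψ * conj (bco (f x) ψ')
      = (Nat.card A : ℂ)⁻¹ * (Nat.card A : ℂ)⁻¹ *
          ∑ a, ∑ a', w a * w' a' * ∑ x ∈ X, f x a * conj (f x a') := by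
        simp only [h1]
        rw [← Finset.mul_sum]
        congr 1
        rw [Finset.sum_comm]
        refine Finset.sum_congr rfl fun a _ => ?_
        rw [Finset.sum_comm]
        refine Finset.sum_congr rfl fun a' _ => ?_
        rw [Finset.mul_sum]
    _ = (Nat.card A : ℂ)⁻¹ * (Nat.card A : ℂ)⁻¹ *
          ∑ a, ∑ a', w a * w' a' * ((Nat.card A : ℂ) * ind a a') := by
        simp only [hcol']
    _ = (Nat.card A : ℂ)⁻¹ * (Nat.card A : ℂ)⁻¹ * ((Nat.card A : ℂ) *
          ∑ a, w a * (w' a + w' (ν a) + w' (ν (ν a)))) := by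
        simp only [h2]
        rw [← Finset.mul_sum]
    _ = _ := by
        rw [h3]
        field_simp

end Gram

end Cfsg.Agent.Helper7.Homo
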