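import Mathlib

/-!
# A sunflower lemma for integer vectors of square length three (helper7's library)
-/

set_option autoImplicit false

namespace Cfsg.Agent.Helper7.Homo

section Sunflower

variable {ι κ : Type*} [DecidableEq ι] [DecidableEq κ]

theorem sq_one_cases {a : ℤ} (h : a * a = 1) : a = 1 ∨ a = -1 := by
  have h1 : (a - 1) * (a + 1) = 0 := by ring_nf; linarith
  rcases mul_eq_zero.1 h1 with h2 | h2
  · left; omega
  · right; omega

/-- entries of an integer vector of square length three -/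
theorem entry_cases (X : Finset ι) (u : ι → ℤ) (h : ∑ x ∈ X, u x * u x = 3) {x : ι}
    (hx : x ∈ X) : u x = 0 ∨ u x = 1 ∨ u x = -1 := by
  have h1 : u x * u x ≤ 3 := by
    rw [← h]
    exact Finset.single_le_sum (f := fun x => u x * u x) (fun i _ => mul_self_nonneg _) hx
  have h2 : -1 ≤ u x := by nlinarith
  have h3 : u x ≤ 1 := by nlinarith
  omega

theorem sum_split3 (X : Finset ι) {α β γ : ι} (hα : α ∈ X) (hβ : β ∈ X) (hγ : γ ∈ X)
    (hαβ : α ≠ β) (hαγ : α ≠ γ) (hβγ : β ≠ γ) (F : ι → ℤ) :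
    ∑ x ∈ X, F x = F α + F β + F γ + ∑ x ∈ ((X.erase α).erase β).erase γ, F x := by
  have hβ' : β ∈ X.erase α := Finset.mem_erase.2 ⟨hαβ.symm, hβ⟩
  have hγ' : γ ∈ (X.erase α).erase β :=
    Finset.mem_erase.2 ⟨hβγ.symm, Finset.mem_erase.2 ⟨hαγ.symm, hγ⟩⟩
  rw [← Finset.add_sum_erase X F hα, ← Finset.add_sum_erase _ F hβ',
    ← Finset.add_sum_erase _ F hγ']
  ring

/-- an integer vector of square length three is supported on three points -/
theorem three_points (X : Finset ι) (u : ι → ℤ) (h : ∑ x ∈ X, u x * u x = 3) :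
    ∃ α ∈ X, ∃ β ∈ X, ∃ γ ∈ X, α ≠ β ∧ α ≠ γ ∧ β ≠ γ ∧ u α * u α = 1 ∧ u β * u β = 1 ∧
      u γ * u γ = 1 ∧ ∀ x ∈ X, x ≠ α → x ≠ β → x ≠ γ → u x = 0 := by
  set S := X.filter (fun x => u x ≠ 0) with hS
  have hsq : ∀ x ∈ S, u x * u x = 1 := by
    intro x hx
    rw [hS, Finset.mem_filter] at hx
    rcases entry_cases X u h hx.1 with h0 | h0 | h0
    · exact absurd h0 hx.2
    · rw [h0]; norm_num
    · rw [h0]; norm_num
  have hcard : (S.card : ℤ) = 3 := by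
    rw [← h, hS, Finset.card_eq_sum_ones, Nat.cast_sum, Finset.sum_filter]
    refine Finset.sum_congr rfl fun x hx => ?_
    by_cases h0 : u x = 0
    · rw [if_neg (not_not.2 h0), h0, mul_zero]
    · rw [if_pos h0, hsq x (by rw [hS, Finset.mem_filter]; exact ⟨hx, h0⟩)]
      norm_num
  have hcard' : S.card = 3 := by exact_mod_cast hcard
  obtain ⟨α, β, γ, hαβ, hαγ, hβγ, hSeq⟩ := Finset.card_eq_three.1 hcard'
  have hαS : α ∈ S := by rw [hSeq]; simp
  have hβS : β ∈ S := by rw [hSeq]; simp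
  have hγS : γ ∈ S := by rw [hSeq]; simp
  refine ⟨α, (Finset.mem_filter.1 hαS).1, β, (Finset.mem_filter.1 hβS).1, γ,
    (Finset.mem_filter.1 hγS).1, hαβ, hαγ, hβγ, hsq α hαS, hsq β hβS, hsq γ hγS, ?_⟩
  intro x hx hxα hxβ hxγ
  by_contra h0
  have : x ∈ S := by rw [hS, Finset.mem_filter]; exact ⟨hx, h0⟩
  rw [hSeq] at this
  simp only [Finset.mem_insert, Finset.mem_singleton] at this
  rcases this with h1 | h1 | h1
  · exact hxα h1
  · exact hxβ h1
  · exact hxγ h1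

theorem sunflower_num (a b g va vb vg : ℤ) (ha : a * a = 1) (hb : b * b = 1) (hg : g * g = 1)
    (hva : va = 0 ∨ va = 1 ∨ va = -1) (hvb : vb = 0 ∨ vb = 1 ∨ vb = -1)
    (hvg : vg = 0 ∨ vg = 1 ∨ vg = -1)
    (hsum : a * va + b * vb + g * vg = 2 ∨ a * va + b * vb + g * vg = 3) :
    (va = a ∧ vb = b) ∨ (a * va + b * vb = 1 ∧ va * va + vb * vb + vg * vg = 2) := by
  rcases sq_one_cases ha with rfl | rfl <;> rcases sq_one_cases hb with rfl | rfl <;>
  rcases sq_one_cases hg with rfl | rfl <;> rcases hva with rfl | rfl | rfl <;>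
  rcases hvb with rfl | rfl | rfl <;> rcases hvg with rfl | rfl | rfl <;> omega

theorem sunflower_num' (a b va vb : ℤ) (ha : a * a = 1) (hb : b * b = 1)
    (hva : va = 0 ∨ va = 1 ∨ va = -1) (hvb : vb = 0 ∨ vb = 1 ∨ vb = -1)
    (hsum : a * va + b * vb = 2 ∨ a * va + b * vb = 3) :
    va = a ∧ vb = b := by
  rcases sq_one_cases ha with rfl | rfl <;> rcases sq_one_cases hb with rfl | rfl <;>
  rcases hva with rfl | rfl | rfl <;>
  rcases hvb with rfl | rfl | rfl <;> omega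

theorem sunflower_num'' (a b g va vb vg : ℤ) (ha : a * a = 1) (hb : b * b = 1) (hg : g * g = 1)
    (hva : va = 0 ∨ va = 1 ∨ va = -1) (hvb : vb = 0 ∨ vb = 1 ∨ vb = -1)
    (hvg : vg = 0 ∨ vg = 1 ∨ vg = -1)
    (hsum : a * va + b * vb + g * vg = 2) : va = 0 ∨ vb = 0 ∨ vg = 0 := by
  rcases sq_one_cases ha with rfl | rfl <;> rcases sq_one_cases hb with rfl | rfl <;>
  rcases sq_one_cases hg with rfl | rfl <;> rcases hva with rfl | rfl | rfl <;>
  rcases hvb with rfl | rfl | rfl <;> rcases hvg with rfl | rfl | rfl <;> omega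

theorem sq_combo_nonneg (Y : Finset ι) (p q r : ι → ℤ) :
    0 ≤ 4 * ∑ x ∈ Y, p x * p x + ∑ x ∈ Y, q x * q x + ∑ x ∈ Y, r x * r x -
      4 * ∑ x ∈ Y, p x * q x - 4 * ∑ x ∈ Y, p x * r x + 2 * ∑ x ∈ Y, q x * r x := by
  have : ∑ x ∈ Y, (2 * p x - q x - r x) * (2 * p x - q x - r x) =
      4 * ∑ x ∈ Y, p x * p x + ∑ x ∈ Y, q x * q x + ∑ x ∈ Y, r x * r x -
      4 * ∑ x ∈ Y, p x * q x - 4 * ∑ x ∈ Y, p x * r x + 2 * ∑ x ∈ Y, q x * r x := by
    simp only [Finset.mul_sum, ← Finset.sum_add_distrib, ← Finset.sum_sub_distrib]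
    refine Finset.sum_congr rfl fun x _ => by ring
  rw [← this]
  exact Finset.sum_nonneg fun x _ => mul_self_nonneg _

theorem sunflower_aux (X : Finset ι) (I : Finset κ) (v : κ → ι → ℤ)
    (hself : ∀ i ∈ I, ∑ x ∈ X, v i x * v i x = 3)
    (hpair : ∀ i ∈ I, ∀ j ∈ I, ∑ x ∈ X, v i x * v j x = 2 ∨ ∑ x ∈ X, v i x * v j x = 3)
    (hmult : ∀ i ∈ I, (I.filter (fun j => ∑ x ∈ X, v i x * v j x = 3)).card ≤ 3)
    {i₁ : κ} (hi₁ : i₁ ∈ I) {α β γ : ι} (hα : α ∈ X) (hβ : β ∈ X) (hγ : γ ∈ X)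
    (hαβ : α ≠ β) (hαγ : α ≠ γ) (hβγ : β ≠ γ)
    (h1α : v i₁ α * v i₁ α = 1) (h1β : v i₁ β * v i₁ β = 1) (h1γ : v i₁ γ * v i₁ γ = 1)
    (h10 : ∀ x ∈ X, x ≠ α → x ≠ β → x ≠ γ → v i₁ x = 0)
    (hbig : 4 ≤ (I.filter (fun j => v j γ = 0)).card) :
    ∀ i ∈ I, v i α = v i₁ α ∧ v i β = v i₁ β := by
  set Y := ((X.erase α).erase β).erase γ with hY
  have hYmem : ∀ x ∈ Y, x ∈ X ∧ x ≠ α ∧ x ≠ β ∧ x ≠ γ := by
    intro x hx
    simp only [hY, Finset.mem_erase] at hx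
    exact ⟨hx.2.2.2, hx.2.2.1, hx.2.1, hx.1⟩
  have hsplit : ∀ F : ι → ℤ, ∑ x ∈ X, F x = F α + F β + F γ + ∑ x ∈ Y, F x :=
    fun F => sum_split3 X hα hβ hγ hαβ hαγ hβγ F
  have hip1 : ∀ j, ∑ x ∈ X, v i₁ x * v j x =
      v i₁ α * v j α + v i₁ β * v j β + v i₁ γ * v j γ := by
    intro j
    rw [hsplit]
    have : ∑ x ∈ Y, v i₁ x * v j x = 0 := by
      apply Finset.sum_eq_zero
      intro x hx
      obtain ⟨h1, h2, h3, h4⟩ := hYmem x hx
      rw [h10 x h1 h2 h3 h4, zero_mul]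
    rw [this, add_zero]
  have hent : ∀ i ∈ I, ∀ x ∈ X, v i x = 0 ∨ v i x = 1 ∨ v i x = -1 :=
    fun i hi x hx => entry_cases X (v i) (hself i hi) hx
  -- members of `Mγ` agree with `v i₁` at `α`, `β`
  have hMγ : ∀ j ∈ I, v j γ = 0 → v j α = v i₁ α ∧ v j β = v i₁ β := by
    intro j hjI hjγ
    have h1 := hpair i₁ hi₁ j hjI
    rw [hip1, hjγ, mul_zero, add_zero] at h1
    exact sunflower_num' _ _ _ _ h1α h1β (hent j hjI α hα) (hent j hjI β hβ) h1
  have hne : (I.filter (fun j => v j γ = 0)).Nonempty := by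
    rw [← Finset.card_pos]; omega
  obtain ⟨j, hj⟩ := hne
  have hjI : j ∈ I := (Finset.mem_filter.1 hj).1
  have hjγ : v j γ = 0 := (Finset.mem_filter.1 hj).2
  obtain ⟨j', hj', hj'F⟩ : ∃ j' ∈ I.filter (fun j => v j γ = 0),
      j' ∉ I.filter (fun k => ∑ x ∈ X, v j x * v k x = 3) := by
    apply Finset.exists_mem_notMem_of_card_lt_card
    have := hmult j hjI
    omega
  have hj'I : j' ∈ I := (Finset.mem_filter.1 hj').1
  have hj'γ : v j' γ = 0 := (Finset.mem_filter.1 hj').2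
  have hjj' : ∑ x ∈ X, v j x * v j' x = 2 := by
    rcases hpair j hjI j' hj'I with h | h
    · exact h
    · exfalso
      exact hj'F (Finset.mem_filter.2 ⟨hj'I, h⟩)
  obtain ⟨hjα, hjβ⟩ := hMγ j hjI hjγ
  obtain ⟨hj'α, hj'β⟩ := hMγ j' hj'I hj'γ
  -- sums over `Y`
  have hYj : ∑ x ∈ Y, v j x * v j x = 1 := by
    have := hself j hjI
    rw [hsplit, hjα, hjβ, hjγ, h1α, h1β] at this
    linarith
  have hYj' : ∑ x ∈ Y, v j' x * v j' x = 1 := by
    have := hself j' hj'I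
    rw [hsplit, hj'α, hj'β, hj'γ, h1α, h1β] at this
    linarith
  have hYjj' : ∑ x ∈ Y, v j x * v j' x = 0 := by
    have := hjj'
    rw [hsplit, hjα, hjβ, hjγ, hj'α, hj'β, hj'γ, h1α, h1β] at this
    linarith
  intro i hi
  have h1 := hpair i₁ hi₁ i hi
  rw [hip1] at h1
  rcases sunflower_num _ _ _ _ _ _ h1α h1β h1γ (hent i hi α hα) (hent i hi β hβ)
    (hent i hi γ hγ) h1 with h | ⟨h2, h3⟩
  · exact h
  exfalso
  have hYi : ∑ x ∈ Y, v i x * v i x = 1 := by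
    have := hself i hi
    rw [hsplit] at this
    linarith
  have hYij : 1 ≤ ∑ x ∈ Y, v i x * v j x := by
    have h4 : 2 ≤ ∑ x ∈ X, v i x * v j x := by
      rcases hpair i hi j hjI with h | h <;> omega
    rw [hsplit, hjα, hjβ, hjγ] at h4
    have e : v i α * v i₁ α + v i β * v i₁ β = 1 := by rw [← h2]; ring
    linarith
  have hYij' : 1 ≤ ∑ x ∈ Y, v i x * v j' x := by
    have h4 : 2 ≤ ∑ x ∈ X, v i x * v j' x := by
      rcases hpair i hi j' hj'I with h | h <;> omega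
    rw [hsplit, hj'α, hj'β, hj'γ] at h4
    have e : v i α * v i₁ α + v i β * v i₁ β = 1 := by rw [← h2]; ring
    linarith
  have := sq_combo_nonneg Y (v i) (v j) (v j')
  linarith

/-- **Sunflower lemma.** Thirteen integer vectors of square length three with pairwise inner
products two or three, each vector occurring at most three times, have two common
coordinates. -/
theorem sunflower (X : Finset ι) (I : Finset κ) (v : κ → ι → ℤ)
    (hself : ∀ i ∈ I, ∑ x ∈ X, v i x * v i x = 3)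
    (hpair : ∀ i ∈ I, ∀ j ∈ I, ∑ x ∈ X, v i x * v j x = 2 ∨ ∑ x ∈ X, v i x * v j x = 3)
    (hmult : ∀ i ∈ I, (I.filter (fun j => ∑ x ∈ X, v i x * v j x = 3)).card ≤ 3)
    (hcard : 13 ≤ I.card) :
    ∃ x ∈ X, ∃ y ∈ X, x ≠ y ∧ ∃ c d : ℤ, c * c = 1 ∧ d * d = 1 ∧
      ∀ i ∈ I, v i x = c ∧ v i y = d := by
  obtain ⟨i₁, hi₁⟩ : I.Nonempty := by rw [← Finset.card_pos]; omega
  obtain ⟨α, hα, β, hβ, γ, hγ, hαβ, hαγ, hβγ, h1α, h1β, h1γ, h10⟩ :=
    three_points X (v i₁) (hself i₁ hi₁)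
  have hsplit : ∀ F : ι → ℤ, ∑ x ∈ X, F x =
      F α + F β + F γ + ∑ x ∈ ((X.erase α).erase β).erase γ, F x :=
    fun F => sum_split3 X hα hβ hγ hαβ hαγ hβγ F
  have hip1 : ∀ j, ∑ x ∈ X, v i₁ x * v j x =
      v i₁ α * v j α + v i₁ β * v j β + v i₁ γ * v j γ := by
    intro j
    rw [hsplit]
    have : ∑ x ∈ ((X.erase α).erase β).erase γ, v i₁ x * v j x = 0 := by
      apply Finset.sum_eq_zero
      intro x hx
      simp only [Finset.mem_erase] at hx
      rw [h10 x hx.2.2.2 hx.2.2.1 hx.2.1 hx.1, zero_mul]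
    rw [this, add_zero]
  have hcover : I ⊆ ((I.filter (fun j => ∑ x ∈ X, v i₁ x * v j x = 3)) ∪
      (I.filter (fun j => v j α = 0)) ∪ (I.filter (fun j => v j β = 0))) ∪
      (I.filter (fun j => v j γ = 0)) := by
    intro j hj
    simp only [Finset.mem_union, Finset.mem_filter]
    rcases hpair i₁ hi₁ j hj with h | h
    · rw [hip1] at h
      rcases sunflower_num'' _ _ _ _ _ _ h1α h1β h1γ
        (entry_cases X (v j) (hself j hj) hα) (entry_cases X (v j) (hself j hj) hβ)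
        (entry_cases X (v j) (hself j hj) hγ) h with h' | h' | h'
      · left; left; right; exact ⟨hj, h'⟩
      · left; right; exact ⟨hj, h'⟩
      · right; exact ⟨hj, h'⟩
    · left; left; left; exact ⟨hj, h⟩
  have hc1 := Finset.card_le_card hcover
  have hc2 := Finset.card_union_le (((I.filter (fun j => ∑ x ∈ X, v i₁ x * v j x = 3)) ∪
      (I.filter (fun j => v j α = 0)) ∪ (I.filter (fun j => v j β = 0))))
      (I.filter (fun j => v j γ = 0))
  have hc3 := Finset.card_union_le ((I.filter (fun j => ∑ x ∈ X, v i₁ x * v j x = 3)) ∪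
      (I.filter (fun j => v j α = 0))) (I.filter (fun j => v j β = 0))
  have hc4 := Finset.card_union_le (I.filter (fun j => ∑ x ∈ X, v i₁ x * v j x = 3))
      (I.filter (fun j => v j α = 0))
  have hc5 := hmult i₁ hi₁
  have hcases : 4 ≤ (I.filter (fun j => v j γ = 0)).card ∨
      4 ≤ (I.filter (fun j => v j β = 0)).card ∨ 4 ≤ (I.filter (fun j => v j α = 0)).card := by
    omega
  rcases hcases with h | h | h
  · exact ⟨α, hα, β, hβ, hαβ, v i₁ α, v i₁ β, h1α, h1β,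
      sunflower_aux X I v hself hpair hmult hi₁ hα hβ hγ hαβ hαγ hβγ h1α h1β h1γ h10 h⟩
  · exact ⟨α, hα, γ, hγ, hαγ, v i₁ α, v i₁ γ, h1α, h1γ,
      sunflower_aux X I v hself hpair hmult hi₁ hα hγ hβ hαγ hαβ hβγ.symm h1α h1γ h1β
        (fun x hx h1 h2 h3 => h10 x hx h1 h3 h2) h⟩
  · exact ⟨β, hβ, γ, hγ, hβγ, v i₁ β, v i₁ γ, h1β, h1γ,
      sunflower_aux X I v hself hpair hmult hi₁ hβ hγ hα hβγ hαβ.symm hαγ.symm h1β h1γ h1α
        (fun x hx h1 h2 h3 => h10 x hx h3 h1 h2) h⟩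

end Sunflower

end Cfsg.Agent.Helper7.Homo
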