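import Mathlib
import Cfsg.Agent.Lib.Helper7.Homo2
import Cfsg.Agent.Lib.Helper7.Homo3

/-!
# Integer multiplicities and the structure of the principal block restricted to a homocyclic
Sylow subgroup (helper7's library)
-/

set_option autoImplicit false

namespace Cfsg.Agent.Helper7.Homo

open Cfsg Cfsg.Agent.Helper24
open scoped ComplexConjugate

universe u

section Int

variable {A : Type u} [Group A] [Fintype A] [Fintype (IrrCharacter A)]

/-- the reduced multiplicity as an integer -/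
noncomputable def bint (g : A → ℂ) (ψ : IrrCharacter A) : ℤ := ⌊(bco g ψ).re⌋

theorem bint_spec {g : A → ℂ} (hg : IsCharacter A g) (ψ : IrrCharacter A) :
    ((bint g ψ : ℤ) : ℂ) = bco g ψ := by
  obtain ⟨n, hn⟩ := exists_int_bco hg ψ
  unfold bint
  rw [hn, Complex.intCast_re, Int.floor_intCast]

theorem bint_principal (g : A → ℂ) : bint g (principalChar A) = 0 := by
  unfold bint
  rw [bco_principal, Complex.zero_re, Int.floor_zero]

theorem conj_bco {g : A → ℂ} (hg : IsCharacter A g) (ψ : IrrCharacter A) :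
    conj (bco g ψ) = bco g ψ := by
  rw [← bint_spec hg, map_intCast]

theorem bint_compIrr (ν : A ≃* A) {g : A → ℂ} (hinv : ∀ a, g (ν a) = g a)
    (ψ : IrrCharacter A) : bint g (compIrr ν ψ) = bint g ψ := by
  unfold bint
  rw [bco_compIrr ν hinv]

/-- the principal character has reduced multiplicities `-1` -/
theorem bint_one {g : A → ℂ} (hg : ∀ a, g a = 1) {ψ : IrrCharacter A}
    (hψ : ψ ≠ principalChar A) : bint g ψ = -1 := by
  have hg' : g = ((principalChar A : IrrCharacter A) : A → ℂ) := by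
    funext a
    rw [hg a, principalChar_apply]
  have h1 : bco g ψ = -1 := by
    unfold bco
    rw [hg', irr_orthogonality', irr_orthogonality', if_neg (fun h => hψ h.symm), if_pos rfl]
    ring
  unfold bint
  rw [h1]
  have : ((-1 : ℂ)).re = ((-1 : ℤ) : ℝ) := by simp
  rw [this, Int.floor_intCast]

end Int

section Sigma

variable {A : Type u} [Group A] [Fintype A] [Fintype (IrrCharacter A)]
variable (ν : A ≃* A)

omit [Fintype A] [Fintype (IrrCharacter A)] in
theorem compIrr_cube (hν3 : ∀ a, ν (ν (ν a)) = a) (ψ : IrrCharacter A) :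
    compIrr ν (compIrr ν (compIrr ν ψ)) = ψ := by
  apply Subtype.ext
  funext a
  simp only [compIrr_apply, hν3]

theorem ne_compIrr (hcomm : ∀ a b : A, a * b = b * a) (hfpf : ∀ a : A, ν a = a → a = 1)
    {ψ : IrrCharacter A} (hψ : ψ ≠ principalChar A) : ψ ≠ compIrr ν ψ :=
  fun h => hψ (compIrr_fpf hcomm ν hfpf ψ h.symm)

theorem ne_compIrr_sq (hcomm : ∀ a b : A, a * b = b * a) (hν3 : ∀ a, ν (ν (ν a)) = a)
    (hfpf : ∀ a : A, ν a = a → a = 1)
    {ψ : IrrCharacter A} (hψ : ψ ≠ principalChar A) : ψ ≠ compIrr ν (compIrr ν ψ) := by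
  intro h
  apply ne_compIrr ν hcomm hfpf hψ
  have h2 := congrArg (compIrr ν) h
  rw [compIrr_cube ν hν3] at h2
  exact h2.symm

omit [Fintype A] [Fintype (IrrCharacter A)] in
theorem eq_compIrr_iff (hν3 : ∀ a, ν (ν (ν a)) = a) (ψ ψ' : IrrCharacter A) :
    ψ = compIrr ν ψ' ↔ ψ' = compIrr ν (compIrr ν ψ) := by
  constructor
  · intro h
    rw [h, compIrr_cube ν hν3]
  · intro h
    rw [h, compIrr_cube ν hν3]

omit [Fintype A] [Fintype (IrrCharacter A)] in
theorem eq_compIrr_sq_iff (hν3 : ∀ a, ν (ν (ν a)) = a) (ψ ψ' : IrrCharacter A) :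
    ψ = compIrr ν (compIrr ν ψ') ↔ ψ' = compIrr ν ψ := by
  constructor
  · intro h
    rw [h, compIrr_cube ν hν3]
  · intro h
    rw [h, compIrr_cube ν hν3]

end Sigma

section Gram2

variable {A : Type u} [Group A] [Fintype A] [Fintype (IrrCharacter A)] [DecidableEq A]
variable {ι : Type*} (X : Finset ι) (f : ι → A → ℂ) (ν : A ≃* A)

/-- the orbit indicator -/
noncomputable def nInd (ψ ψ' : IrrCharacter A) : ℤ :=
  (if ψ = ψ' then 1 else 0) + (if ψ = compIrr ν ψ' then 1 else 0) +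
    (if ψ = compIrr ν (compIrr ν ψ') then 1 else 0)

/-- the integral Gram relations -/
theorem gram_bint (hcomm : ∀ a b : A, a * b = b * a)
    (hchar : ∀ x ∈ X, IsCharacter A (f x))
    (hcol : ∀ a a' : A, a ≠ 1 → a' ≠ 1 → ∑ x ∈ X, f x a * conj (f x a') =
      (Nat.card A : ℂ) * ((if a' = a then 1 else 0) + (if a' = ν a then 1 else 0) +
        (if a' = ν (ν a) then 1 else 0)))
    (ψ ψ' : IrrCharacter A) (hψ : ψ ≠ principalChar A) (hψ' : ψ' ≠ principalChar A) :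
    ∑ x ∈ X, bint (f x) ψ * bint (f x) ψ' = 3 + nInd ν ψ ψ' := by
  have h := gram_bco X f ν hcomm hcol ψ ψ' hψ hψ'
  have h2 : ∑ x ∈ X, bco (f x) ψ * conj (bco (f x) ψ') =
      ((∑ x ∈ X, bint (f x) ψ * bint (f x) ψ' : ℤ) : ℂ) := by
    rw [Int.cast_sum]
    refine Finset.sum_congr rfl fun x hx => ?_
    rw [conj_bco (hchar x hx), Int.cast_mul, bint_spec (hchar x hx), bint_spec (hchar x hx)]
  rw [h2] at h
  unfold nInd
  have h3 : ((3 + ((if ψ = ψ' then 1 else 0) + (if ψ = compIrr ν ψ' then 1 else 0) +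
      (if ψ = compIrr ν (compIrr ν ψ') then 1 else 0) : ℤ) : ℤ) : ℂ) =
      3 + ((if ψ = ψ' then 1 else 0) + (if ψ = compIrr ν ψ' then 1 else 0) +
        (if ψ = compIrr ν (compIrr ν ψ') then 1 else 0)) := by
    push_cast
    rfl
  rw [← h3] at h
  exact_mod_cast h

/-- the degree relation -/
theorem deg_bint (hcomm : ∀ a b : A, a * b = b * a)
    (hchar : ∀ x ∈ X, IsCharacter A (f x)) (d : ι → ℕ)
    (hB : ∀ a : A, a ≠ 1 → ∑ x ∈ X, (d x : ℂ) * f x a = 0)
    (ψ : IrrCharacter A) :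
    ∑ x ∈ X, (d x : ℤ) * bint (f x) ψ = 0 := by
  have h1 : ∑ x ∈ X, (d x : ℂ) * bco (f x) ψ = 0 := by
    have e : ∀ x, (d x : ℂ) * bco (f x) ψ = (Nat.card A : ℂ)⁻¹ *
        ∑ a : A, (conj ((ψ : A → ℂ) a) - 1) * ((d x : ℂ) * f x a) := by
      intro x
      rw [bco_eq, Finset.mul_sum, Finset.mul_sum, Finset.mul_sum]
      refine Finset.sum_congr rfl fun a _ => ?_
      ring
    simp only [e]
    rw [← Finset.mul_sum, Finset.sum_comm]
    have : ∀ a : A, ∑ x ∈ X, (conj ((ψ : A → ℂ) a) - 1) * ((d x : ℂ) * f x a) = 0 := by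
      intro a
      rw [← Finset.mul_sum]
      by_cases ha : a = 1
      · rw [ha, lin_one hcomm, map_one, sub_self, zero_mul]
      · rw [hB a ha, mul_zero]
    simp only [this, Finset.sum_const_zero, mul_zero]
  have h2 : ∑ x ∈ X, (d x : ℂ) * bco (f x) ψ =
      ((∑ x ∈ X, (d x : ℤ) * bint (f x) ψ : ℤ) : ℂ) := by
    rw [Int.cast_sum]
    refine Finset.sum_congr rfl fun x hx => ?_
    rw [Int.cast_mul, bint_spec (hchar x hx)]
    push_cast
    rfl
  rw [h2] at h1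
  exact_mod_cast h1

/-- values off the identity -/
theorem value_bint (hcomm : ∀ a b : A, a * b = b * a) {g : A → ℂ} (hg : IsCharacter A g)
    (a : A) (ha : a ≠ 1) :
    g a = ∑ ψ : IrrCharacter A, (bint g ψ : ℂ) * (ψ : A → ℂ) a := by
  rw [char_eq_sum_bco hcomm hg a ha]
  refine Finset.sum_congr rfl fun ψ _ => ?_
  rw [bint_spec hg]

/-- constant reduced multiplicities give a constant value off the identity -/
theorem value_of_const (hcomm : ∀ a b : A, a * b = b * a) {g : A → ℂ} (hg : IsCharacter A g)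
    (c : ℤ) (hc : ∀ ψ : IrrCharacter A, ψ ≠ principalChar A → bint g ψ = c)
    (a : A) (ha : a ≠ 1) : g a = -(c : ℂ) := by
  classical
  rw [value_bint hcomm hg a ha, ← Finset.add_sum_erase _ _ (Finset.mem_univ (principalChar A)),
    bint_principal, Int.cast_zero, zero_mul, zero_add]
  have h1 : ∑ ψ ∈ Finset.univ.erase (principalChar A), (bint g ψ : ℂ) * (ψ : A → ℂ) a =
      (c : ℂ) * ∑ ψ ∈ Finset.univ.erase (principalChar A), (ψ : A → ℂ) a := by
    rw [Finset.mul_sum]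
    refine Finset.sum_congr rfl fun ψ hψ => ?_
    rw [hc ψ (Finset.ne_of_mem_erase hψ)]
  have h2 : ∑ ψ ∈ Finset.univ.erase (principalChar A), (ψ : A → ℂ) a = -1 := by
    have := Finset.add_sum_erase Finset.univ (fun ψ : IrrCharacter A => (ψ : A → ℂ) a)
      (Finset.mem_univ (principalChar A))
    rw [sum_irr hcomm, if_neg ha, principalChar_apply] at this
    linear_combination this
  rw [h1, h2]
  ring

/-- the degree when the reduced multiplicities are constant -/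
theorem degree_of_const (hcomm : ∀ a b : A, a * b = b * a) {g : A → ℂ} (hg : IsCharacter A g)
    (c : ℤ) (hc : ∀ ψ : IrrCharacter A, ψ ≠ principalChar A → bint g ψ = c) :
    ∃ m : ℤ, g 1 = ((Nat.card A : ℤ) * m - c : ℤ) := by
  classical
  obtain ⟨m', hm'⟩ := (isCharacter_decomp hg).1 (principalChar A)
  refine ⟨m' + c, ?_⟩
  rw [char_one_eq_sum_bco hcomm hg, hm',
    ← Finset.add_sum_erase _ _ (Finset.mem_univ (principalChar A)), bco_principal, zero_add]
  have h1 : ∑ ψ ∈ Finset.univ.erase (principalChar A), bco g ψ =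
      ((Nat.card A : ℂ) - 1) * c := by
    have : ∀ ψ ∈ Finset.univ.erase (principalChar A), bco g ψ = (c : ℂ) := by
      intro ψ hψ
      rw [← bint_spec hg, hc ψ (Finset.ne_of_mem_erase hψ)]
    rw [Finset.sum_congr rfl this, Finset.sum_const, Finset.card_erase_of_mem (Finset.mem_univ _),
      Finset.card_univ, card_irr_abelian hcomm, nsmul_eq_mul,
      Nat.cast_sub (Nat.card_pos (α := A)), Nat.cast_one]
  rw [h1]
  push_cast
  ring

end Gram2

section Common

variable {A : Type u} [Group A] [Fintype A] [Fintype (IrrCharacter A)] [DecidableEq A]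
variable {ι : Type*} [DecidableEq ι] (X : Finset ι) (f : ι → A → ℂ) (ν : A ≃* A)

omit [DecidableEq A] in
theorem nInd_self (hcomm : ∀ a b : A, a * b = b * a) (hν3 : ∀ a, ν (ν (ν a)) = a)
    (hfpf : ∀ a : A, ν a = a → a = 1) {ψ : IrrCharacter A} (hψ : ψ ≠ principalChar A) :
    nInd ν ψ ψ = 1 := by
  unfold nInd
  rw [if_pos rfl, if_neg (ne_compIrr ν hcomm hfpf hψ), if_neg (ne_compIrr_sq ν hcomm hν3 hfpf hψ)]
  norm_num

omit [DecidableEq A] in
theorem nInd_cases (hcomm : ∀ a b : A, a * b = b * a) (hν3 : ∀ a, ν (ν (ν a)) = a)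
    (hfpf : ∀ a : A, ν a = a → a = 1) (ψ : IrrCharacter A) {ψ' : IrrCharacter A}
    (hψ' : ψ' ≠ principalChar A) :
    (nInd ν ψ ψ' = 0 ∧ ψ ≠ ψ' ∧ ψ ≠ compIrr ν ψ' ∧ ψ ≠ compIrr ν (compIrr ν ψ')) ∨
    (nInd ν ψ ψ' = 1 ∧ (ψ' = ψ ∨ ψ' = compIrr ν ψ ∨ ψ' = compIrr ν (compIrr ν ψ))) := by
  unfold nInd
  by_cases h1 : ψ = ψ'
  · right
    subst h1
    rw [if_pos rfl, if_neg (ne_compIrr ν hcomm hfpf hψ'),
      if_neg (ne_compIrr_sq ν hcomm hν3 hfpf hψ')]
    exact ⟨by norm_num, Or.inl rfl⟩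
  by_cases h2 : ψ = compIrr ν ψ'
  · right
    have h3 : ψ ≠ compIrr ν (compIrr ν ψ') := by
      intro h
      rw [h2] at h
      exact ne_compIrr ν hcomm hfpf hψ' (compIrr_injective ν h)
    rw [if_neg h1, if_pos h2, if_neg h3]
    exact ⟨by norm_num, Or.inr (Or.inr ((eq_compIrr_iff ν hν3 ψ ψ').1 h2))⟩
  by_cases h3 : ψ = compIrr ν (compIrr ν ψ')
  · right
    rw [if_neg h1, if_neg h2, if_pos h3]
    exact ⟨by norm_num, Or.inr (Or.inl ((eq_compIrr_sq_iff ν hν3 ψ ψ').1 h3))⟩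
  · left
    rw [if_neg h1, if_neg h2, if_neg h3]
    exact ⟨by norm_num, h1, h2, h3⟩

/-- two members of the family have constant reduced multiplicities -/
theorem exists_common (hcomm : ∀ a b : A, a * b = b * a) (h14 : 14 ≤ Nat.card A)
    (hν3 : ∀ a, ν (ν (ν a)) = a) (hfpf : ∀ a : A, ν a = a → a = 1)
    (hchar : ∀ x ∈ X, IsCharacter A (f x))
    (hcol : ∀ a a' : A, a ≠ 1 → a' ≠ 1 → ∑ x ∈ X, f x a * conj (f x a') =
      (Nat.card A : ℂ) * ((if a' = a then 1 else 0) + (if a' = ν a then 1 else 0) +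
        (if a' = ν (ν a) then 1 else 0)))
    (x₀ : ι) (hx₀ : x₀ ∈ X) (hfx₀ : ∀ a, f x₀ a = 1) :
    ∃ x₂ ∈ X.erase x₀, ∃ x₃ ∈ X.erase x₀, x₂ ≠ x₃ ∧ ∃ c₂ c₃ : ℤ, c₂ * c₂ = 1 ∧ c₃ * c₃ = 1 ∧
      ∀ ψ : IrrCharacter A, ψ ≠ principalChar A →
        bint (f x₂) ψ = c₂ ∧ bint (f x₃) ψ = c₃ := by
  classical
  set I : Finset (IrrCharacter A) := Finset.univ.erase (principalChar A) with hI
  have hImem : ∀ ψ, ψ ∈ I ↔ ψ ≠ principalChar A := by
    intro ψ
    rw [hI, Finset.mem_erase]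
    exact ⟨fun h => h.1, fun h => ⟨h, Finset.mem_univ _⟩⟩
  have hsum : ∀ ψ ∈ I, ∀ ψ' ∈ I, ∑ x ∈ X.erase x₀, bint (f x) ψ * bint (f x) ψ' =
      2 + nInd ν ψ ψ' := by
    intro ψ hψ ψ' hψ'
    have h := gram_bint X f ν hcomm hchar hcol ψ ψ' ((hImem ψ).1 hψ) ((hImem ψ').1 hψ')
    rw [← Finset.add_sum_erase X _ hx₀, bint_one hfx₀ ((hImem ψ).1 hψ),
      bint_one hfx₀ ((hImem ψ').1 hψ')] at h
    linarith
  have key := sunflower (X.erase x₀) I (fun ψ x => bint (f x) ψ) ?_ ?_ ?_ ?_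
  · obtain ⟨x₂, hx₂, x₃, hx₃, hne, c₂, c₃, hc₂, hc₃, hall⟩ := key
    exact ⟨x₂, hx₂, x₃, hx₃, hne, c₂, c₃, hc₂, hc₃, fun ψ hψ => hall ψ ((hImem ψ).2 hψ)⟩
  · intro ψ hψ
    rw [hsum ψ hψ ψ hψ, nInd_self ν hcomm hν3 hfpf ((hImem ψ).1 hψ)]
    norm_num
  · intro ψ hψ ψ' hψ'
    rw [hsum ψ hψ ψ' hψ']
    rcases nInd_cases ν hcomm hν3 hfpf ψ ((hImem ψ').1 hψ') with h | h
    · left; rw [h.1]; norm_num
    · right; rw [h.1]; norm_num
  · intro ψ hψ
    have hsub : I.filter (fun ψ' => ∑ x ∈ X.erase x₀, bint (f x) ψ * bint (f x) ψ' = 3) ⊆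
        {ψ, compIrr ν ψ, compIrr ν (compIrr ν ψ)} := by
      intro ψ' hψ'
      rw [Finset.mem_filter] at hψ'
      obtain ⟨hψ'I, h3⟩ := hψ'
      rw [hsum ψ hψ ψ' hψ'I] at h3
      rcases nInd_cases ν hcomm hν3 hfpf ψ ((hImem ψ').1 hψ'I) with h | h
      · rw [h.1] at h3; norm_num at h3
      · simp only [Finset.mem_insert, Finset.mem_singleton]
        exact h.2
    exact (Finset.card_le_card hsub).trans Finset.card_le_three
  · rw [hI, Finset.card_erase_of_mem (Finset.mem_univ _), Finset.card_univ,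
      card_irr_abelian hcomm]
    omega

end Common

end Cfsg.Agent.Helper7.Homo
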