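import Mathlib
import Cfsg.Agent.Lib.Helper7.Homo4

/-!
# The class multiplication relation evaluated on a homocyclic Sylow subgroup
(helper7's library)
-/

set_option autoImplicit false

namespace Cfsg.Agent.Helper7.Homo

open Cfsg Cfsg.Agent.Helper24
open scoped ComplexConjugate

universe u

theorem single_support {ι : Type*} [DecidableEq ι] (S : Finset ι) (n : ι → ℤ)
    (h : ∑ x ∈ S, n x * n x = 1) :
    ∃ x ∈ S, n x * n x = 1 ∧ ∀ y ∈ S, y ≠ x → n y = 0 := by
  have hex : ∃ x ∈ S, n x ≠ 0 := by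
    by_contra hcon
    push Not at hcon
    have : ∑ x ∈ S, n x * n x = 0 := by
      apply Finset.sum_eq_zero
      intro x hx
      rw [hcon x hx, mul_zero]
    omega
  obtain ⟨x, hx, hnx⟩ := hex
  have h1 : 1 ≤ n x * n x := by
    have : 0 < n x * n x := mul_self_pos.2 hnx
    omega
  have h2 := Finset.add_sum_erase S (fun y => n y * n y) hx
  have h3 : 0 ≤ ∑ y ∈ S.erase x, n y * n y := Finset.sum_nonneg fun y _ => mul_self_nonneg _
  refine ⟨x, hx, by omega, ?_⟩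
  intro y hy hyx
  have h4 : ∑ y ∈ S.erase x, n y * n y = 0 := by omega
  have h5 := (Finset.sum_eq_zero_iff_of_nonneg (fun y _ => mul_self_nonneg (n y))).1 h4 y
    (Finset.mem_erase.2 ⟨hyx, hy⟩)
  exact mul_self_eq_zero.1 h5

section Theta

variable {A : Type u} [Group A] [Fintype A] [Fintype (IrrCharacter A)] [DecidableEq A]
variable (ν : A ≃* A)

/-- the orbit sum of a linear character -/
noncomputable def theta (ψ : IrrCharacter A) (z : A) : ℂ :=
  (ψ : A → ℂ) z + (ψ : A → ℂ) (ν z) + (ψ : A → ℂ) (ν (ν z))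

omit [Fintype A] [Fintype (IrrCharacter A)] [DecidableEq A] in
theorem prod_orbit_eq_one (hcomm : ∀ a b : A, a * b = b * a) (hν3 : ∀ a, ν (ν (ν a)) = a)
    (hfpf : ∀ a : A, ν a = a → a = 1) (z : A) : z * ν z * ν (ν z) = 1 := by
  apply hfpf
  rw [map_mul, map_mul, hν3, hcomm (ν z * ν (ν z)) z, mul_assoc]

omit [DecidableEq A] in
theorem theta_sq (hcomm : ∀ a b : A, a * b = b * a) (hν3 : ∀ a, ν (ν (ν a)) = a)
    (hfpf : ∀ a : A, ν a = a → a = 1) (ψ : IrrCharacter A) {z : A} (hz : z * z = 1) :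
    theta ν ψ z * theta ν ψ z = 3 + 2 * theta ν ψ z := by
  unfold theta
  have e₀ : (ψ : A → ℂ) z * (ψ : A → ℂ) z = 1 := by
    rw [← lin_mul hcomm, hz, lin_one hcomm]
  have e₁ : (ψ : A → ℂ) (ν z) * (ψ : A → ℂ) (ν z) = 1 := by
    rw [← lin_mul hcomm, ← map_mul, hz, map_one, lin_one hcomm]
  have e₂ : (ψ : A → ℂ) (ν (ν z)) * (ψ : A → ℂ) (ν (ν z)) = 1 := by
    rw [← lin_mul hcomm, ← map_mul, ← map_mul, hz, map_one, map_one, lin_one hcomm]
  have e₃ : (ψ : A → ℂ) z * (ψ : A → ℂ) (ν z) * (ψ : A → ℂ) (ν (ν z)) = 1 := by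
    rw [← lin_mul hcomm, ← lin_mul hcomm, prod_orbit_eq_one ν hcomm hν3 hfpf, lin_one hcomm]
  linear_combination (e₀ + e₁ + e₂) +
    2 * ((ψ : A → ℂ) (ν (ν z)) * e₃ - (ψ : A → ℂ) z * (ψ : A → ℂ) (ν z) * e₂) +
    2 * ((ψ : A → ℂ) (ν z) * e₃ - (ψ : A → ℂ) z * (ψ : A → ℂ) (ν (ν z)) * e₁) +
    2 * ((ψ : A → ℂ) z * e₃ - (ψ : A → ℂ) (ν z) * (ψ : A → ℂ) (ν (ν z)) * e₀)

/-- the weighted sum of the squared orbit sums -/
theorem theta_sum (hcomm : ∀ a b : A, a * b = b * a) (hν3 : ∀ a, ν (ν (ν a)) = a)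
    (hfpf : ∀ a : A, ν a = a → a = 1) {z p : A} (hz : z * z = 1) (hp : p * p ≠ 1) :
    ∑ ψ : IrrCharacter A, conj ((ψ : A → ℂ) p) * (theta ν ψ z * theta ν ψ z) = 0 := by
  have hp1 : p ≠ 1 := by
    intro h
    apply hp
    rw [h, mul_one]
  have hne : ∀ u : A, u * u = 1 → u ≠ p := by
    intro u hu h
    apply hp
    rw [← h, hu]
  have h0 : z ≠ p := hne z hz
  have h1 : ν z ≠ p := hne _ (by rw [← map_mul, hz, map_one])
  have h2 : ν (ν z) ≠ p := hne _ (by rw [← map_mul, ← map_mul, hz, map_one, map_one])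
  have e : ∀ ψ : IrrCharacter A, conj ((ψ : A → ℂ) p) * (theta ν ψ z * theta ν ψ z) =
      3 * conj ((ψ : A → ℂ) p) + 2 * ((ψ : A → ℂ) z * conj ((ψ : A → ℂ) p)) +
        2 * ((ψ : A → ℂ) (ν z) * conj ((ψ : A → ℂ) p)) +
        2 * ((ψ : A → ℂ) (ν (ν z)) * conj ((ψ : A → ℂ) p)) := by
    intro ψ
    rw [theta_sq ν hcomm hν3 hfpf ψ hz]
    unfold theta
    ring
  simp only [e]
  rw [Finset.sum_add_distrib, Finset.sum_add_distrib, Finset.sum_add_distrib,
    ← Finset.mul_sum, ← Finset.mul_sum, ← Finset.mul_sum, ← Finset.mul_sum,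
    sum_irr_conj' hcomm, sum_irr_conj hcomm, sum_irr_conj hcomm, sum_irr_conj hcomm,
    if_neg hp1, if_neg h0, if_neg h1, if_neg h2]
  ring

end Theta

section Rest

variable {A : Type u} [Group A] [Fintype A] [Fintype (IrrCharacter A)] [DecidableEq A]
variable (ν : A ≃* A)

omit [DecidableEq A] [Fintype (IrrCharacter A)] in
theorem nInd_principal (ψ : IrrCharacter A) (hψ : ψ ≠ principalChar A) :
    nInd ν ψ (principalChar A) = 0 := by
  unfold nInd
  rw [compIrr_principal, compIrr_principal, if_neg hψ]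
  norm_num

omit [DecidableEq A] in
theorem sum_nInd (hν3 : ∀ a, ν (ν (ν a)) = a) (ψ : IrrCharacter A)
    (F : IrrCharacter A → ℂ) :
    ∑ ψ' : IrrCharacter A, F ψ' * ((nInd ν ψ ψ' : ℤ) : ℂ) =
      F ψ + F (compIrr ν (compIrr ν ψ)) + F (compIrr ν ψ) := by
  classical
  have e : ∀ ψ' : IrrCharacter A, F ψ' * ((nInd ν ψ ψ' : ℤ) : ℂ) =
      (if ψ' = ψ then F ψ' else 0) + (if ψ' = compIrr ν (compIrr ν ψ) then F ψ' else 0) +
        (if ψ' = compIrr ν ψ then F ψ' else 0) := by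
    intro ψ'
    unfold nInd
    have c1 : (ψ = ψ') ↔ (ψ' = ψ) := eq_comm
    have c2 := eq_compIrr_iff ν hν3 ψ ψ'
    have c3 := eq_compIrr_sq_iff ν hν3 ψ ψ'
    have i1 : (if ψ = ψ' then (1 : ℤ) else 0) = if ψ' = ψ then 1 else 0 := by
      by_cases h : ψ' = ψ
      · rw [if_pos h, if_pos h.symm]
      · rw [if_neg h, if_neg (fun h' => h h'.symm)]
    have i2 : (if ψ = compIrr ν ψ' then (1 : ℤ) else 0) =
        if ψ' = compIrr ν (compIrr ν ψ) then 1 else 0 := by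
      by_cases h : ψ' = compIrr ν (compIrr ν ψ)
      · rw [if_pos h, if_pos (c2.2 h)]
      · rw [if_neg h, if_neg (fun h' => h (c2.1 h'))]
    have i3 : (if ψ = compIrr ν (compIrr ν ψ') then (1 : ℤ) else 0) =
        if ψ' = compIrr ν ψ then 1 else 0 := by
      by_cases h : ψ' = compIrr ν ψ
      · rw [if_pos h, if_pos (c3.2 h)]
      · rw [if_neg h, if_neg (fun h' => h (c3.1 h'))]
    rw [i1, i2, i3]
    push_cast
    split_ifs <;> ring
  simp only [e]
  rw [Finset.sum_add_distrib, Finset.sum_add_distrib, Finset.sum_ite_eq', Finset.sum_ite_eq',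
    Finset.sum_ite_eq']
  simp only [Finset.mem_univ, if_true]

/-- the contribution of the exceptional characters to the class multiplication relation -/
theorem rest_sum (hcomm : ∀ a b : A, a * b = b * a) (hν3 : ∀ a, ν (ν (ν a)) = a)
    (hfpf : ∀ a : A, ν a = a → a = 1) {ι : Type*} [DecidableEq ι] (S : Finset ι)
    (f : ι → A → ℂ) (d : ι → ℕ) (y : ℤ)
    (hchar : ∀ x ∈ S, IsCharacter A (f x))
    (hgram : ∀ ψ ψ' : IrrCharacter A, ψ ≠ principalChar A → ψ' ≠ principalChar A →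
      ∑ x ∈ S, bint (f x) ψ * bint (f x) ψ' = nInd ν ψ ψ')
    (hdeg : ∀ ψ : IrrCharacter A, ψ ≠ principalChar A →
      ∑ x ∈ S, (d x : ℤ) * bint (f x) ψ = y)
    (hdpos : ∀ x ∈ S, 0 < d x) (hy : y ≠ 0)
    {z p : A} (hz1 : z ≠ 1) (hz : z * z = 1) (hp : p * p ≠ 1) :
    ∑ x ∈ S, f x z * f x z * conj (f x p) / (d x : ℂ) = -9 / (y : ℂ) := by
  classical
  have hp1 : p ≠ 1 := by
    intro h
    apply hp
    rw [h, mul_one]
  have hyc : (y : ℂ) ≠ 0 := by exact_mod_cast hy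
  -- the data attached to a nontrivial linear character
  have hdata : ∀ ψ : IrrCharacter A, ψ ≠ principalChar A → ∃ x ∈ S,
      bint (f x) ψ * bint (f x) ψ = 1 ∧ (∀ x' ∈ S, x' ≠ x → bint (f x') ψ = 0) ∧
      (d x : ℤ) * bint (f x) ψ = y := by
    intro ψ hψ
    have h1 := hgram ψ ψ hψ hψ
    rw [nInd_self ν hcomm hν3 hfpf hψ] at h1
    obtain ⟨x, hx, hx1, hx0⟩ := single_support S (fun x => bint (f x) ψ) h1
    refine ⟨x, hx, hx1, hx0, ?_⟩
    have h2 := hdeg ψ hψ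
    rw [Finset.sum_eq_single x] at h2
    · exact h2
    · intro x' hx' hne
      rw [hx0 x' hx' hne, mul_zero]
    · intro h
      exact absurd hx h
  -- Step B
  have hB : ∀ x ∈ S, ∀ ψ : IrrCharacter A, ((bint (f x) ψ : ℤ) : ℂ) / (d x : ℂ) =
      ((bint (f x) ψ : ℤ) : ℂ) * (bint (f x) ψ : ℂ) / (y : ℂ) := by
    intro x hx ψ
    by_cases hψ : ψ = principalChar A
    · rw [hψ, bint_principal]
      simp
    obtain ⟨x', hx', h1, h0, hy'⟩ := hdata ψ hψ
    by_cases hxx : x = x'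
    · subst hxx
      have hd : (d x : ℂ) ≠ 0 := by exact_mod_cast (hdpos x hx).ne'
      have e : (d x : ℂ) * (bint (f x) ψ : ℂ) = y := by exact_mod_cast hy'
      rw [div_eq_div_iff hd hyc, ← e]
      ring
    · rw [h0 x hx hxx]
      simp
  -- Step G
  have hG : ∀ ψ : IrrCharacter A, ψ ≠ principalChar A →
      ∑ x ∈ S, ((bint (f x) ψ : ℤ) : ℂ) * f x z = theta ν ψ z := by
    intro ψ hψ
    have e1 : ∀ x ∈ S, ((bint (f x) ψ : ℤ) : ℂ) * f x z =
        ∑ ψ' : IrrCharacter A, (ψ' : A → ℂ) z *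
          (((bint (f x) ψ * bint (f x) ψ' : ℤ)) : ℂ) := by
      intro x hx
      rw [value_bint hcomm (hchar x hx) z hz1, Finset.mul_sum]
      refine Finset.sum_congr rfl fun ψ' _ => ?_
      push_cast
      ring
    rw [Finset.sum_congr rfl e1, Finset.sum_comm]
    have e2 : ∀ ψ' : IrrCharacter A, ∑ x ∈ S, (ψ' : A → ℂ) z *
        (((bint (f x) ψ * bint (f x) ψ' : ℤ)) : ℂ) =
        (ψ' : A → ℂ) z * ((nInd ν ψ ψ' : ℤ) : ℂ) := by
      intro ψ'
      rw [← Finset.mul_sum, ← Int.cast_sum]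
      congr 2
      by_cases hψ' : ψ' = principalChar A
      · rw [hψ', nInd_principal ν ψ hψ]
        apply Finset.sum_eq_zero
        intro x _
        rw [bint_principal, mul_zero]
      · exact hgram ψ ψ' hψ hψ'
    rw [Finset.sum_congr rfl (fun ψ' _ => e2 ψ'),
      sum_nInd ν hν3 ψ (fun ψ' => (ψ' : A → ℂ) z)]
    unfold theta
    simp only [compIrr_apply]
    ring
  -- Step F
  have hF : ∀ ψ : IrrCharacter A, ψ ≠ principalChar A →
      ∑ x ∈ S, ((bint (f x) ψ : ℤ) : ℂ) * (bint (f x) ψ : ℂ) * (f x z * f x z) =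
        theta ν ψ z * theta ν ψ z := by
    intro ψ hψ
    obtain ⟨x', hx', h1, h0, -⟩ := hdata ψ hψ
    have h1c : ((bint (f x') ψ : ℤ) : ℂ) * (bint (f x') ψ : ℂ) = 1 := by exact_mod_cast h1
    rw [← hG ψ hψ, Finset.sum_eq_single x', Finset.sum_eq_single x']
    · rw [h1c]
      linear_combination (-(f x' z * f x' z)) * h1c
    · intro x hx hne
      rw [h0 x hx hne, Int.cast_zero, zero_mul]
    · intro h
      exact absurd hx' h
    · intro x hx hne
      rw [h0 x hx hne, Int.cast_zero, zero_mul, zero_mul]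
    · intro h
      exact absurd hx' h
  -- the terms
  have hT : ∀ x ∈ S, f x z * f x z * conj (f x p) / (d x : ℂ) =
      (y : ℂ)⁻¹ * ∑ ψ : IrrCharacter A, conj ((ψ : A → ℂ) p) *
        (((bint (f x) ψ : ℤ) : ℂ) * (bint (f x) ψ : ℂ) * (f x z * f x z)) := by
    intro x hx
    have e1 : conj (f x p) = ∑ ψ : IrrCharacter A,
        ((bint (f x) ψ : ℤ) : ℂ) * conj ((ψ : A → ℂ) p) := by
      rw [value_bint hcomm (hchar x hx) p hp1, map_sum]
      refine Finset.sum_congr rfl fun ψ _ => ?_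
      rw [map_mul, map_intCast]
    rw [mul_div_assoc, e1, Finset.sum_div, Finset.mul_sum, Finset.mul_sum]
    refine Finset.sum_congr rfl fun ψ _ => ?_
    rw [mul_div_right_comm, hB x hx ψ]
    field_simp
  rw [Finset.sum_congr rfl hT, ← Finset.mul_sum, Finset.sum_comm]
  have hinner : ∀ ψ : IrrCharacter A, ∑ x ∈ S, conj ((ψ : A → ℂ) p) *
      (((bint (f x) ψ : ℤ) : ℂ) * (bint (f x) ψ : ℂ) * (f x z * f x z)) =
      conj ((ψ : A → ℂ) p) * (theta ν ψ z * theta ν ψ z) -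
        (if ψ = principalChar A then 9 else 0) := by
    intro ψ
    rw [← Finset.mul_sum]
    by_cases hψ : ψ = principalChar A
    · rw [if_pos hψ, hψ]
      have : ∑ x ∈ S, ((bint (f x) (principalChar A) : ℤ) : ℂ) *
          (bint (f x) (principalChar A) : ℂ) * (f x z * f x z) = 0 := by
        apply Finset.sum_eq_zero
        intro x _
        rw [bint_principal, Int.cast_zero, zero_mul, zero_mul]
      rw [this]
      unfold theta
      simp only [principalChar_apply, map_one]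
      norm_num
    · rw [if_neg hψ, hF ψ hψ, sub_zero]
  rw [Finset.sum_congr rfl (fun ψ _ => hinner ψ), Finset.sum_sub_distrib,
    theta_sum ν hcomm hν3 hfpf hz hp, Finset.sum_ite_eq']
  simp only [Finset.mem_univ, if_true]
  field_simp
  ring

end Rest

end Cfsg.Agent.Helper7.Homo
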