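import Mathlib
import Cfsg.Agent.Lib.Helper7.Homo5

/-!
# Principal blocks with a Frobenius-type action of `N(P)/C(P)` on an abelian Sylow subgroup:
the Gram relations for a cyclic group of automorphisms of arbitrary order (helper7's library)
-/

set_option autoImplicit false

namespace Cfsg.Agent.Helper7.Frob

open Cfsg Cfsg.Agent.Helper24 Cfsg.Agent.Helper7.Homo
open scoped ComplexConjugate

universe u

section Gram

variable {A : Type u} [Group A] [Fintype A] [Fintype (IrrCharacter A)] [DecidableEq A]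
variable {ι : Type*} (X : Finset ι) (f : ι → A → ℂ) (ν : MulAut A) (m : ℕ)

omit [Fintype A] [Fintype (IrrCharacter A)] [DecidableEq A] in
theorem compIrr_pow_ne_principal (k : ℕ) {ψ : IrrCharacter A} (hψ : ψ ≠ principalChar A) :
    compIrr (ν ^ k) ψ ≠ principalChar A := by
  intro h
  apply hψ
  apply compIrr_injective (ν ^ k)
  rw [h, compIrr_principal]

/-- **The Gram relations** for the reduced multiplicities, for a cyclic group of automorphisms
of order `m`. -/
theorem gram_bco_gen (hcomm : ∀ a b : A, a * b = b * a)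
    (hcol : ∀ a a' : A, a ≠ 1 → a' ≠ 1 → ∑ x ∈ X, f x a * conj (f x a') =
      (Nat.card A : ℂ) * ∑ k ∈ Finset.range m, (if a' = (ν ^ k) a then (1 : ℂ) else 0))
    (ψ ψ' : IrrCharacter A) (hψ : ψ ≠ principalChar A) (hψ' : ψ' ≠ principalChar A) :
    ∑ x ∈ X, bco (f x) ψ * conj (bco (f x) ψ') =
      (m : ℂ) + ∑ k ∈ Finset.range m, (if ψ = compIrr (ν ^ k) ψ' then (1 : ℂ) else 0) := by
  have hc : (Nat.card A : ℂ) ≠ 0 := card_ne_zero'
  set w : A → ℂ := fun a => conj ((ψ : A → ℂ) a) - 1 with hw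
  set w' : A → ℂ := fun a => (ψ' : A → ℂ) a - 1 with hw'
  have hw1 : w 1 = 0 := by
    simp only [hw]
    rw [lin_one hcomm, map_one, sub_self]
  have hw'1 : w' 1 = 0 := by
    simp only [hw']
    rw [lin_one hcomm, sub_self]
  set ind : A → A → ℂ := fun a a' =>
    ∑ k ∈ Finset.range m, (if a' = (ν ^ k) a then (1 : ℂ) else 0) with hind
  have hcol' : ∀ a a', w a * w' a' * ∑ x ∈ X, f x a * conj (f x a') =
      w a * w' a' * ((Nat.card A : ℂ) * ind a a') := by
    intro a a'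
    by_cases ha : a = 1
    · rw [ha, hw1, zero_mul, zero_mul, zero_mul]
    by_cases ha' : a' = 1
    · rw [ha', hw'1, mul_zero, zero_mul, zero_mul]
    rw [hcol a a' ha ha']
  have h1 : ∀ x, bco (f x) ψ * conj (bco (f x) ψ') = (Nat.card A : ℂ)⁻¹ * (Nat.card A : ℂ)⁻¹ *
      ∑ a, ∑ a', w a * w' a' * (f x a * conj (f x a')) := by
    intro x
    rw [bco_eq, conj_bco_eq, mul_mul_mul_comm, Finset.sum_mul_sum]
    congr 1
    refine Finset.sum_congr rfl fun a _ => Finset.sum_congr rfl fun a' _ => ?_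
    simp only [hw, hw']
    ring
  have h2 : ∀ a, ∑ a', w a * w' a' * ((Nat.card A : ℂ) * ind a a') =
      (Nat.card A : ℂ) * (w a * ∑ k ∈ Finset.range m, w' ((ν ^ k) a)) := by
    intro a
    have e : ∀ a', w a * w' a' * ((Nat.card A : ℂ) * ind a a') =
        (Nat.card A : ℂ) * w a *
          ∑ k ∈ Finset.range m, (if a' = (ν ^ k) a then w' a' else 0) := by
      intro a'
      simp only [hind]
      rw [Finset.mul_sum, Finset.mul_sum, Finset.mul_sum]
      refine Finset.sum_congr rfl fun k _ => ?_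
      split_ifs <;> ring
    simp only [e]
    rw [← Finset.mul_sum, Finset.sum_comm]
    simp only [Finset.sum_ite_eq', Finset.mem_univ, if_true]
    ring
  have h3 : ∑ a, w a * ∑ k ∈ Finset.range m, w' ((ν ^ k) a) =
      (Nat.card A : ℂ) * ((m : ℂ) +
        ∑ k ∈ Finset.range m, (if ψ = compIrr (ν ^ k) ψ' then (1 : ℂ) else 0)) := by
    have e : ∀ a, w a * ∑ k ∈ Finset.range m, w' ((ν ^ k) a) =
        ∑ k ∈ Finset.range m, (conj ((ψ : A → ℂ) a) - 1) *
          ((compIrr (ν ^ k) ψ' : A → ℂ) a - 1) := by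
      intro a
      rw [Finset.mul_sum]
      rfl
    simp only [e]
    rw [Finset.sum_comm]
    have e2 : ∀ k ∈ Finset.range m, ∑ a : A, (conj ((ψ : A → ℂ) a) - 1) *
          ((compIrr (ν ^ k) ψ' : A → ℂ) a - 1) =
        (Nat.card A : ℂ) * ((if ψ = compIrr (ν ^ k) ψ' then 1 else 0) + 1) := by
      intro k _
      exact sum_weight ψ _ hψ (compIrr_pow_ne_principal ν k hψ')
    rw [Finset.sum_congr rfl e2, ← Finset.mul_sum, Finset.sum_add_distrib]
    simp only [Finset.sum_const, Finset.card_range, nsmul_eq_mul, mul_one]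
    ring
  calc ∑ x ∈ X, bco (f x) ψ * conj (bco (f x) ψ')
      = (Nat.card A : ℂ)⁻¹ * (Nat.card A : ℂ)⁻¹ *
          ∑ a, ∑ a', w a * w' a' * ∑ x ∈ X, f x a * conj (f x a') := by
        simp only [h1]
        rw [← Finset.mul_sum]
        congr 1
        rw [Finset.sum_comm]
        refine Finset.sum_congr rfl fun a _ => ?_
        rw [Finset.sum_comm]
        refine Finset.sum_congr rfl fun a' _ => ?_
        rw [Finset.mul_sum]
    _ = (Nat.card A : ℂ)⁻¹ * (Nat.card A : ℂ)⁻¹ *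
          ∑ a, ∑ a', w a * w' a' * ((Nat.card A : ℂ) * ind a a') := by
        simp only [hcol']
    _ = (Nat.card A : ℂ)⁻¹ * (Nat.card A : ℂ)⁻¹ * ((Nat.card A : ℂ) *
          ∑ a, w a * ∑ k ∈ Finset.range m, w' ((ν ^ k) a)) := by
        simp only [h2]
        rw [← Finset.mul_sum]
    _ = _ := by
        rw [h3]
        field_simp

/-- the orbit indicator -/
noncomputable def nIndG (ψ ψ' : IrrCharacter A) : ℤ :=
  ∑ k ∈ Finset.range m, (if ψ = compIrr (ν ^ k) ψ' then 1 else 0)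

/-- the integral Gram relations -/
theorem gram_bint_gen (hcomm : ∀ a b : A, a * b = b * a)
    (hchar : ∀ x ∈ X, IsCharacter A (f x))
    (hcol : ∀ a a' : A, a ≠ 1 → a' ≠ 1 → ∑ x ∈ X, f x a * conj (f x a') =
      (Nat.card A : ℂ) * ∑ k ∈ Finset.range m, (if a' = (ν ^ k) a then (1 : ℂ) else 0))
    (ψ ψ' : IrrCharacter A) (hψ : ψ ≠ principalChar A) (hψ' : ψ' ≠ principalChar A) :
    ∑ x ∈ X, bint (f x) ψ * bint (f x) ψ' = (m : ℤ) + nIndG ν m ψ ψ' := by
  have h := gram_bco_gen X f ν m hcomm hcol ψ ψ' hψ hψ'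
  have h2 : ∑ x ∈ X, bco (f x) ψ * conj (bco (f x) ψ') =
      ((∑ x ∈ X, bint (f x) ψ * bint (f x) ψ' : ℤ) : ℂ) := by
    rw [Int.cast_sum]
    refine Finset.sum_congr rfl fun x hx => ?_
    rw [conj_bco (hchar x hx), Int.cast_mul, bint_spec (hchar x hx), bint_spec (hchar x hx)]
  rw [h2] at h
  have h3 : (((m : ℤ) + nIndG ν m ψ ψ' : ℤ) : ℂ) =
      (m : ℂ) + ∑ k ∈ Finset.range m, (if ψ = compIrr (ν ^ k) ψ' then (1 : ℂ) else 0) := by
    unfold nIndG
    push_cast
    rfl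
  rw [← h3] at h
  exact_mod_cast h

/-- orthogonality against a weight vector -/
theorem weight_bco (hcomm : ∀ a b : A, a * b = b * a) (w : ι → ℂ)
    (hB : ∀ a : A, a ≠ 1 → ∑ x ∈ X, w x * f x a = 0)
    (ψ : IrrCharacter A) :
    ∑ x ∈ X, w x * bco (f x) ψ = 0 := by
  have e : ∀ x, w x * bco (f x) ψ = (Nat.card A : ℂ)⁻¹ *
      ∑ a : A, (conj ((ψ : A → ℂ) a) - 1) * (w x * f x a) := by
    intro x
    rw [bco_eq, Finset.mul_sum, Finset.mul_sum, Finset.mul_sum]
    refine Finset.sum_congr rfl fun a _ => ?_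
    ring
  simp only [e]
  rw [← Finset.mul_sum, Finset.sum_comm]
  have : ∀ a : A, ∑ x ∈ X, (conj ((ψ : A → ℂ) a) - 1) * (w x * f x a) = 0 := by
    intro a
    rw [← Finset.mul_sum]
    by_cases ha : a = 1
    · rw [ha, lin_one hcomm, map_one, sub_self, zero_mul]
    · rw [hB a ha, mul_zero]
  simp only [this, Finset.sum_const_zero, mul_zero]

theorem weight_bint (hcomm : ∀ a b : A, a * b = b * a)
    (hchar : ∀ x ∈ X, IsCharacter A (f x)) (w : ι → ℂ)
    (hB : ∀ a : A, a ≠ 1 → ∑ x ∈ X, w x * f x a = 0)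
    (ψ : IrrCharacter A) :
    ∑ x ∈ X, w x * (bint (f x) ψ : ℂ) = 0 := by
  rw [← weight_bco X f hcomm w hB ψ]
  refine Finset.sum_congr rfl fun x hx => ?_
  rw [bint_spec (hchar x hx)]

end Gram

section Orbit

variable {A : Type u} [Group A] [Fintype A] [Fintype (IrrCharacter A)]
variable (ν : MulAut A) (m : ℕ)

omit [Fintype A] [Fintype (IrrCharacter A)] in
theorem compIrr_compIrr (σ τ : MulAut A) (ψ : IrrCharacter A) :
    compIrr σ (compIrr τ ψ) = compIrr (τ * σ) ψ := by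
  apply Subtype.ext
  funext a
  rfl

omit [Fintype A] [Fintype (IrrCharacter A)] in
theorem compIrr_one (ψ : IrrCharacter A) : compIrr (1 : MulAut A) ψ = ψ := by
  apply Subtype.ext
  funext a
  rfl

omit [Fintype A] [Fintype (IrrCharacter A)] in
theorem compIrr_pow_pow (j k : ℕ) (ψ : IrrCharacter A) :
    compIrr (ν ^ j) (compIrr (ν ^ k) ψ) = compIrr (ν ^ (k + j)) ψ := by
  rw [compIrr_compIrr, pow_add]

/-- the orbit relation on the linear characters -/
def orel (ψ ψ' : IrrCharacter A) : Prop := ∃ k < m, ψ = compIrr (ν ^ k) ψ'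

omit [Fintype A] [Fintype (IrrCharacter A)] in
theorem orel_refl (hm : 0 < m) (ψ : IrrCharacter A) : orel ν m ψ ψ :=
  ⟨0, hm, by rw [pow_zero, compIrr_one]⟩

omit [Fintype A] [Fintype (IrrCharacter A)] in
theorem orel_symm (hνm : ν ^ m = 1) {ψ ψ' : IrrCharacter A} (h : orel ν m ψ ψ') :
    orel ν m ψ' ψ := by
  obtain ⟨k, hk, rfl⟩ := h
  by_cases hk0 : k = 0
  · subst hk0
    exact ⟨0, hk, by rw [pow_zero, compIrr_one, compIrr_one]⟩
  · refine ⟨m - k, by omega, ?_⟩
    rw [compIrr_pow_pow, show k + (m - k) = m by omega, hνm, compIrr_one]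

omit [Fintype A] [Fintype (IrrCharacter A)] in
theorem orel_trans (hm : 0 < m) (hνm : ν ^ m = 1) {ψ ψ' ψ'' : IrrCharacter A}
    (h : orel ν m ψ ψ') (h' : orel ν m ψ' ψ'') : orel ν m ψ ψ'' := by
  obtain ⟨k, _, rfl⟩ := h
  obtain ⟨j, _, rfl⟩ := h'
  refine ⟨(j + k) % m, Nat.mod_lt _ hm, ?_⟩
  rw [compIrr_pow_pow, pow_eq_pow_mod (j + k) hνm]

omit [Fintype A] [Fintype (IrrCharacter A)] in
theorem orel_principal {ψ : IrrCharacter A} (h : orel ν m ψ (principalChar A)) :
    ψ = principalChar A := by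
  obtain ⟨k, _, rfl⟩ := h
  exact compIrr_principal _

/-- the group of automorphisms acts semiregularly on the nontrivial linear characters -/
theorem orel_unique (hcomm : ∀ a b : A, a * b = b * a)
    (hfpf : ∀ k : ℕ, 0 < k → k < m → ∀ a : A, (ν ^ k) a = a → a = 1)
    {ψ' : IrrCharacter A} (hψ' : ψ' ≠ principalChar A) {j k : ℕ} (hj : j < m) (hk : k < m)
    (h : compIrr (ν ^ j) ψ' = compIrr (ν ^ k) ψ') : j = k := by
  wlog hjk : j ≤ k generalizing j k
  · exact (this hk hj h.symm (by omega)).symm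
  by_contra hne
  have hlt : j < k := lt_of_le_of_ne hjk hne
  have h1 : compIrr (ν ^ (k - j)) (compIrr (ν ^ j) ψ') = compIrr (ν ^ j) ψ' := by
    rw [compIrr_pow_pow, show j + (k - j) = k by omega]
    exact h.symm
  have h2 := compIrr_fpf hcomm (ν ^ (k - j)) (hfpf (k - j) (by omega) (by omega)) _ h1
  exact compIrr_pow_ne_principal ν j hψ' h2

theorem nIndG_eq (hcomm : ∀ a b : A, a * b = b * a)
    (hfpf : ∀ k : ℕ, 0 < k → k < m → ∀ a : A, (ν ^ k) a = a → a = 1)
    (ψ : IrrCharacter A) {ψ' : IrrCharacter A} (hψ' : ψ' ≠ principalChar A)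
    [Decidable (orel ν m ψ ψ')] :
    nIndG ν m ψ ψ' = if orel ν m ψ ψ' then 1 else 0 := by
  classical
  unfold nIndG
  by_cases h : orel ν m ψ ψ'
  · rw [if_pos h]
    obtain ⟨k₀, hk₀, rfl⟩ := h
    rw [Finset.sum_eq_single k₀]
    · rw [if_pos rfl]
    · intro k hk hne
      rw [if_neg]
      intro h'
      exact hne (orel_unique ν m hcomm hfpf hψ' (Finset.mem_range.1 hk) hk₀ h'.symm)
    · intro h
      exact absurd (Finset.mem_range.2 hk₀) h
  · rw [if_neg h]
    apply Finset.sum_eq_zero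
    intro k hk
    rw [if_neg]
    intro h'
    exact h ⟨k, Finset.mem_range.1 hk, h'⟩

theorem sum_nIndG (ψ₀ : IrrCharacter A) (F : IrrCharacter A → ℂ) :
    ∑ ψ : IrrCharacter A, F ψ * ((nIndG ν m ψ ψ₀ : ℤ) : ℂ) =
      ∑ k ∈ Finset.range m, F (compIrr (ν ^ k) ψ₀) := by
  classical
  unfold nIndG
  have e : ∀ ψ : IrrCharacter A, F ψ * ((∑ k ∈ Finset.range m,
      (if ψ = compIrr (ν ^ k) ψ₀ then 1 else 0) : ℤ) : ℂ) =
      ∑ k ∈ Finset.range m, (if ψ = compIrr (ν ^ k) ψ₀ then F ψ else 0) := by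
    intro ψ
    push_cast
    rw [Finset.mul_sum]
    refine Finset.sum_congr rfl fun k _ => ?_
    split_ifs <;> simp
  simp only [e]
  rw [Finset.sum_comm]
  simp only [Finset.sum_ite_eq', Finset.mem_univ, if_true]

end Orbit

end Cfsg.Agent.Helper7.Frob
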