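import Mathlib
import Cfsg.Agent.Lib.Helper7.Homo5

/-!
# The lattice argument for exceptional characters (helper7's library)

Integer vectors with Gram matrix `m + [i ~ j]`, orthogonal differences to a positive vector.
-/

set_option autoImplicit false

namespace Cfsg.Agent.Helper7.Frob

open Cfsg.Agent.Helper7.Homo

section Lattice

variable {ι κ : Type*} [DecidableEq ι]

/-- an integer vector of square length two which is orthogonal to a positive vector -/
theorem norm_two (X : Finset ι) (u d : ι → ℤ) (hd : ∀ x ∈ X, 0 < d x)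
    (h2 : ∑ x ∈ X, u x * u x = 2) (h0 : ∑ x ∈ X, d x * u x = 0) :
    ∃ α ∈ X, ∃ β ∈ X, α ≠ β ∧ u α = 1 ∧ u β = -1 ∧ ∀ y ∈ X, y ≠ α → y ≠ β → u y = 0 := by
  have hex : ∃ x ∈ X, u x ≠ 0 := by
    by_contra hcon
    push Not at hcon
    have : ∑ x ∈ X, u x * u x = 0 := by
      apply Finset.sum_eq_zero
      intro x hx
      rw [hcon x hx, mul_zero]
    omega
  obtain ⟨x₁, hx₁, hu₁⟩ := hex
  have hle : u x₁ * u x₁ ≤ 2 := by
    rw [← h2]
    exact Finset.single_le_sum (f := fun x => u x * u x) (fun i _ => mul_self_nonneg _) hx₁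
  have hsq₁ : u x₁ * u x₁ = 1 := by
    have h1 : -1 ≤ u x₁ := by nlinarith
    have h2 : u x₁ ≤ 1 := by nlinarith
    have h3 : u x₁ = 1 ∨ u x₁ = -1 := by omega
    rcases h3 with h | h <;> rw [h] <;> norm_num
  have hrest : ∑ x ∈ X.erase x₁, u x * u x = 1 := by
    have := Finset.add_sum_erase X (fun x => u x * u x) hx₁
    omega
  obtain ⟨x₂, hx₂, hsq₂, hzero⟩ := single_support (X.erase x₁) u hrest
  have hx₂X : x₂ ∈ X := Finset.mem_of_mem_erase hx₂
  have hne : x₂ ≠ x₁ := Finset.ne_of_mem_erase hx₂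
  have hz : ∀ y ∈ X, y ≠ x₁ → y ≠ x₂ → u y = 0 := by
    intro y hy h1 h2
    exact hzero y (Finset.mem_erase.2 ⟨h1, hy⟩) h2
  have hsum : d x₁ * u x₁ + d x₂ * u x₂ = 0 := by
    rw [← h0, ← Finset.add_sum_erase X _ hx₁, ← Finset.add_sum_erase (X.erase x₁) _ hx₂]
    have : ∑ x ∈ (X.erase x₁).erase x₂, d x * u x = 0 := by
      apply Finset.sum_eq_zero
      intro y hy
      rw [Finset.mem_erase, Finset.mem_erase] at hy
      rw [hz y hy.2.2 hy.2.1 hy.1, mul_zero]
    rw [this, add_zero]
  have hd₁ := hd x₁ hx₁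
  have hd₂ := hd x₂ hx₂X
  rcases sq_one_cases hsq₁ with h1 | h1 <;> rcases sq_one_cases hsq₂ with h2 | h2
  · rw [h1, h2] at hsum; omega
  · exact ⟨x₁, hx₁, x₂, hx₂X, hne.symm, h1, h2, hz⟩
  · exact ⟨x₂, hx₂X, x₁, hx₁, hne, h2, h1, fun y hy ha hb => hz y hy hb ha⟩
  · rw [h1, h2] at hsum; omega

/-- evaluating a sum against a difference of two unit vectors -/
theorem sum_mul_unit_sub (X : Finset ι) (F : ι → ℤ) {α β : ι} (hα : α ∈ X) (hβ : β ∈ X) :
    ∑ y ∈ X, F y * ((if y = α then 1 else 0) - (if y = β then 1 else 0)) = F α - F β := by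
  have e : ∀ y, F y * ((if y = α then (1 : ℤ) else 0) - (if y = β then 1 else 0)) =
      (if y = α then F y else 0) - (if y = β then F y else 0) := by
    intro y
    split_ifs <;> ring
  simp only [e]
  rw [Finset.sum_sub_distrib, Finset.sum_ite_eq' X α, Finset.sum_ite_eq' X β, if_pos hα,
    if_pos hβ]

/-- **The lattice lemma.** Integer vectors `v i` with Gram matrix `m + [R i j]`, whose
differences are orthogonal to a positive vector, are of the form `c + δ e_{x i}`. -/
theorem lattice_core (X : Finset ι) (v : κ → ι → ℤ) (R : κ → κ → Prop) [DecidableRel R]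
    (hRrefl : ∀ i, R i i) (m : ℤ)
    (hgram : ∀ i j, ∑ x ∈ X, v i x * v j x = m + (if R i j then 1 else 0))
    (d : ι → ℤ) (hd : ∀ x ∈ X, 0 < d x)
    (hdeg : ∀ i j, ∑ x ∈ X, d x * v i x = ∑ x ∈ X, d x * v j x)
    (i₁ i₂ : κ) (h12 : ¬ R i₁ i₂) :
    ∃ (δ : ℤ) (c : ι → ℤ) (x : κ → ι) (d' : ℤ), (δ = 1 ∨ δ = -1) ∧ (∀ i, x i ∈ X) ∧
      (∀ i j, x i = x j ↔ R i j) ∧
      (∀ i, ∀ y ∈ X, v i y = c y + (if y = x i then δ else 0)) ∧ (∀ i, c (x i) = d') := by
  classical
  -- symmetry of `R`
  have hRsymm : ∀ i j, R i j → R j i := by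
    intro i j h
    by_contra hn
    have h1 := hgram i j
    have h2 := hgram j i
    rw [if_pos h] at h1
    rw [if_neg hn] at h2
    have : ∑ x ∈ X, v i x * v j x = ∑ x ∈ X, v j x * v i x :=
      Finset.sum_congr rfl fun x _ => mul_comm _ _
    omega
  have hnorm : ∀ i j, ∑ x ∈ X, (v i x - v j x) * (v i x - v j x) =
      2 - 2 * (if R i j then 1 else 0) := by
    intro i j
    have e : ∀ x, (v i x - v j x) * (v i x - v j x) =
        v i x * v i x - 2 * (v i x * v j x) + v j x * v j x := by intro x; ring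
    simp only [e]
    rw [Finset.sum_add_distrib, Finset.sum_sub_distrib, ← Finset.mul_sum, hgram, hgram, hgram,
      if_pos (hRrefl i), if_pos (hRrefl j)]
    ring
  have heq : ∀ i j, R i j → ∀ y ∈ X, v i y = v j y := by
    intro i j hR y hy
    have h := hnorm i j
    rw [if_pos hR] at h
    have h0 : ∑ x ∈ X, (v i x - v j x) * (v i x - v j x) = 0 := by rw [h]; ring
    have h1 := (Finset.sum_eq_zero_iff_of_nonneg (fun x _ => mul_self_nonneg _)).1 h0 y hy
    have h2 := mul_self_eq_zero.1 h1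
    linarith
  have hR_of_eq : ∀ i j, (∀ y ∈ X, v i y = v j y) → R i j := by
    intro i j h
    by_contra hn
    have h1 := hgram i j
    have h2 := hgram i i
    rw [if_neg hn] at h1
    rw [if_pos (hRrefl i)] at h2
    have : ∑ x ∈ X, v i x * v j x = ∑ x ∈ X, v i x * v i x :=
      Finset.sum_congr rfl fun x hx => by rw [h x hx]
    omega
  have hdiff : ∀ i j, ¬ R i j → ∃ α ∈ X, ∃ β ∈ X, α ≠ β ∧
      ∀ y ∈ X, v i y - v j y = (if y = α then 1 else 0) - (if y = β then 1 else 0) := by
    intro i j hR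
    have h := hnorm i j
    rw [if_neg hR] at h
    have h0 : ∑ x ∈ X, d x * (v i x - v j x) = 0 := by
      simp only [mul_sub]
      rw [Finset.sum_sub_distrib, hdeg i j, sub_self]
    obtain ⟨α, hα, β, hβ, hαβ, h1, h2, h3⟩ :=
      norm_two X (fun y => v i y - v j y) d hd (by rw [h]; ring) h0
    refine ⟨α, hα, β, hβ, hαβ, ?_⟩
    intro y hy
    by_cases hyα : y = α
    · subst hyα
      rw [if_pos rfl, if_neg hαβ]
      simpa using h1
    by_cases hyβ : y = β
    · subst hyβ
      rw [if_neg hyα, if_pos rfl]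
      simpa using h2
    · rw [if_neg hyα, if_neg hyβ]
      simpa using h3 y hy hyα hyβ
  -- the base point
  obtain ⟨α, hα, β, hβ, hαβ, h12'⟩ := hdiff i₁ i₂ h12
  have hbase : ∀ j, ∃ γ ε : ι, ¬ R i₁ j → (γ ∈ X ∧ ε ∈ X ∧ γ ≠ ε ∧
      ∀ y ∈ X, v i₁ y - v j y = (if y = γ then 1 else 0) - (if y = ε then 1 else 0)) := by
    intro j
    by_cases hj : R i₁ j
    · exact ⟨α, α, fun h => absurd hj h⟩
    · obtain ⟨γ, hγ, ε, hε, hne, h⟩ := hdiff i₁ j hj
      exact ⟨γ, ε, fun _ => ⟨hγ, hε, hne, h⟩⟩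
  choose γ ε hγε using hbase
  -- the key inner product identity
  have hkey : ∀ j j', ¬ R i₁ j → ¬ R i₁ j' →
      (if γ j = γ j' then (1 : ℤ) else 0) - (if γ j = ε j' then 1 else 0) -
        (if ε j = γ j' then 1 else 0) + (if ε j = ε j' then 1 else 0) =
        1 + (if R j j' then 1 else 0) := by
    intro j j' hj hj'
    obtain ⟨hγX, hεX, hne, hv⟩ := hγε j hj
    obtain ⟨hγX', hεX', hne', hv'⟩ := hγε j' hj'
    have h1 : ∑ y ∈ X, (v j y - v j' y) * (v i₁ y - v j y) =
        -1 + (if R j j' then 1 else 0) := by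
      have e : ∀ y, (v j y - v j' y) * (v i₁ y - v j y) =
          v j y * v i₁ y - v j y * v j y - v j' y * v i₁ y + v j' y * v j y := by intro y; ring
      simp only [e]
      rw [Finset.sum_add_distrib, Finset.sum_sub_distrib, Finset.sum_sub_distrib, hgram, hgram,
        hgram, hgram, if_neg (fun h => hj (hRsymm _ _ h)), if_pos (hRrefl j),
        if_neg (fun h => hj' (hRsymm _ _ h))]
      by_cases hR : R j j'
      · rw [if_pos hR, if_pos (hRsymm _ _ hR)]; ring
      · rw [if_neg hR, if_neg (fun h => hR (hRsymm _ _ h))]; ring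
    have h2 : ∑ y ∈ X, (v j y - v j' y) * (v i₁ y - v j y) =
        (v j (γ j) - v j' (γ j)) - (v j (ε j) - v j' (ε j)) := by
      rw [← sum_mul_unit_sub X (fun y => v j y - v j' y) hγX hεX]
      refine Finset.sum_congr rfl fun y hy => ?_
      rw [hv y hy]
    have h3 : ∀ y ∈ X, v j y - v j' y =
        ((if y = γ j' then 1 else 0) - (if y = ε j' then 1 else 0)) -
          ((if y = γ j then 1 else 0) - (if y = ε j then 1 else 0)) := by
      intro y hy
      rw [← hv y hy, ← hv' y hy]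
      ring
    rw [h2, h3 _ hγX, h3 _ hεX, if_pos rfl, if_pos rfl, if_neg hne, if_neg hne.symm] at h1
    linarith
  have hT1 : ∀ j j', ¬ R i₁ j → ¬ R i₁ j' → R j j' → γ j = γ j' ∧ ε j = ε j' := by
    intro j j' hj hj' hR
    have h := hkey j j' hj hj'
    rw [if_pos hR] at h
    by_cases h1 : γ j = γ j' <;> by_cases h2 : ε j = ε j'
    · exact ⟨h1, h2⟩
    · rw [if_pos h1, if_neg h2] at h
      split_ifs at h <;> omega
    · rw [if_neg h1, if_pos h2] at h
      split_ifs at h <;> omega
    · rw [if_neg h1, if_neg h2] at h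
      split_ifs at h <;> omega
  have hT2 : ∀ j j', ¬ R i₁ j → ¬ R i₁ j' → ¬ R j j' →
      (γ j = γ j' ∧ ε j ≠ ε j') ∨ (ε j = ε j' ∧ γ j ≠ γ j') := by
    intro j j' hj hj' hR
    have h := hkey j j' hj hj'
    rw [if_neg hR] at h
    by_cases h1 : γ j = γ j' <;> by_cases h2 : ε j = ε j'
    · exfalso
      apply hR
      apply hR_of_eq
      intro y hy
      have e1 := (hγε j hj).2.2.2 y hy
      have e2 := (hγε j' hj').2.2.2 y hy
      rw [h1, h2] at e1
      linarith
    · exact Or.inl ⟨h1, h2⟩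
    · exact Or.inr ⟨h2, h1⟩
    · rw [if_neg h1, if_neg h2] at h
      split_ifs at h <;> omega
  -- the pair attached to `i₂`
  have hγ2 : γ i₂ = α ∧ ε i₂ = β := by
    obtain ⟨hγX, hεX, hne, hv⟩ := hγε i₂ h12
    have e1 := hv α hα
    have e2 := hv β hβ
    rw [h12' α hα, if_pos rfl, if_neg hαβ] at e1
    rw [h12' β hβ, if_neg hαβ.symm, if_pos rfl] at e2
    constructor
    · by_contra h
      have hn : ¬ (α = γ i₂) := fun h' => h h'.symm
      rw [if_neg hn] at e1
      split_ifs at e1 <;> omega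
    · by_contra h
      have hn : ¬ (β = ε i₂) := fun h' => h h'.symm
      rw [if_neg hn] at e2
      split_ifs at e2 <;> omega
  -- the final verification, common to the two types
  have hfinal : ∀ (δ : ℤ) (c : ι → ℤ) (x : κ → ι), (δ = 1 ∨ δ = -1) → (∀ i, x i ∈ X) →
      (∀ i, ∀ y ∈ X, v i y = c y + (if y = x i then δ else 0)) →
      (∀ i j, x i = x j ↔ R i j) ∧ ∃ d' : ℤ, ∀ i, c (x i) = d' := by
    intro δ c x hδ hxX hvx
    have hδ2 : δ * δ = 1 := by rcases hδ with h | h <;> rw [h] <;> norm_num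
    have hδ0 : δ ≠ 0 := by rcases hδ with h | h <;> rw [h] <;> norm_num
    refine ⟨?_, c (x i₁), ?_⟩
    · intro i j
      constructor
      · intro h
        apply hR_of_eq
        intro y hy
        rw [hvx i y hy, hvx j y hy, h]
      · intro h
        have e := heq i j h (x i) (hxX i)
        rw [hvx i _ (hxX i), hvx j _ (hxX i), if_pos rfl] at e
        by_contra hne
        rw [if_neg hne] at e
        omega
    · intro i
      have hn : ∀ i, ∑ y ∈ X, v i y * v i y = ∑ y ∈ X, c y * c y + 2 * δ * c (x i) + 1 := by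
        intro i
        have e : ∀ y ∈ X, v i y * v i y = c y * c y +
            (if y = x i then 2 * δ * c y + δ * δ else 0) := by
          intro y hy
          rw [hvx i y hy]
          split_ifs <;> ring
        rw [Finset.sum_congr rfl e, Finset.sum_add_distrib, Finset.sum_ite_eq' X (x i),
          if_pos (hxX i), hδ2]
        ring
      have h1 := hn i
      have h2 := hn i₁
      rw [hgram, if_pos (hRrefl _)] at h1 h2
      have h3 : δ * c (x i) = δ * c (x i₁) := by linarith
      exact mul_left_cancel₀ hδ0 h3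
  -- the dichotomy
  by_cases hA : ∀ j, ¬ R i₁ j → γ j = α
  · -- type A
    set x : κ → ι := fun j => if R i₁ j then α else ε j with hx
    set c : ι → ℤ := fun y => v i₁ y - (if y = α then 1 else 0) with hc
    have hxX : ∀ i, x i ∈ X := by
      intro i
      simp only [hx]
      by_cases hi : R i₁ i
      · rw [if_pos hi]; exact hα
      · rw [if_neg hi]; exact (hγε i hi).2.1
    have hvx : ∀ i, ∀ y ∈ X, v i y = c y + (if y = x i then (1 : ℤ) else 0) := by
      intro i y hy
      simp only [hx, hc]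
      by_cases hi : R i₁ i
      · rw [if_pos hi, ← heq i₁ i hi y hy]
        ring
      · rw [if_neg hi]
        have e := (hγε i hi).2.2.2 y hy
        rw [hA i hi] at e
        linarith
    obtain ⟨h1, d', h2⟩ := hfinal 1 c x (Or.inl rfl) hxX hvx
    exact ⟨1, c, x, d', Or.inl rfl, hxX, h1, hvx, h2⟩
  · -- type B
    push Not at hA
    obtain ⟨j₀, hj₀, hγ₀⟩ := hA
    have hε₀ : ε j₀ = β := by
      have hR : ¬ R i₂ j₀ := by
        intro h
        apply hγ₀
        rw [← (hT1 i₂ j₀ h12 hj₀ h).1, hγ2.1]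
      rcases hT2 i₂ j₀ h12 hj₀ hR with h | h
      · exact absurd (h.1.symm.trans hγ2.1) hγ₀
      · rw [← h.1, hγ2.2]
    have hB : ∀ j, ¬ R i₁ j → ε j = β := by
      intro j hj
      by_contra hne
      have hR2 : ¬ R i₂ j := by
        intro h
        apply hne
        rw [← (hT1 i₂ j h12 hj h).2, hγ2.2]
      have hγj : γ j = α := by
        rcases hT2 i₂ j h12 hj hR2 with h | h
        · rw [← h.1, hγ2.1]
        · exact absurd (h.1.symm.trans hγ2.2) hne
      have hR0 : ¬ R j₀ j := by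
        intro h
        apply hne
        rw [← (hT1 j₀ j hj₀ hj h).2, hε₀]
      rcases hT2 j₀ j hj₀ hj hR0 with h | h
      · exact hγ₀ (h.1.trans hγj)
      · exact hne (h.1.symm.trans hε₀)
    set x : κ → ι := fun j => if R i₁ j then β else γ j with hx
    set c : ι → ℤ := fun y => v i₁ y + (if y = β then 1 else 0) with hc
    have hxX : ∀ i, x i ∈ X := by
      intro i
      simp only [hx]
      by_cases hi : R i₁ i
      · rw [if_pos hi]; exact hβ
      · rw [if_neg hi]; exact (hγε i hi).1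
    have hvx : ∀ i, ∀ y ∈ X, v i y = c y + (if y = x i then (-1 : ℤ) else 0) := by
      intro i y hy
      simp only [hx, hc]
      by_cases hi : R i₁ i
      · rw [if_pos hi, ← heq i₁ i hi y hy]
        split_ifs <;> ring
      · rw [if_neg hi]
        have e := (hγε i hi).2.2.2 y hy
        rw [hB i hi] at e
        split_ifs at e ⊢ <;> linarith
    obtain ⟨h1, d', h2⟩ := hfinal (-1) c x (Or.inr rfl) hxX hvx
    exact ⟨-1, c, x, d', Or.inr rfl, hxX, h1, hvx, h2⟩

end Lattice

end Cfsg.Agent.Helper7.Frob
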