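import Mathlib
import Cfsg.Agent.Lib.Helper7.Frob1
import Cfsg.Agent.Lib.Helper7.Frob2

/-!
# The structure of a family of characters of an abelian group satisfying the column relations
of a principal block with Frobenius-type fusion (helper7's library)
-/

set_option autoImplicit false

namespace Cfsg.Agent.Helper7.Frob

open Cfsg Cfsg.Agent.Helper24 Cfsg.Agent.Helper7.Homo
open scoped ComplexConjugate

universe u

section Structure

variable {A : Type u} [Group A] [Fintype A] [Fintype (IrrCharacter A)] [DecidableEq A]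
variable {ι : Type*} [DecidableEq ι] (X : Finset ι) (f : ι → A → ℂ) (ν : MulAut A) (m : ℕ)

/-- there are at least two orbits of nontrivial linear characters -/
theorem exists_two_orbits (hcomm : ∀ a b : A, a * b = b * a) (hmA : m + 1 < Nat.card A) :
    ∃ ψ₁ ψ₂ : IrrCharacter A, ψ₁ ≠ principalChar A ∧ ψ₂ ≠ principalChar A ∧
      ¬ orel ν m ψ₁ ψ₂ := by
  classical
  have hcard : Fintype.card (IrrCharacter A) = Nat.card A := card_irr_abelian hcomm
  have hex : ∃ ψ : IrrCharacter A, ψ ≠ principalChar A := by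
    apply Fintype.exists_ne_of_one_lt_card
    rw [hcard]
    omega
  obtain ⟨ψ₂, hψ₂⟩ := hex
  set S : Finset (IrrCharacter A) :=
    (Finset.range m).image (fun k => compIrr (ν ^ k) ψ₂) with hS
  have hScard : S.card ≤ m := by
    rw [hS]
    exact Finset.card_image_le.trans (by rw [Finset.card_range])
  have hlt : S.card < (Finset.univ.erase (principalChar A)).card := by
    rw [Finset.card_erase_of_mem (Finset.mem_univ _), Finset.card_univ, hcard]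
    omega
  obtain ⟨ψ₁, hψ₁, hψ₁S⟩ := Finset.exists_mem_notMem_of_card_lt_card hlt
  refine ⟨ψ₁, ψ₂, Finset.ne_of_mem_erase hψ₁, hψ₂, ?_⟩
  rintro ⟨k, hk, rfl⟩
  apply hψ₁S
  rw [hS, Finset.mem_image]
  exact ⟨k, Finset.mem_range.2 hk, rfl⟩

/-- **The structure theorem**, in terms of the reduced multiplicities. -/
theorem frob_structure (hcomm : ∀ a b : A, a * b = b * a) (hm1 : 1 < m)
    (hmA : m + 1 < Nat.card A) (hνm : ν ^ m = 1)
    (hfpf : ∀ k : ℕ, 0 < k → k < m → ∀ a : A, (ν ^ k) a = a → a = 1)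
    (hchar : ∀ x ∈ X, IsCharacter A (f x)) (d : ι → ℕ) (hdpos : ∀ x ∈ X, 0 < d x)
    (hcol : ∀ a a' : A, a ≠ 1 → a' ≠ 1 → ∑ x ∈ X, f x a * conj (f x a') =
      (Nat.card A : ℂ) * ∑ k ∈ Finset.range m, (if a' = (ν ^ k) a then (1 : ℂ) else 0))
    (hB : ∀ a : A, a ≠ 1 → ∑ x ∈ X, (d x : ℂ) * f x a = 0) (x₀ : ι) :
    ∃ (δ : ℤ) (c : ι → ℤ) (η : IrrCharacter A → ι) (d' : ℤ), (δ = 1 ∨ δ = -1) ∧
      (∀ ψ, ψ ≠ principalChar A → η ψ ∈ X) ∧
      (∀ ψ ψ', ψ ≠ principalChar A → ψ' ≠ principalChar A →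
        (η ψ = η ψ' ↔ orel ν m ψ ψ')) ∧
      (∀ ψ, ψ ≠ principalChar A → ∀ y ∈ X,
        bint (f y) ψ = c y + (if y = η ψ then δ else 0)) ∧
      (∀ ψ, ψ ≠ principalChar A → c (η ψ) = d') := by
  classical
  have hm0 : 0 < m := by omega
  obtain ⟨ψ₁, ψ₂, hψ₁, hψ₂, h12⟩ := exists_two_orbits ν m hcomm hmA
  set κ := {ψ : IrrCharacter A // ψ ≠ principalChar A} with hκ
  have hgram : ∀ i j : κ, ∑ x ∈ X, bint (f x) i.1 * bint (f x) j.1 =
      (m : ℤ) + (if orel ν m i.1 j.1 then 1 else 0) := by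
    intro i j
    rw [gram_bint_gen X f ν m hcomm hchar hcol i.1 j.1 i.2 j.2,
      nIndG_eq ν m hcomm hfpf i.1 j.2]
  have hdeg : ∀ i j : κ, ∑ x ∈ X, (d x : ℤ) * bint (f x) i.1 =
      ∑ x ∈ X, (d x : ℤ) * bint (f x) j.1 := by
    intro i j
    rw [deg_bint X f hcomm hchar d hB, deg_bint X f hcomm hchar d hB]
  obtain ⟨δ, c, x, d', hδ, hxX, hxR, hvx, hcx⟩ :=
    lattice_core X (fun (i : κ) (y : ι) => bint (f y) i.1) (fun i j : κ => orel ν m i.1 j.1)
      (fun i => orel_refl ν m hm0 i.1) (m : ℤ) hgram (fun y => (d y : ℤ))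
      (fun y hy => by exact_mod_cast hdpos y hy) hdeg ⟨ψ₁, hψ₁⟩ ⟨ψ₂, hψ₂⟩ h12
  refine ⟨δ, c, fun ψ => if h : ψ ≠ principalChar A then x ⟨ψ, h⟩ else x₀, d', hδ, ?_, ?_, ?_, ?_⟩
  · intro ψ hψ
    simp only [dif_pos hψ]
    exact hxX _
  · intro ψ ψ' hψ hψ'
    simp only [dif_pos hψ, dif_pos hψ']
    exact hxR ⟨ψ, hψ⟩ ⟨ψ', hψ'⟩
  · intro ψ hψ y hy
    simp only [dif_pos hψ]
    exact hvx ⟨ψ, hψ⟩ y hy
  · intro ψ hψ
    simp only [dif_pos hψ]
    exact hcx ⟨ψ, hψ⟩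

/-- the sum of the nontrivial linear characters at a nonidentity element -/
theorem sum_nontrivial (hcomm : ∀ a b : A, a * b = b * a) (a : A) (ha : a ≠ 1) :
    ∑ ψ ∈ Finset.univ.erase (principalChar A), (ψ : A → ℂ) a = -1 := by
  have := Finset.add_sum_erase Finset.univ (fun ψ : IrrCharacter A => (ψ : A → ℂ) a)
    (Finset.mem_univ (principalChar A))
  rw [sum_irr hcomm, if_neg ha, principalChar_apply] at this
  linear_combination this

/-- the consequences of the structure theorem for the values -/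
theorem frob_values (hcomm : ∀ a b : A, a * b = b * a) (hm0 : 0 < m) (hνm : ν ^ m = 1)
    (hfpf : ∀ k : ℕ, 0 < k → k < m → ∀ a : A, (ν ^ k) a = a → a = 1)
    (hchar : ∀ x ∈ X, IsCharacter A (f x))
    (δ : ℤ) (c : ι → ℤ) (η : IrrCharacter A → ι) (d' : ℤ)
    (hηR : ∀ ψ ψ', ψ ≠ principalChar A → ψ' ≠ principalChar A →
        (η ψ = η ψ' ↔ orel ν m ψ ψ'))
    (hb : ∀ ψ, ψ ≠ principalChar A → ∀ y ∈ X,
        bint (f y) ψ = c y + (if y = η ψ then δ else 0))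
    (hcη : ∀ ψ, ψ ≠ principalChar A → c (η ψ) = d') :
    (∀ x ∈ X, (∀ ψ, ψ ≠ principalChar A → x ≠ η ψ) → ∀ a, a ≠ 1 → f x a = -(c x : ℂ)) ∧
    (∀ ψ₀, ψ₀ ≠ principalChar A → η ψ₀ ∈ X → ∀ a, a ≠ 1 →
      f (η ψ₀) a = -(d' : ℂ) + (δ : ℂ) * ∑ k ∈ Finset.range m, (ψ₀ : A → ℂ) ((ν ^ k) a)) := by
  classical
  constructor
  · intro x hx hxη a ha
    apply value_of_const hcomm (hchar x hx) (c x) _ a ha
    intro ψ hψ
    rw [hb ψ hψ x hx, if_neg (hxη ψ hψ), add_zero]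
  · intro ψ₀ hψ₀ hyX a ha
    have hbb : ∀ ψ : IrrCharacter A, (bint (f (η ψ₀)) ψ : ℂ) =
        (if ψ = principalChar A then 0 else (d' : ℂ)) + (δ : ℂ) * ((nIndG ν m ψ ψ₀ : ℤ) : ℂ) := by
      intro ψ
      by_cases hψ : ψ = principalChar A
      · rw [if_pos hψ, hψ, bint_principal, nIndG_eq ν m hcomm hfpf _ hψ₀, if_neg]
        · simp
        · intro h
          exact hψ₀ ((orel_principal ν m (orel_symm ν m hνm h)))
      · rw [if_neg hψ, hb ψ hψ _ hyX, hcη ψ₀ hψ₀, nIndG_eq ν m hcomm hfpf _ hψ₀]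
        by_cases hR : orel ν m ψ ψ₀
        · rw [if_pos hR, if_pos ((hηR ψ₀ ψ hψ₀ hψ).2 (orel_symm ν m hνm hR))]
          push_cast
          ring
        · rw [if_neg hR, if_neg]
          · push_cast
            ring
          · intro h
            exact hR (orel_symm ν m hνm ((hηR ψ₀ ψ hψ₀ hψ).1 h))
    rw [value_bint hcomm (hchar _ hyX) a ha]
    simp only [hbb, add_mul, Finset.sum_add_distrib]
    congr 1
    · have e : ∀ ψ : IrrCharacter A, (if ψ = principalChar A then (0 : ℂ) else (d' : ℂ)) *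
          (ψ : A → ℂ) a = if ψ ≠ principalChar A then (d' : ℂ) * (ψ : A → ℂ) a else 0 := by
        intro ψ
        by_cases h : ψ = principalChar A
        · rw [if_pos h, if_neg (not_not.2 h), zero_mul]
        · rw [if_neg h, if_pos h]
      simp only [e]
      rw [← Finset.sum_filter, Finset.filter_ne' Finset.univ (principalChar A),
        ← Finset.mul_sum, sum_nontrivial hcomm a ha]
      ring
    · have e : ∀ ψ : IrrCharacter A, (δ : ℂ) * ((nIndG ν m ψ ψ₀ : ℤ) : ℂ) * (ψ : A → ℂ) a =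
          (δ : ℂ) * ((ψ : A → ℂ) a * ((nIndG ν m ψ ψ₀ : ℤ) : ℂ)) := by
        intro ψ; ring
      simp only [e]
      rw [← Finset.mul_sum, sum_nIndG ν m ψ₀ (fun ψ => (ψ : A → ℂ) a)]
      rfl

/-- the set of exceptional members -/
noncomputable def excSet (η : IrrCharacter A → ι) : Finset ι :=
  (Finset.univ.erase (principalChar A)).image η

theorem mem_excSet {η : IrrCharacter A → ι} {y : ι} :
    y ∈ excSet η ↔ ∃ ψ, ψ ≠ principalChar A ∧ η ψ = y := by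
  unfold excSet
  rw [Finset.mem_image]
  constructor
  · rintro ⟨ψ, hψ, rfl⟩
    exact ⟨ψ, Finset.ne_of_mem_erase hψ, rfl⟩
  · rintro ⟨ψ, hψ, rfl⟩
    exact ⟨ψ, Finset.mem_erase.2 ⟨hψ, Finset.mem_univ _⟩, rfl⟩

/-- the norm equation -/
theorem frob_norm (hcomm : ∀ a b : A, a * b = b * a) (hm0 : 0 < m)
    (hfpf : ∀ k : ℕ, 0 < k → k < m → ∀ a : A, (ν ^ k) a = a → a = 1)
    (hchar : ∀ x ∈ X, IsCharacter A (f x))
    (hcol : ∀ a a' : A, a ≠ 1 → a' ≠ 1 → ∑ x ∈ X, f x a * conj (f x a') =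
      (Nat.card A : ℂ) * ∑ k ∈ Finset.range m, (if a' = (ν ^ k) a then (1 : ℂ) else 0))
    (δ : ℤ) (c : ι → ℤ) (η : IrrCharacter A → ι) (d' : ℤ) (hδ : δ = 1 ∨ δ = -1)
    (hηX : ∀ ψ, ψ ≠ principalChar A → η ψ ∈ X)
    (hb : ∀ ψ, ψ ≠ principalChar A → ∀ y ∈ X,
        bint (f y) ψ = c y + (if y = η ψ then δ else 0))
    (hcη : ∀ ψ, ψ ≠ principalChar A → c (η ψ) = d')
    (ψ₀ : IrrCharacter A) (hψ₀ : ψ₀ ≠ principalChar A) :
    ∑ x ∈ X \ excSet η, c x * c x + (((excSet η).card : ℤ) - 1) * (d' * d') +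
      (d' + δ) * (d' + δ) = (m : ℤ) + 1 := by
  classical
  have hδ2 : δ * δ = 1 := by rcases hδ with h | h <;> rw [h] <;> norm_num
  have hYX : excSet η ⊆ X := by
    intro y hy
    obtain ⟨ψ, hψ, rfl⟩ := mem_excSet.1 hy
    exact hηX ψ hψ
  have h0Y : η ψ₀ ∈ excSet η := mem_excSet.2 ⟨ψ₀, hψ₀, rfl⟩
  have h1 := gram_bint_gen X f ν m hcomm hchar hcol ψ₀ ψ₀ hψ₀ hψ₀
  rw [nIndG_eq ν m hcomm hfpf ψ₀ hψ₀, if_pos (orel_refl ν m hm0 ψ₀),
    ← Finset.sum_sdiff hYX] at h1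
  have h2 : ∑ x ∈ X \ excSet η, bint (f x) ψ₀ * bint (f x) ψ₀ =
      ∑ x ∈ X \ excSet η, c x * c x := by
    refine Finset.sum_congr rfl fun x hx => ?_
    rw [Finset.mem_sdiff] at hx
    rw [hb ψ₀ hψ₀ x hx.1, if_neg, add_zero]
    intro h
    apply hx.2
    rw [h]
    exact h0Y
  have h3 : ∑ x ∈ excSet η, bint (f x) ψ₀ * bint (f x) ψ₀ =
      ((excSet η).card : ℤ) * (d' * d') + 2 * d' * δ + 1 := by
    have e : ∀ x ∈ excSet η, bint (f x) ψ₀ * bint (f x) ψ₀ =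
        d' * d' + (if x = η ψ₀ then 2 * d' * δ + δ * δ else 0) := by
      intro x hx
      obtain ⟨ψ, hψ, rfl⟩ := mem_excSet.1 hx
      rw [hb ψ₀ hψ₀ _ (hηX ψ hψ), hcη ψ hψ]
      split_ifs <;> ring
    rw [Finset.sum_congr rfl e, Finset.sum_add_distrib, Finset.sum_ite_eq' (excSet η) (η ψ₀),
      if_pos h0Y, hδ2, Finset.sum_const]
    simp
    ring
  rw [h2, h3] at h1
  linear_combination h1 + hδ2

/-- the number of exceptional members -/
theorem frob_card (hcomm : ∀ a b : A, a * b = b * a)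
    (hfpf : ∀ k : ℕ, 0 < k → k < m → ∀ a : A, (ν ^ k) a = a → a = 1)
    (η : IrrCharacter A → ι)
    (hηR : ∀ ψ ψ', ψ ≠ principalChar A → ψ' ≠ principalChar A →
        (η ψ = η ψ' ↔ orel ν m ψ ψ')) :
    (excSet η).card * m = Nat.card A - 1 := by
  classical
  have hcard : (Finset.univ.erase (principalChar A)).card = Nat.card A - 1 := by
    rw [Finset.card_erase_of_mem (Finset.mem_univ _), Finset.card_univ, card_irr_abelian hcomm]
  rw [← hcard, Finset.card_eq_sum_card_image η (Finset.univ.erase (principalChar A))]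
  have hfib : ∀ y ∈ (Finset.univ.erase (principalChar A)).image η,
      ((Finset.univ.erase (principalChar A)).filter (fun ψ => η ψ = y)).card = m := by
    intro y hy
    obtain ⟨ψ₀, hψ₀, rfl⟩ := Finset.mem_image.1 hy
    have hψ₀' : ψ₀ ≠ principalChar A := Finset.ne_of_mem_erase hψ₀
    have hset : (Finset.univ.erase (principalChar A)).filter (fun ψ => η ψ = η ψ₀) =
        (Finset.range m).image (fun k => compIrr (ν ^ k) ψ₀) := by
      ext ψ
      rw [Finset.mem_filter, Finset.mem_image, Finset.mem_erase]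
      constructor
      · rintro ⟨⟨hψ, -⟩, h⟩
        obtain ⟨k, hk, rfl⟩ := (hηR ψ ψ₀ hψ hψ₀').1 h
        exact ⟨k, Finset.mem_range.2 hk, rfl⟩
      · rintro ⟨k, hk, rfl⟩
        have hne := compIrr_pow_ne_principal ν k hψ₀'
        exact ⟨⟨hne, Finset.mem_univ _⟩,
          (hηR _ ψ₀ hne hψ₀').2 ⟨k, Finset.mem_range.1 hk, rfl⟩⟩
    rw [hset, Finset.card_image_of_injOn, Finset.card_range]
    intro j hj k hk h
    exact orel_unique ν m hcomm hfpf hψ₀' (Finset.mem_range.1 hj) (Finset.mem_range.1 hk) h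
  unfold excSet
  rw [Finset.sum_congr rfl hfib, Finset.sum_const, smul_eq_mul]

/-- the principal member is not exceptional -/
theorem principal_not_exc (hcomm : ∀ a b : A, a * b = b * a) (hm0 : 0 < m)
    (hmA : m + 1 < Nat.card A) (hνm : ν ^ m = 1)
    (δ : ℤ) (c : ι → ℤ) (η : IrrCharacter A → ι) (hδ : δ = 1 ∨ δ = -1)
    (hηR : ∀ ψ ψ', ψ ≠ principalChar A → ψ' ≠ principalChar A →
        (η ψ = η ψ' ↔ orel ν m ψ ψ'))
    (hb : ∀ ψ, ψ ≠ principalChar A → ∀ y ∈ X,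
        bint (f y) ψ = c y + (if y = η ψ then δ else 0))
    (x₀ : ι) (hx₀ : x₀ ∈ X) (hfx₀ : ∀ a, f x₀ a = 1) : x₀ ∉ excSet η := by
  classical
  intro hmem
  obtain ⟨ψ₀, hψ₀, hη₀⟩ := mem_excSet.1 hmem
  obtain ⟨ψ₁, ψ₂, hψ₁, hψ₂, h12⟩ := exists_two_orbits ν m hcomm hmA
  have hex : ∃ ψ', ψ' ≠ principalChar A ∧ ¬ orel ν m ψ₀ ψ' := by
    by_cases h1 : orel ν m ψ₀ ψ₁
    · refine ⟨ψ₂, hψ₂, fun h2 => h12 ?_⟩
      exact orel_trans ν m hm0 hνm (orel_symm ν m hνm h1) h2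
    · exact ⟨ψ₁, hψ₁, h1⟩
  obtain ⟨ψ', hψ', hno⟩ := hex
  have e1 := hb ψ₀ hψ₀ x₀ hx₀
  have e2 := hb ψ' hψ' x₀ hx₀
  rw [bint_one hfx₀ hψ₀, if_pos hη₀.symm] at e1
  rw [bint_one hfx₀ hψ', if_neg] at e2
  · rcases hδ with h | h <;> rw [h] at e1 <;> omega
  · intro h
    apply hno
    rw [← hηR ψ₀ ψ' hψ₀ hψ', hη₀, h]

/-- the relation obtained from a weight vector orthogonal to the columns -/
theorem frob_weight (hcomm : ∀ a b : A, a * b = b * a)
    (hchar : ∀ x ∈ X, IsCharacter A (f x))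
    (δ : ℤ) (c : ι → ℤ) (η : IrrCharacter A → ι) (d' : ℤ) (hδ : δ = 1 ∨ δ = -1)
    (hηX : ∀ ψ, ψ ≠ principalChar A → η ψ ∈ X)
    (hb : ∀ ψ, ψ ≠ principalChar A → ∀ y ∈ X,
        bint (f y) ψ = c y + (if y = η ψ then δ else 0))
    (hcη : ∀ ψ, ψ ≠ principalChar A → c (η ψ) = d')
    (w : ι → ℂ) (hw : ∀ a : A, a ≠ 1 → ∑ x ∈ X, w x * f x a = 0) :
    (∀ ψ ψ', ψ ≠ principalChar A → ψ' ≠ principalChar A → w (η ψ) = w (η ψ')) ∧
    (∀ ψ, ψ ≠ principalChar A →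
      ((d' : ℂ) * ((excSet η).card : ℂ) + (δ : ℂ)) * w (η ψ) +
        ∑ x ∈ X \ excSet η, (c x : ℂ) * w x = 0) := by
  classical
  have hδ2 : (δ : ℂ) * δ = 1 := by
    rcases hδ with h | h <;> rw [h] <;> norm_num
  have hYX : excSet η ⊆ X := by
    intro y hy
    obtain ⟨ψ, hψ, rfl⟩ := mem_excSet.1 hy
    exact hηX ψ hψ
  have h1 : ∀ ψ, ψ ≠ principalChar A →
      ∑ x ∈ X, w x * (c x : ℂ) + (δ : ℂ) * w (η ψ) = 0 := by
    intro ψ hψ
    have h := weight_bint X f hcomm hchar w hw ψ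
    have e : ∀ x ∈ X, w x * (bint (f x) ψ : ℂ) =
        w x * (c x : ℂ) + (if x = η ψ then (δ : ℂ) * w x else 0) := by
      intro x hx
      rw [hb ψ hψ x hx]
      split_ifs <;> push_cast <;> ring
    rw [Finset.sum_congr rfl e, Finset.sum_add_distrib, Finset.sum_ite_eq' X (η ψ),
      if_pos (hηX ψ hψ)] at h
    exact h
  have hsame : ∀ ψ ψ', ψ ≠ principalChar A → ψ' ≠ principalChar A → w (η ψ) = w (η ψ') := by
    intro ψ ψ' hψ hψ'
    have e : (δ : ℂ) * w (η ψ) = (δ : ℂ) * w (η ψ') := by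
      linear_combination h1 ψ hψ - h1 ψ' hψ'
    have : (δ : ℂ) * ((δ : ℂ) * w (η ψ)) = (δ : ℂ) * ((δ : ℂ) * w (η ψ')) := by rw [e]
    rw [← mul_assoc, ← mul_assoc, hδ2, one_mul, one_mul] at this
    exact this
  refine ⟨hsame, ?_⟩
  intro ψ hψ
  have h := h1 ψ hψ
  rw [← Finset.sum_sdiff hYX] at h
  have e : ∑ x ∈ excSet η, w x * (c x : ℂ) = (d' : ℂ) * ((excSet η).card : ℂ) * w (η ψ) := by
    have e' : ∀ x ∈ excSet η, w x * (c x : ℂ) = w (η ψ) * (d' : ℂ) := by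
      intro x hx
      obtain ⟨ψ', hψ', rfl⟩ := mem_excSet.1 hx
      rw [hcη ψ' hψ', hsame ψ' ψ hψ' hψ]
    rw [Finset.sum_congr rfl e', Finset.sum_const, nsmul_eq_mul]
    ring
  rw [e] at h
  have e2 : ∑ x ∈ X \ excSet η, w x * (c x : ℂ) = ∑ x ∈ X \ excSet η, (c x : ℂ) * w x :=
    Finset.sum_congr rfl fun x _ => mul_comm _ _
  rw [e2] at h
  linear_combination h

/-- the number of nonexceptional members is at most `m` -/
theorem frob_card_le (hcomm : ∀ a b : A, a * b = b * a) (hm0 : 0 < m)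
    (hmA : m + 1 < Nat.card A)
    (hfpf : ∀ k : ℕ, 0 < k → k < m → ∀ a : A, (ν ^ k) a = a → a = 1)
    (hchar : ∀ x ∈ X, IsCharacter A (f x))
    (hcol : ∀ a a' : A, a ≠ 1 → a' ≠ 1 → ∑ x ∈ X, f x a * conj (f x a') =
      (Nat.card A : ℂ) * ∑ k ∈ Finset.range m, (if a' = (ν ^ k) a then (1 : ℂ) else 0))
    (δ : ℤ) (c : ι → ℤ) (η : IrrCharacter A → ι) (d' : ℤ) (hδ : δ = 1 ∨ δ = -1)
    (hηX : ∀ ψ, ψ ≠ principalChar A → η ψ ∈ X)
    (hηR : ∀ ψ ψ', ψ ≠ principalChar A → ψ' ≠ principalChar A →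
        (η ψ = η ψ' ↔ orel ν m ψ ψ'))
    (hb : ∀ ψ, ψ ≠ principalChar A → ∀ y ∈ X,
        bint (f y) ψ = c y + (if y = η ψ then δ else 0))
    (hcη : ∀ ψ, ψ ≠ principalChar A → c (η ψ) = d')
    (hc0 : ∀ x ∈ X \ excSet η, c x ≠ 0) :
    (X \ excSet η).card ≤ m := by
  classical
  obtain ⟨ψ₁, ψ₂, hψ₁, hψ₂, h12⟩ := exists_two_orbits ν m hcomm hmA
  have hnorm := frob_norm X f ν m hcomm hm0 hfpf hchar hcol δ c η d' hδ hηX hb hcη ψ₁ hψ₁
  have hcard := frob_card ν m hcomm hfpf η hηR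
  have hY2 : 2 ≤ (excSet η).card := by
    by_contra hlt
    push Not at hlt
    have : (excSet η).card * m ≤ 1 * m := Nat.mul_le_mul_right m (by omega)
    omega
  have h1 : ((X \ excSet η).card : ℤ) ≤ ∑ x ∈ X \ excSet η, c x * c x := by
    rw [Finset.card_eq_sum_ones, Nat.cast_sum]
    apply Finset.sum_le_sum
    intro x hx
    have h0 := hc0 x hx
    have : 0 < c x * c x := mul_self_pos.2 h0
    push_cast
    omega
  have h2 : 1 ≤ (((excSet η).card : ℤ) - 1) * (d' * d') + (d' + δ) * (d' + δ) := by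
    by_cases hd : d' = 0
    · rw [hd]
      rcases hδ with h | h <;> rw [h] <;> norm_num
    · have h3 : 0 < d' * d' := mul_self_pos.2 hd
      have h4 : 0 ≤ (d' + δ) * (d' + δ) := mul_self_nonneg _
      have h5 : (1 : ℤ) ≤ ((excSet η).card : ℤ) - 1 := by
        have : (2 : ℤ) ≤ ((excSet η).card : ℤ) := by exact_mod_cast hY2
        omega
      nlinarith
  have h3 : ((X \ excSet η).card : ℤ) ≤ m := by linarith
  exact_mod_cast h3

end Structure

end Cfsg.Agent.Helper7.Frob
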