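import Mathlib
import Cfsg.Agent.Lib.Helper7.Homo5

/-!
# The abstract form of Brauer's theorem on homocyclic Sylow 2-subgroups: a member of the
family restricting trivially (helper7's library)
-/

set_option autoImplicit false

namespace Cfsg.Agent.Helper7.Homo

open Cfsg Cfsg.Agent.Helper24
open scoped ComplexConjugate

universe u

theorem dioph (a b : ℤ) (ha : (16 : ℤ) ∣ a - 1) (hb : (16 : ℤ) ∣ b - 1)
    (h : (a * b + a + b) * (1 + a + b) = 9 * (a * b)) : a = 1 ∧ b = 1 := by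
  obtain ⟨k₁, hk₁⟩ := ha
  obtain ⟨k₂, hk₂⟩ := hb
  set k := k₁ + k₂ with hk
  have hs : a + b = 16 * k + 2 := by rw [hk]; linarith
  have h1 : (8 * k - 3) * (a * b + (a + b) + 9) = -36 := by
    have : (a + b - 8) * (a * b + (a + b) + 9) = -72 := by linear_combination h
    rw [hs] at this ⊢
    linarith
  have hdvd : (8 * k - 3) ∣ 36 := ⟨-(a * b + (a + b) + 9), by linarith⟩
  have hle : 8 * k - 3 ≤ 36 := Int.le_of_dvd (by norm_num) hdvd
  have hge : -(8 * k - 3) ≤ 36 := Int.le_of_dvd (by norm_num) ((neg_dvd).2 hdvd)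
  have hk0 : k = 0 := by
    have h2 : -4 ≤ k := by omega
    have h3 : k ≤ 4 := by omega
    interval_cases k <;> first | rfl | (exfalso; revert hdvd; decide)
  rw [hk0] at hs h1
  have hq : a * b = 1 := by linarith
  have hsq : (a - 1) * (a - 1) = 0 := by
    have : b = 2 - a := by linarith
    rw [this] at hq
    linear_combination -hq
  have ha1 : a = 1 := by
    have := mul_self_eq_zero.1 hsq
    omega
  exact ⟨ha1, by rw [ha1] at hs; linarith⟩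

theorem sum_split3' {ι M : Type*} [DecidableEq ι] [AddCommMonoid M] (X : Finset ι) {α β γ : ι}
    (hα : α ∈ X) (hβ : β ∈ X) (hγ : γ ∈ X)
    (hαβ : α ≠ β) (hαγ : α ≠ γ) (hβγ : β ≠ γ) (F : ι → M) :
    ∑ x ∈ X, F x = F α + (F β + (F γ + ∑ x ∈ ((X.erase α).erase β).erase γ, F x)) := by
  have hβ' : β ∈ X.erase α := Finset.mem_erase.2 ⟨hαβ.symm, hβ⟩
  have hγ' : γ ∈ (X.erase α).erase β :=
    Finset.mem_erase.2 ⟨hβγ.symm, Finset.mem_erase.2 ⟨hαγ.symm, hγ⟩⟩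
  rw [← Finset.add_sum_erase X F hα, ← Finset.add_sum_erase _ F hβ',
    ← Finset.add_sum_erase _ F hγ']

section Main

variable {A : Type u} [Group A] [Fintype A] [Fintype (IrrCharacter A)] [DecidableEq A]

/-- **Abstract form of Brauer's theorem.** A family of `ν`-invariant characters of a finite
abelian group `A` (of order divisible by `16`, `ν` a fixed-point-free automorphism of order
three) containing the principal character and satisfying the column relations of a principal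
block, the degree relation and the class multiplication relation contains a second member
which is identically one. -/
theorem exists_trivial_restriction (hcomm : ∀ a b : A, a * b = b * a) (h16 : 16 ∣ Nat.card A)
    (ν : A ≃* A) (hν3 : ∀ a, ν (ν (ν a)) = a) (hfpf : ∀ a : A, ν a = a → a = 1)
    {ι : Type*} [DecidableEq ι] (X : Finset ι) (f : ι → A → ℂ) (d : ι → ℕ)
    (hchar : ∀ x ∈ X, IsCharacter A (f x))
    (hdeg : ∀ x ∈ X, f x 1 = d x) (hdpos : ∀ x ∈ X, 0 < d x)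
    (x₀ : ι) (hx₀ : x₀ ∈ X) (hfx₀ : ∀ a, f x₀ a = 1)
    (hcol : ∀ a a' : A, a ≠ 1 → a' ≠ 1 → ∑ x ∈ X, f x a * conj (f x a') =
      (Nat.card A : ℂ) * ((if a' = a then 1 else 0) + (if a' = ν a then 1 else 0) +
        (if a' = ν (ν a) then 1 else 0)))
    (hB : ∀ a : A, a ≠ 1 → ∑ x ∈ X, (d x : ℂ) * f x a = 0)
    (z p : A) (hz1 : z ≠ 1) (hz2 : z * z = 1) (hp : p * p ≠ 1)
    (hE : ∑ x ∈ X, f x z * f x z * conj (f x p) / (d x : ℂ) = 0) :
    ∃ x ∈ X, x ≠ x₀ ∧ ∀ a, f x a = 1 := by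
  classical
  have hcard_pos : 0 < Nat.card A := Nat.card_pos
  have h16' : 16 ≤ Nat.card A := Nat.le_of_dvd hcard_pos h16
  have h14 : 14 ≤ Nat.card A := by omega
  have hp1 : p ≠ 1 := by
    intro h
    apply hp
    rw [h, mul_one]
  obtain ⟨x₂, hx₂, x₃, hx₃, hne, c₂, c₃, hc₂, hc₃, hall⟩ :=
    exists_common X f ν hcomm h14 hν3 hfpf hchar hcol x₀ hx₀ hfx₀
  have hx₂X : x₂ ∈ X := Finset.mem_of_mem_erase hx₂
  have hx₃X : x₃ ∈ X := Finset.mem_of_mem_erase hx₃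
  have hx₂0 : x₂ ≠ x₀ := Finset.ne_of_mem_erase hx₂
  have hx₃0 : x₃ ≠ x₀ := Finset.ne_of_mem_erase hx₃
  set S := ((X.erase x₀).erase x₂).erase x₃ with hS
  have hSX : ∀ x ∈ S, x ∈ X := by
    intro x hx
    simp only [hS, Finset.mem_erase] at hx
    exact hx.2.2.2
  have hsplitZ : ∀ F : ι → ℤ, ∑ x ∈ X, F x = F x₀ + (F x₂ + (F x₃ + ∑ x ∈ S, F x)) :=
    fun F => sum_split3' X hx₀ hx₂X hx₃X hx₂0.symm hx₃0.symm hne F
  have hsplitC : ∀ F : ι → ℂ, ∑ x ∈ X, F x = F x₀ + (F x₂ + (F x₃ + ∑ x ∈ S, F x)) :=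
    fun F => sum_split3' X hx₀ hx₂X hx₃X hx₂0.symm hx₃0.symm hne F
  -- the degree of the principal member
  have hd₀ : d x₀ = 1 := by
    have := hdeg x₀ hx₀
    rw [hfx₀] at this
    exact_mod_cast this.symm
  set d₂ : ℤ := (d x₂ : ℤ) with hd₂
  set d₃ : ℤ := (d x₃ : ℤ) with hd₃
  have hd₂pos : 0 < d₂ := by rw [hd₂]; exact_mod_cast hdpos x₂ hx₂X
  have hd₃pos : 0 < d₃ := by rw [hd₃]; exact_mod_cast hdpos x₃ hx₃X
  set y : ℤ := 1 - c₂ * d₂ - c₃ * d₃ with hy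
  -- relations on `S`
  have hgramS : ∀ ψ ψ' : IrrCharacter A, ψ ≠ principalChar A → ψ' ≠ principalChar A →
      ∑ x ∈ S, bint (f x) ψ * bint (f x) ψ' = nInd ν ψ ψ' := by
    intro ψ ψ' hψ hψ'
    have h := gram_bint X f ν hcomm hchar hcol ψ ψ' hψ hψ'
    rw [hsplitZ, bint_one hfx₀ hψ, bint_one hfx₀ hψ', (hall ψ hψ).1, (hall ψ hψ).2,
      (hall ψ' hψ').1, (hall ψ' hψ').2, hc₂, hc₃] at h
    linarith
  have hdegS : ∀ ψ : IrrCharacter A, ψ ≠ principalChar A →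
      ∑ x ∈ S, (d x : ℤ) * bint (f x) ψ = y := by
    intro ψ hψ
    have h := deg_bint X f hcomm hchar d hB ψ
    rw [hsplitZ, bint_one hfx₀ hψ, (hall ψ hψ).1, (hall ψ hψ).2, hd₀] at h
    rw [hy, hd₂, hd₃]
    push_cast at h ⊢
    linarith
  -- a nontrivial linear character exists
  have hex : ∃ ψ : IrrCharacter A, ψ ≠ principalChar A := by
    apply Fintype.exists_ne_of_one_lt_card
    rw [card_irr_abelian hcomm]
    omega
  obtain ⟨ψ₁, hψ₁⟩ := hex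
  have hy0 : y ≠ 0 := by
    intro hy0
    have h1 := hgramS ψ₁ ψ₁ hψ₁ hψ₁
    rw [nInd_self ν hcomm hν3 hfpf hψ₁] at h1
    obtain ⟨x, hx, hx1, hx0⟩ := single_support S (fun x => bint (f x) ψ₁) h1
    have h2 := hdegS ψ₁ hψ₁
    rw [Finset.sum_eq_single x, hy0] at h2
    · have h3 : (0 : ℤ) < d x := by exact_mod_cast hdpos x (hSX x hx)
      rcases mul_eq_zero.1 h2 with h4 | h4
      · omega
      · rw [h4] at hx1
        norm_num at hx1
    · intro x' hx' hne'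
      rw [hx0 x' hx' hne', mul_zero]
    · intro h
      exact absurd hx h
  -- the contribution of `S`
  have hrest := rest_sum ν hcomm hν3 hfpf S f d y (fun x hx => hchar x (hSX x hx)) hgramS hdegS
    (fun x hx => hdpos x (hSX x hx)) hy0 hz1 hz2 hp
  -- values of the two special members
  have hv₂ : ∀ a : A, a ≠ 1 → f x₂ a = -(c₂ : ℂ) :=
    fun a ha => value_of_const hcomm (hchar x₂ hx₂X) c₂ (fun ψ hψ => (hall ψ hψ).1) a ha
  have hv₃ : ∀ a : A, a ≠ 1 → f x₃ a = -(c₃ : ℂ) :=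
    fun a ha => value_of_const hcomm (hchar x₃ hx₃X) c₃ (fun ψ hψ => (hall ψ hψ).2) a ha
  have hc₂c : (c₂ : ℂ) * c₂ = 1 := by exact_mod_cast hc₂
  have hc₃c : (c₃ : ℂ) * c₃ = 1 := by exact_mod_cast hc₃
  have hd₂c : (d x₂ : ℂ) = (d₂ : ℂ) := by rw [hd₂]; push_cast; rfl
  have hd₃c : (d x₃ : ℂ) = (d₃ : ℂ) := by rw [hd₃]; push_cast; rfl
  have hd₂ne : (d₂ : ℂ) ≠ 0 := by exact_mod_cast hd₂pos.ne'
  have hd₃ne : (d₃ : ℂ) ≠ 0 := by exact_mod_cast hd₃pos.ne'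
  have hyc : (y : ℂ) ≠ 0 := by exact_mod_cast hy0
  -- the class multiplication relation
  have hEq : (1 : ℂ) - c₂ / d₂ - c₃ / d₃ - 9 / y = 0 := by
    have h := hE
    rw [hsplitC, hrest, hfx₀, hfx₀, hd₀, hv₂ z hz1, hv₂ p hp1, hv₃ z hz1, hv₃ p hp1, hd₂c,
      hd₃c] at h
    simp only [map_neg, map_intCast, map_one, Nat.cast_one] at h
    have e2 : -(c₂ : ℂ) * -(c₂ : ℂ) * -(c₂ : ℂ) / d₂ = -(c₂ / d₂) := by
      rw [neg_mul_neg, hc₂c]; ring
    have e3 : -(c₃ : ℂ) * -(c₃ : ℂ) * -(c₃ : ℂ) / d₃ = -(c₃ / d₃) := by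
      rw [neg_mul_neg, hc₃c]; ring
    rw [e2, e3] at h
    linear_combination h
  -- integers `a`, `b`
  set a : ℤ := -(c₂ * d₂) with ha
  set b : ℤ := -(c₃ * d₃) with hb
  have hyab : y = 1 + a + b := by rw [hy, ha, hb]; ring
  have hdio : (a * b + a + b) * (1 + a + b) = 9 * (a * b) := by
    have h1 : ((1 : ℂ) - c₂ / d₂ - c₃ / d₃ - 9 / y) * (y * d₂ * d₃ * c₂ * c₃) = 0 := by
      rw [hEq, zero_mul]
    have h2 : ((1 : ℂ) - c₂ / d₂ - c₃ / d₃ - 9 / y) * (y * d₂ * d₃ * c₂ * c₃) =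
        (y : ℂ) * d₂ * d₃ * c₂ * c₃ - (c₂ * c₂) * y * d₃ * c₃ - (c₃ * c₃) * y * d₂ * c₂ -
          9 * d₂ * d₃ * c₂ * c₃ := by
      field_simp
    rw [h2, hc₂c, hc₃c] at h1
    have h3 : (((a * b + a + b) * (1 + a + b) - 9 * (a * b) : ℤ) : ℂ) = 0 := by
      rw [← hyab, ha, hb]
      push_cast
      linear_combination h1
    have h4 : (a * b + a + b) * (1 + a + b) - 9 * (a * b) = 0 := by exact_mod_cast h3
    linarith
  -- congruences
  have hcong : ∀ x ∈ X, ∀ c : ℤ, c * c = 1 →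
      (∀ ψ : IrrCharacter A, ψ ≠ principalChar A → bint (f x) ψ = c) →
      (16 : ℤ) ∣ -(c * (d x : ℤ)) - 1 := by
    intro x hx c hc hcon
    obtain ⟨m, hm⟩ := degree_of_const hcomm (hchar x hx) c hcon
    rw [hdeg x hx] at hm
    have hm' : (d x : ℤ) = (Nat.card A : ℤ) * m - c := by exact_mod_cast hm
    obtain ⟨t, ht⟩ := h16
    rw [hm', ht]
    refine ⟨-(t * c * m), ?_⟩
    push_cast
    linear_combination hc
  have hacong : (16 : ℤ) ∣ a - 1 := hcong x₂ hx₂X c₂ hc₂ (fun ψ hψ => (hall ψ hψ).1)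
  have hbcong : (16 : ℤ) ∣ b - 1 := hcong x₃ hx₃X c₃ hc₃ (fun ψ hψ => (hall ψ hψ).2)
  obtain ⟨ha1, -⟩ := dioph a b hacong hbcong hdio
  -- conclusion
  have hc₂d₂ : c₂ = -1 ∧ d₂ = 1 := by
    rw [ha] at ha1
    rcases sq_one_cases hc₂ with h | h
    · rw [h] at ha1; omega
    · rw [h] at ha1; exact ⟨h, by omega⟩
  refine ⟨x₂, hx₂X, hx₂0, ?_⟩
  intro a'
  by_cases ha' : a' = 1
  · rw [ha', hdeg x₂ hx₂X, hd₂c, hc₂d₂.2]
    norm_num
  · rw [hv₂ a' ha', hc₂d₂.1]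
    norm_num

end Main

end Cfsg.Agent.Helper7.Homo
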