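import Mathlib
import Cfsg.Agent.S0945
import Cfsg.Agent.Lib.Helper7.BSKlein

/-!
# Fusion in a homocyclic Sylow 2-subgroup with non-central normalizer (helper7's library)
-/

set_option autoImplicit false

namespace Cfsg.Agent.Helper7.Homo

open Cfsg

/-- commutativity of a homocyclic group -/
theorem homocyclic_comm {P : Type*} [Group P] {m : ℕ}
    (e : P ≃* Multiplicative (ZMod (2 ^ m) × ZMod (2 ^ m))) (x y : P) : x * y = y * x := by
  apply e.injective
  rw [map_mul, map_mul, mul_comm]

/-- **Fusion package.** If the normalizer of a homocyclic Sylow `2`-subgroup `P` does not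
centralize it, then `G`-fusion in `P` is given by a fixed-point-free automorphism of order three,
and the centralizers of the nonidentity elements of `P` have normal `2`-complements. -/
theorem homocyclic_fusion {G : Type*} [Group G] [Finite G] (P : Sylow 2 G) (m : ℕ) (hm : 1 ≤ m)
    (e : (P : Subgroup G) ≃* Multiplicative (ZMod (2 ^ m) × ZMod (2 ^ m)))
    (hNC : ¬ Subgroup.normalizer ((P : Subgroup G) : Set G) ≤
      Subgroup.centralizer ((P : Subgroup G) : Set G)) :
    ∃ ν : (P : Subgroup G) ≃* (P : Subgroup G),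
      (∀ a, ν (ν (ν a)) = a) ∧ (∀ a, ν a = a → a = 1) ∧
      (∀ a : (P : Subgroup G), IsConj (a : G) ((ν a : (P : Subgroup G)) : G)) ∧
      (∀ a b : (P : Subgroup G), IsConj (a : G) (b : G) → b = a ∨ b = ν a ∨ b = ν (ν a)) ∧
      (∀ a : (P : Subgroup G), a ≠ 1 → ∃ k : ℕ,
        (Cfsg.pPrimeCore 2 (Subgroup.centralizer ({(a : G)} : Set G))).index = 2 ^ k) := by
  haveI : Fact (Nat.Prime 2) := ⟨Nat.prime_two⟩
  haveI : Fact (Nat.Prime 3) := ⟨Nat.prime_three⟩
  have hcomm : ∀ x y : (P : Subgroup G), x * y = y * x := homocyclic_comm e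
  have hPC : (P : Subgroup G) ≤ Subgroup.centralizer ((P : Subgroup G) : Set G) := by
    intro x hx
    rw [Subgroup.mem_centralizer_iff]
    intro y hy
    exact congrArg Subtype.val (hcomm ⟨y, hy⟩ ⟨x, hx⟩)
  obtain ⟨h13, hii⟩ := Cfsg.Agent.S0945.result P m hm e
  have hne1 : (Subgroup.centralizer ((P : Subgroup G) : Set G)).relIndex
      (Subgroup.normalizer ((P : Subgroup G) : Set G)) ≠ 1 := by
    rw [Ne, Subgroup.relIndex_eq_one]
    exact hNC
  have h3 : (Subgroup.centralizer ((P : Subgroup G) : Set G)).relIndex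
      (Subgroup.normalizer ((P : Subgroup G) : Set G)) = 3 := by
    rcases h13 with h | h
    · exact absurd h hne1
    · exact h
  have hii' : ∀ z ∈ (P : Subgroup G), z ≠ 1 → Subgroup.centralizer ({z} : Set G) ⊓
      Subgroup.normalizer ((P : Subgroup G) : Set G) =
      Subgroup.centralizer ((P : Subgroup G) : Set G) := hii hne1
  set φ := (P : Subgroup G).normalizerMonoidHom with hφ
  have hcard : Nat.card φ.range = 3 := by
    rw [← h3, Subgroup.relIndex, ← Subgroup.normalizerMonoidHom_ker, Subgroup.index_ker]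
  obtain ⟨n₀, hn₀⟩ : ∃ n₀ : Subgroup.normalizer ((P : Subgroup G) : Set G), φ n₀ ≠ 1 := by
    by_contra hcon
    push Not at hcon
    apply hNC
    intro g hg
    have h1 : (⟨g, hg⟩ : Subgroup.normalizer ((P : Subgroup G) : Set G)) ∈ φ.ker := hcon _
    rw [hφ, Subgroup.normalizerMonoidHom_ker, Subgroup.mem_subgroupOf] at h1
    exact h1
  set ν : MulAut (P : Subgroup G) := φ n₀ with hν
  have hν_range : ν ∈ φ.range := ⟨n₀, rfl⟩
  have hν1' : (⟨ν, hν_range⟩ : φ.range) ≠ 1 := fun h => hn₀ (congrArg Subtype.val h)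
  have hν3 : ν ^ 3 = 1 := by
    have h1 := pow_card_eq_one' (G := φ.range) (x := ⟨ν, hν_range⟩)
    rw [hcard] at h1
    have h2 := congrArg Subtype.val h1
    rw [Subgroup.coe_pow, Subgroup.coe_one] at h2
    exact h2
  have hpow : ∀ β ∈ φ.range, β = 1 ∨ β = ν ∨ β = ν * ν := by
    intro β hβ
    have h1 := mem_powers_of_prime_card (G := φ.range) hcard hν1' (g' := ⟨β, hβ⟩)
    obtain ⟨k, hk⟩ := Submonoid.mem_powers_iff _ _ |>.1 h1
    have hk' : ν ^ k = β := by
      have h2 := congrArg Subtype.val hk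
      rw [Subgroup.coe_pow] at h2
      exact h2
    have h4 : ν ^ k = ν ^ (k % 3) := by
      conv_lhs => rw [← Nat.div_add_mod k 3, pow_add, pow_mul, hν3, one_pow, one_mul]
    rw [h4] at hk'
    have h5 : k % 3 = 0 ∨ k % 3 = 1 ∨ k % 3 = 2 := by omega
    rcases h5 with h | h | h
    · left; rw [← hk', h, pow_zero]
    · right; left; rw [← hk', h, pow_one]
    · right; right; rw [← hk', h, pow_two]
  have hνG : ∀ (n : Subgroup.normalizer ((P : Subgroup G) : Set G)) (x : (P : Subgroup G)),
      ((φ n x : (P : Subgroup G)) : G) = (n : G) * x * (n : G)⁻¹ := fun _ _ => rfl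
  have hfpf : ∀ a : (P : Subgroup G), ν a = a → a = 1 := by
    intro a ha
    by_contra ha1
    have h1 : (n₀ : G) ∈ Subgroup.centralizer ({(a : G)} : Set G) ⊓
        Subgroup.normalizer ((P : Subgroup G) : Set G) := by
      refine Subgroup.mem_inf.2 ⟨?_, n₀.2⟩
      rw [Subgroup.mem_centralizer_iff]
      intro y hy
      rw [Set.mem_singleton_iff] at hy
      rw [hy]
      have h2 := congrArg Subtype.val ha
      rw [hν, hνG] at h2
      calc (a : G) * n₀ = ((n₀ : G) * a * (n₀ : G)⁻¹) * n₀ := by rw [h2]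
        _ = n₀ * a := by group
    rw [hii' a a.2 (fun h => ha1 (Subtype.ext h))] at h1
    apply hn₀
    have h2 : n₀ ∈ φ.ker := by
      rw [hφ, Subgroup.normalizerMonoidHom_ker, Subgroup.mem_subgroupOf]
      exact h1
    exact h2
  refine ⟨ν, ?_, hfpf, ?_, ?_, ?_⟩
  · intro a
    have h1 : (ν ^ 3) a = ν (ν (ν a)) := by
      rw [pow_succ, pow_two, MulAut.mul_apply, MulAut.mul_apply]
    rw [← h1, hν3, MulAut.one_apply]
  · intro a
    rw [isConj_iff]
    exact ⟨n₀, (hνG n₀ a).symm⟩
  · intro a b hab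
    obtain ⟨c, hc⟩ := isConj_iff.1 hab
    have h1 : c⁻¹⁻¹ * (a : G) * c⁻¹ ∈ Subgroup.centralizer ((P : Subgroup G) : Set G) := by
      rw [inv_inv, hc]
      exact hPC b.2
    obtain ⟨n, hn, hn'⟩ := P.conj_eq_normalizer_conj_of_mem_centralizer (a : G) c⁻¹ (hPC a.2) h1
    rw [inv_inv, hc] at hn'
    have hninv : n⁻¹ ∈ Subgroup.normalizer ((P : Subgroup G) : Set G) := inv_mem hn
    have h2 : φ ⟨n⁻¹, hninv⟩ a = b := by
      apply Subtype.ext
      rw [hνG, hn']
      simp
    rcases hpow (φ ⟨n⁻¹, hninv⟩) ⟨_, rfl⟩ with h | h | h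
    · left; rw [← h2, h, MulAut.one_apply]
    · right; left; rw [← h2, h]
    · right; right; rw [← h2, h, MulAut.mul_apply]
  · intro a ha1
    have hPH : (P : Subgroup G) ≤ Subgroup.centralizer ({(a : G)} : Set G) := by
      intro x hx
      rw [Subgroup.mem_centralizer_iff]
      intro y hy
      rw [Set.mem_singleton_iff] at hy
      rw [hy]
      exact congrArg Subtype.val (hcomm a ⟨x, hx⟩)
    apply index_pPrimeCore_of_normalizer_le_centralizer (P.subtype hPH)
    intro h hh
    rw [Sylow.coe_subtype] at hh ⊢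
    have hhN : (h : G) ∈ Subgroup.normalizer ((P : Subgroup G) : Set G) := by
      rw [Subgroup.mem_normalizer_iff]
      intro x
      rw [Subgroup.mem_normalizer_iff] at hh
      constructor
      · intro hx
        have := (hh ⟨x, hPH hx⟩).1 (by rw [Subgroup.mem_subgroupOf]; exact hx)
        rw [Subgroup.mem_subgroupOf] at this
        exact this
      · intro hx
        have hxH : x ∈ Subgroup.centralizer ({(a : G)} : Set G) := by
          have h1 := hPH hx
          have h2 : x = (h : G)⁻¹ * ((h : G) * x * (h : G)⁻¹) * h := by group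
          rw [h2]
          exact mul_mem (mul_mem (inv_mem h.2) h1) h.2
        have := (hh ⟨x, hxH⟩).2 (by rw [Subgroup.mem_subgroupOf]; exact hx)
        rw [Subgroup.mem_subgroupOf] at this
        exact this
    have hhC : (h : G) ∈ Subgroup.centralizer ((P : Subgroup G) : Set G) := by
      rw [← hii' a a.2 (fun h => ha1 (Subtype.ext h))]
      exact Subgroup.mem_inf.2 ⟨h.2, hhN⟩
    rw [Subgroup.mem_centralizer_iff]
    intro y hy
    apply Subtype.ext
    have hy' : (y : G) ∈ (P : Subgroup G) := by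
      rw [SetLike.mem_coe, Subgroup.mem_subgroupOf] at hy
      exact hy
    exact (Subgroup.mem_centralizer_iff.1 hhC) y hy'

end Cfsg.Agent.Helper7.Homo
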