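import Mathlib
import Cfsg.Agent.Lib.Helper7.Homo6
import Cfsg.Agent.Lib.Helper7.Homo7
import Cfsg.Agent.S0947
import Cfsg.Agent.Lib.Helper23.BlockSecondMain4
import Cfsg.Agent.Lib.Helper23.BlockDefect
import Cfsg.Agent.Lib.Helper24.CharCentral

/-!
# The principal 2-block of a group with homocyclic Sylow 2-subgroup: column relations
(helper7's library)
-/

set_option autoImplicit false

namespace Cfsg.Agent.Helper7.Homo

open Cfsg Cfsg.Agent.Helper24 Cfsg.Agent.Helper23 Cfsg.Agent.Helper23.Blk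
open scoped ComplexConjugate

universe u

section GSide

variable {G : Type u} [Group G] [Finite G]

/-- the principal block as a finset -/
noncomputable def pbFinset (M : Ideal AlgInt) (G : Type u) [Group G] [Finite G] :
    Finset (IrrCharacter G) :=
  haveI := irr_finite' (G := G)
  (Set.toFinite (principalBlock M G)).toFinset

theorem mem_pbFinset {M : Ideal AlgInt} {χ : IrrCharacter G} :
    χ ∈ pbFinset M G ↔ χ ∈ principalBlock M G := by
  unfold pbFinset
  exact Set.Finite.mem_toFinset _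

theorem finsum_pb (M : Ideal AlgInt) {E : Type*} [AddCommMonoid E] (F : IrrCharacter G → E) :
    ∑ᶠ χ ∈ principalBlock M G, F χ = ∑ χ ∈ pbFinset M G, F χ := by
  unfold pbFinset
  exact finsum_mem_eq_finite_toFinset_sum F _

theorem isPPart_self' {p : ℕ} (hp : p.Prime) {g : G} (h : ∃ k : ℕ, orderOf g = p ^ k) :
    IsPPart p g g :=
  ⟨1, mul_one g, Commute.one_right g, h, by
    rw [orderOf_one]
    exact fun hd => hp.one_lt.ne' (Nat.dvd_one.1 hd)⟩

theorem orderOf_sylow_coe (P : Sylow 2 G) (a : (P : Subgroup G)) :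
    ∃ k : ℕ, orderOf (a : G) = 2 ^ k := by
  haveI : Fact (2 : ℕ).Prime := ⟨Nat.prime_two⟩
  obtain ⟨k, hk⟩ := (IsPGroup.iff_orderOf.1 P.isPGroup') a
  exact ⟨k, by rw [Subgroup.orderOf_coe]; exact hk⟩

/-- the column relation for a non-identity element of `P` with itself -/
theorem homo_col_same (M : Ideal AlgInt) (hM : IsPModular 2 M) (P : Sylow 2 G)
    (hcomm : ∀ x y : (P : Subgroup G), x * y = y * x) (a : (P : Subgroup G)) (ha : a ≠ 1)
    (hnil : ∃ k : ℕ,
      (Cfsg.pPrimeCore 2 (Subgroup.centralizer ({(a : G)} : Set G))).index = 2 ^ k) :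
    ∑ χ ∈ pbFinset M G, (χ : G → ℂ) a * conj ((χ : G → ℂ) a) =
      (Nat.card (P : Subgroup G) : ℂ) := by
  haveI : Fact (2 : ℕ).Prime := ⟨Nat.prime_two⟩
  have hz := orderOf_sylow_coe P a
  have hz1 : (a : G) ≠ 1 := fun h => ha (Subtype.ext h)
  have h1 := (Cfsg.Agent.S0947.result 2 M hM (a : G) hz hz1
    (1 : Subgroup.centralizer ({(a : G)} : Set G)) (by rw [orderOf_one]; norm_num)).2 hnil
  rw [Subgroup.coe_one, mul_one] at h1
  have hPH : (P : Subgroup G) ≤ Subgroup.centralizer ({(a : G)} : Set G) := by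
    intro x hx
    rw [Subgroup.mem_centralizer_iff]
    intro w hw
    rw [Set.mem_singleton_iff] at hw
    rw [hw]
    exact congrArg Subtype.val (hcomm a ⟨x, hx⟩)
  have hG0 : Nat.card G ≠ 0 := Nat.card_pos.ne'
  have hC0 : Nat.card (Subgroup.centralizer ({(a : G)} : Set G)) ≠ 0 := Nat.card_pos.ne'
  have hfC : (Nat.card (Subgroup.centralizer ({(a : G)} : Set G))).factorization 2 =
      (Nat.card G).factorization 2 := by
    apply le_antisymm
    · exact (Nat.factorization_le_iff_dvd hC0 hG0).mpr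
        (Subgroup.card_subgroup_dvd_card (Subgroup.centralizer ({(a : G)} : Set G))) 2
    · have h4 : 2 ^ (Nat.card G).factorization 2 ∣
          Nat.card (Subgroup.centralizer ({(a : G)} : Set G)) := by
        have := Subgroup.card_dvd_of_le hPH
        rw [P.card_eq_multiplicity] at this
        exact this
      exact (Nat.Prime.pow_dvd_iff_le_factorization Nat.prime_two hC0).mp h4
  rw [hfC, ← P.card_eq_multiplicity, finsum_pb] at h1
  have h2 : ∑ χ ∈ pbFinset M G, (χ : G → ℂ) a * conj ((χ : G → ℂ) a) =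
      ((∑ χ ∈ pbFinset M G, ‖(χ : G → ℂ) a‖ ^ 2 : ℝ) : ℂ) := by
    push_cast
    refine Finset.sum_congr rfl fun χ _ => ?_
    rw [Complex.mul_conj, Complex.normSq_eq_norm_sq]
    push_cast
    rfl
  rw [h2, h1]
  push_cast
  rfl

/-- **Column relations** of the principal block on a homocyclic Sylow `2`-subgroup. -/
theorem homo_col (M : Ideal AlgInt) (hM : IsPModular 2 M) (P : Sylow 2 G)
    [DecidableEq (P : Subgroup G)]
    (hcomm : ∀ x y : (P : Subgroup G), x * y = y * x)
    (ν : (P : Subgroup G) ≃* (P : Subgroup G)) (hν3 : ∀ a, ν (ν (ν a)) = a)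
    (hfpf : ∀ a, ν a = a → a = 1)
    (hconj : ∀ a : (P : Subgroup G), IsConj (a : G) ((ν a : (P : Subgroup G)) : G))
    (hfus : ∀ a b : (P : Subgroup G), IsConj (a : G) (b : G) → b = a ∨ b = ν a ∨ b = ν (ν a))
    (hnil : ∀ a : (P : Subgroup G), a ≠ 1 → ∃ k : ℕ,
        (Cfsg.pPrimeCore 2 (Subgroup.centralizer ({(a : G)} : Set G))).index = 2 ^ k)
    (a a' : (P : Subgroup G)) (ha : a ≠ 1) (ha' : a' ≠ 1) :
    ∑ χ ∈ pbFinset M G, (χ : G → ℂ) a * conj ((χ : G → ℂ) a') =
      (Nat.card (P : Subgroup G) : ℂ) * ((if a' = a then 1 else 0) +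
        (if a' = ν a then 1 else 0) + (if a' = ν (ν a) then 1 else 0)) := by
  haveI : Fact (2 : ℕ).Prime := ⟨Nat.prime_two⟩
  haveI : Fintype G := Fintype.ofFinite G
  have hd1 : ν a ≠ a := fun h => ha (hfpf a h)
  have hd2 : ν (ν a) ≠ a := by
    intro h
    apply hd1
    have h2 := congrArg ν h
    rw [hν3] at h2
    exact h2.symm
  have hd3 : ν (ν a) ≠ ν a := fun h => hd1 (ν.injective h)
  by_cases hc : IsConj (a : G) (a' : G)
  · have hval : ∀ χ : IrrCharacter G, (χ : G → ℂ) a' = (χ : G → ℂ) a := by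
      intro χ
      obtain ⟨c, hc'⟩ := isConj_iff.1 hc
      rw [← hc']
      exact isClassFunction_of_isIrrCharacter χ.2 a c
    have hsum : ∑ χ ∈ pbFinset M G, (χ : G → ℂ) a * conj ((χ : G → ℂ) a') =
        (Nat.card (P : Subgroup G) : ℂ) := by
      rw [← homo_col_same M hM P hcomm a ha (hnil a ha)]
      refine Finset.sum_congr rfl fun χ _ => ?_
      rw [hval]
    rw [hsum]
    rcases hfus a a' hc with h | h | h
    · rw [h, if_pos rfl, if_neg hd1.symm, if_neg hd2.symm]; ring
    · rw [h, if_neg hd1, if_pos rfl, if_neg hd3.symm]; ring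
    · rw [h, if_neg hd2, if_neg hd3, if_pos rfl]; ring
  · have h1 : a' ≠ a := by
      intro h
      apply hc
      rw [h]
    have h2 : a' ≠ ν a := by
      intro h
      apply hc
      rw [h]
      exact hconj a
    have h3 : a' ≠ ν (ν a) := by
      intro h
      apply hc
      rw [h]
      exact (hconj a).trans (hconj (ν a))
    rw [if_neg h1, if_neg h2, if_neg h3]
    have hbo := block_orthogonality hM (isPPart_self' Nat.prime_two (orderOf_sylow_coe P a))
      (isPPart_self' Nat.prime_two (orderOf_sylow_coe P a')) hc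
      (B := principalBlock M G) isPBlock_principalBlock
    rw [finsum_pb] at hbo
    rw [show ((0 : ℂ) + 0 + 0) = 0 by ring, mul_zero, ← hbo]
    refine Finset.sum_congr rfl fun χ _ => ?_
    rw [irr_inv (isCharacter_of_isIrrCharacter χ.2)]

/-- the degree relation -/
theorem homo_deg_rel (M : Ideal AlgInt) (hM : IsPModular 2 M) (P : Sylow 2 G)
    (a : (P : Subgroup G)) (ha : a ≠ 1) :
    ∑ χ ∈ pbFinset M G, (charDegree (χ : G → ℂ) : ℂ) * (χ : G → ℂ) a = 0 := by
  haveI : Fintype G := Fintype.ofFinite G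
  have hc : ¬ IsConj (a : G) 1 := by
    intro h
    rw [isConj_one_left] at h
    exact ha (Subtype.ext h)
  have hbo := block_orthogonality hM (isPPart_self' Nat.prime_two (orderOf_sylow_coe P a))
    (isPPart_self' Nat.prime_two (g := (1 : G)) ⟨0, by rw [orderOf_one, pow_zero]⟩) hc
    (B := principalBlock M G) isPBlock_principalBlock
  rw [finsum_pb] at hbo
  rw [← hbo]
  refine Finset.sum_congr rfl fun χ _ => ?_
  rw [inv_one, irr_one_eq_charDegree χ.2, mul_comm]

/-- **The class multiplication relation**: products of two involutions have real `2`-parts,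
while the elements of order at least four of `P` are not real. -/
theorem homo_class_rel (M : Ideal AlgInt) (hM : IsPModular 2 M) (P : Sylow 2 G)
    (ν : (P : Subgroup G) ≃* (P : Subgroup G)) (hν3 : ∀ a, ν (ν (ν a)) = a)
    (hfpf : ∀ a, ν a = a → a = 1)
    (hfus : ∀ a b : (P : Subgroup G), IsConj (a : G) (b : G) → b = a ∨ b = ν a ∨ b = ν (ν a))
    (z p : (P : Subgroup G)) (hz : z * z = 1) (hp : p * p ≠ 1) :
    ∑ χ ∈ pbFinset M G, (χ : G → ℂ) z * (χ : G → ℂ) z * conj ((χ : G → ℂ) p) /
      (charDegree (χ : G → ℂ) : ℂ) = 0 := by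
  haveI : Fintype G := Fintype.ofFinite G
  -- `p` is not real
  have hpinv : ¬ IsConj (p : G) ((p : G)⁻¹) := by
    intro h
    have h' : IsConj (p : G) ((p⁻¹ : (P : Subgroup G)) : G) := by
      rw [Subgroup.coe_inv]
      exact h
    rcases hfus p p⁻¹ h' with h1 | h1 | h1
    · apply hp
      nth_rewrite 1 [← h1]
      exact inv_mul_cancel p
    · have h2 : ν (ν p) = p := by rw [← h1, map_inv, ← h1, inv_inv]
      have h3 : ν p = p := by
        have := congrArg ν h2
        rw [hν3] at this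
        exact this.symm
      have := hfpf p h3
      apply hp
      rw [this, mul_one]
    · have h2 : (ν p)⁻¹ = p := by rw [← map_inv, h1, hν3]
      have h3 : ν p = ν (ν p) := by
        calc ν p = ((ν p)⁻¹)⁻¹ := (inv_inv _).symm
          _ = p⁻¹ := by rw [h2]
          _ = ν (ν p) := h1
      have h4 : p = ν p := ν.injective h3
      have := hfpf p h4.symm
      apply hp
      rw [this, mul_one]
  have hzz : (z : G) * z = 1 := by
    have := congrArg Subtype.val hz
    rwa [Subgroup.coe_mul, Subgroup.coe_one] at this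
  have hzinv : (z : G)⁻¹ = z := inv_eq_of_mul_eq_one_left hzz
  -- termwise vanishing
  have hterm : ∀ y : G, ∑ χ ∈ pbFinset M G, (χ : G → ℂ) ((z : G) * (y * z * y⁻¹)) *
      conj ((χ : G → ℂ) p) = 0 := by
    intro y
    set t : G := y * z * y⁻¹ with ht
    have htt : t * t = 1 := by
      rw [ht]
      calc y * z * y⁻¹ * (y * z * y⁻¹) = y * ((z : G) * z) * y⁻¹ := by group
        _ = 1 := by rw [hzz]; group
    have htinv : t⁻¹ = t := inv_eq_of_mul_eq_one_left htt
    set g : G := (z : G) * t with hg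
    have hginv : (z : G) * g * (z : G)⁻¹ = g⁻¹ := by
      rw [hg, mul_inv_rev, htinv, ← mul_assoc, hzz, one_mul]
    obtain ⟨x, hx⟩ := exists_isPPart Nat.prime_two g (orderOf_pos g)
    have hxg : x ∈ Subgroup.zpowers g := by
      have := IsPPart.mem_zpowers_pow Nat.prime_two hx 1 (by norm_num)
      rwa [pow_one] at this
    have hxinv : (z : G) * x * (z : G)⁻¹ = x⁻¹ := by
      obtain ⟨k, hk⟩ := Subgroup.mem_zpowers_iff.1 hxg
      rw [← hk]
      have h1 := map_zpow (MulAut.conj (z : G)) g k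
      rw [MulAut.conj_apply, MulAut.conj_apply, hginv, inv_zpow] at h1
      exact h1
    have hnc : ¬ IsConj x (p : G) := by
      intro h
      apply hpinv
      have h1 : IsConj x x⁻¹ := isConj_iff.2 ⟨z, hxinv⟩
      have h2 : IsConj x⁻¹ (p : G)⁻¹ := by
        obtain ⟨c, hc⟩ := isConj_iff.1 h
        exact isConj_iff.2 ⟨c, by rw [← hc]; group⟩
      exact h.symm.trans (h1.trans h2)
    have hbo := block_orthogonality hM hx
      (isPPart_self' Nat.prime_two (orderOf_sylow_coe P p)) hnc
      (B := principalBlock M G) isPBlock_principalBlock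
    rw [finsum_pb] at hbo
    rw [← hbo]
    refine Finset.sum_congr rfl fun χ _ => ?_
    rw [irr_inv (isCharacter_of_isIrrCharacter χ.2)]
  have hsum : ∑ y : G, ∑ χ ∈ pbFinset M G, (χ : G → ℂ) ((z : G) * (y * z * y⁻¹)) *
      conj ((χ : G → ℂ) p) = 0 := Finset.sum_eq_zero (fun y _ => hterm y)
  rw [Finset.sum_comm] at hsum
  have hinner : ∀ χ : IrrCharacter G, ∑ y : G, (χ : G → ℂ) ((z : G) * (y * z * y⁻¹)) *
      conj ((χ : G → ℂ) p) = (Nat.card G : ℂ) * ((χ : G → ℂ) z * (χ : G → ℂ) z *
        conj ((χ : G → ℂ) p) / (charDegree (χ : G → ℂ) : ℂ)) := by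
    intro χ
    rw [← Finset.sum_mul, sum_char_mul_conj χ.2, irr_one_eq_charDegree χ.2]
    ring
  rw [Finset.sum_congr rfl (fun χ _ => hinner χ), ← Finset.mul_sum] at hsum
  have hG : (Nat.card G : ℂ) ≠ 0 := by exact_mod_cast (Nat.card_pos (α := G)).ne'
  exact (mul_eq_zero.1 hsum).resolve_left hG

end GSide

end Cfsg.Agent.Helper7.Homo
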