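import Mathlib
import Cfsg.Agent.Lib.Helper7.Homo8
import Cfsg.Agent.Lib.Helper24.CharAlgebra

/-!
# Brauer's principal-block column identities: coefficients `a_χ(θ)` (helper7's library)
-/

set_option autoImplicit false

namespace Cfsg.Agent.Helper7.BrCol

open Cfsg Cfsg.Agent.Helper24 Cfsg.Agent.Helper23 Cfsg.Agent.Helper23.Blk
open Cfsg.Agent.Helper7.Homo
open scoped ComplexConjugate

universe u

section Coef

variable {G : Type u} [Group G] [Finite G]

/-- the coefficient `a_χ(θ) = |P|⁻¹ Σ_{y ∈ P} χ(y) θ(y⁻¹)` -/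
noncomputable def acoef (P : Subgroup G) (θ : ↥P → ℂ) (χ : G → ℂ) : ℂ :=
  (Nat.card ↥P : ℂ)⁻¹ * ∑ᶠ y : ↥P, χ (y : G) * θ y⁻¹

theorem acoef_eq_sum (P : Subgroup G) [Fintype ↥P] (θ : ↥P → ℂ) (χ : G → ℂ) :
    acoef P θ χ = (Nat.card ↥P : ℂ)⁻¹ * ∑ y : ↥P, χ (y : G) * θ y⁻¹ := by
  unfold acoef
  rw [finsum_eq_sum_of_fintype]

/-- a generalized character satisfies `θ(y⁻¹) = conj θ(y)` -/
theorem genChar_inv {H : Type*} [Group H] [Finite H] {θ : H → ℂ}
    (hθ : IsGeneralizedCharacter H θ) (y : H) : θ y⁻¹ = conj (θ y) := by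
  obtain ⟨α, β, hα, hβ, rfl⟩ := hθ
  simp only [Pi.sub_apply, map_sub]
  rw [irr_inv hα, irr_inv hβ]

/-- the coefficients are integers -/
theorem acoef_int (P : Subgroup G) {θ : ↥P → ℂ} (hθ : IsGeneralizedCharacter ↥P θ)
    {χ : G → ℂ} (hχ : IsCharacter G χ) : ∃ n : ℤ, acoef P θ χ = n := by
  classical
  haveI : Fintype ↥P := Fintype.ofFinite _
  letI : Fintype (IrrCharacter ↥P) := irrFintype
  have hχP : IsCharacter ↥P (fun y : ↥P => χ (y : G)) := isCharacter_restrict P hχ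
  have h1 : acoef P θ χ = classInner (fun y : ↥P => χ (y : G)) θ := by
    rw [acoef_eq_sum]
    unfold classInner
    congr 1
    refine Finset.sum_congr rfl fun y _ => ?_
    rw [genChar_inv hθ]
  obtain ⟨α, β, hα, hβ, rfl⟩ := hθ
  obtain ⟨n₁, hn₁⟩ := classInner_char_nat hχP hα
  obtain ⟨n₂, hn₂⟩ := classInner_char_nat hχP hβ
  refine ⟨(n₁ : ℤ) - n₂, ?_⟩
  rw [h1, sub_eq_add_neg, classInner_add_right]
  have : (-β : ↥P → ℂ) = (-1 : ℂ) • β := by
    funext y
    simp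
  rw [this, classInner_smul_right, hn₁, hn₂]
  simp
  ring

/-- interchange of summations -/
theorem sum_acoef_mul (M : Ideal AlgInt) (P : Subgroup G) [Fintype ↥P] (θ : ↥P → ℂ)
    (F : IrrCharacter G → ℂ) :
    ∑ χ ∈ pbFinset M G, acoef P θ (χ : G → ℂ) * F χ =
      (Nat.card ↥P : ℂ)⁻¹ * ∑ y : ↥P, θ y⁻¹ *
        ∑ χ ∈ pbFinset M G, (χ : G → ℂ) (y : G) * F χ := by
  simp only [acoef_eq_sum, Finset.mul_sum, Finset.sum_mul]
  rw [Finset.sum_comm]
  refine Finset.sum_congr rfl fun y _ => Finset.sum_congr rfl fun χ _ => ?_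
  ring

/-- if all the relevant column sums vanish, so does the weighted sum -/
theorem sum_acoef_mul_eq_zero (M : Ideal AlgInt) (P : Subgroup G) (U : Set G) (θ : ↥P → ℂ)
    (hθU : ∀ y : ↥P, (y : G) ∉ U → θ y = 0) (F : IrrCharacter G → ℂ)
    (hF : ∀ u : ↥P, (u : G) ∈ U → ∑ χ ∈ pbFinset M G, (χ : G → ℂ) ((u : G)⁻¹) * F χ = 0) :
    ∑ χ ∈ pbFinset M G, acoef P θ (χ : G → ℂ) * F χ = 0 := by
  haveI : Fintype ↥P := Fintype.ofFinite _
  rw [sum_acoef_mul]
  have : ∀ y : ↥P, θ y⁻¹ * ∑ χ ∈ pbFinset M G, (χ : G → ℂ) (y : G) * F χ = 0 := by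
    intro y
    by_cases hy : ((y⁻¹ : ↥P) : G) ∈ U
    · have := hF y⁻¹ hy
      rw [Subgroup.coe_inv, inv_inv] at this
      rw [this, mul_zero]
    · rw [hθU y⁻¹ hy, zero_mul]
  simp only [this, Finset.sum_const_zero, mul_zero]

end Coef

section Cols

variable {G : Type u} [Group G] [Finite G]

/-- products of two conjugates of an involution `t` have `2`-parts inverted by `t`; hence the
class multiplication relation against a `2`-element not inverted by any conjugate of `t` -/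
theorem class_rel_of_not_inverted (M : Ideal AlgInt) (hM : IsPModular 2 M) (t : G)
    (ht : t * t = 1) (u : G) (hu2 : ∃ k : ℕ, orderOf u = 2 ^ k)
    (hni : ∀ g : G, (g * t * g⁻¹) * u * (g * t * g⁻¹)⁻¹ ≠ u⁻¹) :
    ∑ χ ∈ pbFinset M G, (χ : G → ℂ) u⁻¹ * ((χ : G → ℂ) t ^ 2 / (χ : G → ℂ) 1) = 0 := by
  haveI : Fintype G := Fintype.ofFinite G
  have htinv : t⁻¹ = t := inv_eq_of_mul_eq_one_left ht
  have hterm : ∀ y : G, ∑ χ ∈ pbFinset M G, (χ : G → ℂ) (t * (y * t * y⁻¹)) *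
      (χ : G → ℂ) u⁻¹ = 0 := by
    intro y
    set s : G := y * t * y⁻¹ with hs
    have hss : s * s = 1 := by
      rw [hs]
      calc y * t * y⁻¹ * (y * t * y⁻¹) = y * (t * t) * y⁻¹ := by group
        _ = 1 := by rw [ht]; group
    have hsinv : s⁻¹ = s := inv_eq_of_mul_eq_one_left hss
    set g : G := t * s with hg
    have hginv : t * g * t⁻¹ = g⁻¹ := by
      rw [hg, mul_inv_rev, hsinv, ← mul_assoc, ht, one_mul]
    obtain ⟨x, hx⟩ := exists_isPPart Nat.prime_two g (orderOf_pos g)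
    have hxg : x ∈ Subgroup.zpowers g := by
      have := IsPPart.mem_zpowers_pow Nat.prime_two hx 1 (by norm_num)
      rwa [pow_one] at this
    have hxinv : t * x * t⁻¹ = x⁻¹ := by
      obtain ⟨k, hk⟩ := Subgroup.mem_zpowers_iff.1 hxg
      rw [← hk]
      have h1 := map_zpow (MulAut.conj t) g k
      rw [MulAut.conj_apply, MulAut.conj_apply, hginv, inv_zpow] at h1
      exact h1
    have hnc : ¬ IsConj x u := by
      intro h
      obtain ⟨c, hc⟩ := isConj_iff.1 h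
      apply hni c
      rw [← hc]
      calc c * t * c⁻¹ * (c * x * c⁻¹) * (c * t * c⁻¹)⁻¹ = c * (t * x * t⁻¹) * c⁻¹ := by group
        _ = (c * x * c⁻¹)⁻¹ := by rw [hxinv]; group
    have hbo := block_orthogonality hM hx (isPPart_self' Nat.prime_two hu2) hnc
      (B := principalBlock M G) isPBlock_principalBlock
    rw [finsum_pb] at hbo
    exact hbo
  have hsum : ∑ y : G, ∑ χ ∈ pbFinset M G, (χ : G → ℂ) (t * (y * t * y⁻¹)) *
      (χ : G → ℂ) u⁻¹ = 0 := Finset.sum_eq_zero (fun y _ => hterm y)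
  rw [Finset.sum_comm] at hsum
  have hinner : ∀ χ : IrrCharacter G, ∑ y : G, (χ : G → ℂ) (t * (y * t * y⁻¹)) *
      (χ : G → ℂ) u⁻¹ = (Nat.card G : ℂ) * ((χ : G → ℂ) u⁻¹ *
        ((χ : G → ℂ) t ^ 2 / (χ : G → ℂ) 1)) := by
    intro χ
    rw [← Finset.sum_mul, sum_char_mul_conj χ.2]
    ring
  rw [Finset.sum_congr rfl (fun χ _ => hinner χ), ← Finset.mul_sum] at hsum
  have hG : (Nat.card G : ℂ) ≠ 0 := by exact_mod_cast (Nat.card_pos (α := G)).ne'
  exact (mul_eq_zero.1 hsum).resolve_left hG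

/-- block orthogonality in finset form -/
theorem col_zero {p : ℕ} (M : Ideal AlgInt) (hM : IsPModular p M) {g x u : G}
    (hgx : IsPPart p g x) (hu : ∃ k : ℕ, orderOf u = p ^ k) (hnc : ¬ IsConj x u) :
    ∑ χ ∈ pbFinset M G, (χ : G → ℂ) u⁻¹ * (χ : G → ℂ) g = 0 := by
  haveI : Fintype G := Fintype.ofFinite G
  have hbo := block_orthogonality hM hgx (isPPart_self' hM.1 hu) hnc
    (B := principalBlock M G) isPBlock_principalBlock
  rw [finsum_pb] at hbo
  rw [← hbo]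
  refine Finset.sum_congr rfl fun χ _ => ?_
  ring

end Cols

end Cfsg.Agent.Helper7.BrCol
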