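import Mathlib
import Cfsg.Agent.Lib.Helper7.BrCol1
import Cfsg.Agent.Lib.Helper16.ClassSumTools
import Cfsg.Agent.S0938

/-!
# Brauer's principal-block column vanishing for `p = 2` (helper7's library)
-/

set_option autoImplicit false

namespace Cfsg.Agent.Helper7.BrCol

open Cfsg Cfsg.Agent.Helper24 Cfsg.Agent.Helper23 Cfsg.Agent.Helper23.Blk
open Cfsg.Agent.Helper7.Homo
open scoped ComplexConjugate

universe u

/-- A real weighted family with three vanishing moments and at most one positive weight is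
proportional on the support of the weights. -/
theorem sign_lemma {ι : Type*} (X : Finset ι) (α τ d : ι → ℝ) (hd : ∀ x ∈ X, 0 < d x)
    (h1 : ∑ x ∈ X, α x * d x = 0) (h2 : ∑ x ∈ X, α x * τ x = 0)
    (h3 : ∑ x ∈ X, α x * (τ x ^ 2 / d x) = 0)
    (hpos : ∀ x ∈ X, ∀ x' ∈ X, 0 < α x → 0 < α x' → x = x') :
    ∃ c : ℝ, ∀ x ∈ X, α x ≠ 0 → τ x = c * d x := by
  have hid : ∀ c : ℝ, ∑ x ∈ X, α x * ((τ x - c * d x) ^ 2 / d x) = 0 := by
    intro c
    have e : ∀ x ∈ X, α x * ((τ x - c * d x) ^ 2 / d x) =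
        α x * (τ x ^ 2 / d x) - 2 * c * (α x * τ x) + c ^ 2 * (α x * d x) := by
      intro x hx
      have := (hd x hx).ne'
      field_simp
      ring
    rw [Finset.sum_congr rfl e, Finset.sum_add_distrib, Finset.sum_sub_distrib,
      ← Finset.mul_sum, ← Finset.mul_sum, h1, h2, h3]
    ring
  by_cases hex : ∃ x₀ ∈ X, 0 < α x₀
  · obtain ⟨x₀, hx₀, hα₀⟩ := hex
    refine ⟨τ x₀ / d x₀, ?_⟩
    have hd₀ := (hd x₀ hx₀).ne'
    have hnonpos : ∀ x ∈ X, α x * ((τ x - τ x₀ / d x₀ * d x) ^ 2 / d x) ≤ 0 := by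
      intro x hx
      by_cases hxx : x = x₀
      · rw [hxx]
        have : τ x₀ - τ x₀ / d x₀ * d x₀ = 0 := by field_simp; ring
        rw [this]
        simp
      · have hαx : α x ≤ 0 := by
          by_contra hcon
          push Not at hcon
          exact hxx (hpos x hx x₀ hx₀ hcon hα₀)
        have : 0 ≤ (τ x - τ x₀ / d x₀ * d x) ^ 2 / d x :=
          div_nonneg (sq_nonneg _) (hd x hx).le
        exact mul_nonpos_of_nonpos_of_nonneg hαx this
    have hzero := (Finset.sum_eq_zero_iff_of_nonpos hnonpos).1 (hid _)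
    intro x hx hαx
    have h4 := hzero x hx
    rcases mul_eq_zero.1 h4 with h5 | h5
    · exact absurd h5 hαx
    · rcases div_eq_zero_iff.1 h5 with h6 | h6
      · have := pow_eq_zero_iff (two_ne_zero) |>.1 h6
        linarith
      · exact absurd h6 (hd x hx).ne'
  · push Not at hex
    refine ⟨0, ?_⟩
    have hnonpos : ∀ x ∈ X, α x * d x ≤ 0 :=
      fun x hx => mul_nonpos_of_nonpos_of_nonneg (hex x hx) (hd x hx).le
    have hzero := (Finset.sum_eq_zero_iff_of_nonpos hnonpos).1 h1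
    intro x hx hαx
    exfalso
    rcases mul_eq_zero.1 (hzero x hx) with h5 | h5
    · exact hαx h5
    · exact (hd x hx).ne' h5

section Main

variable {G : Type u} [Group G] [Finite G]

/-- the three vanishing sums -/
theorem column_vanishing (M : Ideal AlgInt) (hM : IsPModular 2 M) (P : Subgroup G)
    (hP : IsPGroup 2 P) (U : Set G) (hUP : U ⊆ (P : Set G)) (t : G) (ht : orderOf t = 2)
    (hinv : ∀ u ∈ U, ∀ g : G, (g * t * g⁻¹) * u * (g * t * g⁻¹)⁻¹ ≠ u⁻¹)
    (θ : ↥P → ℂ) (hθU : ∀ y : ↥P, (y : G) ∉ U → θ y = 0) :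
    (∑ χ ∈ pbFinset M G, acoef P θ (χ : G → ℂ) * ((χ : G → ℂ) t ^ 2 / (χ : G → ℂ) 1) = 0) ∧
    (∑ χ ∈ pbFinset M G, acoef P θ (χ : G → ℂ) * (χ : G → ℂ) 1 = 0) ∧
    (∑ χ ∈ pbFinset M G, acoef P θ (χ : G → ℂ) * (χ : G → ℂ) t = 0) := by
  haveI : Fact (Nat.Prime 2) := ⟨Nat.prime_two⟩
  have htt : t * t = 1 := by
    have := pow_orderOf_eq_one t
    rwa [ht, pow_two] at this
  have ht1 : t ≠ 1 := by
    intro h
    rw [h, orderOf_one] at ht
    norm_num at ht
  have hu2 : ∀ u : ↥P, ∃ k : ℕ, orderOf (u : G) = 2 ^ k := by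
    intro u
    obtain ⟨k, hk⟩ := (IsPGroup.iff_orderOf.1 hP) u
    exact ⟨k, by rw [Subgroup.orderOf_coe]; exact hk⟩
  have hU1 : ∀ u : ↥P, (u : G) ∈ U → (u : G) ≠ 1 := by
    intro u hu h1
    apply hinv (u : G) hu 1
    rw [h1]
    group
  refine ⟨?_, ?_, ?_⟩
  · apply sum_acoef_mul_eq_zero M P U θ hθU
    intro u hu
    exact class_rel_of_not_inverted M hM t htt (u : G) (hu2 u) (hinv (u : G) hu)
  · apply sum_acoef_mul_eq_zero M P U θ hθU
    intro u hu
    apply col_zero M hM (g := 1) (x := 1)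
      (isPPart_self' Nat.prime_two ⟨0, by rw [orderOf_one, pow_zero]⟩) (hu2 u)
    intro h
    rw [isConj_comm, isConj_one_left] at h
    exact hU1 u hu h
  · apply sum_acoef_mul_eq_zero M P U θ hθU
    intro u hu
    apply col_zero M hM (g := t) (x := t)
      (isPPart_self' Nat.prime_two ⟨1, by rw [ht, pow_one]⟩) (hu2 u)
    intro h
    obtain ⟨c, hc⟩ := isConj_iff.1 h
    apply hinv (u : G) hu c
    rw [hc]
    have huu : (u : G) * u = 1 := by
      rw [← hc]
      calc c * t * c⁻¹ * (c * t * c⁻¹) = c * (t * t) * c⁻¹ := by group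
        _ = 1 := by rw [htt]; group
    have : (u : G)⁻¹ = u := inv_eq_of_mul_eq_one_left huu
    rw [this, huu, one_mul]

/-- the principal coefficient -/
theorem acoef_principal (P : Subgroup G) (θ : ↥P → ℂ) :
    acoef P θ ((principalChar G : IrrCharacter G) : G → ℂ) =
      (Nat.card ↥P : ℂ)⁻¹ * ∑ᶠ y : ↥P, θ y := by
  unfold acoef
  congr 1
  have : ∀ y : ↥P, ((principalChar G : IrrCharacter G) : G → ℂ) (y : G) * θ y⁻¹ =
      θ ((Equiv.inv ↥P) y) := by
    intro y
    show (1 : ℂ) * θ y⁻¹ = θ y⁻¹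
    rw [one_mul]
  simp only [this]
  exact finsum_comp_equiv (Equiv.inv ↥P) (f := θ)

/-- the sign alternative -/
theorem column_sign (M : Ideal AlgInt) (hM : IsPModular 2 M) (P : Subgroup G)
    (hP : IsPGroup 2 P) (U : Set G) (hUP : U ⊆ (P : Set G)) (t : G) (ht : orderOf t = 2)
    (hinv : ∀ u ∈ U, ∀ g : G, (g * t * g⁻¹) * u * (g * t * g⁻¹)⁻¹ ≠ u⁻¹)
    (θ : ↥P → ℂ) (hθ : IsGeneralizedCharacter ↥P θ) (hθU : ∀ y : ↥P, (y : G) ∉ U → θ y = 0)
    (hne : (Nat.card ↥P : ℂ)⁻¹ * ∑ᶠ y : ↥P, θ y ≠ 0) :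
    (2 ≤ Nat.card {χ : IrrCharacter G // χ ∈ principalBlock M G ∧
        0 < (acoef P θ (χ : G → ℂ)).re} ∧
      2 ≤ Nat.card {χ : IrrCharacter G // χ ∈ principalBlock M G ∧
        (acoef P θ (χ : G → ℂ)).re < 0}) ∨
    ∃ K : Subgroup G, K.Normal ∧ K ≠ ⊤ ∧ Cfsg.pPrimeCore 2 G ≤ K ∧ t ∈ K := by
  classical
  haveI : Fact (Nat.Prime 2) := ⟨Nat.prime_two⟩
  haveI hMp : M.IsPrime := hM.2.1.isPrime
  haveI : Fintype G := Fintype.ofFinite G
  letI : Fintype (IrrCharacter G) := irrFintype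
  obtain ⟨hv1, hv2, hv3⟩ := column_vanishing M hM P hP U hUP t ht hinv θ hθU
  set X := pbFinset M G with hX
  set α : IrrCharacter G → ℝ := fun χ => (acoef P θ (χ : G → ℂ)).re with hα
  set τ : IrrCharacter G → ℝ := fun χ => ((χ : G → ℂ) t).re with hτ
  set d : IrrCharacter G → ℝ := fun χ => (charDegree (χ : G → ℂ) : ℝ) with hd
  have htt : t ^ 2 = 1 := by
    have := pow_orderOf_eq_one t
    rwa [ht] at this
  have hαc : ∀ χ : IrrCharacter G, acoef P θ (χ : G → ℂ) = ((α χ : ℝ) : ℂ) := by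
    intro χ
    obtain ⟨n, hn⟩ := acoef_int P hθ (isCharacter_of_isIrrCharacter χ.2)
    simp only [hα]
    rw [hn]
    simp
  have hτc : ∀ χ : IrrCharacter G, (χ : G → ℂ) t = ((τ χ : ℝ) : ℂ) := by
    intro χ
    obtain ⟨n, hn⟩ := Cfsg.Agent.Helper16.char_involution_int
      (isCharacter_of_isIrrCharacter χ.2) htt
    simp only [hτ]
    rw [hn]
    simp
  have hdc : ∀ χ : IrrCharacter G, (χ : G → ℂ) 1 = ((d χ : ℝ) : ℂ) := by
    intro χ
    simp only [hd]
    rw [irr_one_eq_charDegree χ.2]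
    simp
  have hdpos : ∀ χ ∈ X, 0 < d χ := by
    intro χ _
    simp only [hd]
    exact_mod_cast charDegree_pos χ.2
  -- real identities
  have hr1 : ∑ χ ∈ X, α χ * d χ = 0 := by
    have : ((∑ χ ∈ X, α χ * d χ : ℝ) : ℂ) = 0 := by
      rw [← hv2]
      push_cast
      refine Finset.sum_congr rfl fun χ _ => ?_
      rw [hαc χ, hdc χ]
    exact_mod_cast this
  have hr2 : ∑ χ ∈ X, α χ * τ χ = 0 := by
    have : ((∑ χ ∈ X, α χ * τ χ : ℝ) : ℂ) = 0 := by
      rw [← hv3]
      push_cast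
      refine Finset.sum_congr rfl fun χ _ => ?_
      rw [hαc χ, hτc χ]
    exact_mod_cast this
  have hr3 : ∑ χ ∈ X, α χ * (τ χ ^ 2 / d χ) = 0 := by
    have : ((∑ χ ∈ X, α χ * (τ χ ^ 2 / d χ) : ℝ) : ℂ) = 0 := by
      rw [← hv1]
      push_cast
      refine Finset.sum_congr rfl fun χ _ => ?_
      rw [hαc χ, hτc χ, hdc χ]
    exact_mod_cast this
  -- cardinalities
  have hcardpos : Nat.card {χ : IrrCharacter G // χ ∈ principalBlock M G ∧
      0 < (acoef P θ (χ : G → ℂ)).re} = (X.filter (fun χ => 0 < α χ)).card := by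
    rw [Nat.card_eq_fintype_card, Fintype.card_subtype]
    congr 1
    ext χ
    simp only [Finset.mem_filter, Finset.mem_univ, true_and, hX, mem_pbFinset, hα]
  have hcardneg : Nat.card {χ : IrrCharacter G // χ ∈ principalBlock M G ∧
      (acoef P θ (χ : G → ℂ)).re < 0} = (X.filter (fun χ => α χ < 0)).card := by
    rw [Nat.card_eq_fintype_card, Fintype.card_subtype]
    congr 1
    ext χ
    simp only [Finset.mem_filter, Finset.mem_univ, true_and, hX, mem_pbFinset, hα]
  rw [hcardpos, hcardneg]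
  by_cases hboth : 2 ≤ (X.filter (fun χ => 0 < α χ)).card ∧
      2 ≤ (X.filter (fun χ => α χ < 0)).card
  · left; exact hboth
  right
  -- proportionality
  have hprop : ∃ c : ℝ, ∀ χ ∈ X, α χ ≠ 0 → τ χ = c * d χ := by
    rcases not_and_or.1 hboth with h | h
    · apply sign_lemma X α τ d hdpos hr1 hr2 hr3
      intro x hx x' hx' hpx hpx'
      have hle : (X.filter (fun χ => 0 < α χ)).card ≤ 1 := by omega
      exact Finset.card_le_one.1 hle x (Finset.mem_filter.2 ⟨hx, hpx⟩) x'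
        (Finset.mem_filter.2 ⟨hx', hpx'⟩)
    · have h' := sign_lemma X (fun χ => -α χ) τ d hdpos
        (by simp only [neg_mul, Finset.sum_neg_distrib, hr1, neg_zero])
        (by simp only [neg_mul, Finset.sum_neg_distrib, hr2, neg_zero])
        (by simp only [neg_mul, Finset.sum_neg_distrib, hr3, neg_zero])
        (by
          intro x hx x' hx' hpx hpx'
          have hle : (X.filter (fun χ => α χ < 0)).card ≤ 1 := by omega
          exact Finset.card_le_one.1 hle x (Finset.mem_filter.2 ⟨hx, by linarith⟩) x'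
            (Finset.mem_filter.2 ⟨hx', by linarith⟩))
      obtain ⟨c, hc⟩ := h'
      exact ⟨c, fun χ hχ hαχ => hc χ hχ (by simpa using hαχ)⟩
  obtain ⟨c, hc⟩ := hprop
  -- the principal character
  have hx₀ : principalChar G ∈ X := mem_pbFinset.2 principalChar_mem_principalBlock
  have hα₀ : α (principalChar G) ≠ 0 := by
    intro h
    apply hne
    rw [← acoef_principal, hαc, h]
    simp
  have hτ₀ : τ (principalChar G) = 1 := by
    simp only [hτ]
    show ((1 : ℂ)).re = 1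
    simp
  have hd₀ : d (principalChar G) = 1 := by
    have h1 : (charDegree ((principalChar G : IrrCharacter G) : G → ℂ) : ℂ) = 1 := by
      rw [← irr_one_eq_charDegree (principalChar G).2]
      rfl
    simp only [hd]
    exact_mod_cast h1
  have hc1 : c = 1 := by
    have := hc _ hx₀ hα₀
    rw [hτ₀, hd₀, mul_one] at this
    exact this.symm
  -- a nonprincipal member with nonzero coefficient
  have hex : ∃ χ ∈ X, χ ≠ principalChar G ∧ α χ ≠ 0 := by
    by_contra hcon
    push Not at hcon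
    have : ∑ χ ∈ X, α χ * d χ = α (principalChar G) * d (principalChar G) := by
      apply Finset.sum_eq_single_of_mem _ hx₀
      intro χ hχ hne'
      rw [hcon χ hχ hne', zero_mul]
    rw [hr1, hd₀, mul_one] at this
    exact hα₀ this.symm
  obtain ⟨χ, hχX, hχ0, hχα⟩ := hex
  have hχc := isCharacter_of_isIrrCharacter χ.2
  have hχt : (χ : G → ℂ) t = (χ : G → ℂ) 1 := by
    rw [hτc, hdc, hc χ hχX hχα, hc1, one_mul]
  refine ⟨charKer hχc, charKer_normal hχc, ?_, ?_, ?_⟩
  · intro htop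
    apply hχ0
    have hall : ∀ g : G, (χ : G → ℂ) g = (χ : G → ℂ) 1 := by
      intro g
      have : g ∈ charKer hχc := by rw [htop]; exact Subgroup.mem_top g
      exact (mem_charKer hχc g).1 this
    -- the norm
    have hnorm := irr_orthogonality' χ χ
    rw [if_pos rfl] at hnorm
    unfold classInner at hnorm
    have hsum : ∑ g : G, (χ : G → ℂ) g * conj ((χ : G → ℂ) g) =
        (Nat.card G : ℂ) * ((d χ : ℝ) : ℂ) ^ 2 := by
      have : ∀ g : G, (χ : G → ℂ) g * conj ((χ : G → ℂ) g) = ((d χ : ℝ) : ℂ) ^ 2 := by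
        intro g
        rw [hall g, hdc χ, Complex.conj_ofReal]
        ring
      rw [Finset.sum_congr rfl (fun g _ => this g), Finset.sum_const, Finset.card_univ,
        nsmul_eq_mul, Nat.card_eq_fintype_card]
    rw [hsum, ← mul_assoc, inv_mul_cancel₀ (by exact_mod_cast (Nat.card_pos (α := G)).ne'),
      one_mul] at hnorm
    have hd1 : d χ ^ 2 = 1 := by exact_mod_cast hnorm
    have hdp := hdpos χ hχX
    have hd1' : d χ = 1 := by nlinarith
    apply Subtype.ext
    funext g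
    rw [hall g, hdc χ, hd1']
    simp
    rfl
  · obtain ⟨K, hKn, hKset, -, -, hKmax⟩ := Cfsg.Agent.S0938.result 2 M hM (principalBlock M G)
      isPBlock_principalBlock (principalChar G) principalChar_mem_principalBlock
    have h1 : Cfsg.pPrimeCore 2 G ≤ K := by
      apply hKmax _ (Cfsg.Agent.Helper22.pPrimeCore_normal 2)
        (Cfsg.Agent.Helper22.not_dvd_card_pPrimeCore 2 Nat.prime_two)
      intro g _
      rfl
    intro g hg
    have hgK : g ∈ (K : Set G) := h1 hg
    rw [hKset] at hgK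
    exact (mem_charKer hχc g).2 (hgK χ (mem_pbFinset.1 hχX))
  · exact (mem_charKer hχc t).2 hχt

end Main

end Cfsg.Agent.Helper7.BrCol
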