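import Mathlib
import Cfsg.Agent.Lib.Helper7.BrCol2

/-!
# Brauer's principal-block column inner product formula: auxiliary lemmas (helper7's library)
-/

set_option autoImplicit false

namespace Cfsg.Agent.Helper7.BrCol

open Cfsg Cfsg.Agent.Helper24 Cfsg.Agent.Helper23 Cfsg.Agent.Helper23.Blk
open Cfsg.Agent.Helper7.Homo
open scoped ComplexConjugate

universe u

section Inner

variable {G : Type u} [Group G] [Finite G]

/-- the conjugate of the coefficient `a_χ(η)` -/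
theorem conj_acoef (P : Subgroup G) [Fintype ↥P] {η : ↥P → ℂ}
    (hη : IsGeneralizedCharacter ↥P η) {χ : G → ℂ} (hχ : IsCharacter G χ) :
    conj (acoef P η χ) = (Nat.card ↥P : ℂ)⁻¹ * ∑ v : ↥P, χ (v : G) * conj (η v) := by
  rw [acoef_eq_sum, map_mul, map_inv₀, Complex.conj_natCast, map_sum]
  congr 1
  rw [← Equiv.sum_comp (Equiv.inv ↥P)]
  refine Finset.sum_congr rfl fun v _ => ?_
  rw [Equiv.inv_apply, inv_inv, map_mul, Subgroup.coe_inv, irr_inv hχ, Complex.conj_conj]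

/-- the expansion of the inner product of the coefficient vectors -/
theorem sum_acoef_conj (M : Ideal AlgInt) (P : Subgroup G) [Fintype ↥P] (θ : ↥P → ℂ)
    {η : ↥P → ℂ} (hη : IsGeneralizedCharacter ↥P η) :
    ∑ χ ∈ pbFinset M G, acoef P θ (χ : G → ℂ) * conj (acoef P η (χ : G → ℂ)) =
      ((Nat.card ↥P : ℂ) ^ 2)⁻¹ * ∑ u : ↥P, θ u * ∑ v : ↥P, conj (η v) *
        ∑ χ ∈ pbFinset M G, (χ : G → ℂ) ((u : G)⁻¹) * (χ : G → ℂ) (v : G) := by
  rw [sum_acoef_mul, ← Equiv.sum_comp (Equiv.inv ↥P)]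
  rw [pow_two, mul_inv, mul_assoc]
  congr 1
  rw [Finset.mul_sum]
  refine Finset.sum_congr rfl fun u _ => ?_
  rw [Equiv.inv_apply, inv_inv, Subgroup.coe_inv]
  have : ∀ χ ∈ pbFinset M G, (χ : G → ℂ) ((u : G)⁻¹) * conj (acoef P η (χ : G → ℂ)) =
      (Nat.card ↥P : ℂ)⁻¹ * ∑ v : ↥P, conj (η v) *
        ((χ : G → ℂ) ((u : G)⁻¹) * (χ : G → ℂ) (v : G)) := by
    intro χ _
    rw [conj_acoef P hη (isCharacter_of_isIrrCharacter χ.2), Finset.mul_sum, Finset.mul_sum, Finset.mul_sum]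
    refine Finset.sum_congr rfl fun v _ => ?_
    ring
  rw [Finset.sum_congr rfl this, ← Finset.mul_sum, Finset.sum_comm]
  simp only [Finset.mul_sum]
  refine Finset.sum_congr rfl fun v _ => ?_
  ring

/-- counting the elements of `N` that conjugate `u` to `v` -/
theorem card_conj_in (N : Subgroup G) (u v : G) (n₀ : ↥N)
    (h : (n₀ : G) * u * (n₀ : G)⁻¹ = v) :
    Nat.card {n : ↥N // (n : G) * u * (n : G)⁻¹ = v} =
      Nat.card ↥(N ⊓ Subgroup.centralizer ({u} : Set G)) := by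
  apply Nat.card_congr
  refine ⟨fun n => ⟨(n₀ : G)⁻¹ * (n.1 : G), ?_⟩, fun c => ⟨n₀ * ⟨c.1, (Subgroup.mem_inf.1 c.2).1⟩, ?_⟩,
    ?_, ?_⟩
  · refine Subgroup.mem_inf.2 ⟨N.mul_mem (N.inv_mem n₀.2) n.1.2, ?_⟩
    rw [Subgroup.mem_centralizer_iff]
    intro x hx
    rw [Set.mem_singleton_iff] at hx
    subst hx
    have hy : (n.1 : G) * x * (n.1 : G)⁻¹ = (n₀ : G) * x * (n₀ : G)⁻¹ := n.2.trans h.symm
    have : (n₀ : G)⁻¹ * ((n.1 : G) * x * (n.1 : G)⁻¹) * (n₀ : G) = x := by rw [hy]; group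
    calc x * ((n₀ : G)⁻¹ * (n.1 : G))
        = ((n₀ : G)⁻¹ * ((n.1 : G) * x * (n.1 : G)⁻¹) * (n₀ : G)) * ((n₀ : G)⁻¹ * (n.1 : G)) := by
          rw [this]
      _ = (n₀ : G)⁻¹ * (n.1 : G) * x := by group
  · have hc := (Subgroup.mem_inf.1 c.2).2
    rw [Subgroup.mem_centralizer_iff] at hc
    have := hc u (Set.mem_singleton u)
    rw [Subgroup.coe_mul]
    calc (n₀ : G) * (c.1 : G) * u * ((n₀ : G) * (c.1 : G))⁻¹
        = (n₀ : G) * ((c.1 : G) * u) * (c.1 : G)⁻¹ * (n₀ : G)⁻¹ := by group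
      _ = (n₀ : G) * (u * (c.1 : G)) * (c.1 : G)⁻¹ * (n₀ : G)⁻¹ := by rw [this]
      _ = (n₀ : G) * u * (n₀ : G)⁻¹ := by group
      _ = v := h
  · intro n
    ext
    simp
  · intro c
    ext
    simp

/-- the sum of the extension by zero over the `N`-conjugates of `u` -/
theorem sum_extend_conj (P N : Subgroup G) [Fintype ↥P] [Fintype ↥N]
    (hNN : N ≤ Subgroup.normalizer (P : Set G)) (η : ↥P → ℂ) (u : ↥P) :
    ∑ x : ↥N, extendByZero P η ((x : G) * (u : G) * (x : G)⁻¹) =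
      ∑ v : ↥P, η v * (Nat.card {n : ↥N // (n : G) * (u : G) * (n : G)⁻¹ = (v : G)} : ℂ) := by
  classical
  have hmem : ∀ x : ↥N, (x : G) * (u : G) * (x : G)⁻¹ ∈ P := by
    intro x
    exact (Subgroup.mem_normalizer_iff.1 (hNN x.2) (u : G)).1 u.2
  have h1 : ∀ x : ↥N, extendByZero P η ((x : G) * (u : G) * (x : G)⁻¹) =
      ∑ v : ↥P, if (x : G) * (u : G) * (x : G)⁻¹ = (v : G) then η v else 0 := by
    intro x
    have hx : extendByZero P η ((x : G) * (u : G) * (x : G)⁻¹) = η ⟨_, hmem x⟩ := by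
      unfold extendByZero
      exact Subtype.val_injective.extend_apply η 0 ⟨_, hmem x⟩
    rw [hx, Finset.sum_eq_single ⟨_, hmem x⟩]
    · simp
    · intro v _ hv
      rw [if_neg]
      intro h
      apply hv
      ext
      exact h.symm
    · intro h
      exact absurd (Finset.mem_univ _) h
  rw [Finset.sum_congr rfl (fun x _ => h1 x), Finset.sum_comm]
  refine Finset.sum_congr rfl fun v _ => ?_
  rw [← Finset.sum_filter, Finset.sum_const, nsmul_eq_mul, mul_comm, Nat.card_eq_fintype_card,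
    Fintype.card_subtype]

/-- the sum of the squares of the values of the principal block at a `p`-element is the sum of
the squares of the degrees of the principal block of the centralizer -/
theorem col_same_eq_degrees (p : ℕ) [Fact p.Prime] (M : Ideal AlgInt) (hM : IsPModular p M)
    (u : G) (hu : ∃ k : ℕ, orderOf u = p ^ k) :
    ∑ χ ∈ pbFinset M G, (χ : G → ℂ) u⁻¹ * (χ : G → ℂ) u =
      ((∑ᶠ ψ ∈ principalBlock M ↥(Subgroup.centralizer ({u} : Set G)),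
        (charDegree (ψ : ↥(Subgroup.centralizer ({u} : Set G)) → ℂ) : ℚ) ^ 2 : ℚ) : ℂ) := by
  classical
  haveI : Fintype G := Fintype.ofFinite G
  have h1 := Cfsg.Agent.S0947.part_one p M hM u hu (1 : ↥(Subgroup.centralizer ({u} : Set G)))
    (by
      rw [orderOf_one]
      exact fun hd => (Fact.out : p.Prime).one_lt.ne' (Nat.dvd_one.1 hd))
  rw [Subgroup.coe_one, mul_one, finsum_pb, finsum_pb] at h1
  rw [finsum_pb]
  have h2 : ∑ χ ∈ pbFinset M G, (χ : G → ℂ) u⁻¹ * (χ : G → ℂ) u =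
      ((∑ χ ∈ pbFinset M G, ‖(χ : G → ℂ) u‖ ^ 2 : ℝ) : ℂ) := by
    rw [Complex.ofReal_sum]
    refine Finset.sum_congr rfl fun χ _ => ?_
    rw [irr_inv (isCharacter_of_isIrrCharacter χ.2), mul_comm, Complex.mul_conj']
    push_cast
    rfl
  rw [h2, h1]
  push_cast
  refine Finset.sum_congr rfl fun ψ _ => ?_
  rw [irr_one_eq_charDegree ψ.2]
  have : ‖((charDegree (ψ : ↥(Subgroup.centralizer ({u} : Set G)) → ℂ) : ℕ) : ℂ)‖ =
      (charDegree (ψ : ↥(Subgroup.centralizer ({u} : Set G)) → ℂ) : ℝ) := by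
    rw [Complex.norm_natCast]
  rw [this]
  push_cast
  rfl

/-- the column relation against the `N`-conjugacy count -/
theorem col_conj_count (p : ℕ) [Fact p.Prime] (M : Ideal AlgInt) (hM : IsPModular p M)
    (P N : Subgroup G) (hP : IsPGroup p P) (u : G) (huP : u ∈ P)
    (hfus : ∀ g : G, g * u * g⁻¹ ∈ (P : Set G) → ∃ n ∈ N, n * u * n⁻¹ = g * u * g⁻¹) (w : ℚ)
    (hw : ((∑ᶠ ψ ∈ principalBlock M ↥(Subgroup.centralizer ({u} : Set G)),
        (charDegree (ψ : ↥(Subgroup.centralizer ({u} : Set G)) → ℂ) : ℚ) ^ 2) : ℚ) =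
      w * Nat.card ↥(N ⊓ Subgroup.centralizer ({u} : Set G)))
    (v : ↥P) :
    ∑ χ ∈ pbFinset M G, (χ : G → ℂ) u⁻¹ * (χ : G → ℂ) (v : G) =
      (w : ℂ) * (Nat.card {n : ↥N // (n : G) * u * (n : G)⁻¹ = (v : G)} : ℂ) := by
  have hu : ∃ k : ℕ, orderOf u = p ^ k := by
    obtain ⟨k, hk⟩ := (IsPGroup.iff_orderOf.1 hP) ⟨u, huP⟩
    exact ⟨k, by rw [← hk, ← Subgroup.orderOf_coe]⟩
  have hv : ∃ k : ℕ, orderOf (v : G) = p ^ k := by
    obtain ⟨k, hk⟩ := (IsPGroup.iff_orderOf.1 hP) v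
    exact ⟨k, by rw [← hk, ← Subgroup.orderOf_coe]⟩
  by_cases hex : ∃ n₀ : ↥N, (n₀ : G) * u * (n₀ : G)⁻¹ = (v : G)
  · obtain ⟨n₀, hn₀⟩ := hex
    rw [card_conj_in N u v n₀ hn₀]
    have hval : ∀ χ : IrrCharacter G, (χ : G → ℂ) (v : G) = (χ : G → ℂ) u := by
      intro χ
      rw [← hn₀]
      exact isClassFunction_of_isIrrCharacter χ.2 u n₀
    rw [Finset.sum_congr rfl (fun χ _ => by rw [hval χ]), col_same_eq_degrees p M hM u hu, hw]
    push_cast
    rfl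
  · have hnc : ¬ IsConj (v : G) u := by
      intro h
      obtain ⟨c, hc⟩ := isConj_iff.1 h.symm
      obtain ⟨n, hn, hn'⟩ := hfus c (by rw [hc]; exact v.2)
      exact hex ⟨⟨n, hn⟩, by rw [← hc]; exact hn'⟩
    have hempty : IsEmpty {n : ↥N // (n : G) * u * (n : G)⁻¹ = (v : G)} :=
      ⟨fun n => hex ⟨n.1, n.2⟩⟩
    rw [Nat.card_of_isEmpty, Nat.cast_zero, mul_zero]
    exact col_zero M hM (isPPart_self' (Fact.out : p.Prime) hv) hu hnc

end Inner

end Cfsg.Agent.Helper7.BrCol
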