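import Mathlib
import Cfsg.Agent.Lib.Helper7.BSKlein

/-!
# Abelian Sylow subgroups with a Frobenius-type cyclic action of `N(P)/C(P)`: the fusion package
(helper7's library)
-/

set_option autoImplicit false

namespace Cfsg.Agent.Helper7.Frob

open Cfsg

/-- **Fusion package.** For an abelian Sylow `p`-subgroup `P` with `N(P)/C(P)` cyclic of order
`m` acting semiregularly on `P`, the fusion in `P` is given by an automorphism `ν` of order `m`,
all of whose nontrivial powers are fixed-point-free, and the centralizers of the nonidentity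
elements of `P` have normal `p`-complements. -/
theorem frob_package {G : Type*} [Group G] [Finite G] {p : ℕ} [Fact p.Prime] (P : Sylow p G)
    (hcomm : ∀ x y : (P : Subgroup G), x * y = y * x) (m : ℕ)
    (hCN : (Subgroup.centralizer ((P : Subgroup G) : Set G)).relIndex
      (Subgroup.normalizer ((P : Subgroup G) : Set G)) = m)
    (hcyc : ∃ g : G, g ∈ Subgroup.normalizer ((P : Subgroup G) : Set G) ∧
      Subgroup.centralizer ((P : Subgroup G) : Set G) ⊔ Subgroup.zpowers g =
        Subgroup.normalizer ((P : Subgroup G) : Set G))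
    (hfrob : ∀ y : G, y ∈ (P : Subgroup G) → y ≠ 1 →
      Subgroup.centralizer ({y} : Set G) ⊓ Subgroup.normalizer ((P : Subgroup G) : Set G) =
        Subgroup.centralizer ((P : Subgroup G) : Set G)) :
    ∃ ν : MulAut (P : Subgroup G), ν ^ m = 1 ∧
      (∀ k : ℕ, 0 < k → k < m → ∀ a : (P : Subgroup G), (ν ^ k) a = a → a = 1) ∧
      (∀ (a : (P : Subgroup G)) (k : ℕ), IsConj (a : G) (((ν ^ k) a : (P : Subgroup G)) : G)) ∧
      (∀ a b : (P : Subgroup G), IsConj (a : G) (b : G) → ∃ k < m, b = (ν ^ k) a) ∧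
      (∀ a : (P : Subgroup G), a ≠ 1 → ∃ k : ℕ,
        (Cfsg.pPrimeCore p (Subgroup.centralizer ({(a : G)} : Set G))).index = p ^ k) ∧
      (∀ n : G, n ∈ Subgroup.normalizer ((P : Subgroup G) : Set G) → ∃ k < m,
        ∀ a : (P : Subgroup G), n * a * n⁻¹ = (((ν ^ k) a : (P : Subgroup G)) : G)) ∧
      (∀ k : ℕ, ∃ n : G, n ∈ Subgroup.normalizer ((P : Subgroup G) : Set G) ∧
        ∀ a : (P : Subgroup G), n * a * n⁻¹ = (((ν ^ k) a : (P : Subgroup G)) : G)) := by
  have hPC : (P : Subgroup G) ≤ Subgroup.centralizer ((P : Subgroup G) : Set G) := by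
    intro x hx
    rw [Subgroup.mem_centralizer_iff]
    intro y hy
    exact congrArg Subtype.val (hcomm ⟨y, hy⟩ ⟨x, hx⟩)
  have hm0 : 0 < m := by
    rw [← hCN]
    exact Nat.pos_of_ne_zero (Subgroup.index_ne_zero_of_finite (H := (Subgroup.centralizer
      ((P : Subgroup G) : Set G)).subgroupOf (Subgroup.normalizer ((P : Subgroup G) : Set G))))
  obtain ⟨g, hgN, hsup⟩ := hcyc
  set N := Subgroup.normalizer ((P : Subgroup G) : Set G) with hN
  set C := Subgroup.centralizer ((P : Subgroup G) : Set G) with hC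
  set φ := (P : Subgroup G).normalizerMonoidHom with hφ
  have hker : φ.ker = C.subgroupOf N := Subgroup.normalizerMonoidHom_ker _
  have hcard : Nat.card φ.range = m := by
    rw [← hCN, Subgroup.relIndex, ← hker, Subgroup.index_ker]
  have hνG : ∀ (n : N) (x : (P : Subgroup G)),
      ((φ n x : (P : Subgroup G)) : G) = (n : G) * x * (n : G)⁻¹ := fun _ _ => rfl
  set g' : N := ⟨g, hgN⟩ with hg'
  set ν : MulAut (P : Subgroup G) := φ g' with hν
  have hCleN : C ≤ N := by
    rw [← hsup]
    exact le_sup_left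
  -- the range is generated by `ν`
  have hrange : φ.range = Subgroup.zpowers ν := by
    have h1 : (C ⊔ Subgroup.zpowers g).subgroupOf N = ⊤ := by
      rw [hsup]
      exact Subgroup.subgroupOf_self N
    have h2 : (C ⊔ Subgroup.zpowers g).subgroupOf N =
        C.subgroupOf N ⊔ (Subgroup.zpowers g).subgroupOf N := by
      apply Subgroup.subgroupOf_sup hCleN
      rw [Subgroup.zpowers_le]
      exact hgN
    have h3 : (Subgroup.zpowers g).subgroupOf N = Subgroup.zpowers g' := by
      ext x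
      rw [Subgroup.mem_subgroupOf, Subgroup.mem_zpowers_iff, Subgroup.mem_zpowers_iff]
      constructor
      · rintro ⟨k, hk⟩
        exact ⟨k, Subtype.ext (by rw [Subgroup.coe_zpow]; exact hk)⟩
      · rintro ⟨k, hk⟩
        exact ⟨k, by rw [← hk, Subgroup.coe_zpow]⟩
    rw [MonoidHom.range_eq_map, ← h1, h2, h3, Subgroup.map_sup, ← hker, MonoidHom.map_zpowers,
      (Subgroup.map_eq_bot_iff _).2 le_rfl, bot_sup_eq]
  have hord : orderOf ν = m := by
    rw [← hcard, hrange, Nat.card_zpowers]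
  have hνm : ν ^ m = 1 := by
    rw [← hord]
    exact pow_orderOf_eq_one ν
  have hpow_of_range : ∀ β ∈ φ.range, ∃ k < m, β = ν ^ k := by
    intro β hβ
    rw [hrange, Subgroup.mem_zpowers_iff] at hβ
    obtain ⟨j, hj⟩ := hβ
    refine ⟨(j % (m : ℤ)).toNat, ?_, ?_⟩
    · have h1 : 0 ≤ j % (m : ℤ) := Int.emod_nonneg _ (by exact_mod_cast hm0.ne')
      have h2 : j % (m : ℤ) < m := Int.emod_lt_of_pos _ (by exact_mod_cast hm0)
      omega
    · have h1 : 0 ≤ j % (m : ℤ) := Int.emod_nonneg _ (by exact_mod_cast hm0.ne')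
      rw [← hj, ← zpow_natCast, Int.toNat_of_nonneg h1, ← hord, zpow_mod_orderOf]
  have hfpf : ∀ k : ℕ, 0 < k → k < m → ∀ a : (P : Subgroup G), (ν ^ k) a = a → a = 1 := by
    intro k hk0 hkm a ha
    by_contra ha1
    have hpow : ν ^ k = φ (g' ^ k) := by rw [map_pow]
    have h1 : ((g' ^ k : N) : G) ∈ Subgroup.centralizer ({(a : G)} : Set G) ⊓ N := by
      refine Subgroup.mem_inf.2 ⟨?_, (g' ^ k).2⟩
      rw [Subgroup.mem_centralizer_iff]
      intro y hy
      rw [Set.mem_singleton_iff] at hy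
      rw [hy]
      have h2 := congrArg Subtype.val ha
      rw [hpow, hνG] at h2
      calc (a : G) * ((g' ^ k : N) : G)
          = (((g' ^ k : N) : G) * a * ((g' ^ k : N) : G)⁻¹) * ((g' ^ k : N) : G) := by rw [h2]
        _ = ((g' ^ k : N) : G) * a := by group
    rw [hfrob a a.2 (fun h => ha1 (Subtype.ext h))] at h1
    have h2 : g' ^ k ∈ φ.ker := by
      rw [hker, Subgroup.mem_subgroupOf]
      exact h1
    have h3 : ν ^ k = 1 := by
      rw [hpow]
      exact h2
    have h4 := orderOf_dvd_of_pow_eq_one h3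
    rw [hord] at h4
    exact absurd (Nat.le_of_dvd hk0 h4) (by omega)
  refine ⟨ν, hνm, hfpf, ?_, ?_, ?_, ?_, ?_⟩
  · intro a k
    rw [isConj_iff]
    refine ⟨((g' ^ k : N) : G), ?_⟩
    rw [← hνG, map_pow]
  · intro a b hab
    obtain ⟨c, hc⟩ := isConj_iff.1 hab
    have h1 : c⁻¹⁻¹ * (a : G) * c⁻¹ ∈ C := by
      rw [inv_inv, hc]
      exact hPC b.2
    obtain ⟨n, hn, hn'⟩ := P.conj_eq_normalizer_conj_of_mem_centralizer (a : G) c⁻¹ (hPC a.2) h1
    rw [inv_inv, hc] at hn'
    have hninv : n⁻¹ ∈ N := inv_mem hn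
    have h2 : φ ⟨n⁻¹, hninv⟩ a = b := by
      apply Subtype.ext
      rw [hνG, hn']
      simp
    obtain ⟨k, hk, hk'⟩ := hpow_of_range (φ ⟨n⁻¹, hninv⟩) ⟨_, rfl⟩
    exact ⟨k, hk, by rw [← h2, hk']⟩
  · intro a ha1
    have hPH : (P : Subgroup G) ≤ Subgroup.centralizer ({(a : G)} : Set G) := by
      intro x hx
      rw [Subgroup.mem_centralizer_iff]
      intro y hy
      rw [Set.mem_singleton_iff] at hy
      rw [hy]
      exact congrArg Subtype.val (hcomm a ⟨x, hx⟩)
    apply index_pPrimeCore_of_normalizer_le_centralizer (P.subtype hPH)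
    intro h hh
    rw [Sylow.coe_subtype] at hh ⊢
    have hhN : (h : G) ∈ N := by
      rw [hN, Subgroup.mem_normalizer_iff]
      intro x
      rw [Subgroup.mem_normalizer_iff] at hh
      constructor
      · intro hx
        have := (hh ⟨x, hPH hx⟩).1 (by rw [Subgroup.mem_subgroupOf]; exact hx)
        rw [Subgroup.mem_subgroupOf] at this
        exact this
      · intro hx
        have hxH : x ∈ Subgroup.centralizer ({(a : G)} : Set G) := by
          have h1 := hPH hx
          have h2 : x = (h : G)⁻¹ * ((h : G) * x * (h : G)⁻¹) * h := by group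
          rw [h2]
          exact mul_mem (mul_mem (inv_mem h.2) h1) h.2
        have := (hh ⟨x, hxH⟩).2 (by rw [Subgroup.mem_subgroupOf]; exact hx)
        rw [Subgroup.mem_subgroupOf] at this
        exact this
    have hhC : (h : G) ∈ C := by
      rw [← hfrob a a.2 (fun h => ha1 (Subtype.ext h))]
      exact Subgroup.mem_inf.2 ⟨h.2, hhN⟩
    rw [Subgroup.mem_centralizer_iff]
    intro y hy
    apply Subtype.ext
    have hy' : (y : G) ∈ (P : Subgroup G) := by
      rw [SetLike.mem_coe, Subgroup.mem_subgroupOf] at hy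
      exact hy
    exact (Subgroup.mem_centralizer_iff.1 hhC) y hy'
  · intro n hn
    obtain ⟨k, hk, hk'⟩ := hpow_of_range (φ ⟨n, hn⟩) ⟨_, rfl⟩
    refine ⟨k, hk, fun a => ?_⟩
    rw [← hk', hνG]
  · intro k
    refine ⟨((g' ^ k : N) : G), (g' ^ k).2, fun a => ?_⟩
    rw [← hνG, map_pow]

end Cfsg.Agent.Helper7.Frob
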