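import Mathlib
import Cfsg.Agent.Lib.Helper7.BrCol3
import Cfsg.Agent.Lib.Helper7.Frob4
import Cfsg.Agent.Lib.Helper7.BSKleinBlock
import Cfsg.Agent.Lib.Helper23.BlockCountClasses
import Cfsg.Agent.S4347

/-!
# The principal block of a group with an abelian Sylow subgroup and Frobenius-type fusion:
the column relations (helper7's library)
-/

set_option autoImplicit false

namespace Cfsg.Agent.Helper7.Frob

open Cfsg Cfsg.Agent.Helper24 Cfsg.Agent.Helper23 Cfsg.Agent.Helper23.Blk
open Cfsg.Agent.Helper7.Homo Cfsg.Agent.Helper7.BrCol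
open scoped ComplexConjugate

universe u

section GSide

variable {G : Type u} [Group G] [Finite G] {p : ℕ} [hp : Fact p.Prime]

theorem orderOf_sylow_coe' (P : Sylow p G) (a : (P : Subgroup G)) :
    ∃ k : ℕ, orderOf (a : G) = p ^ k := by
  obtain ⟨k, hk⟩ := (IsPGroup.iff_orderOf.1 P.isPGroup') a
  exact ⟨k, by rw [Subgroup.orderOf_coe]; exact hk⟩

/-- a `p`-element is conjugate into a given Sylow `p`-subgroup -/
theorem exists_conj_mem_sylow (P : Sylow p G) {x : G} (hx : ∃ k : ℕ, orderOf x = p ^ k) :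
    ∃ s : G, s * x * s⁻¹ ∈ (P : Subgroup G) := by
  obtain ⟨k, hk⟩ := hx
  have hxQ : IsPGroup p (Subgroup.zpowers x) := by
    apply IsPGroup.of_card (n := k)
    rw [Nat.card_zpowers, hk]
  obtain ⟨Q, hQ⟩ := hxQ.exists_le_sylow
  obtain ⟨s, hs⟩ := MulAction.exists_smul_eq G P Q
  have hxQ'' : x ∈ (Q : Subgroup G) := hQ (Subgroup.mem_zpowers x)
  rw [← hs] at hxQ''
  have hxQ' : s⁻¹ * x * s ∈ (P : Subgroup G) := (Cfsg.Agent.S4347.mem_smul_sylow s x P).mp hxQ''
  exact ⟨s⁻¹, by rw [inv_inv]; exact hxQ'⟩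

/-- the column relation for a non-identity element of `P` with itself -/
theorem frob_col_same (M : Ideal AlgInt) (hM : IsPModular p M) (P : Sylow p G)
    (hcomm : ∀ x y : (P : Subgroup G), x * y = y * x) (a : (P : Subgroup G)) (ha : a ≠ 1)
    (hnil : ∃ k : ℕ,
      (Cfsg.pPrimeCore p (Subgroup.centralizer ({(a : G)} : Set G))).index = p ^ k) :
    ∑ χ ∈ pbFinset M G, (χ : G → ℂ) a * conj ((χ : G → ℂ) a) =
      (Nat.card (P : Subgroup G) : ℂ) := by
  have hz := orderOf_sylow_coe' P a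
  have hz1 : (a : G) ≠ 1 := fun h => ha (Subtype.ext h)
  have h1 := (Cfsg.Agent.S0947.result p M hM (a : G) hz hz1
    (1 : Subgroup.centralizer ({(a : G)} : Set G)) (by
      rw [orderOf_one]
      exact fun hd => hp.out.one_lt.ne' (Nat.dvd_one.1 hd))).2 hnil
  rw [Subgroup.coe_one, mul_one] at h1
  have hPH : (P : Subgroup G) ≤ Subgroup.centralizer ({(a : G)} : Set G) := by
    intro x hx
    rw [Subgroup.mem_centralizer_iff]
    intro w hw
    rw [Set.mem_singleton_iff] at hw
    rw [hw]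
    exact congrArg Subtype.val (hcomm a ⟨x, hx⟩)
  have hG0 : Nat.card G ≠ 0 := Nat.card_pos.ne'
  have hC0 : Nat.card (Subgroup.centralizer ({(a : G)} : Set G)) ≠ 0 := Nat.card_pos.ne'
  have hfC : (Nat.card (Subgroup.centralizer ({(a : G)} : Set G))).factorization p =
      (Nat.card G).factorization p := by
    apply le_antisymm
    · exact (Nat.factorization_le_iff_dvd hC0 hG0).mpr
        (Subgroup.card_subgroup_dvd_card (Subgroup.centralizer ({(a : G)} : Set G))) p
    · have h4 : p ^ (Nat.card G).factorization p ∣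
          Nat.card (Subgroup.centralizer ({(a : G)} : Set G)) := by
        have := Subgroup.card_dvd_of_le hPH
        rw [P.card_eq_multiplicity] at this
        exact this
      exact (Nat.Prime.pow_dvd_iff_le_factorization hp.out hC0).mp h4
  rw [hfC, ← P.card_eq_multiplicity, finsum_pb] at h1
  have h2 : ∑ χ ∈ pbFinset M G, (χ : G → ℂ) a * conj ((χ : G → ℂ) a) =
      ((∑ χ ∈ pbFinset M G, ‖(χ : G → ℂ) a‖ ^ 2 : ℝ) : ℂ) := by
    push_cast
    refine Finset.sum_congr rfl fun χ _ => ?_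
    rw [Complex.mul_conj, Complex.normSq_eq_norm_sq]
    push_cast
    rfl
  rw [h2, h1]
  push_cast
  rfl

/-- **Column relations** of the principal block on the abelian Sylow subgroup. -/
theorem frob_col (M : Ideal AlgInt) (hM : IsPModular p M) (P : Sylow p G)
    [DecidableEq (P : Subgroup G)]
    (hcomm : ∀ x y : (P : Subgroup G), x * y = y * x)
    (ν : MulAut (P : Subgroup G)) (m : ℕ)
    (hfpf : ∀ k : ℕ, 0 < k → k < m → ∀ a : (P : Subgroup G), (ν ^ k) a = a → a = 1)
    (hconj : ∀ (a : (P : Subgroup G)) (k : ℕ),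
      IsConj (a : G) (((ν ^ k) a : (P : Subgroup G)) : G))
    (hfus : ∀ a b : (P : Subgroup G), IsConj (a : G) (b : G) → ∃ k < m, b = (ν ^ k) a)
    (hnil : ∀ a : (P : Subgroup G), a ≠ 1 → ∃ k : ℕ,
        (Cfsg.pPrimeCore p (Subgroup.centralizer ({(a : G)} : Set G))).index = p ^ k)
    (a a' : (P : Subgroup G)) (ha : a ≠ 1) (ha' : a' ≠ 1) :
    ∑ χ ∈ pbFinset M G, (χ : G → ℂ) a * conj ((χ : G → ℂ) a') =
      (Nat.card (P : Subgroup G) : ℂ) *
        ∑ k ∈ Finset.range m, (if a' = (ν ^ k) a then (1 : ℂ) else 0) := by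
  haveI : Fintype G := Fintype.ofFinite G
  by_cases hc : IsConj (a : G) (a' : G)
  · have hval : ∀ χ : IrrCharacter G, (χ : G → ℂ) a' = (χ : G → ℂ) a := by
      intro χ
      obtain ⟨c, hc'⟩ := isConj_iff.1 hc
      rw [← hc']
      exact isClassFunction_of_isIrrCharacter χ.2 a c
    have hsum : ∑ χ ∈ pbFinset M G, (χ : G → ℂ) a * conj ((χ : G → ℂ) a') =
        (Nat.card (P : Subgroup G) : ℂ) := by
      rw [← frob_col_same M hM P hcomm a ha (hnil a ha)]
      refine Finset.sum_congr rfl fun χ _ => ?_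
      rw [hval]
    rw [hsum]
    obtain ⟨k₀, hk₀, hk₀'⟩ := hfus a a' hc
    rw [Finset.sum_eq_single k₀]
    · rw [if_pos hk₀', mul_one]
    · intro k hk hne
      rw [if_neg]
      intro h
      apply hne
      rw [hk₀'] at h
      -- `(ν ^ k₀) a = (ν ^ k) a`
      have hkm := Finset.mem_range.1 hk
      by_contra hne'
      rcases Nat.lt_or_gt_of_ne hne' with hlt | hlt
      · have h1 : (ν ^ (k₀ - k)) ((ν ^ k) a) = (ν ^ k) a := by
          rw [← MulAut.mul_apply, ← pow_add, show k₀ - k + k = k₀ by omega]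
          exact h
        have h2 := hfpf (k₀ - k) (by omega) (by omega) _ h1
        apply ha
        have h3 : (ν ^ k) a = (ν ^ k) 1 := by rw [h2, map_one]
        exact (ν ^ k).injective h3
      · have h1 : (ν ^ (k - k₀)) ((ν ^ k₀) a) = (ν ^ k₀) a := by
          rw [← MulAut.mul_apply, ← pow_add, show k - k₀ + k₀ = k by omega]
          exact h.symm
        have h2 := hfpf (k - k₀) (by omega) (by omega) _ h1
        apply ha
        have h3 : (ν ^ k₀) a = (ν ^ k₀) 1 := by rw [h2, map_one]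
        exact (ν ^ k₀).injective h3
    · intro h
      exact absurd (Finset.mem_range.2 hk₀) h
  · have hz : ∑ k ∈ Finset.range m, (if a' = (ν ^ k) a then (1 : ℂ) else 0) = 0 := by
      apply Finset.sum_eq_zero
      intro k _
      rw [if_neg]
      intro h
      apply hc
      rw [h]
      exact hconj a k
    rw [hz, mul_zero]
    have hbo := block_orthogonality hM (isPPart_self' hp.out (orderOf_sylow_coe' P a))
      (isPPart_self' hp.out (orderOf_sylow_coe' P a')) hc
      (B := principalBlock M G) isPBlock_principalBlock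
    rw [finsum_pb] at hbo
    rw [← hbo]
    refine Finset.sum_congr rfl fun χ _ => ?_
    rw [irr_inv (isCharacter_of_isIrrCharacter χ.2)]

/-- the degree relation -/
theorem frob_deg_rel (M : Ideal AlgInt) (hM : IsPModular p M) (P : Sylow p G)
    (a : (P : Subgroup G)) (ha : a ≠ 1) :
    ∑ χ ∈ pbFinset M G, (charDegree (χ : G → ℂ) : ℂ) * (χ : G → ℂ) a = 0 := by
  haveI : Fintype G := Fintype.ofFinite G
  have hc : ¬ IsConj (a : G) 1 := by
    intro h
    rw [isConj_one_left] at h
    exact ha (Subtype.ext h)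
  have hbo := block_orthogonality hM (isPPart_self' hp.out (orderOf_sylow_coe' P a))
    (isPPart_self' hp.out (g := (1 : G)) ⟨0, by rw [orderOf_one, pow_zero]⟩) hc
    (B := principalBlock M G) isPBlock_principalBlock
  rw [finsum_pb] at hbo
  rw [← hbo]
  refine Finset.sum_congr rfl fun χ _ => ?_
  rw [inv_one, irr_one_eq_charDegree χ.2, mul_comm]

/-- the relation against a `p`-regular element -/
theorem frob_reg_rel (M : Ideal AlgInt) (hM : IsPModular p M) (P : Sylow p G)
    (a : (P : Subgroup G)) (ha : a ≠ 1) (g : G) (hg : ¬ p ∣ orderOf g) :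
    ∑ χ ∈ pbFinset M G, (χ : G → ℂ) g * (χ : G → ℂ) a = 0 := by
  haveI : Fintype G := Fintype.ofFinite G
  have hgx : IsPPart p g 1 := (isPPart_one_iff g).2 hg
  have hu : ∃ k : ℕ, orderOf ((a : G)⁻¹) = p ^ k := by
    rw [orderOf_inv]
    exact orderOf_sylow_coe' P a
  have hnc : ¬ IsConj (1 : G) (a : G)⁻¹ := by
    intro h
    rw [isConj_comm, isConj_one_left] at h
    apply ha
    apply Subtype.ext
    rw [Subgroup.coe_one]
    exact inv_eq_one.1 h
  have := col_zero M hM hgx hu hnc
  rw [← this]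
  refine Finset.sum_congr rfl fun χ _ => ?_
  rw [inv_inv, mul_comm]

/-- values on the `p`-singular elements -/
theorem frob_psingular (M : Ideal AlgInt) (hM : IsPModular p M)
    (χ : IrrCharacter G) (hχ : χ ∈ principalBlock M G) {z y : G} (hzy : IsPPart p z y)
    (hnil : ∃ k : ℕ,
      (Cfsg.pPrimeCore p (Subgroup.centralizer ({y} : Set G))).index = p ^ k) :
    (χ : G → ℂ) z = (χ : G → ℂ) y := by
  obtain ⟨v, hyv, hc, hk, hv⟩ := hzy
  obtain ⟨k, hk'⟩ := hnil
  rw [← hyv]
  apply Cfsg.Agent.S0942.result p M hM y hk v _ χ hχ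
  have hvC : v ∈ Subgroup.centralizer ({y} : Set G) := by
    rw [Subgroup.mem_centralizer_iff]
    intro w hw
    rw [Set.mem_singleton_iff] at hw
    rw [hw]
    exact hc.eq
  unfold centralizerPPrimeCore
  rw [Subgroup.mem_map]
  refine ⟨⟨v, hvC⟩, ?_, rfl⟩
  haveI : (pPrimeCore p (Subgroup.centralizer ({y} : Set G))).Normal :=
    Cfsg.Agent.Helper22.pPrimeCore_normal p
  apply mem_of_index_eq_pow_of_not_dvd hp.out _ hk'
  rw [← Subgroup.orderOf_coe]
  exact hv

/-- no member of the principal block vanishes on all of `P ∖ 1` -/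
theorem frob_nonvanishing (M : Ideal AlgInt) (hM : IsPModular p M) (P : Sylow p G)
    (hP1 : Nat.card (P : Subgroup G) ≠ 1)
    (hnil : ∀ a : (P : Subgroup G), a ≠ 1 → ∃ k : ℕ,
        (Cfsg.pPrimeCore p (Subgroup.centralizer ({(a : G)} : Set G))).index = p ^ k)
    (χ : IrrCharacter G) (hχ : χ ∈ principalBlock M G) :
    ∃ a : (P : Subgroup G), a ≠ 1 ∧ (χ : G → ℂ) a ≠ 0 := by
  haveI hMp : M.IsPrime := hM.2.1.isPrime
  haveI : Fintype G := Fintype.ofFinite G
  by_contra hcon
  push Not at hcon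
  have hv : ∀ y : G, p ∣ orderOf y → (χ : G → ℂ) y = 0 := by
    intro y hy
    obtain ⟨x, hx⟩ := exists_isPPart hp.out y (orderOf_pos y)
    have hx1 : x ≠ 1 := by
      intro h
      rw [h] at hx
      exact (isPPart_one_iff y).1 hx hy
    have hxk : ∃ k : ℕ, orderOf x = p ^ k := by
      obtain ⟨v, -, -, hxk, -⟩ := hx
      exact hxk
    obtain ⟨s, hs⟩ := exists_conj_mem_sylow P hxk
    have hs1 : (⟨s * x * s⁻¹, hs⟩ : (P : Subgroup G)) ≠ 1 := by
      intro h
      apply hx1
      have h' : s * x * s⁻¹ = 1 := congrArg Subtype.val h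
      have : x = s⁻¹ * (s * x * s⁻¹) * s := by group
      rw [this, h']
      group
    have hpp := isPPart_conj hx s
    have h1 := frob_psingular M hM χ hχ hpp (hnil ⟨_, hs⟩ hs1)
    rw [isClassFunction_of_isIrrCharacter χ.2 y s] at h1
    rw [h1]
    exact hcon ⟨_, hs⟩ hs1
  have h1 := not_dvd_card_div_degree_of_vanish (p := p) χ.2 hv
  have h2 := (not_dvd_iff_blockOf_eq_singleton hM χ).1 h1
  have h3 : principalChar G ∈ blockOf M (χ : G → ℂ) := by
    have : SameBlock M (fun _ : G => (1 : ℂ)) (χ : G → ℂ) := hχ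
    exact sameBlock_symm (G := G) this
  rw [h2, Set.mem_singleton_iff] at h3
  obtain ⟨a, ha⟩ : ∃ a : (P : Subgroup G), a ≠ 1 := by
    by_contra hne
    push Not at hne
    apply hP1
    rw [Nat.card_eq_one_iff_unique]
    exact ⟨⟨fun x y => by rw [hne x, hne y]⟩, ⟨1⟩⟩
  have h4 := hcon a ha
  rw [← h3] at h4
  exact one_ne_zero h4

end GSide

end Cfsg.Agent.Helper7.Frob
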