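import Mathlib
import Cfsg.Agent.Lib.Helper7.Frob3
import Cfsg.Agent.Lib.Helper7.Frob5

/-!
# Linear characters as homomorphisms, and the orbits of the normalizer (helper7's library)
-/

set_option autoImplicit false

namespace Cfsg.Agent.Helper7.Frob

open Cfsg Cfsg.Agent.Helper24 Cfsg.Agent.Helper23 Cfsg.Agent.Helper23.Blk
open Cfsg.Agent.Helper7.Homo Cfsg.Agent.Helper7.BrCol
open scoped ComplexConjugate

universe u

section Hom

variable {A : Type u} [Group A] [Fintype A] [Fintype (IrrCharacter A)]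

/-- the irreducible characters of an abelian group are the homomorphisms to `ℂˣ` -/
noncomputable def irrHomEquiv (hcomm : ∀ a b : A, a * b = b * a) :
    IrrCharacter A ≃ (A →* ℂˣ) where
  toFun ψ := linHom (isCharacter_of_isIrrCharacter ψ.2) (lin_one hcomm ψ)
  invFun f := ⟨fun g => ((f g : ℂˣ) : ℂ), isIrrCharacter_of_monoidHom f⟩
  left_inv ψ := by
    apply Subtype.ext
    funext g
    simp
  right_inv f := by
    ext g
    simp

theorem irrHomEquiv_apply (hcomm : ∀ a b : A, a * b = b * a) (ψ : IrrCharacter A) (a : A) :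
    ((irrHomEquiv hcomm ψ a : ℂˣ) : ℂ) = (ψ : A → ℂ) a := rfl

theorem irrHomEquiv_symm_apply (hcomm : ∀ a b : A, a * b = b * a) (f : A →* ℂˣ) (a : A) :
    (((irrHomEquiv hcomm).symm f : IrrCharacter A) : A → ℂ) a = ((f a : ℂˣ) : ℂ) := rfl

theorem irrHomEquiv_symm_one (hcomm : ∀ a b : A, a * b = b * a) :
    (irrHomEquiv hcomm).symm 1 = principalChar A := by
  apply Subtype.ext
  funext a
  rw [irrHomEquiv_symm_apply, principalChar_apply]
  simp

theorem irrHomEquiv_symm_ne (hcomm : ∀ a b : A, a * b = b * a) {f : A →* ℂˣ} (hf : f ≠ 1) :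
    (irrHomEquiv hcomm).symm f ≠ principalChar A := by
  intro h
  apply hf
  rw [← irrHomEquiv_symm_one hcomm] at h
  exact (irrHomEquiv hcomm).symm.injective h

theorem irrHomEquiv_ne (hcomm : ∀ a b : A, a * b = b * a) {ψ : IrrCharacter A}
    (hψ : ψ ≠ principalChar A) : irrHomEquiv hcomm ψ ≠ 1 := by
  intro h
  apply hψ
  rw [← irrHomEquiv_symm_one hcomm, ← h, Equiv.symm_apply_apply]

end Hom

section Orbit

variable {G : Type u} [Group G] [Finite G] {p : ℕ}

/-- the orbit condition of the statements in terms of the orbit relation -/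
theorem orbit_iff (P : Sylow p G) [Fintype (P : Subgroup G)]
    [Fintype (IrrCharacter (P : Subgroup G))]
    (hcomm : ∀ x y : (P : Subgroup G), x * y = y * x)
    (ν : MulAut (P : Subgroup G)) (m : ℕ)
    (hN1 : ∀ n : G, n ∈ Subgroup.normalizer ((P : Subgroup G) : Set G) → ∃ k < m,
        ∀ a : (P : Subgroup G), n * a * n⁻¹ = (((ν ^ k) a : (P : Subgroup G)) : G))
    (hN2 : ∀ k : ℕ, ∃ n : G, n ∈ Subgroup.normalizer ((P : Subgroup G) : Set G) ∧
        ∀ a : (P : Subgroup G), n * a * n⁻¹ = (((ν ^ k) a : (P : Subgroup G)) : G))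
    (ψ ψ' : (P : Subgroup G) →* ℂˣ) :
    (∃ n : G, n ∈ Subgroup.normalizer ((P : Subgroup G) : Set G) ∧
      ∀ w w' : (P : Subgroup G), (w' : G) = n * w * n⁻¹ → ψ' w' = ψ w) ↔
    orel ν m ((irrHomEquiv hcomm).symm ψ) ((irrHomEquiv hcomm).symm ψ') := by
  constructor
  · rintro ⟨n, hn, h⟩
    obtain ⟨k, hk, hk'⟩ := hN1 n hn
    refine ⟨k, hk, ?_⟩
    apply Subtype.ext
    funext a
    rw [compIrr_apply, irrHomEquiv_symm_apply, irrHomEquiv_symm_apply,
      h a ((ν ^ k) a) (hk' a).symm]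
  · rintro ⟨k, hk, h⟩
    obtain ⟨n, hn, hn'⟩ := hN2 k
    refine ⟨n, hn, ?_⟩
    intro w w' hw
    have hw' : w' = (ν ^ k) w := by
      apply Subtype.ext
      rw [hw, hn' w]
    have h1 := congrFun (congrArg Subtype.val h) w
    rw [compIrr_apply, irrHomEquiv_symm_apply, irrHomEquiv_symm_apply] at h1
    rw [hw']
    exact (Units.ext h1).symm

/-- the orbit sum of the statements -/
theorem finsum_orbit (P : Sylow p G) [Fintype (P : Subgroup G)]
    [Fintype (IrrCharacter (P : Subgroup G))]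
    (hcomm : ∀ x y : (P : Subgroup G), x * y = y * x)
    (ν : MulAut (P : Subgroup G)) (m : ℕ) (hνm : ν ^ m = 1)
    (hfpf : ∀ k : ℕ, 0 < k → k < m → ∀ a : (P : Subgroup G), (ν ^ k) a = a → a = 1)
    (hN1 : ∀ n : G, n ∈ Subgroup.normalizer ((P : Subgroup G) : Set G) → ∃ k < m,
        ∀ a : (P : Subgroup G), n * a * n⁻¹ = (((ν ^ k) a : (P : Subgroup G)) : G))
    (hN2 : ∀ k : ℕ, ∃ n : G, n ∈ Subgroup.normalizer ((P : Subgroup G) : Set G) ∧
        ∀ a : (P : Subgroup G), n * a * n⁻¹ = (((ν ^ k) a : (P : Subgroup G)) : G))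
    (ψ : (P : Subgroup G) →* ℂˣ) (hψ : ψ ≠ 1) (y : (P : Subgroup G)) :
    ∑ᶠ ψ' ∈ {ψ' : (P : Subgroup G) →* ℂˣ | ∃ n : G,
        n ∈ Subgroup.normalizer ((P : Subgroup G) : Set G) ∧
        ∀ w w' : (P : Subgroup G), (w' : G) = n * w * n⁻¹ → ψ' w' = ψ w}, ((ψ' y : ℂˣ) : ℂ) =
      ∑ k ∈ Finset.range m,
        (((irrHomEquiv hcomm).symm ψ : IrrCharacter (P : Subgroup G)) : ↥(P : Subgroup G) → ℂ)
          ((ν ^ k) y) := by
  classical
  set E := irrHomEquiv hcomm with hE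
  set φ := E.symm ψ with hφ
  have hφ1 : φ ≠ principalChar _ := irrHomEquiv_symm_ne hcomm hψ
  rw [finsum_mem_def, ← finsum_comp_equiv E, finsum_eq_sum_of_fintype]
  refine Eq.trans ?_ (sum_nIndG ν m φ (fun φ' => (φ' : ↥(P : Subgroup G) → ℂ) y))
  refine Finset.sum_congr rfl fun φ' _ => ?_
  rw [nIndG_eq ν m hcomm hfpf φ' hφ1]
  have hiff : E φ' ∈ {ψ' : (P : Subgroup G) →* ℂˣ | ∃ n : G,
        n ∈ Subgroup.normalizer ((P : Subgroup G) : Set G) ∧
        ∀ w w' : (P : Subgroup G), (w' : G) = n * w * n⁻¹ → ψ' w' = ψ w} ↔ orel ν m φ' φ := by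
    rw [Set.mem_setOf_eq, orbit_iff P hcomm ν m hN1 hN2 ψ (E φ'), Equiv.symm_apply_apply]
    exact ⟨orel_symm ν m hνm, orel_symm ν m hνm⟩
  by_cases h : orel ν m φ' φ
  · rw [Set.indicator_of_mem (hiff.2 h), if_pos h]
    simp [hE, irrHomEquiv_apply]
  · rw [Set.indicator_of_notMem (fun h' => h (hiff.1 h')), if_neg h]
    simp

end Orbit

end Cfsg.Agent.Helper7.Frob
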