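import Mathlib
import Cfsg.Agent.Lib.Helper7.Frob6

/-!
# The principal block of a group with an abelian Sylow subgroup on which `N(P)/C(P)` is cyclic
and acts semiregularly: the main structure theorem (helper7's library)
-/

set_option autoImplicit false

namespace Cfsg.Agent.Helper7.Frob

open Cfsg Cfsg.Agent.Helper24 Cfsg.Agent.Helper23 Cfsg.Agent.Helper23.Blk
open Cfsg.Agent.Helper7.Homo Cfsg.Agent.Helper7.BrCol
open scoped ComplexConjugate

universe u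

set_option maxHeartbeats 1000000 in
/-- **Main structure theorem**, with the converse orbit clause. -/
theorem frob_main' {G : Type u} [Group G] [Finite G] (p : ℕ) [Fact p.Prime] (M : Ideal AlgInt)
    (hM : IsPModular p M) (P : Sylow p G)
    (hcomm : ∀ x y : (P : Subgroup G), x * y = y * x)
    (hP1 : Nat.card (P : Subgroup G) ≠ 1) (m : ℕ) (hm1 : 1 < m)
    (hm2 : m + 1 < Nat.card (P : Subgroup G))
    (hCN : (Subgroup.centralizer ((P : Subgroup G) : Set G)).relIndex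
      (Subgroup.normalizer ((P : Subgroup G) : Set G)) = m)
    (hcyc : ∃ g : G, g ∈ Subgroup.normalizer ((P : Subgroup G) : Set G) ∧
      Subgroup.centralizer ((P : Subgroup G) : Set G) ⊔ Subgroup.zpowers g =
        Subgroup.normalizer ((P : Subgroup G) : Set G))
    (hfrob : ∀ y : G, y ∈ (P : Subgroup G) → y ≠ 1 →
      Subgroup.centralizer ({y} : Set G) ⊓ Subgroup.normalizer ((P : Subgroup G) : Set G) =
        Subgroup.centralizer ((P : Subgroup G) : Set G)) :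
    ∃ (Xs Y : Finset (IrrCharacter G)) (δ dd : ℤ) (a : IrrCharacter G → ℤ)
      (ζ : ((P : Subgroup G) →* ℂˣ) → IrrCharacter G),
      (∀ χ, χ ∈ pbFinset M G ↔ χ ∈ Xs ∨ χ ∈ Y) ∧ (∀ χ ∈ Xs, χ ∉ Y) ∧
      principalChar G ∈ Xs ∧ (δ = 1 ∨ δ = -1) ∧
      Y.card * m = Nat.card (P : Subgroup G) - 1 ∧ Xs.card ≤ m ∧
      (∀ χ ∈ Xs, a χ ≠ 0 ∧ ∀ z y : G, IsPPart p z y → y ∈ (P : Subgroup G) →
        y ≠ 1 → (χ : G → ℂ) z = (a χ : ℂ)) ∧
      (∀ ψ : (P : Subgroup G) →* ℂˣ, ψ ≠ 1 → ζ ψ ∈ Y) ∧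
      (∀ η ∈ Y, ∃ ψ : (P : Subgroup G) →* ℂˣ, ψ ≠ 1 ∧ ζ ψ = η) ∧
      (∀ ψ ψ' : (P : Subgroup G) →* ℂˣ, ψ ≠ 1 →
        (∃ n : G, n ∈ Subgroup.normalizer ((P : Subgroup G) : Set G) ∧
          ∀ w w' : (P : Subgroup G), (w' : G) = n * w * n⁻¹ → ψ' w' = ψ w) → ζ ψ' = ζ ψ) ∧
      (∀ ψ ψ' : (P : Subgroup G) →* ℂˣ, ψ ≠ 1 → ψ' ≠ 1 → ζ ψ' = ζ ψ →
        (∃ n : G, n ∈ Subgroup.normalizer ((P : Subgroup G) : Set G) ∧
          ∀ w w' : (P : Subgroup G), (w' : G) = n * w * n⁻¹ → ψ' w' = ψ w)) ∧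
      (∀ ψ : (P : Subgroup G) →* ℂˣ, ψ ≠ 1 → ∀ (z : G) (y : (P : Subgroup G)),
        IsPPart p z (y : G) → (y : G) ≠ 1 → (ζ ψ : G → ℂ) z = (dd : ℂ) + (δ : ℂ) *
          ∑ᶠ ψ' ∈ {ψ' : (P : Subgroup G) →* ℂˣ | ∃ n : G,
            n ∈ Subgroup.normalizer ((P : Subgroup G) : Set G) ∧
            ∀ w w' : (P : Subgroup G), (w' : G) = n * w * n⁻¹ → ψ' w' = ψ w},
              ((ψ' y : ℂˣ) : ℂ)) ∧
      ((dd - δ) ^ 2 + ((Y.card : ℤ) - 1) * dd ^ 2 + ∑ χ ∈ Xs, a χ ^ 2 =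
        (m : ℤ) + 1) ∧
      (∀ w : IrrCharacter G → ℂ,
        (∀ y : (P : Subgroup G), y ≠ 1 → ∑ χ ∈ pbFinset M G, w χ * (χ : G → ℂ) y = 0) →
        (∀ η ∈ Y, ∀ η' ∈ Y, w η = w η') ∧
        ∀ η ∈ Y, (((Y.card : ℂ)) * (dd : ℂ) - (δ : ℂ)) * w η +
          ∑ χ ∈ Xs, (a χ : ℂ) * w χ = 0) := by
  classical
  haveI : Fintype (P : Subgroup G) := Fintype.ofFinite _
  letI : Fintype (IrrCharacter (P : Subgroup G)) := irrFintype
  have hm0 : 0 < m := by omega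
  obtain ⟨ν, hνm, hfpf, hconj, hfus, hnil, hN1, hN2⟩ := frob_package P hcomm m hCN hcyc hfrob
  set X := pbFinset M G with hX
  set f : IrrCharacter G → ↥(P : Subgroup G) → ℂ := fun χ a => (χ : G → ℂ) (a : G) with hf
  set d : IrrCharacter G → ℕ := fun χ => charDegree (χ : G → ℂ) with hd
  have hchar : ∀ χ ∈ X, IsCharacter (P : Subgroup G) (f χ) := fun χ _ =>
    isCharacter_restrict (P : Subgroup G) (isCharacter_of_isIrrCharacter χ.2)
  have hdpos : ∀ χ ∈ X, 0 < d χ := fun χ _ => charDegree_pos χ.2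
  have hcol : ∀ a a' : (P : Subgroup G), a ≠ 1 → a' ≠ 1 →
      ∑ χ ∈ X, f χ a * conj (f χ a') = (Nat.card (P : Subgroup G) : ℂ) *
        ∑ k ∈ Finset.range m, (if a' = (ν ^ k) a then (1 : ℂ) else 0) :=
    fun a a' ha ha' => frob_col M hM P hcomm ν m hfpf hconj hfus hnil a a' ha ha'
  have hB : ∀ a : (P : Subgroup G), a ≠ 1 → ∑ χ ∈ X, (d χ : ℂ) * f χ a = 0 :=
    fun a ha => frob_deg_rel M hM P a ha
  haveI hMp : M.IsPrime := hM.2.1.isPrime
  have hx₀ : principalChar G ∈ X := mem_pbFinset.2 principalChar_mem_principalBlock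
  have hfx₀ : ∀ a, f (principalChar G) a = 1 := fun a => rfl
  obtain ⟨δ, c, η, d', hδ, hηX, hηR, hb, hcη⟩ :=
    frob_structure X f ν m hcomm hm1 hm2 hνm hfpf hchar d hdpos hcol hB (principalChar G)
  obtain ⟨hval1, hval2⟩ := frob_values X f ν m hcomm hm0 hνm hfpf hchar δ c η d' hηR hb hcη
  set E := irrHomEquiv hcomm with hE
  have hYX : excSet η ⊆ X := by
    intro y hy
    obtain ⟨ψ, hψ, rfl⟩ := mem_excSet.1 hy
    exact hηX ψ hψ
  have hx₀Y : principalChar G ∉ excSet η :=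
    principal_not_exc X f ν m hcomm hm0 hm2 hνm δ c η hδ hηR hb (principalChar G) hx₀ hfx₀
  -- values of the nonexceptional members on `P`
  have hvalX : ∀ χ ∈ X \ excSet η, ∀ a : (P : Subgroup G), a ≠ 1 →
      (χ : G → ℂ) a = -(c χ : ℂ) := by
    intro χ hχ a ha
    rw [Finset.mem_sdiff] at hχ
    apply hval1 χ hχ.1 _ a ha
    intro ψ hψ h
    apply hχ.2
    rw [h]
    exact mem_excSet.2 ⟨ψ, hψ, rfl⟩
  have hc0 : ∀ χ ∈ X \ excSet η, c χ ≠ 0 := by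
    intro χ hχ h0
    obtain ⟨a, ha, hne⟩ := frob_nonvanishing M hM P hP1 hnil χ
      (mem_pbFinset.1 (Finset.mem_sdiff.1 hχ).1)
    apply hne
    rw [hvalX χ hχ a ha, h0]
    simp
  have hnil' : ∀ y : G, y ∈ (P : Subgroup G) → y ≠ 1 → ∃ k : ℕ,
      (Cfsg.pPrimeCore p (Subgroup.centralizer ({y} : Set G))).index = p ^ k := by
    intro y hy hy1
    exact hnil ⟨y, hy⟩ (fun h => hy1 (congrArg Subtype.val h))
  refine ⟨X \ excSet η, excSet η, δ, -d', fun χ => -c χ, fun ψ => η (E.symm ψ), ?_, ?_,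
    Finset.mem_sdiff.2 ⟨hx₀, hx₀Y⟩, hδ, frob_card ν m hcomm hfpf η hηR,
    frob_card_le X f ν m hcomm hm0 hm2 hfpf hchar hcol δ c η d' hδ hηX hηR hb hcη hc0,
    ?_, ?_, ?_, ?_, ?_, ?_, ?_, ?_⟩
  · intro χ
    rw [Finset.mem_sdiff]
    constructor
    · intro h
      by_cases hY : χ ∈ excSet η
      · exact Or.inr hY
      · exact Or.inl ⟨h, hY⟩
    · rintro (h | h)
      · exact h.1
      · exact hYX h
  · intro χ hχ
    exact (Finset.mem_sdiff.1 hχ).2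
  · intro χ hχ
    refine ⟨neg_ne_zero.2 (hc0 χ hχ), ?_⟩
    intro z y hzy hyP hy1
    rw [frob_psingular M hM χ (mem_pbFinset.1 (Finset.mem_sdiff.1 hχ).1) hzy (hnil' y hyP hy1)]
    have := hvalX χ hχ ⟨y, hyP⟩ (fun h => hy1 (congrArg Subtype.val h))
    rw [this]
    push_cast
    rfl
  · intro ψ hψ
    exact mem_excSet.2 ⟨E.symm ψ, irrHomEquiv_symm_ne hcomm hψ, rfl⟩
  · intro y hy
    obtain ⟨φ, hφ, rfl⟩ := mem_excSet.1 hy
    exact ⟨E φ, irrHomEquiv_ne hcomm hφ, by simp only [Equiv.symm_apply_apply]⟩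
  · intro ψ ψ' hψ horb
    have h1 := (orbit_iff P hcomm ν m hN1 hN2 ψ ψ').1 horb
    have hφ : E.symm ψ ≠ principalChar _ := irrHomEquiv_symm_ne hcomm hψ
    have hφ' : E.symm ψ' ≠ principalChar _ := by
      intro h
      rw [h] at h1
      exact hφ (orel_principal ν m h1)
    exact ((hηR _ _ hφ hφ').2 h1).symm
  · intro ψ ψ' hψ hψ' h
    have hφ : E.symm ψ ≠ principalChar _ := irrHomEquiv_symm_ne hcomm hψ
    have hφ' : E.symm ψ' ≠ principalChar _ := irrHomEquiv_symm_ne hcomm hψ'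
    have h1 := (hηR _ _ hφ hφ').1 h.symm
    exact (orbit_iff P hcomm ν m hN1 hN2 ψ ψ').2 h1
  · intro ψ hψ z y hzy hy1
    have hφ : E.symm ψ ≠ principalChar _ := irrHomEquiv_symm_ne hcomm hψ
    have hy1' : y ≠ 1 := fun h => hy1 (by rw [h]; rfl)
    rw [frob_psingular M hM _ (mem_pbFinset.1 (hηX _ hφ)) hzy (hnil' y y.2 hy1),
      finsum_orbit P hcomm ν m hνm hfpf hN1 hN2 ψ hψ y]
    have := hval2 (E.symm ψ) hφ (hηX _ hφ) y hy1'
    refine Eq.trans this ?_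
    push_cast
    rfl
  · have hex : ∃ ψ : IrrCharacter (P : Subgroup G), ψ ≠ principalChar _ := by
      obtain ⟨ψ₁, _, hψ₁, _, _⟩ := exists_two_orbits ν m hcomm hm2
      exact ⟨ψ₁, hψ₁⟩
    obtain ⟨ψ₀, hψ₀⟩ := hex
    have hn := frob_norm X f ν m hcomm hm0 hfpf hchar hcol δ c η d' hδ hηX hb hcη ψ₀ hψ₀
    have e : ∑ χ ∈ X \ excSet η, (-c χ) ^ 2 = ∑ χ ∈ X \ excSet η, c χ * c χ :=
      Finset.sum_congr rfl fun χ _ => by ring
    rw [e]
    linear_combination hn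
  · intro w hw
    obtain ⟨hs, hr⟩ := frob_weight X f hcomm hchar δ c η d' hδ hηX hb hcη w
      (fun a ha => hw a ha)
    constructor
    · intro y hy y' hy'
      obtain ⟨ψ, hψ, rfl⟩ := mem_excSet.1 hy
      obtain ⟨ψ', hψ', rfl⟩ := mem_excSet.1 hy'
      exact hs ψ ψ' hψ hψ'
    · intro y hy
      obtain ⟨ψ, hψ, rfl⟩ := mem_excSet.1 hy
      have h1 := hr ψ hψ
      have e : ∑ χ ∈ X \ excSet η, ((-c χ : ℤ) : ℂ) * w χ =
          -∑ χ ∈ X \ excSet η, (c χ : ℂ) * w χ := by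
        rw [← Finset.sum_neg_distrib]
        refine Finset.sum_congr rfl fun χ _ => ?_
        push_cast
        ring
      rw [e]
      push_cast
      linear_combination -h1

end Cfsg.Agent.Helper7.Frob
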