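import Mathlib

/-!
Rational linear independence of the nontrivial `p`-th roots of unity (helper7; for S4441 FINMID).
-/

set_option autoImplicit false

namespace Cfsg.Agent.Helper7.TLRoots

open Polynomial

/-- distinct nontrivial `p`-th roots of unity are linearly independent over `ℚ` -/
theorem rootsLI {p : ℕ} (hp : p.Prime) {ι : Type*} [Fintype ι] (v : ι → ℂ)
    (hinj : Function.Injective v) (hv : ∀ i, v i ^ p = 1) (hv1 : ∀ i, v i ≠ 1) (c : ι → ℚ)
    (h : ∑ i, (c i : ℂ) * v i = 0) : ∀ i, c i = 0 := by
  classical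
  haveI : NeZero p := ⟨hp.ne_zero⟩
  set ζ : ℂ := Complex.exp (2 * Real.pi * Complex.I / p) with hζdef
  have hζ : IsPrimitiveRoot ζ p := Complex.isPrimitiveRoot_exp p hp.ne_zero
  have hζ0 : ζ ≠ 0 := hζ.ne_zero hp.ne_zero
  have hk : ∀ i, ∃ k : ℕ, k < p ∧ 1 ≤ k ∧ ζ ^ k = v i := by
    intro i
    obtain ⟨k, hk, hki⟩ := hζ.eq_pow_of_pow_eq_one (hv i)
    refine ⟨k, hk, ?_, hki⟩
    rcases Nat.eq_zero_or_pos k with h0 | h0
    · exfalso
      rw [h0, pow_zero] at hki
      exact hv1 i hki.symm
    · exact h0
  choose k hkp hk1 hkv using hk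
  have hkinj : Function.Injective k := by
    intro i j hij
    apply hinj
    rw [← hkv i, ← hkv j, hij]
  set f : ℚ[X] := ∑ i, C (c i) * X ^ (k i - 1) with hf
  have hdeg : f.natDegree < p - 1 := by
    have h1 : f.natDegree ≤ p - 2 := by
      apply Polynomial.natDegree_sum_le_of_forall_le
      intro i _
      refine (Polynomial.natDegree_C_mul_X_pow_le (c i) (k i - 1)).trans ?_
      have := hkp i
      omega
    have := hp.two_le
    have hk0 : ∀ i : ι, True := fun _ => trivial
    by_cases hne : Nonempty ι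
    · obtain ⟨i⟩ := hne
      have := hkp i
      have := hk1 i
      omega
    · have : f = 0 := by
        rw [hf]
        apply Finset.sum_eq_zero
        intro i _
        exact absurd ⟨i⟩ hne
      rw [this, natDegree_zero]
      by_contra hcon
      have hp2 : p = 2 ∨ p ≤ 1 := by omega
      rcases hp2 with hp2 | hp2
      · -- p = 2: p - 1 = 1 > 0
        omega
      · omega
  have heval : aeval ζ f = 0 := by
    have h1 : ζ * aeval ζ f = 0 := by
      rw [hf, map_sum, Finset.mul_sum, ← h]
      refine Finset.sum_congr rfl (fun i _ => ?_)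
      rw [map_mul, aeval_C, map_pow, aeval_X, ← hkv i]
      have hki : k i = (k i - 1) + 1 := by have := hk1 i; omega
      conv_rhs => rw [hki, pow_succ]
      simp only [eq_ratCast]
      ring
    exact (mul_eq_zero.1 h1).resolve_left hζ0
  have hmin : minpoly ℚ ζ ∣ f := minpoly.dvd ℚ ζ heval
  have hmindeg : (minpoly ℚ ζ).natDegree = p - 1 := by
    rw [← Polynomial.cyclotomic_eq_minpoly_rat hζ hp.pos, natDegree_cyclotomic,
      Nat.totient_prime hp]
  have hf0 : f = 0 := by
    apply Polynomial.eq_zero_of_dvd_of_natDegree_lt hmin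
    rw [hmindeg]
    exact hdeg
  intro j
  have hcoef : f.coeff (k j - 1) = c j := by
    rw [hf, Polynomial.finset_sum_coeff]
    rw [Finset.sum_eq_single j]
    · rw [Polynomial.coeff_C_mul_X_pow, if_pos rfl]
    · intro i _ hij
      rw [Polynomial.coeff_C_mul_X_pow, if_neg]
      intro hcon
      apply hij
      apply hkinj
      have := hk1 i
      have := hk1 j
      omega
    · intro hcon
      exact absurd (Finset.mem_univ j) hcon
  rw [← hcoef, hf0, coeff_zero]

end Cfsg.Agent.Helper7.TLRoots
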