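import Mathlib
import Cfsg.Agent.Lib.Helper7.Frob7b
import Cfsg.Agent.Lib.Helper7.TLRoots

/-!
S4441 PIECE FINMID, part A (helper7): a Sylow subgroup of prime order and its linear characters.
-/

set_option autoImplicit false

namespace Cfsg.Agent.Helper7.TLFinMid

open Cfsg Cfsg.Agent.Helper24 Cfsg.Agent.Helper7.Homo Cfsg.Agent.Helper7.Frob
open Cfsg.Agent.Helper7.TLRoots

universe u

variable {G : Type u} [Group G] [Finite G] {p : ℕ} [Fact p.Prime]

theorem sylow_comm (P : Sylow p G) (hP : Nat.card P = p) :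
    ∀ x y : (P : Subgroup G), x * y = y * x := by
  haveI : IsCyclic (P : Subgroup G) := isCyclic_of_prime_card hP
  intro x y
  obtain ⟨g, hg⟩ := IsCyclic.exists_generator (α := (P : Subgroup G))
  obtain ⟨i, rfl⟩ := Subgroup.mem_zpowers_iff.1 (hg x)
  obtain ⟨j, rfl⟩ := Subgroup.mem_zpowers_iff.1 (hg y)
  rw [← zpow_add, ← zpow_add, add_comm]

theorem sylow_exists_ne_one (P : Sylow p G) (hP : Nat.card P = p) :
    ∃ x : (P : Subgroup G), x ≠ 1 := by
  haveI : Nontrivial (P : Subgroup G) := by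
    rw [← Finite.one_lt_card_iff_nontrivial]
    have : Nat.card (P : Subgroup G) = p := hP
    rw [this]
    exact (Fact.out : p.Prime).one_lt
  exact exists_ne 1

theorem sylow_mem_zpowers (P : Sylow p G) (hP : Nat.card P = p) (x : (P : Subgroup G))
    (hx : x ≠ 1) (y : (P : Subgroup G)) : y ∈ Subgroup.zpowers x :=
  mem_zpowers_of_prime_card (show Nat.card (P : Subgroup G) = p from hP) hx

theorem sylow_orderOf (P : Sylow p G) (hP : Nat.card P = p) (x : (P : Subgroup G))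
    (hx : x ≠ 1) : orderOf (x : G) = p := by
  rw [Subgroup.orderOf_coe]
  have h1 : x ^ p = 1 := by
    have := pow_card_eq_one' (G := (P : Subgroup G)) (x := x)
    rw [show Nat.card (P : Subgroup G) = p from hP] at this
    exact this
  exact orderOf_eq_prime h1 hx

theorem isPPart_self (P : Sylow p G) (hP : Nat.card P = p) (x : (P : Subgroup G))
    (hx : x ≠ 1) : IsPPart p (x : G) (x : G) := by
  refine ⟨1, mul_one _, Commute.one_right _, ⟨1, ?_⟩, ?_⟩
  · rw [pow_one]; exact sylow_orderOf P hP x hx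
  · rw [orderOf_one]
    exact (Fact.out : p.Prime).one_lt.ne' ∘ Nat.dvd_one.1

/-- homomorphisms on `P` are determined by the value at a generator -/
theorem hom_ext_gen (P : Sylow p G) (hP : Nat.card P = p) (x : (P : Subgroup G)) (hx : x ≠ 1)
    {ψ ψ' : (P : Subgroup G) →* ℂˣ} (h : ψ x = ψ' x) : ψ = ψ' := by
  ext y
  obtain ⟨i, rfl⟩ := Subgroup.mem_zpowers_iff.1 (sylow_mem_zpowers P hP x hx y)
  rw [map_zpow, map_zpow, h]

theorem hom_ne_one_apply (P : Sylow p G) (hP : Nat.card P = p) (x : (P : Subgroup G))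
    (hx : x ≠ 1) {ψ : (P : Subgroup G) →* ℂˣ} (hψ : ψ ≠ 1) : ((ψ x : ℂˣ) : ℂ) ≠ 1 := by
  intro h
  apply hψ
  apply hom_ext_gen P hP x hx
  rw [MonoidHom.one_apply]
  exact Units.ext h

theorem hom_pow_eq_one (P : Sylow p G) (hP : Nat.card P = p) (x : (P : Subgroup G))
    (ψ : (P : Subgroup G) →* ℂˣ) : ((ψ x : ℂˣ) : ℂ) ^ p = 1 := by
  have h1 : x ^ p = 1 := by
    have := pow_card_eq_one' (G := (P : Subgroup G)) (x := x)
    rw [show Nat.card (P : Subgroup G) = p from hP] at this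
    exact this
  rw [← Units.val_pow_eq_pow_val, ← map_pow, h1, map_one, Units.val_one]

section sums

variable (P : Sylow p G) [Fintype (P : Subgroup G)] [Fintype (IrrCharacter (P : Subgroup G))]
  [Fintype ((P : Subgroup G) →* ℂˣ)] [DecidableEq ((P : Subgroup G) →* ℂˣ)]

/-- the sum of all linear characters at a nonidentity element vanishes -/
theorem sum_hom_eq_zero (hcomm : ∀ x y : (P : Subgroup G), x * y = y * x)
    (x : (P : Subgroup G)) (hx : x ≠ 1) :
    ∑ ψ : (P : Subgroup G) →* ℂˣ, ((ψ x : ℂˣ) : ℂ) = 0 := by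
  classical
  have h1 := sum_irr hcomm x
  rw [if_neg hx] at h1
  rw [← h1]
  exact (Fintype.sum_equiv (irrHomEquiv hcomm) _ _ (fun φ => rfl)).symm

/-- the sum of the nontrivial linear characters at a nonidentity element is `-1` -/
theorem sum_hom_erase (hcomm : ∀ x y : (P : Subgroup G), x * y = y * x)
    (x : (P : Subgroup G)) (hx : x ≠ 1) :
    ∑ ψ ∈ (Finset.univ.erase (1 : (P : Subgroup G) →* ℂˣ)), ((ψ x : ℂˣ) : ℂ) = -1 := by
  have h := Finset.add_sum_erase Finset.univ (fun ψ : (P : Subgroup G) →* ℂˣ => ((ψ x : ℂˣ) : ℂ))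
    (Finset.mem_univ 1)
  rw [sum_hom_eq_zero P hcomm x hx] at h
  simp only [MonoidHom.one_apply, Units.val_one] at h
  linear_combination h

/-- rational linear independence of the values of the nontrivial linear characters -/
theorem hom_LI (hP : Nat.card P = p) (x : (P : Subgroup G)) (hx : x ≠ 1)
    (c : ((P : Subgroup G) →* ℂˣ) → ℚ)
    (h : ∑ ψ ∈ (Finset.univ.erase (1 : (P : Subgroup G) →* ℂˣ)),
      (c ψ : ℂ) * ((ψ x : ℂˣ) : ℂ) = 0) :
    ∀ ψ : (P : Subgroup G) →* ℂˣ, ψ ≠ 1 → c ψ = 0 := by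
  classical
  letI : Fintype {ψ : (P : Subgroup G) →* ℂˣ // ψ ≠ 1} := Subtype.fintype _
  have h2 := Finset.sum_subtype (Finset.univ.erase (1 : (P : Subgroup G) →* ℂˣ))
    (p := fun ψ => ψ ≠ 1) (F := inferInstance) (by intro ψ; simp)
    (fun ψ => (c ψ : ℂ) * ((ψ x : ℂˣ) : ℂ))
  rw [h] at h2
  have h3 := rootsLI (Fact.out : p.Prime)
    (fun ψ : {ψ : (P : Subgroup G) →* ℂˣ // ψ ≠ 1} => ((ψ.1 x : ℂˣ) : ℂ))
    (by
      intro ψ ψ' hh
      apply Subtype.ext
      exact hom_ext_gen P hP x hx (Units.ext hh))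
    (fun ψ => hom_pow_eq_one P hP x ψ.1)
    (fun ψ => hom_ne_one_apply P hP x hx ψ.2)
    (fun ψ => c ψ.1) h2.symm
  intro ψ hψ
  exact h3 ⟨ψ, hψ⟩

end sums

end Cfsg.Agent.Helper7.TLFinMid
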