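import Mathlib
import Cfsg.Agent.Lib.Helper7.TLFinMidA
import Cfsg.Agent.Lib.Helper5.TLConcl
import Cfsg.Agent.S1494
import Cfsg.Agent.S1495

/-!
S4441 PIECE FINMID, part B (helper7): the case `1 < e < p - 1`, with the inputs of the
Thompson-type lemma (`hTLP`, `hAPPX`) and the cyclicity of `N/C` as hypotheses.
-/

set_option autoImplicit false

namespace Cfsg.Agent.Helper7.TLFinMid

open Cfsg Cfsg.Agent.Helper24 Cfsg.Agent.Helper7.Homo Cfsg.Agent.Helper7.Frob
open Cfsg.Agent.Helper7.TLRoots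

universe u

/-- the data extracted from `frob_main'` and the lemma of Thompson type -/
structure MidData {G : Type u} [Group G] [Finite G] (p : ℕ) (M : Ideal AlgInt) (P : Sylow p G)
    (e : ℕ) : Prop where
  out : ∃ (Xs Y : Finset (IrrCharacter G)) (δ dd : ℤ) (a : IrrCharacter G → ℤ),
      (∀ χ, χ ∈ pbFinset M G ↔ χ ∈ Xs ∨ χ ∈ Y) ∧ (∀ χ ∈ Xs, χ ∉ Y) ∧
      (δ = 1 ∨ δ = -1) ∧ Y.card * e = p - 1 ∧ Xs.card = e ∧
      (((Y.card : ℤ) * dd - δ = 1) ∨ ((Y.card : ℤ) * dd - δ = -1)) ∧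
      (∀ χ ∈ Xs, (a χ = 1 ∨ a χ = -1) ∧ ∀ z y : G, IsPPart p z y → y ∈ (P : Subgroup G) →
        y ≠ 1 → (χ : G → ℂ) z = (a χ : ℂ)) ∧
      (∀ w : IrrCharacter G → ℂ,
        (∀ y : (P : Subgroup G), y ≠ 1 → ∑ χ ∈ pbFinset M G, w χ * (χ : G → ℂ) y = 0) →
        (∀ η ∈ Y, ∀ η' ∈ Y, w η = w η') ∧
        ∀ η ∈ Y, (((Y.card : ℂ)) * (dd : ℂ) - (δ : ℂ)) * w η +
          ∑ χ ∈ Xs, (a χ : ℂ) * w χ = 0)

set_option maxHeartbeats 1000000 in
theorem midData {G : Type u} [Group G] [Finite G] (p : ℕ) [Fact p.Prime] (M : Ideal AlgInt)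
    (hM : IsPModular p M) (P : Sylow p G) (hP : Nat.card P = p) (e : ℕ) (he1 : 1 < e)
    (he2 : e + 1 < p)
    (he : (Subgroup.centralizer ((P : Subgroup G) : Set G)).relIndex
      (Subgroup.normalizer ((P : Subgroup G) : Set G)) = e)
    (hcyc : ∃ g : G, g ∈ Subgroup.normalizer ((P : Subgroup G) : Set G) ∧
      Subgroup.centralizer ((P : Subgroup G) : Set G) ⊔ Subgroup.zpowers g =
        Subgroup.normalizer ((P : Subgroup G) : Set G))
    (hAPPX : ∀ χ : IrrCharacter G, χ ∈ principalBlock M G → ∀ x : G, x ∈ (P : Subgroup G) →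
      x ≠ 1 → ∀ a : ℤ, (χ : G → ℂ) x = (a : ℂ) → a ≠ 0 → a = 1 ∨ a = -1)
    (hTLP : ∀ (χ : IrrCharacter G) (x : G), x ∈ (P : Subgroup G) → x ≠ 1 →
      ∃ mult : IrrCharacter G → ℕ, 1 ≤ mult χ ∧
        (∀ ψ ψ' : IrrCharacter G, 0 < mult ψ → 0 < mult ψ' →
          (∃ r : ℚ, centralChar (ψ : G → ℂ) x = (r : ℂ)) →
            centralChar (ψ' : G → ℂ) x = centralChar (ψ : G → ℂ) x) ∧
        ∃ t : ℤ, (t = -1 ∨ t = 0 ∨ t = 1) ∧
          ∑ᶠ ψ ∈ principalBlock M G, (mult ψ : ℂ) * (ψ : G → ℂ) x = (t : ℂ)) :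
    MidData p M P e := by
  classical
  have hpp : p.Prime := Fact.out
  have hcomm := sylow_comm P hP
  have hP1 : Nat.card (P : Subgroup G) ≠ 1 := by
    rw [show Nat.card (P : Subgroup G) = p from hP]; exact hpp.one_lt.ne'
  have hm2 : e + 1 < Nat.card (P : Subgroup G) := by
    rw [show Nat.card (P : Subgroup G) = p from hP]; exact he2
  have hfrob : ∀ y : G, y ∈ (P : Subgroup G) → y ≠ 1 →
      Subgroup.centralizer ({y} : Set G) ⊓ Subgroup.normalizer ((P : Subgroup G) : Set G) =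
        Subgroup.centralizer ((P : Subgroup G) : Set G) := by
    intro y hy hy1
    apply le_antisymm
    · intro g hg
      rw [Subgroup.mem_inf] at hg
      rw [Subgroup.mem_centralizer_iff]
      intro w hw
      have hyP : (⟨y, hy⟩ : (P : Subgroup G)) ≠ 1 := fun h => hy1 (congrArg Subtype.val h)
      obtain ⟨i, hi⟩ := Subgroup.mem_zpowers_iff.1
        (sylow_mem_zpowers P hP ⟨y, hy⟩ hyP ⟨w, hw⟩)
      have hw' : w = y ^ i := by
        have := congrArg Subtype.val hi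
        simpa using this.symm
      have hgy : Commute y g := Subgroup.mem_centralizer_singleton_iff.1 hg.1 |>.symm
      rw [hw']
      exact (hgy.zpow_left i).eq
    · intro g hg
      refine Subgroup.mem_inf.2 ⟨?_, Subgroup.centralizer_le_normalizer _ hg⟩
      exact Subgroup.centralizer_le (Set.singleton_subset_iff.2 hy) hg
  obtain ⟨Xs, Y, δ, dd, a, ζ, hpb, hdisj, h1X, hδ, hYcard, hXcard, hXval, hζY, hζsurj, hζconst,
    hζconv, hζval, hnorm, hw⟩ := frob_main' p M hM P hcomm hP1 e he1 hm2 he hcyc hfrob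
  obtain ⟨xP, hxP1⟩ := sylow_exists_ne_one P hP
  have hxP : (xP : G) ∈ (P : Subgroup G) := xP.2
  have hx1 : (xP : G) ≠ 1 := fun h => hxP1 (Subtype.ext h)
  have hpart : IsPPart p (xP : G) (xP : G) := isPPart_self P hP xP hxP1
  haveI : Fintype (P : Subgroup G) := Fintype.ofFinite _
  letI : Fintype (IrrCharacter (P : Subgroup G)) := irrFintype
  letI : Fintype ((P : Subgroup G) →* ℂˣ) := Fintype.ofEquiv _ (irrHomEquiv hcomm)
  have hYc : Y.card * e = p - 1 := by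
    rw [hYcard, show Nat.card (P : Subgroup G) = p from hP]
  have hY2 : 2 ≤ Y.card := by
    rcases Nat.lt_or_ge Y.card 2 with h | h
    · exfalso
      have h01 : Y.card = 0 ∨ Y.card = 1 := by omega
      rcases h01 with h0 | h0
      · rw [h0] at hYc
        have := hpp.two_le
        omega
      · rw [h0] at hYc
        omega
    · exact h
  have hXx : ∀ χ ∈ Xs, (χ : G → ℂ) (xP : G) = (a χ : ℂ) :=
    fun χ hχ => (hXval χ hχ).2 _ _ hpart hxP hx1
  have hXB : ∀ χ ∈ Xs, χ ∈ principalBlock M G :=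
    fun χ hχ => mem_pbFinset.1 ((hpb χ).2 (Or.inl hχ))
  have ha1 : ∀ χ ∈ Xs, a χ = 1 ∨ a χ = -1 :=
    fun χ hχ => hAPPX χ (hXB χ hχ) _ hxP hx1 (a χ) (hXx χ hχ) (hXval χ hχ).1
  -- the orbit sets
  have hS : ∀ ψ : (P : Subgroup G) →* ℂˣ, ψ ≠ 1 → ∀ ψ' : (P : Subgroup G) →* ℂˣ,
      (∃ n : G, n ∈ Subgroup.normalizer ((P : Subgroup G) : Set G) ∧
          ∀ w w' : (P : Subgroup G), (w' : G) = n * w * n⁻¹ → ψ' w' = ψ w) ↔
        (ψ' ≠ 1 ∧ ζ ψ' = ζ ψ) := by
    intro ψ hψ ψ'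
    constructor
    · rintro ⟨n, hn, h⟩
      refine ⟨?_, hζconst ψ ψ' hψ ⟨n, hn, h⟩⟩
      intro h1
      apply hψ
      ext w
      have hmem : n * (w : G) * n⁻¹ ∈ (P : Subgroup G) :=
        (Subgroup.mem_normalizer_iff.1 hn w).1 w.2
      have h2 := h w ⟨n * (w : G) * n⁻¹, hmem⟩ rfl
      rw [h1] at h2
      rw [← h2]
      simp
    · rintro ⟨h1, h2⟩
      exact hζconv ψ ψ' hψ h1 h2
  set per : IrrCharacter G → ℂ := fun η =>
    ∑ ψ' ∈ Finset.univ.erase (1 : (P : Subgroup G) →* ℂˣ),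
      if ζ ψ' = η then ((ψ' xP : ℂˣ) : ℂ) else 0 with hper
  have hYx : ∀ η ∈ Y, (η : G → ℂ) (xP : G) = (dd : ℂ) + (δ : ℂ) * per η := by
    intro η hη
    obtain ⟨ψ, hψ, rfl⟩ := hζsurj η hη
    rw [hζval ψ hψ _ xP hpart hx1]
    congr 2
    rw [finsum_mem_def, finsum_eq_sum_of_fintype, hper]
    simp only
    rw [← Finset.sum_erase Finset.univ (a := (1 : (P : Subgroup G) →* ℂˣ))]
    · refine Finset.sum_congr rfl (fun ψ' hψ' => ?_)
      have hψ'1 : ψ' ≠ 1 := (Finset.mem_erase.1 hψ').1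
      rw [Set.indicator_apply]
      by_cases hc : ζ ψ' = ζ ψ
      · rw [if_pos hc, if_pos]
        exact (hS ψ hψ ψ').2 ⟨hψ'1, hc⟩
      · rw [if_neg hc, if_neg]
        intro hmem
        exact hc ((hS ψ hψ ψ').1 hmem).2
    · rw [Set.indicator_apply, if_neg]
      intro hmem
      exact ((hS ψ hψ 1).1 hmem).1 rfl
  have hsum1 : ∑ ψ' ∈ Finset.univ.erase (1 : (P : Subgroup G) →* ℂˣ), ((ψ' xP : ℂˣ) : ℂ) = -1 :=
    sum_hom_erase P hcomm xP hxP1
  have hδ2 : (δ : ℂ) * (δ : ℂ) = 1 := by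
    rcases hδ with rfl | rfl <;> norm_num
  have hδ2' : δ * δ = 1 := by
    rcases hδ with rfl | rfl <;> norm_num
  -- irrationality of the central character of the exceptional characters
  have hirr : ∀ η ∈ Y, ¬ ∃ r : ℚ, centralChar (η : G → ℂ) (xP : G) = (r : ℂ) := by
    rintro η hη ⟨r, hr⟩
    have hidx : (Subgroup.centralizer ({(xP : G)} : Set G)).index ≠ 0 :=
      Subgroup.index_ne_zero_of_finite
    have hidxC : ((Subgroup.centralizer ({(xP : G)} : Set G)).index : ℂ) ≠ 0 := by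
      exact_mod_cast hidx
    have hdeg : (η : G → ℂ) 1 = (charDegree (η : G → ℂ) : ℂ) := irr_one_eq_charDegree η.2
    have hdeg0 : (charDegree (η : G → ℂ) : ℂ) ≠ 0 := by
      exact_mod_cast (charDegree_pos η.2).ne'
    set q : ℚ := r * (charDegree (η : G → ℂ) : ℚ) /
      ((Subgroup.centralizer ({(xP : G)} : Set G)).index : ℚ) with hq
    have hηx : (η : G → ℂ) (xP : G) = (q : ℂ) := by
      unfold centralChar at hr
      rw [hdeg] at hr
      rw [hq]
      push_cast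
      rw [← hr]
      field_simp
    set r' : ℚ := (δ : ℚ) * (q - (dd : ℚ)) with hr'
    have hper' : per η = (r' : ℂ) := by
      have h1 := hYx η hη
      rw [hηx] at h1
      calc per η = ((δ : ℂ) * (δ : ℂ)) * per η := by rw [hδ2, one_mul]
        _ = (δ : ℂ) * (((dd : ℂ) + (δ : ℂ) * per η) - (dd : ℂ)) := by ring
        _ = (δ : ℂ) * ((q : ℂ) - (dd : ℂ)) := by rw [← h1]
        _ = (r' : ℂ) := by rw [hr']; push_cast; ring
    have hLI := hom_LI P hP xP hxP1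
      (fun ψ' => (if ζ ψ' = η then (1 : ℚ) else 0) + r') (by
        have e1 : ∀ ψ' : (P : Subgroup G) →* ℂˣ,
            (((if ζ ψ' = η then (1 : ℚ) else 0) + r' : ℚ) : ℂ) * ((ψ' xP : ℂˣ) : ℂ) =
            (if ζ ψ' = η then ((ψ' xP : ℂˣ) : ℂ) else 0) + (r' : ℂ) * ((ψ' xP : ℂˣ) : ℂ) := by
          intro ψ'
          by_cases hc : ζ ψ' = η
          · rw [if_pos hc, if_pos hc]; push_cast; ring
          · rw [if_neg hc, if_neg hc]; push_cast; ring
        simp_rw [e1]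
        rw [Finset.sum_add_distrib, ← Finset.mul_sum, hsum1]
        have : ∑ ψ' ∈ Finset.univ.erase (1 : (P : Subgroup G) →* ℂˣ),
            (if ζ ψ' = η then ((ψ' xP : ℂˣ) : ℂ) else 0) = per η := rfl
        rw [this, hper']
        ring)
    obtain ⟨ψ₁, hψ₁, hζ₁⟩ := hζsurj η hη
    obtain ⟨η₂, hη₂, hne⟩ := Finset.exists_mem_ne (by omega : 1 < Y.card) η
    obtain ⟨ψ₂, hψ₂, hζ₂⟩ := hζsurj η₂ hη₂
    have h1 := hLI ψ₁ hψ₁
    have h2 := hLI ψ₂ hψ₂
    simp only [hζ₁, hζ₂, if_pos, if_neg hne] at h1 h2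
    linarith
  obtain ⟨η₁, hη₁⟩ : ∃ η, η ∈ Y := Finset.card_pos.1 (by omega)
  obtain ⟨mult, hm1, hrat, t, ht, hsum⟩ := hTLP η₁ _ hxP hx1
  have hmX : ∀ χ ∈ Xs, mult χ = 0 := by
    intro χ hχ
    by_contra h0
    have hpos : 0 < mult χ := Nat.pos_of_ne_zero h0
    have hr : ∃ r : ℚ, centralChar (χ : G → ℂ) (xP : G) = (r : ℂ) := by
      refine ⟨((Subgroup.centralizer ({(xP : G)} : Set G)).index : ℚ) * (a χ : ℚ) /
        (charDegree (χ : G → ℂ) : ℚ), ?_⟩
      unfold centralChar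
      rw [hXx χ hχ, irr_one_eq_charDegree χ.2]
      push_cast
      rfl
    have h2 := hrat χ η₁ hpos (by omega) hr
    obtain ⟨r, hr⟩ := hr
    exact hirr η₁ hη₁ ⟨r, by rw [h2, hr]⟩
  have hsum' : ∑ η ∈ Y, (mult η : ℂ) * (η : G → ℂ) (xP : G) = (t : ℂ) := by
    rw [← hsum]
    have hB : principalBlock M G = ((Xs ∪ Y : Finset (IrrCharacter G)) : Set (IrrCharacter G)) := by
      ext χ
      rw [← mem_pbFinset, hpb χ]
      simp
    rw [hB, finsum_mem_coe_finset, Finset.sum_union (Finset.disjoint_left.2 hdisj)]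
    rw [Finset.sum_eq_zero (s := Xs), zero_add]
    intro χ hχ
    rw [hmX χ hχ]
    simp
  -- all multiplicities on `Y` are equal
  set S : ℕ := ∑ η ∈ Y, mult η with hSdef
  have hswap : ∑ η ∈ Y, (mult η : ℂ) * per η =
      ∑ ψ' ∈ Finset.univ.erase (1 : (P : Subgroup G) →* ℂˣ),
        (mult (ζ ψ') : ℂ) * ((ψ' xP : ℂˣ) : ℂ) := by
    simp only [hper, Finset.mul_sum]
    rw [Finset.sum_comm]
    refine Finset.sum_congr rfl (fun ψ' hψ' => ?_)
    have hψ'1 : ψ' ≠ 1 := (Finset.mem_erase.1 hψ').1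
    have e1 : ∀ η : IrrCharacter G, (mult η : ℂ) * (if ζ ψ' = η then ((ψ' xP : ℂˣ) : ℂ) else 0) =
        if ζ ψ' = η then (mult η : ℂ) * ((ψ' xP : ℂˣ) : ℂ) else 0 := by
      intro η
      by_cases hc : ζ ψ' = η
      · rw [if_pos hc, if_pos hc]
      · rw [if_neg hc, if_neg hc, mul_zero]
    simp_rw [e1]
    rw [Finset.sum_ite_eq, if_pos (hζY ψ' hψ'1)]
  have hrel : (dd : ℂ) * (S : ℂ) + (δ : ℂ) *
      ∑ ψ' ∈ Finset.univ.erase (1 : (P : Subgroup G) →* ℂˣ),
        (mult (ζ ψ') : ℂ) * ((ψ' xP : ℂˣ) : ℂ) = (t : ℂ) := by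
    rw [← hswap, ← hsum']
    rw [hSdef]
    push_cast
    rw [Finset.mul_sum, Finset.mul_sum, ← Finset.sum_add_distrib]
    refine Finset.sum_congr rfl (fun η hη => ?_)
    rw [hYx η hη]
    ring
  have hLI2 := hom_LI P hP xP hxP1
    (fun ψ' => (δ : ℚ) * (mult (ζ ψ') : ℚ) + ((t : ℚ) - (dd : ℚ) * (S : ℚ))) (by
      have e1 : ∀ ψ' : (P : Subgroup G) →* ℂˣ,
          (((δ : ℚ) * (mult (ζ ψ') : ℚ) + ((t : ℚ) - (dd : ℚ) * (S : ℚ)) : ℚ) : ℂ) *
            ((ψ' xP : ℂˣ) : ℂ) =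
          (δ : ℂ) * ((mult (ζ ψ') : ℂ) * ((ψ' xP : ℂˣ) : ℂ)) +
            ((t : ℂ) - (dd : ℂ) * (S : ℂ)) * ((ψ' xP : ℂˣ) : ℂ) := by
        intro ψ'
        push_cast
        ring
      simp_rw [e1]
      rw [Finset.sum_add_distrib, ← Finset.mul_sum, ← Finset.mul_sum, hsum1]
      linear_combination hrel)
  have hmY : ∀ η ∈ Y, (mult η : ℤ) = δ * (dd * (S : ℤ) - t) := by
    intro η hη
    obtain ⟨ψ, hψ, rfl⟩ := hζsurj η hη
    have h1 := hLI2 ψ hψ
    have h2 : (δ : ℚ) * (mult (ζ ψ) : ℚ) = (dd : ℚ) * (S : ℚ) - (t : ℚ) := by linarith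
    have h3 : (mult (ζ ψ) : ℚ) = (δ : ℚ) * ((dd : ℚ) * (S : ℚ) - (t : ℚ)) := by
      have hδq : (δ : ℚ) * (δ : ℚ) = 1 := by exact_mod_cast hδ2'
      calc (mult (ζ ψ) : ℚ) = ((δ : ℚ) * (δ : ℚ)) * (mult (ζ ψ) : ℚ) := by rw [hδq, one_mul]
        _ = (δ : ℚ) * ((δ : ℚ) * (mult (ζ ψ) : ℚ)) := by ring
        _ = _ := by rw [h2]
    exact_mod_cast h3
  set n : ℤ := δ * (dd * (S : ℤ) - t) with hn
  have hn1 : 1 ≤ n := by
    rw [← hmY η₁ hη₁]
    exact_mod_cast hm1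
  have hSn : (S : ℤ) = (Y.card : ℤ) * n := by
    rw [hSdef]
    push_cast
    rw [Finset.sum_congr rfl (fun η hη => hmY η hη), Finset.sum_const, nsmul_eq_mul]
  have hδn : δ * n = dd * (S : ℤ) - t := by
    rw [hn, ← mul_assoc, hδ2', one_mul]
  clear_value n
  have htn : t = n * ((Y.card : ℤ) * dd - δ) := by
    rw [hSn] at hδn
    linear_combination hδn
  have hu0 : (Y.card : ℤ) * dd - δ ≠ 0 := by
    intro h0
    have h1 : (Y.card : ℤ) * dd = δ := by linarith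
    have h2 : (Y.card : ℤ) ∣ 1 := ⟨dd * δ, by rw [← mul_assoc, h1, hδ2']⟩
    have h3 := Int.le_of_dvd one_pos h2
    have h4 : (2 : ℤ) ≤ (Y.card : ℤ) := by exact_mod_cast hY2
    linarith
  have hu : ((Y.card : ℤ) * dd - δ = 1) ∨ ((Y.card : ℤ) * dd - δ = -1) := by
    rcases ht with ht | ht | ht
    · right
      have h1 : n * (-((Y.card : ℤ) * dd - δ)) = 1 := by rw [mul_neg, ← htn, ht]; norm_num
      have h2 : n ∣ 1 := ⟨_, h1.symm⟩
      have h3 := Int.le_of_dvd one_pos h2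
      have h4 : n = 1 := le_antisymm h3 hn1
      rw [h4, one_mul] at h1
      linarith
    · exfalso
      rw [ht] at htn
      rcases mul_eq_zero.1 htn.symm with h | h
      · linarith
      · exact hu0 h
    · left
      have h1 : n * ((Y.card : ℤ) * dd - δ) = 1 := by rw [← htn, ht]
      have h2 : n ∣ 1 := ⟨_, h1.symm⟩
      have h3 := Int.le_of_dvd one_pos h2
      have h4 : n = 1 := le_antisymm h3 hn1
      rw [h4, one_mul] at h1
      exact h1
  -- the number of nonexceptional characters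
  have hsq : ∑ χ ∈ Xs, a χ ^ 2 = (Xs.card : ℤ) := by
    rw [Finset.sum_congr rfl (fun χ hχ => show a χ ^ 2 = 1 by
      rcases ha1 χ hχ with h | h <;> rw [h] <;> norm_num)]
    simp
  rw [hsq] at hnorm
  have hY2' : (2 : ℤ) ≤ (Y.card : ℤ) := by exact_mod_cast hY2
  have hXe : Xs.card = e := by
    have hgoal : (Xs.card : ℤ) = (e : ℤ) := by
      rcases hδ with hδ | hδ <;> rcases hu with hu | hu <;> rw [hδ] at hu hnorm
      · -- t' dd = 2
        have h1 : 0 < dd := by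
          by_contra h; push Not at h; nlinarith
        have h2 : dd < 2 := by
          by_contra h; push Not at h; nlinarith
        have h3 : dd = 1 := by omega
        rw [h3] at hu hnorm
        have h4 : (Y.card : ℤ) = 2 := by linarith
        rw [h4] at hnorm
        linarith
      · have h1 : (Y.card : ℤ) * dd = 0 := by linarith
        have h3 : dd = 0 := by
          rcases mul_eq_zero.1 h1 with h | h
          · linarith
          · exact h
        rw [h3] at hnorm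
        linarith
      · have h1 : (Y.card : ℤ) * dd = 0 := by linarith
        have h3 : dd = 0 := by
          rcases mul_eq_zero.1 h1 with h | h
          · linarith
          · exact h
        rw [h3] at hnorm
        linarith
      · have h1 : dd < 0 := by
          by_contra h; push Not at h; nlinarith
        have h2 : -2 < dd := by
          by_contra h; push Not at h; nlinarith
        have h3 : dd = -1 := by omega
        rw [h3] at hu hnorm
        have h4 : (Y.card : ℤ) = 2 := by linarith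
        rw [h4] at hnorm
        linarith
    exact_mod_cast hgoal
  exact ⟨⟨Xs, Y, δ, dd, a, hpb, hdisj, hδ, hYc, hXe, hu,
    fun χ hχ => ⟨ha1 χ hχ, (hXval χ hχ).2⟩, hw⟩⟩

end Cfsg.Agent.Helper7.TLFinMid
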