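import Mathlib
import Cfsg.Agent.Lib.Helper7.TLFinMidB

/-!
S4441 PIECE FINMID, part C (helper7): from `MidData` to the conclusion of S4441.
-/

set_option autoImplicit false

namespace Cfsg.Agent.Helper7.TLFinMid

open Cfsg Cfsg.Agent.Helper24 Cfsg.Agent.Helper7.Homo Cfsg.Agent.Helper7.Frob

universe u

set_option maxHeartbeats 1000000 in
theorem concl_of_midData {G : Type u} [Group G] [Finite G] (p : ℕ) [Fact p.Prime]
    (M : Ideal AlgInt) (hM : IsPModular p M) (P : Sylow p G) (hP : Nat.card P = p) (e : ℕ)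
    (he0 : 0 < e) (h : MidData p M P e) : Cfsg.Agent.Helper5.TL.Concl p M P e := by
  classical
  have hpp : p.Prime := Fact.out
  obtain ⟨Xs, Y, δ, dd, a, hpb, hdisj, hδ, hYc, hXe, hu, hX, hw⟩ := h.out
  obtain ⟨xP, hxP1⟩ := sylow_exists_ne_one P hP
  have hxP : (xP : G) ∈ (P : Subgroup G) := xP.2
  have hx1 : (xP : G) ≠ 1 := fun h => hxP1 (Subtype.ext h)
  have hpart : IsPPart p (xP : G) (xP : G) := isPPart_self P hP xP hxP1
  have hox : orderOf (xP : G) = p := sylow_orderOf P hP xP hxP1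
  obtain ⟨ε, hε⟩ : ∃ ε : ℤ, ε = δ - (Y.card : ℤ) * dd := ⟨_, rfl⟩
  have hε1 : ε = 1 ∨ ε = -1 := by
    rcases hu with hu | hu
    · right; rw [hε]; linarith
    · left; rw [hε]; linarith
  have hε2 : ε * ε = 1 := by rcases hε1 with h | h <;> rw [h] <;> norm_num
  have hreg : ∀ g : G, ¬ p ∣ orderOf g → ∀ y : (P : Subgroup G), y ≠ 1 →
      ∑ χ ∈ pbFinset M G, (χ : G → ℂ) g * (χ : G → ℂ) y = 0 :=
    fun g hg y hy => frob_reg_rel M hM P y hy g hg
  -- the relation on `p`-regular elements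
  have hrel : ∀ θ ∈ Y, ∀ g : G, ¬ p ∣ orderOf g →
      (ε : ℂ) * (θ : G → ℂ) g = ∑ χ ∈ Xs, (a χ : ℂ) * (χ : G → ℂ) g := by
    intro θ hθ g hg
    have h1 := (hw (fun χ => (χ : G → ℂ) g) (hreg g hg)).2 θ hθ
    rw [hε]
    push_cast
    linear_combination -h1
  -- degrees of the nonexceptional characters
  have hdegX : ∀ χ ∈ Xs, (p : ℤ) ∣ a χ - (charDegree (χ : G → ℂ) : ℤ) := by
    intro χ hχ
    obtain ⟨ω, hω, hωe⟩ := Cfsg.Agent.S1494.char_case (χ : G → ℂ)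
      (isCharacter_of_isIrrCharacter χ.2) p hpp (xP : G) 1 hox (by simp)
    rw [mul_one, (hX χ hχ).2 _ _ hpart hxP hx1, irr_one_eq_charDegree χ.2] at hωe
    apply Cfsg.Agent.S1495.result p hpp _ ω hω
    rw [← hωe]
    push_cast
    rfl
  have hone : ¬ p ∣ orderOf (1 : G) := by
    rw [orderOf_one]
    exact fun h => hpp.one_lt.ne' (Nat.dvd_one.1 h)
  have hdegY : ∀ θ ∈ Y, (p : ℤ) ∣ ε * (e : ℤ) - (charDegree (θ : G → ℂ) : ℤ) := by
    intro θ hθ
    have h1 := hrel θ hθ 1 hone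
    rw [irr_one_eq_charDegree θ.2] at h1
    have h2 : ε * (charDegree (θ : G → ℂ) : ℤ) =
        ∑ χ ∈ Xs, a χ * (charDegree (χ : G → ℂ) : ℤ) := by
      have h3 : ∑ χ ∈ Xs, (a χ : ℂ) * (χ : G → ℂ) 1 =
          ((∑ χ ∈ Xs, a χ * (charDegree (χ : G → ℂ) : ℤ) : ℤ) : ℂ) := by
        push_cast
        refine Finset.sum_congr rfl (fun χ _ => ?_)
        rw [irr_one_eq_charDegree χ.2]
      rw [h3] at h1
      exact_mod_cast h1
    have h4 : (p : ℤ) ∣ (e : ℤ) - ∑ χ ∈ Xs, a χ * (charDegree (χ : G → ℂ) : ℤ) := by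
      have h5 : (e : ℤ) = ∑ χ ∈ Xs, a χ * a χ := by
        rw [Finset.sum_congr rfl (fun χ hχ => show a χ * a χ = 1 by
          rcases (hX χ hχ).1 with h | h <;> rw [h] <;> norm_num)]
        simp [hXe]
      rw [h5, ← Finset.sum_sub_distrib]
      apply Finset.dvd_sum
      intro χ hχ
      rw [← mul_sub]
      exact Dvd.dvd.mul_left (hdegX χ hχ) _
    rw [← h2] at h4
    have h6 : ε * (e : ℤ) - (charDegree (θ : G → ℂ) : ℤ) =
        ε * ((e : ℤ) - ε * (charDegree (θ : G → ℂ) : ℤ)) := by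
      have : ε * (ε * (charDegree (θ : G → ℂ) : ℤ)) = (charDegree (θ : G → ℂ) : ℤ) := by
        rw [← mul_assoc, hε2, one_mul]
      rw [mul_sub, this]
    rw [h6]
    exact Dvd.dvd.mul_left h4 _
  refine ⟨(Xs : Set (IrrCharacter G)), (Y : Set (IrrCharacter G)), ?_, ?_, ?_, ?_, a, ε, ?_,
    hε1, ?_, ?_, ?_⟩
  · ext χ
    rw [← mem_pbFinset, hpb χ]
    rfl
  · rw [Set.disjoint_left]
    intro χ hχ hχ'
    exact hdisj χ hχ hχ'
  · rw [Nat.card_coe_set_eq, Set.ncard_coe_finset, hXe]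
  · rw [Nat.card_coe_set_eq, Set.ncard_coe_finset]
    exact (Nat.div_eq_of_eq_mul_left he0 hYc.symm).symm
  · intro χ hχ
    have hχ' : χ ∈ Xs := hχ
    refine ⟨(hX χ hχ').1, ?_, ?_⟩
    · exact (Int.modEq_iff_dvd.2 (hdegX χ hχ'))
    · intro x hx hx1' y hy hpy
      apply (hX χ hχ').2 (x * y) x _ hx hx1'
      refine ⟨y, rfl, ?_, ⟨1, ?_⟩, hpy⟩
      · exact ((Subgroup.mem_centralizer_iff.1 hy) x hx)
      · rw [pow_one]
        exact sylow_orderOf P hP ⟨x, hx⟩ (fun h => hx1' (congrArg Subtype.val h))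
  · intro θ hθ
    exact (Int.modEq_iff_dvd.2 (hdegY θ hθ))
  · intro θ hθ θ' hθ' g hg
    exact (hw (fun χ => (χ : G → ℂ) g) (hreg g hg)).1 θ hθ θ' hθ'
  · intro θ hθ g hg
    rw [finsum_mem_coe_finset]
    exact hrel θ hθ g hg

/-- PIECE FINMID, with the inputs GT (`exists_pcore`), APPX (`abs_eq_one_of_int_value`) and TLP
(`tl_principal`) as hypotheses. -/
theorem concl_mid_core {G : Type u} [Group G] [Finite G] (p : ℕ) [Fact p.Prime]
    (M : Ideal AlgInt) (hM : IsPModular p M) (P : Sylow p G) (hP : Nat.card P = p) (e : ℕ)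
    (he1 : 1 < e) (he2 : e + 1 < p)
    (he : (Subgroup.centralizer ((P : Subgroup G) : Set G)).relIndex
      (Subgroup.normalizer ((P : Subgroup G) : Set G)) = e)
    (hgen : ∃ n₀ : G, n₀ ∈ Subgroup.normalizer ((P : Subgroup G) : Set G) ∧
      ∀ n ∈ Subgroup.normalizer ((P : Subgroup G) : Set G),
        ∃ (i : ℕ) (c : G), (∀ u ∈ (P : Subgroup G), c * u = u * c) ∧ n = n₀ ^ i * c)
    (hAPPX : ∀ χ : IrrCharacter G, χ ∈ principalBlock M G → ∀ x : G, x ∈ (P : Subgroup G) →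
      x ≠ 1 → ∀ a : ℤ, (χ : G → ℂ) x = (a : ℂ) → a ≠ 0 → a = 1 ∨ a = -1)
    (hTLP : ∀ (χ : IrrCharacter G) (x : G), x ∈ (P : Subgroup G) → x ≠ 1 →
      ∃ mult : IrrCharacter G → ℕ, 1 ≤ mult χ ∧
        (∀ ψ ψ' : IrrCharacter G, 0 < mult ψ → 0 < mult ψ' →
          (∃ r : ℚ, centralChar (ψ : G → ℂ) x = (r : ℂ)) →
            centralChar (ψ' : G → ℂ) x = centralChar (ψ : G → ℂ) x) ∧
        ∃ t : ℤ, (t = -1 ∨ t = 0 ∨ t = 1) ∧
          ∑ᶠ ψ ∈ principalBlock M G, (mult ψ : ℂ) * (ψ : G → ℂ) x = (t : ℂ)) :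
    Cfsg.Agent.Helper5.TL.Concl p M P e := by
  obtain ⟨n₀, hn₀, hgen⟩ := hgen
  have hcyc : ∃ g : G, g ∈ Subgroup.normalizer ((P : Subgroup G) : Set G) ∧
      Subgroup.centralizer ((P : Subgroup G) : Set G) ⊔ Subgroup.zpowers g =
        Subgroup.normalizer ((P : Subgroup G) : Set G) := by
    refine ⟨n₀, hn₀, le_antisymm ?_ ?_⟩
    · exact sup_le (Subgroup.centralizer_le_normalizer _) (Subgroup.zpowers_le.2 hn₀)
    · intro n hn
      obtain ⟨i, c, hc, rfl⟩ := hgen n hn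
      refine Subgroup.mul_mem _ (Subgroup.mem_sup_right (Subgroup.pow_mem _
        (Subgroup.mem_zpowers n₀) i)) (Subgroup.mem_sup_left ?_)
      rw [Subgroup.mem_centralizer_iff]
      intro u hu
      exact (hc u hu).symm
  exact concl_of_midData p M hM P hP e (by omega)
    (midData p M hM P hP e he1 he2 he hcyc hAPPX hTLP)

end Cfsg.Agent.Helper7.TLFinMid
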