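import Mathlib
import Cfsg.Agent.Lib.Helper7.Frob3
import Cfsg.Agent.Lib.Helper7.TLRoots

/-!
S4442 PIECE ABS, part 1 (helper7): a group of prime order and its linear characters;
the structure theorem `frob_structure` for `0 < m`.
-/

set_option autoImplicit false

namespace Cfsg.Agent.Helper5.TLD

open Cfsg Cfsg.Agent.Helper24 Cfsg.Agent.Helper7.Homo Cfsg.Agent.Helper7.Frob
open Cfsg.Agent.Helper7.TLRoots
open scoped ComplexConjugate

universe u

section PrimeOrder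

variable {A : Type u} [Group A] [Finite A] {p : ℕ} [Fact p.Prime]

theorem abs_comm (hA : Nat.card A = p) : ∀ a b : A, a * b = b * a := by
  haveI : IsCyclic A := isCyclic_of_prime_card hA
  intro x y
  obtain ⟨g, hg⟩ := IsCyclic.exists_generator (α := A)
  obtain ⟨i, rfl⟩ := Subgroup.mem_zpowers_iff.1 (hg x)
  obtain ⟨j, rfl⟩ := Subgroup.mem_zpowers_iff.1 (hg y)
  rw [← zpow_add, ← zpow_add, add_comm]

theorem abs_exists_ne_one (hA : Nat.card A = p) : ∃ a : A, a ≠ 1 := by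
  haveI : Nontrivial A := by
    rw [← Finite.one_lt_card_iff_nontrivial, hA]
    exact (Fact.out : p.Prime).one_lt
  exact exists_ne 1

theorem abs_pow_card (hA : Nat.card A = p) (a : A) : a ^ p = 1 := by
  have := pow_card_eq_one' (G := A) (x := a)
  rwa [hA] at this

theorem abs_mem_powers (hA : Nat.card A = p) {a : A} (ha : a ≠ 1) (b : A) :
    ∃ k : ℕ, b = a ^ k := by
  have h := mem_zpowers_of_prime_card hA ha (g' := b)
  obtain ⟨i, hi⟩ := Subgroup.mem_zpowers_iff.1 h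
  refine ⟨(i % (p : ℤ)).toNat, ?_⟩
  have hp : (0 : ℤ) < p := by exact_mod_cast (Fact.out : p.Prime).pos
  have h1 : ((i % (p : ℤ)).toNat : ℤ) = i % p := Int.toNat_of_nonneg (Int.emod_nonneg _ hp.ne')
  rw [← zpow_natCast, h1, ← hi]
  have h2 : a ^ (p : ℤ) = 1 := by rw [zpow_natCast]; exact abs_pow_card hA a
  conv_lhs => rw [← Int.emod_add_mul_ediv i p]
  rw [zpow_add, zpow_mul, h2, one_zpow, mul_one]

end PrimeOrder

section Lin

variable {A : Type u} [Group A] [Fintype A] [Fintype (IrrCharacter A)] {p : ℕ} [Fact p.Prime]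

theorem abs_lin_pow (hcomm : ∀ a b : A, a * b = b * a) (ψ : IrrCharacter A) (a : A) (k : ℕ) :
    (ψ : A → ℂ) (a ^ k) = (ψ : A → ℂ) a ^ k := by
  induction k with
  | zero => rw [pow_zero, pow_zero, lin_one hcomm]
  | succ k ih => rw [pow_succ, pow_succ, lin_mul hcomm, ih]

theorem abs_lin_ext (hA : Nat.card A = p) {a : A} (ha : a ≠ 1) {ψ ψ' : IrrCharacter A}
    (h : (ψ : A → ℂ) a = (ψ' : A → ℂ) a) : ψ = ψ' := by
  have hcomm := abs_comm hA
  apply Subtype.ext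
  funext b
  obtain ⟨k, rfl⟩ := abs_mem_powers hA ha b
  rw [abs_lin_pow hcomm, abs_lin_pow hcomm, h]

theorem abs_lin_pow_p (hA : Nat.card A = p) (ψ : IrrCharacter A) (a : A) :
    (ψ : A → ℂ) a ^ p = 1 := by
  have hcomm := abs_comm hA
  rw [← abs_lin_pow hcomm, abs_pow_card hA, lin_one hcomm]

theorem abs_lin_ne_one (hA : Nat.card A = p) {a : A} (ha : a ≠ 1) {ψ : IrrCharacter A}
    (hψ : ψ ≠ principalChar A) : (ψ : A → ℂ) a ≠ 1 := by
  intro h
  apply hψ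
  apply abs_lin_ext hA ha
  rw [h, principalChar_apply]

/-- rational linear independence of the values of the nontrivial linear characters -/
theorem abs_LI [DecidableEq (IrrCharacter A)] (hA : Nat.card A = p) {a : A} (ha : a ≠ 1)
    (c : IrrCharacter A → ℚ)
    (h : ∑ ψ ∈ (Finset.univ.erase (principalChar A)), (c ψ : ℂ) * (ψ : A → ℂ) a = 0) :
    ∀ ψ : IrrCharacter A, ψ ≠ principalChar A → c ψ = 0 := by
  classical
  letI : Fintype {ψ : IrrCharacter A // ψ ≠ principalChar A} := Subtype.fintype _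
  have h2 := Finset.sum_subtype (Finset.univ.erase (principalChar A))
    (p := fun ψ => ψ ≠ principalChar A) (F := inferInstance) (by intro ψ; simp)
    (fun ψ => (c ψ : ℂ) * (ψ : A → ℂ) a)
  rw [h] at h2
  have h3 := rootsLI (Fact.out : p.Prime)
    (fun ψ : {ψ : IrrCharacter A // ψ ≠ principalChar A} => (ψ.1 : A → ℂ) a)
    (by
      intro ψ ψ' hh
      apply Subtype.ext
      exact abs_lin_ext hA ha hh)
    (fun ψ => abs_lin_pow_p hA ψ.1 a)
    (fun ψ => abs_lin_ne_one hA ha ψ.2)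
    (fun ψ => c ψ.1) h2.symm
  intro ψ hψ
  exact h3 ⟨ψ, hψ⟩

end Lin

section Structure

variable {A : Type u} [Group A] [Fintype A] [Fintype (IrrCharacter A)] [DecidableEq A]
variable {ι : Type*} [DecidableEq ι] (X : Finset ι) (f : ι → A → ℂ) (ν : MulAut A) (m : ℕ)

/-- `frob_structure` for `0 < m`. -/
theorem abs_frob_structure (hcomm : ∀ a b : A, a * b = b * a) (hm0 : 0 < m)
    (hmA : m + 1 < Nat.card A) (hνm : ν ^ m = 1)
    (hfpf : ∀ k : ℕ, 0 < k → k < m → ∀ a : A, (ν ^ k) a = a → a = 1)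
    (hchar : ∀ x ∈ X, IsCharacter A (f x)) (d : ι → ℕ) (hdpos : ∀ x ∈ X, 0 < d x)
    (hcol : ∀ a a' : A, a ≠ 1 → a' ≠ 1 → ∑ x ∈ X, f x a * conj (f x a') =
      (Nat.card A : ℂ) * ∑ k ∈ Finset.range m, (if a' = (ν ^ k) a then (1 : ℂ) else 0))
    (hB : ∀ a : A, a ≠ 1 → ∑ x ∈ X, (d x : ℂ) * f x a = 0) (x₀ : ι) :
    ∃ (δ : ℤ) (c : ι → ℤ) (η : IrrCharacter A → ι) (d' : ℤ), (δ = 1 ∨ δ = -1) ∧
      (∀ ψ, ψ ≠ principalChar A → η ψ ∈ X) ∧
      (∀ ψ ψ', ψ ≠ principalChar A → ψ' ≠ principalChar A →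
        (η ψ = η ψ' ↔ orel ν m ψ ψ')) ∧
      (∀ ψ, ψ ≠ principalChar A → ∀ y ∈ X,
        bint (f y) ψ = c y + (if y = η ψ then δ else 0)) ∧
      (∀ ψ, ψ ≠ principalChar A → c (η ψ) = d') := by
  classical
  obtain ⟨ψ₁, ψ₂, hψ₁, hψ₂, h12⟩ := exists_two_orbits ν m hcomm hmA
  set κ := {ψ : IrrCharacter A // ψ ≠ principalChar A} with hκ
  have hgram : ∀ i j : κ, ∑ x ∈ X, bint (f x) i.1 * bint (f x) j.1 =
      (m : ℤ) + (if orel ν m i.1 j.1 then 1 else 0) := by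
    intro i j
    rw [gram_bint_gen X f ν m hcomm hchar hcol i.1 j.1 i.2 j.2,
      nIndG_eq ν m hcomm hfpf i.1 j.2]
  have hdeg : ∀ i j : κ, ∑ x ∈ X, (d x : ℤ) * bint (f x) i.1 =
      ∑ x ∈ X, (d x : ℤ) * bint (f x) j.1 := by
    intro i j
    rw [deg_bint X f hcomm hchar d hB, deg_bint X f hcomm hchar d hB]
  obtain ⟨δ, c, x, d', hδ, hxX, hxR, hvx, hcx⟩ :=
    lattice_core X (fun (i : κ) (y : ι) => bint (f y) i.1) (fun i j : κ => orel ν m i.1 j.1)
      (fun i => orel_refl ν m hm0 i.1) (m : ℤ) hgram (fun y => (d y : ℤ))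
      (fun y hy => by exact_mod_cast hdpos y hy) hdeg ⟨ψ₁, hψ₁⟩ ⟨ψ₂, hψ₂⟩ h12
  refine ⟨δ, c, fun ψ => if h : ψ ≠ principalChar A then x ⟨ψ, h⟩ else x₀, d', hδ, ?_, ?_, ?_, ?_⟩
  · intro ψ hψ
    simp only [dif_pos hψ]
    exact hxX _
  · intro ψ ψ' hψ hψ'
    simp only [dif_pos hψ, dif_pos hψ']
    exact hxR ⟨ψ, hψ⟩ ⟨ψ', hψ'⟩
  · intro ψ hψ y hy
    simp only [dif_pos hψ]
    exact hvx ⟨ψ, hψ⟩ y hy
  · intro ψ hψ
    simp only [dif_pos hψ]
    exact hcx ⟨ψ, hψ⟩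

end Structure

end Cfsg.Agent.Helper5.TLD
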