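import Mathlib
import Cfsg.Agent.Lib.Helper7.TLDABS1

/-!
S4442 PIECE ABS, part 2 (helper7): the abstract structure theorem, case `m + 1 < p`
(at least two orbits of nontrivial linear characters).
-/

set_option autoImplicit false

namespace Cfsg.Agent.Helper5.TLD

open Cfsg Cfsg.Agent.Helper24 Cfsg.Agent.Helper7.Homo Cfsg.Agent.Helper7.Frob
open scoped ComplexConjugate

universe u

section Fibre

variable {A : Type u} [Group A] [Fintype A] [Fintype (IrrCharacter A)] [DecidableEq A]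
variable {ι : Type*} [DecidableEq ι] (ν : MulAut A) (m : ℕ)

/-- the fibres of `η` over the exceptional members are the orbits -/
theorem abs_fibre [DecidableEq (IrrCharacter A)] (η : IrrCharacter A → ι)
    (hηR : ∀ ψ ψ', ψ ≠ principalChar A → ψ' ≠ principalChar A →
        (η ψ = η ψ' ↔ orel ν m ψ ψ'))
    {ψ₀ : IrrCharacter A} (hψ₀ : ψ₀ ≠ principalChar A) :
    (Finset.univ.erase (principalChar A)).filter (fun ψ => η ψ = η ψ₀) =
      (Finset.range m).image (fun k => compIrr (ν ^ k) ψ₀) := by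
  ext ψ
  rw [Finset.mem_filter, Finset.mem_image, Finset.mem_erase]
  constructor
  · rintro ⟨⟨hψ, -⟩, h⟩
    obtain ⟨k, hk, rfl⟩ := (hηR ψ ψ₀ hψ hψ₀).1 h
    exact ⟨k, Finset.mem_range.2 hk, rfl⟩
  · rintro ⟨k, hk, rfl⟩
    have hne := compIrr_pow_ne_principal ν k hψ₀
    exact ⟨⟨hne, Finset.mem_univ _⟩,
      (hηR _ ψ₀ hne hψ₀).2 ⟨k, Finset.mem_range.1 hk, rfl⟩⟩

theorem abs_fibre_injOn (hcomm : ∀ a b : A, a * b = b * a)
    (hfpf : ∀ k : ℕ, 0 < k → k < m → ∀ a : A, (ν ^ k) a = a → a = 1)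
    {ψ₀ : IrrCharacter A} (hψ₀ : ψ₀ ≠ principalChar A) :
    Set.InjOn (fun k => compIrr (ν ^ k) ψ₀) (Finset.range m : Set ℕ) := by
  intro j hj k hk h
  exact orel_unique ν m hcomm hfpf hψ₀ (Finset.mem_range.1 hj) (Finset.mem_range.1 hk) h

theorem abs_fibre_card [DecidableEq (IrrCharacter A)] (hcomm : ∀ a b : A, a * b = b * a)
    (hfpf : ∀ k : ℕ, 0 < k → k < m → ∀ a : A, (ν ^ k) a = a → a = 1)
    (η : IrrCharacter A → ι)
    (hηR : ∀ ψ ψ', ψ ≠ principalChar A → ψ' ≠ principalChar A →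
        (η ψ = η ψ' ↔ orel ν m ψ ψ'))
    {ψ₀ : IrrCharacter A} (hψ₀ : ψ₀ ≠ principalChar A) :
    ((Finset.univ.erase (principalChar A)).filter (fun ψ => η ψ = η ψ₀)).card = m := by
  rw [abs_fibre ν m η hηR hψ₀, Finset.card_image_of_injOn (abs_fibre_injOn ν m hcomm hfpf hψ₀),
    Finset.card_range]

/-- the orbit sum as a sum over the fibre -/
theorem abs_fibre_sum [DecidableEq (IrrCharacter A)] (hcomm : ∀ a b : A, a * b = b * a)
    (hfpf : ∀ k : ℕ, 0 < k → k < m → ∀ a : A, (ν ^ k) a = a → a = 1)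
    (η : IrrCharacter A → ι)
    (hηR : ∀ ψ ψ', ψ ≠ principalChar A → ψ' ≠ principalChar A →
        (η ψ = η ψ' ↔ orel ν m ψ ψ'))
    {ψ₀ : IrrCharacter A} (hψ₀ : ψ₀ ≠ principalChar A) (a : A) :
    ∑ ψ' ∈ Finset.univ.erase (principalChar A),
        (if η ψ' = η ψ₀ then (ψ' : A → ℂ) a else 0) =
      ∑ k ∈ Finset.range m, (ψ₀ : A → ℂ) ((ν ^ k) a) := by
  rw [← Finset.sum_filter, abs_fibre ν m η hηR hψ₀,
    Finset.sum_image (abs_fibre_injOn ν m hcomm hfpf hψ₀)]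
  rfl

end Fibre

section Small

variable {A : Type u} [Group A] [Fintype A] [Fintype (IrrCharacter A)] [DecidableEq A]

/-- an integer `c ≠ 0` with `t * d = - c * S`, `|t| ≤ 1`, `0 < d ≤ S` is `± 1` -/
theorem abs_unit_of_eq (c t d S : ℤ) (hc : c ≠ 0) (ht : t = -1 ∨ t = 0 ∨ t = 1) (hd : 0 < d)
    (hdS : d ≤ S) (h : t * d = -c * S) : c = 1 ∨ c = -1 := by
  have hS : 0 < S := lt_of_lt_of_le hd hdS
  rcases ht with rfl | rfl | rfl
  · -- d = c S
    have h' : d = c * S := by linarith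
    have h1 : 0 < c := by
      by_contra hn
      push Not at hn
      have : c * S ≤ 0 := mul_nonpos_of_nonpos_of_nonneg hn hS.le
      linarith
    have h2 : c ≤ 1 := by
      by_contra hn
      push Not at hn
      have : 0 ≤ (c - 2) * S := mul_nonneg (by linarith) hS.le
      nlinarith
    left; omega
  · exfalso
    have h' : c * S = 0 := by linarith
    rcases mul_eq_zero.1 h' with h0 | h0
    · exact hc h0
    · omega
  · -- d = - c S
    have h' : d = -c * S := by linarith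
    have h1 : c < 0 := by
      by_contra hn
      push Not at hn
      have : 0 ≤ c * S := mul_nonneg hn hS.le
      nlinarith
    have h2 : -1 ≤ c := by
      by_contra hn
      push Not at hn
      have : 0 ≤ (-c - 2) * S := mul_nonneg (by linarith) hS.le
      nlinarith
    right; omega

set_option maxHeartbeats 1000000 in
/-- **The abstract structure theorem**, case `m + 1 < p`. -/
theorem abs_structure_small (p : ℕ) [Fact p.Prime]
    (hA : Nat.card A = p) {ι : Type*} [DecidableEq ι] (X : Finset ι) (f : ι → A → ℂ) (d : ι → ℕ)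
    (ν : MulAut A) (m : ℕ) (hm0 : 0 < m) (hm2 : m + 1 < p) (hνm : ν ^ m = 1)
    (hfpf : ∀ k : ℕ, 0 < k → k < m → ∀ a : A, (ν ^ k) a = a → a = 1)
    (hchar : ∀ x ∈ X, IsCharacter A (f x))
    (hdpos : ∀ x ∈ X, 0 < d x)
    (hcol : ∀ a a' : A, a ≠ 1 → a' ≠ 1 → ∑ x ∈ X, f x a * conj (f x a') =
      (p : ℂ) * ∑ k ∈ Finset.range m, (if a' = (ν ^ k) a then (1 : ℂ) else 0))
    (hB : ∀ a : A, a ≠ 1 → ∑ x ∈ X, (d x : ℂ) * f x a = 0)
    (hnv : ∀ x ∈ X, ∃ a : A, a ≠ 1 ∧ f x a ≠ 0)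
    (hTL : ∀ x ∈ X, ∀ a : A, a ≠ 1 → ∃ mult : ι → ℕ, 1 ≤ mult x ∧
      (∀ y ∈ X, ∀ y' ∈ X, 0 < mult y → 0 < mult y' →
        (∃ r : ℚ, f y a / (d y : ℂ) = (r : ℂ)) → f y' a / (d y' : ℂ) = f y a / (d y : ℂ)) ∧
      ∃ t : ℤ, (t = -1 ∨ t = 0 ∨ t = 1) ∧ ∑ y ∈ X, (mult y : ℂ) * f y a = (t : ℂ)) :
    ∃ (Xs Y : Finset ι) (s : ι → ℤ) (ε δ dd : ℤ) (ζ : IrrCharacter A → ι),
      Xs ∪ Y = X ∧ Disjoint Xs Y ∧ Xs.card = m ∧ Y.card = (p - 1) / m ∧
      (∀ x ∈ Xs, (s x = 1 ∨ s x = -1) ∧ (∀ a : A, a ≠ 1 → f x a = (s x : ℂ)) ∧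
        ∃ z : ℤ, f x 1 = (z : ℂ) ∧ z ≡ s x [ZMOD p]) ∧
      (ε = 1 ∨ ε = -1) ∧ (δ = 1 ∨ δ = -1) ∧
      (∀ y ∈ Y, ∃ z : ℤ, f y 1 = (z : ℂ) ∧ z ≡ -ε * (m : ℤ) [ZMOD p]) ∧
      (∀ ψ : IrrCharacter A, ψ ≠ principalChar A → ζ ψ ∈ Y) ∧
      (∀ y ∈ Y, ∃ ψ : IrrCharacter A, ψ ≠ principalChar A ∧ ζ ψ = y) ∧
      (∀ ψ ψ' : IrrCharacter A, ψ ≠ principalChar A → ψ' ≠ principalChar A →
        (ζ ψ = ζ ψ' ↔ ∃ k < m, ∀ a : A, (ψ : A → ℂ) a = (ψ' : A → ℂ) ((ν ^ k) a))) ∧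
      (∀ ψ : IrrCharacter A, ψ ≠ principalChar A → ∀ a : A, a ≠ 1 →
        f (ζ ψ) a = (dd : ℂ) + (δ : ℂ) * ∑ k ∈ Finset.range m, (ψ : A → ℂ) ((ν ^ k) a)) ∧
      ∀ w : ι → ℂ, (∀ a : A, a ≠ 1 → ∑ x ∈ X, w x * f x a = 0) →
        (∀ y ∈ Y, ∀ y' ∈ Y, w y = w y') ∧
        ∀ y ∈ Y, (ε : ℂ) * w y + ∑ x ∈ Xs, (s x : ℂ) * w x = 0 := by
  classical
  have hpp : p.Prime := Fact.out
  haveI : Finite A := Finite.of_fintype A
  have hcomm := abs_comm hA
  have hmA : m + 1 < Nat.card A := by rw [hA]; exact hm2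
  have hcol' : ∀ a a' : A, a ≠ 1 → a' ≠ 1 → ∑ x ∈ X, f x a * conj (f x a') =
      (Nat.card A : ℂ) * ∑ k ∈ Finset.range m, (if a' = (ν ^ k) a then (1 : ℂ) else 0) := by
    rw [hA]; exact hcol
  obtain ⟨a₀, ha₀⟩ := abs_exists_ne_one hA
  -- `X` is nonempty
  obtain ⟨x₀, hx₀⟩ : X.Nonempty := by
    rw [Finset.nonempty_iff_ne_empty]
    intro hX
    have h := hcol a₀ a₀ ha₀ ha₀
    rw [hX, Finset.sum_empty] at h
    have h2 : ∑ k ∈ Finset.range m, (if a₀ = (ν ^ k) a₀ then (1 : ℂ) else 0) =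
        (((Finset.range m).filter (fun k => a₀ = (ν ^ k) a₀)).card : ℂ) := by
      rw [Finset.sum_boole]
    have h3 : 0 < ((Finset.range m).filter (fun k => a₀ = (ν ^ k) a₀)).card := by
      apply Finset.card_pos.2
      exact ⟨0, Finset.mem_filter.2 ⟨Finset.mem_range.2 hm0, by rw [pow_zero]; rfl⟩⟩
    rw [h2] at h
    have h4 : (0 : ℕ) = p * ((Finset.range m).filter (fun k => a₀ = (ν ^ k) a₀)).card := by
      exact_mod_cast h
    have h5 := Nat.mul_pos hpp.pos h3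
    omega
  obtain ⟨δ, c, η, d', hδ, hηX, hηR, hb, hcη⟩ :=
    abs_frob_structure X f ν m hcomm hm0 hmA hνm hfpf hchar d hdpos hcol' hB x₀
  obtain ⟨hval1, hval2⟩ := frob_values X f ν m hcomm hm0 hνm hfpf hchar δ c η d' hηR hb hcη
  set Y : Finset ι := excSet η with hYdef
  set Xs : Finset ι := X \ Y with hXsdef
  have hYX : Y ⊆ X := by
    intro y hy
    obtain ⟨ψ, hψ, rfl⟩ := mem_excSet.1 hy
    exact hηX ψ hψ
  have hcard : Y.card * m = p - 1 := by
    rw [← hA]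
    exact frob_card ν m hcomm hfpf η hηR
  have hY2 : 2 ≤ Y.card := by
    by_contra hlt
    push Not at hlt
    have : Y.card * m ≤ 1 * m := Nat.mul_le_mul_right m (by omega)
    omega
  have hXsX : ∀ x ∈ Xs, x ∈ X := fun x hx => (Finset.mem_sdiff.1 hx).1
  have hXsη : ∀ x ∈ Xs, ∀ ψ, ψ ≠ principalChar A → x ≠ η ψ := by
    intro x hx ψ hψ h
    exact (Finset.mem_sdiff.1 hx).2 (mem_excSet.2 ⟨ψ, hψ, h.symm⟩)
  have hXsval : ∀ x ∈ Xs, ∀ a : A, a ≠ 1 → f x a = -(c x : ℂ) :=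
    fun x hx => hval1 x (hXsX x hx) (hXsη x hx)
  have hc0 : ∀ x ∈ Xs, c x ≠ 0 := by
    intro x hx h0
    obtain ⟨a, ha, hfa⟩ := hnv x (hXsX x hx)
    apply hfa
    rw [hXsval x hx a ha, h0]
    simp
  have hδ2 : (δ : ℂ) * (δ : ℂ) = 1 := by
    rcases hδ with rfl | rfl <;> norm_num
  have hδ2' : δ * δ = 1 := by
    rcases hδ with rfl | rfl <;> norm_num
  -- APPX
  have hc1 : ∀ x ∈ Xs, c x = 1 ∨ c x = -1 := by
    intro x hx
    have hxX := hXsX x hx
    obtain ⟨mult, hm1, hrat, t, ht, hsum⟩ := hTL x hxX a₀ ha₀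
    have hdx : (d x : ℂ) ≠ 0 := by exact_mod_cast (hdpos x hxX).ne'
    have hr : ∃ r : ℚ, f x a₀ / (d x : ℂ) = (r : ℂ) := by
      refine ⟨-(c x : ℚ) / (d x : ℚ), ?_⟩
      rw [hXsval x hx a₀ ha₀]
      push_cast
      rfl
    have hy : ∀ y ∈ X, (mult y : ℂ) * f y a₀ =
        -(c x : ℂ) / (d x : ℂ) * ((mult y : ℂ) * (d y : ℂ)) := by
      intro y hyX
      rcases Nat.eq_zero_or_pos (mult y) with h0 | h0
      · rw [h0]; simp
      · have h1 := hrat x hxX y hyX (by omega) h0 hr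
        rw [hXsval x hx a₀ ha₀] at h1
        have hdy : (d y : ℂ) ≠ 0 := by exact_mod_cast (hdpos y hyX).ne'
        have h2 : f y a₀ = -(c x : ℂ) / (d x : ℂ) * (d y : ℂ) := by
          rw [← h1]
          field_simp
        rw [h2]
        ring
    set S : ℕ := ∑ y ∈ X, mult y * d y with hS
    have h3 : (t : ℂ) = -(c x : ℂ) / (d x : ℂ) * (S : ℂ) := by
      rw [← hsum, Finset.sum_congr rfl hy, ← Finset.mul_sum, hS]
      push_cast
      rfl
    have h4 : (t : ℂ) * (d x : ℂ) = -(c x : ℂ) * (S : ℂ) := by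
      rw [h3]
      field_simp
    have h5 : t * (d x : ℤ) = -c x * (S : ℤ) := by exact_mod_cast h4
    have h6 : (d x : ℤ) ≤ (S : ℤ) := by
      have h7 : mult x * d x ≤ S := by
        rw [hS]
        exact Finset.single_le_sum (f := fun y => mult y * d y) (fun i _ => Nat.zero_le _) hxX
      have h8 : d x ≤ mult x * d x := Nat.le_mul_of_pos_left _ (by omega)
      exact_mod_cast h8.trans h7
    exact abs_unit_of_eq (c x) t (d x) S (hc0 x hx) ht (by exact_mod_cast hdpos x hxX) h6 h5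
  -- the periods
  set per : ι → ℂ := fun y =>
    ∑ ψ' ∈ Finset.univ.erase (principalChar A),
      if η ψ' = y then (ψ' : A → ℂ) a₀ else 0 with hper
  have hYx : ∀ y ∈ Y, f y a₀ = -(d' : ℂ) + (δ : ℂ) * per y := by
    intro y hy
    obtain ⟨ψ, hψ, rfl⟩ := mem_excSet.1 hy
    rw [hval2 ψ hψ (hηX ψ hψ) a₀ ha₀, hper]
    simp only
    rw [abs_fibre_sum ν m hcomm hfpf η hηR hψ a₀]
  have hsum1 : ∑ ψ' ∈ Finset.univ.erase (principalChar A), (ψ' : A → ℂ) a₀ = -1 :=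
    sum_nontrivial hcomm a₀ ha₀
  -- irrationality
  have hirr : ∀ y ∈ Y, ¬ ∃ r : ℚ, f y a₀ / (d y : ℂ) = (r : ℂ) := by
    rintro y hy ⟨r, hr⟩
    have hyX := hYX hy
    have hdy : (d y : ℂ) ≠ 0 := by exact_mod_cast (hdpos y hyX).ne'
    set q : ℚ := r * (d y : ℚ) with hq
    have hyq : f y a₀ = (q : ℂ) := by
      rw [hq]
      push_cast
      rw [← hr]
      field_simp
    set r' : ℚ := (δ : ℚ) * (q + (d' : ℚ)) with hr'
    have hper' : per y = (r' : ℂ) := by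
      have h1 := hYx y hy
      rw [hyq] at h1
      calc per y = ((δ : ℂ) * (δ : ℂ)) * per y := by rw [hδ2, one_mul]
        _ = (δ : ℂ) * ((-(d' : ℂ) + (δ : ℂ) * per y) + (d' : ℂ)) := by ring
        _ = (δ : ℂ) * ((q : ℂ) + (d' : ℂ)) := by rw [← h1]
        _ = (r' : ℂ) := by rw [hr']; push_cast; ring
    have hLI := abs_LI hA ha₀
      (fun ψ' => (if η ψ' = y then (1 : ℚ) else 0) + r') (by
        have e1 : ∀ ψ' : IrrCharacter A,
            (((if η ψ' = y then (1 : ℚ) else 0) + r' : ℚ) : ℂ) * (ψ' : A → ℂ) a₀ =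
            (if η ψ' = y then (ψ' : A → ℂ) a₀ else 0) + (r' : ℂ) * (ψ' : A → ℂ) a₀ := by
          intro ψ'
          by_cases hc : η ψ' = y
          · rw [if_pos hc, if_pos hc]; push_cast; ring
          · rw [if_neg hc, if_neg hc]; push_cast; ring
        simp_rw [e1]
        rw [Finset.sum_add_distrib, ← Finset.mul_sum, hsum1]
        have : ∑ ψ' ∈ Finset.univ.erase (principalChar A),
            (if η ψ' = y then (ψ' : A → ℂ) a₀ else 0) = per y := rfl
        rw [this, hper']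
        ring)
    obtain ⟨ψ₁, hψ₁, hζ₁⟩ := mem_excSet.1 hy
    obtain ⟨y₂, hy₂, hne⟩ := Finset.exists_mem_ne (by omega : 1 < Y.card) y
    obtain ⟨ψ₂, hψ₂, hζ₂⟩ := mem_excSet.1 hy₂
    have h1 := hLI ψ₁ hψ₁
    have h2 := hLI ψ₂ hψ₂
    simp only [hζ₁, hζ₂, if_pos, if_neg hne] at h1 h2
    linarith
  obtain ⟨y₁, hy₁⟩ : ∃ y, y ∈ Y := Finset.card_pos.1 (by omega)
  have hy₁X := hYX hy₁
  obtain ⟨mult, hm1, hrat, t, ht, hsum⟩ := hTL y₁ hy₁X a₀ ha₀
  have hmX : ∀ x ∈ Xs, mult x = 0 := by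
    intro x hx
    by_contra h0
    have hpos : 0 < mult x := Nat.pos_of_ne_zero h0
    have hr : ∃ r : ℚ, f x a₀ / (d x : ℂ) = (r : ℂ) := by
      refine ⟨-(c x : ℚ) / (d x : ℚ), ?_⟩
      rw [hXsval x hx a₀ ha₀]
      push_cast
      rfl
    have h2 := hrat x (hXsX x hx) y₁ hy₁X hpos (by omega) hr
    obtain ⟨r, hr⟩ := hr
    exact hirr y₁ hy₁ ⟨r, by rw [h2, hr]⟩
  have hunion : Xs ∪ Y = X := Finset.sdiff_union_of_subset hYX
  have hdisj : Disjoint Xs Y := Finset.sdiff_disjoint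
  have hsum' : ∑ y ∈ Y, (mult y : ℂ) * f y a₀ = (t : ℂ) := by
    rw [← hsum, ← hunion, Finset.sum_union hdisj, Finset.sum_eq_zero (s := Xs), zero_add]
    intro x hx
    rw [hmX x hx]
    simp
  -- all multiplicities on `Y` are equal
  set dd : ℤ := -d' with hdd
  set S : ℕ := ∑ y ∈ Y, mult y with hSdef
  have hswap : ∑ y ∈ Y, (mult y : ℂ) * per y =
      ∑ ψ' ∈ Finset.univ.erase (principalChar A), (mult (η ψ') : ℂ) * (ψ' : A → ℂ) a₀ := by
    simp only [hper, Finset.mul_sum]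
    rw [Finset.sum_comm]
    refine Finset.sum_congr rfl (fun ψ' hψ' => ?_)
    have hψ'1 : ψ' ≠ principalChar A := (Finset.mem_erase.1 hψ').1
    have e1 : ∀ y : ι, (mult y : ℂ) * (if η ψ' = y then (ψ' : A → ℂ) a₀ else 0) =
        if η ψ' = y then (mult y : ℂ) * (ψ' : A → ℂ) a₀ else 0 := by
      intro y
      by_cases hc : η ψ' = y
      · rw [if_pos hc, if_pos hc]
      · rw [if_neg hc, if_neg hc, mul_zero]
    simp_rw [e1]
    rw [Finset.sum_ite_eq, if_pos (mem_excSet.2 ⟨ψ', hψ'1, rfl⟩)]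
  have hrel : (dd : ℂ) * (S : ℂ) + (δ : ℂ) *
      ∑ ψ' ∈ Finset.univ.erase (principalChar A), (mult (η ψ') : ℂ) * (ψ' : A → ℂ) a₀ =
        (t : ℂ) := by
    rw [← hswap, ← hsum', hSdef, hdd]
    push_cast
    rw [Finset.mul_sum, Finset.mul_sum, ← Finset.sum_add_distrib]
    refine Finset.sum_congr rfl (fun y hy => ?_)
    rw [hYx y hy]
    ring
  have hLI2 := abs_LI hA ha₀
    (fun ψ' => (δ : ℚ) * (mult (η ψ') : ℚ) + ((t : ℚ) - (dd : ℚ) * (S : ℚ))) (by
      have e1 : ∀ ψ' : IrrCharacter A,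
          (((δ : ℚ) * (mult (η ψ') : ℚ) + ((t : ℚ) - (dd : ℚ) * (S : ℚ)) : ℚ) : ℂ) *
            (ψ' : A → ℂ) a₀ =
          (δ : ℂ) * ((mult (η ψ') : ℂ) * (ψ' : A → ℂ) a₀) +
            ((t : ℂ) - (dd : ℂ) * (S : ℂ)) * (ψ' : A → ℂ) a₀ := by
        intro ψ'
        push_cast
        ring
      simp_rw [e1]
      rw [Finset.sum_add_distrib, ← Finset.mul_sum, ← Finset.mul_sum, hsum1]
      linear_combination hrel)
  have hmY : ∀ y ∈ Y, (mult y : ℤ) = δ * (dd * (S : ℤ) - t) := by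
    intro y hy
    obtain ⟨ψ, hψ, rfl⟩ := mem_excSet.1 hy
    have h1 := hLI2 ψ hψ
    have h2 : (δ : ℚ) * (mult (η ψ) : ℚ) = (dd : ℚ) * (S : ℚ) - (t : ℚ) := by linarith
    have h3 : (mult (η ψ) : ℚ) = (δ : ℚ) * ((dd : ℚ) * (S : ℚ) - (t : ℚ)) := by
      have hδq : (δ : ℚ) * (δ : ℚ) = 1 := by exact_mod_cast hδ2'
      calc (mult (η ψ) : ℚ) = ((δ : ℚ) * (δ : ℚ)) * (mult (η ψ) : ℚ) := by rw [hδq, one_mul]
        _ = (δ : ℚ) * ((δ : ℚ) * (mult (η ψ) : ℚ)) := by ring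
        _ = _ := by rw [h2]
    exact_mod_cast h3
  set n : ℤ := δ * (dd * (S : ℤ) - t) with hn
  have hn1 : 1 ≤ n := by
    rw [← hmY y₁ hy₁]
    exact_mod_cast hm1
  have hSn : (S : ℤ) = (Y.card : ℤ) * n := by
    rw [hSdef]
    push_cast
    rw [Finset.sum_congr rfl (fun y hy => hmY y hy), Finset.sum_const, nsmul_eq_mul]
  have hδn : δ * n = dd * (S : ℤ) - t := by
    rw [hn, ← mul_assoc, hδ2', one_mul]
  clear_value n
  have htn : t = n * ((Y.card : ℤ) * dd - δ) := by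
    rw [hSn] at hδn
    linear_combination hδn
  have hY2' : (2 : ℤ) ≤ (Y.card : ℤ) := by exact_mod_cast hY2
  have hu0 : (Y.card : ℤ) * dd - δ ≠ 0 := by
    intro h0
    have h1 : (Y.card : ℤ) * dd = δ := by linarith
    have h2 : (Y.card : ℤ) ∣ 1 := ⟨dd * δ, by rw [← mul_assoc, h1, hδ2']⟩
    have h3 := Int.le_of_dvd one_pos h2
    linarith
  have hu : ((Y.card : ℤ) * dd - δ = 1) ∨ ((Y.card : ℤ) * dd - δ = -1) := by
    rcases ht with ht | ht | ht
    · right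
      have h1 : n * (-((Y.card : ℤ) * dd - δ)) = 1 := by rw [mul_neg, ← htn, ht]; norm_num
      have h2 : n ∣ 1 := ⟨_, h1.symm⟩
      have h3 := Int.le_of_dvd one_pos h2
      have h4 : n = 1 := le_antisymm h3 hn1
      rw [h4, one_mul] at h1
      linarith
    · exfalso
      rw [ht] at htn
      rcases mul_eq_zero.1 htn.symm with h | h
      · linarith
      · exact hu0 h
    · left
      have h1 : n * ((Y.card : ℤ) * dd - δ) = 1 := by rw [← htn, ht]
      have h2 : n ∣ 1 := ⟨_, h1.symm⟩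
      have h3 := Int.le_of_dvd one_pos h2
      have h4 : n = 1 := le_antisymm h3 hn1
      rw [h4, one_mul] at h1
      exact h1
  -- the number of nonexceptional members
  obtain ⟨ψ₁, hψ₁, -⟩ := mem_excSet.1 hy₁
  have hnorm := frob_norm X f ν m hcomm hm0 hfpf hchar hcol' δ c η d' hδ hηX hb hcη ψ₁ hψ₁
  have hsq : ∑ x ∈ Xs, c x * c x = (Xs.card : ℤ) := by
    rw [Finset.sum_congr rfl (fun x hx => show c x * c x = 1 by
      rcases hc1 x hx with h | h <;> rw [h] <;> norm_num)]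
    simp
  rw [← hYdef, ← hXsdef, hsq] at hnorm
  have hd'dd : d' = -dd := by rw [hdd]; ring
  rw [hd'dd] at hnorm
  have hXe : Xs.card = m := by
    have hgoal : (Xs.card : ℤ) = (m : ℤ) := by
      rcases hδ with hδ | hδ <;> rcases hu with hu | hu <;> rw [hδ] at hu hnorm
      · have h1 : 0 < dd := by
          by_contra h; push Not at h; nlinarith
        have h2 : dd < 2 := by
          by_contra h; push Not at h; nlinarith
        have h3 : dd = 1 := by omega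
        rw [h3] at hu hnorm
        have h4 : (Y.card : ℤ) = 2 := by linarith
        rw [h4] at hnorm
        linarith
      · have h1 : (Y.card : ℤ) * dd = 0 := by linarith
        have h3 : dd = 0 := by
          rcases mul_eq_zero.1 h1 with h | h
          · linarith
          · exact h
        rw [h3] at hnorm
        linarith
      · have h1 : (Y.card : ℤ) * dd = 0 := by linarith
        have h3 : dd = 0 := by
          rcases mul_eq_zero.1 h1 with h | h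
          · linarith
          · exact h
        rw [h3] at hnorm
        linarith
      · have h1 : dd < 0 := by
          by_contra h; push Not at h; nlinarith
        have h2 : -2 < dd := by
          by_contra h; push Not at h; nlinarith
        have h3 : dd = -1 := by omega
        rw [h3] at hu hnorm
        have h4 : (Y.card : ℤ) = 2 := by linarith
        rw [h4] at hnorm
        linarith
    exact_mod_cast hgoal
  -- assembly
  have hcardZ : (Y.card : ℤ) * (m : ℤ) = (p : ℤ) - 1 := by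
    have h1 : ((Y.card * m : ℕ) : ℤ) = ((p - 1 : ℕ) : ℤ) := by rw [hcard]
    rw [Nat.cast_sub hpp.one_le] at h1
    push_cast at h1
    exact h1
  refine ⟨Xs, Y, fun x => -c x, (Y.card : ℤ) * dd - δ, δ, dd, η, hunion, hdisj, hXe, ?_, ?_, hu,
    hδ, ?_, ?_, ?_, ?_, ?_, ?_⟩
  · rw [← hcard, Nat.mul_div_cancel _ hm0]
  · intro x hx
    refine ⟨?_, ?_, ?_⟩
    · show -c x = 1 ∨ -c x = -1
      rcases hc1 x hx with h | h <;> rw [h] <;> norm_num
    · intro a ha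
      rw [hXsval x hx a ha]
      push_cast
      rfl
    · have hc : ∀ ψ : IrrCharacter A, ψ ≠ principalChar A → bint (f x) ψ = c x := by
        intro ψ hψ
        rw [hb ψ hψ x (hXsX x hx), if_neg (hXsη x hx ψ hψ), add_zero]
      obtain ⟨m', hm'⟩ := degree_of_const hcomm (hchar x (hXsX x hx)) (c x) hc
      refine ⟨(Nat.card A : ℤ) * m' - c x, hm', ?_⟩
      rw [hA]
      rw [Int.modEq_iff_dvd]
      exact ⟨-m', by ring⟩
  · intro y hy
    obtain ⟨ψ₀, hψ₀, rfl⟩ := mem_excSet.1 hy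
    have hyX := hηX ψ₀ hψ₀
    obtain ⟨m0, hm0'⟩ := (isCharacter_decomp (hchar _ hyX)).1 (principalChar A)
    have h1 := char_one_eq_sum_bco hcomm (hchar _ hyX)
    have h2 : ∑ ψ : IrrCharacter A, bco (f (η ψ₀)) ψ =
        (((p : ℤ) - 1) * d' + δ * (m : ℤ) : ℤ) := by
      rw [← Finset.add_sum_erase _ _ (Finset.mem_univ (principalChar A)), bco_principal, zero_add]
      have e : ∀ ψ ∈ Finset.univ.erase (principalChar A), bco (f (η ψ₀)) ψ =
          (d' : ℂ) + (if η ψ = η ψ₀ then (δ : ℂ) else 0) := by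
        intro ψ hψ
        have hψ1 : ψ ≠ principalChar A := Finset.ne_of_mem_erase hψ
        rw [← bint_spec (hchar _ hyX), hb ψ hψ1 _ hyX, hcη ψ₀ hψ₀]
        by_cases h : η ψ₀ = η ψ
        · rw [if_pos h, if_pos h.symm]; push_cast; ring
        · rw [if_neg h, if_neg (fun h' => h h'.symm)]; push_cast; ring
      rw [Finset.sum_congr rfl e, Finset.sum_add_distrib, Finset.sum_const,
        Finset.card_erase_of_mem (Finset.mem_univ _), Finset.card_univ, card_irr_abelian hcomm, hA,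
        ← Finset.sum_filter, Finset.sum_const, abs_fibre_card ν m hcomm hfpf η hηR hψ₀]
      rw [nsmul_eq_mul, nsmul_eq_mul, Nat.cast_sub hpp.one_le]
      push_cast
      ring
    rw [h2, hm0', hA] at h1
    refine ⟨(p : ℤ) * (m0 : ℤ) + (((p : ℤ) - 1) * d' + δ * (m : ℤ)), ?_, ?_⟩
    · rw [h1]
      push_cast
      ring
    · rw [Int.modEq_iff_dvd]
      refine ⟨-(m0 : ℤ), ?_⟩
      rw [hdd]
      linear_combination d' * hcardZ
  · intro ψ hψ
    exact mem_excSet.2 ⟨ψ, hψ, rfl⟩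
  · intro y hy
    exact mem_excSet.1 hy
  · intro ψ ψ' hψ hψ'
    rw [hηR ψ ψ' hψ hψ']
    constructor
    · rintro ⟨k, hk, h⟩
      refine ⟨k, hk, fun a => ?_⟩
      rw [h]
      rfl
    · rintro ⟨k, hk, h⟩
      refine ⟨k, hk, ?_⟩
      apply Subtype.ext
      funext a
      exact h a
  · intro ψ hψ a ha
    rw [hval2 ψ hψ (hηX ψ hψ) a ha, hdd]
    push_cast
    rfl
  · intro w hw
    obtain ⟨hsame, hwrel⟩ := frob_weight X f hcomm hchar δ c η d' hδ hηX hb hcη w hw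
    refine ⟨?_, ?_⟩
    · intro y hy y' hy'
      obtain ⟨ψ, hψ, rfl⟩ := mem_excSet.1 hy
      obtain ⟨ψ', hψ', rfl⟩ := mem_excSet.1 hy'
      exact hsame ψ ψ' hψ hψ'
    · intro y hy
      obtain ⟨ψ, hψ, rfl⟩ := mem_excSet.1 hy
      have h := hwrel ψ hψ
      rw [← hYdef, ← hXsdef] at h
      have e : ∑ x ∈ Xs, (((-c x : ℤ)) : ℂ) * w x = -∑ x ∈ Xs, (c x : ℂ) * w x := by
        rw [← Finset.sum_neg_distrib]
        refine Finset.sum_congr rfl fun x _ => ?_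
        push_cast
        ring
      rw [e, hdd]
      push_cast
      linear_combination -h

end Small

end Cfsg.Agent.Helper5.TLD
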