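import Mathlib
import Cfsg.Agent.Lib.Helper7.TLDABS2

/-!
S4442 PIECE ABS, part 3 (helper7): the abstract structure theorem, case `m + 1 = p`
(the automorphism group is transitive on the nontrivial linear characters).
-/

set_option autoImplicit false

namespace Cfsg.Agent.Helper5.TLD

open Cfsg Cfsg.Agent.Helper24 Cfsg.Agent.Helper7.Homo Cfsg.Agent.Helper7.Frob
open scoped ComplexConjugate

universe u

section One

variable {A : Type u} [Group A] [Fintype A] [Fintype (IrrCharacter A)] [DecidableEq A]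

/-- in the transitive case the orbit of a nontrivial linear character is everything -/
theorem abs_orbit_eq [DecidableEq (IrrCharacter A)] (p : ℕ) [Fact p.Prime]
    (hA : Nat.card A = p) (ν : MulAut A) (m : ℕ) (hm1 : m + 1 = p)
    (hfpf : ∀ k : ℕ, 0 < k → k < m → ∀ a : A, (ν ^ k) a = a → a = 1)
    {ψ₀ : IrrCharacter A} (hψ₀ : ψ₀ ≠ principalChar A) :
    (Finset.range m).image (fun k => compIrr (ν ^ k) ψ₀) =
      Finset.univ.erase (principalChar A) := by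
  haveI : Finite A := Finite.of_fintype A
  have hcomm := abs_comm hA
  apply Finset.eq_of_subset_of_card_le
  · intro ψ hψ
    obtain ⟨k, -, rfl⟩ := Finset.mem_image.1 hψ
    exact Finset.mem_erase.2 ⟨compIrr_pow_ne_principal ν k hψ₀, Finset.mem_univ _⟩
  · rw [Finset.card_image_of_injOn (abs_fibre_injOn ν m hcomm hfpf hψ₀), Finset.card_range,
      Finset.card_erase_of_mem (Finset.mem_univ _), Finset.card_univ, card_irr_abelian hcomm, hA]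
    omega

theorem abs_trans (p : ℕ) [Fact p.Prime]
    (hA : Nat.card A = p) (ν : MulAut A) (m : ℕ) (hm1 : m + 1 = p)
    (hfpf : ∀ k : ℕ, 0 < k → k < m → ∀ a : A, (ν ^ k) a = a → a = 1)
    {ψ₀ ψ : IrrCharacter A} (hψ₀ : ψ₀ ≠ principalChar A) (hψ : ψ ≠ principalChar A) :
    ∃ k < m, ψ = compIrr (ν ^ k) ψ₀ := by
  classical
  have h : ψ ∈ (Finset.range m).image (fun k => compIrr (ν ^ k) ψ₀) := by
    rw [abs_orbit_eq p hA ν m hm1 hfpf hψ₀]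
    exact Finset.mem_erase.2 ⟨hψ, Finset.mem_univ _⟩
  obtain ⟨k, hk, rfl⟩ := Finset.mem_image.1 h
  exact ⟨k, Finset.mem_range.1 hk, rfl⟩

theorem abs_orbit_sum (p : ℕ) [Fact p.Prime]
    (hA : Nat.card A = p) (ν : MulAut A) (m : ℕ) (hm1 : m + 1 = p)
    (hfpf : ∀ k : ℕ, 0 < k → k < m → ∀ a : A, (ν ^ k) a = a → a = 1)
    {ψ₀ : IrrCharacter A} (hψ₀ : ψ₀ ≠ principalChar A) (a : A) (ha : a ≠ 1) :
    ∑ k ∈ Finset.range m, (ψ₀ : A → ℂ) ((ν ^ k) a) = -1 := by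
  classical
  haveI : Finite A := Finite.of_fintype A
  have hcomm := abs_comm hA
  rw [← sum_nontrivial hcomm a ha, ← abs_orbit_eq p hA ν m hm1 hfpf hψ₀,
    Finset.sum_image (abs_fibre_injOn ν m hcomm hfpf hψ₀)]
  rfl

omit [Fintype A] [Fintype (IrrCharacter A)] [DecidableEq A] in
/-- the approximation step: a nonzero integral value `-c` is `± 1` -/
theorem abs_appx {ι : Type*} (X : Finset ι) (f : ι → A → ℂ) (d : ι → ℕ)
    (hdpos : ∀ x ∈ X, 0 < d x) (a₀ : A) (x : ι) (hxX : x ∈ X) (c : ℤ) (hc0 : c ≠ 0)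
    (hval : f x a₀ = -(c : ℂ))
    (hTLx : ∃ mult : ι → ℕ, 1 ≤ mult x ∧
      (∀ y ∈ X, ∀ y' ∈ X, 0 < mult y → 0 < mult y' →
        (∃ r : ℚ, f y a₀ / (d y : ℂ) = (r : ℂ)) → f y' a₀ / (d y' : ℂ) = f y a₀ / (d y : ℂ)) ∧
      ∃ t : ℤ, (t = -1 ∨ t = 0 ∨ t = 1) ∧ ∑ y ∈ X, (mult y : ℂ) * f y a₀ = (t : ℂ)) :
    c = 1 ∨ c = -1 := by
  classical
  obtain ⟨mult, hm1, hrat, t, ht, hsum⟩ := hTLx
  have hdx : (d x : ℂ) ≠ 0 := by exact_mod_cast (hdpos x hxX).ne'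
  have hr : ∃ r : ℚ, f x a₀ / (d x : ℂ) = (r : ℂ) := by
    refine ⟨-(c : ℚ) / (d x : ℚ), ?_⟩
    rw [hval]
    push_cast
    rfl
  have hy : ∀ y ∈ X, (mult y : ℂ) * f y a₀ =
      -(c : ℂ) / (d x : ℂ) * ((mult y : ℂ) * (d y : ℂ)) := by
    intro y hyX
    rcases Nat.eq_zero_or_pos (mult y) with h0 | h0
    · rw [h0]; simp
    · have h1 := hrat x hxX y hyX (by omega) h0 hr
      rw [hval] at h1
      have hdy : (d y : ℂ) ≠ 0 := by exact_mod_cast (hdpos y hyX).ne'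
      have h2 : f y a₀ = -(c : ℂ) / (d x : ℂ) * (d y : ℂ) := by
        rw [← h1]
        field_simp
      rw [h2]
      ring
  set S : ℕ := ∑ y ∈ X, mult y * d y with hS
  have h3 : (t : ℂ) = -(c : ℂ) / (d x : ℂ) * (S : ℂ) := by
    rw [← hsum, Finset.sum_congr rfl hy, ← Finset.mul_sum, hS]
    push_cast
    rfl
  have h4 : (t : ℂ) * (d x : ℂ) = -(c : ℂ) * (S : ℂ) := by
    rw [h3]
    field_simp
  have h5 : t * (d x : ℤ) = -c * (S : ℤ) := by exact_mod_cast h4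
  have h6 : (d x : ℤ) ≤ (S : ℤ) := by
    have h7 : mult x * d x ≤ S := by
      rw [hS]
      exact Finset.single_le_sum (f := fun y => mult y * d y) (fun i _ => Nat.zero_le _) hxX
    have h8 : d x ≤ mult x * d x := Nat.le_mul_of_pos_left _ (by omega)
    exact_mod_cast h8.trans h7
  exact abs_unit_of_eq c t (d x) S hc0 ht (by exact_mod_cast hdpos x hxX) h6 h5

set_option maxHeartbeats 1000000 in
/-- **The abstract structure theorem**, case `m + 1 = p`. -/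
theorem abs_structure_one (p : ℕ) [Fact p.Prime]
    (hA : Nat.card A = p) {ι : Type*} [DecidableEq ι] (X : Finset ι) (f : ι → A → ℂ) (d : ι → ℕ)
    (ν : MulAut A) (m : ℕ) (hm0 : 0 < m) (hm1 : m + 1 = p)
    (hfpf : ∀ k : ℕ, 0 < k → k < m → ∀ a : A, (ν ^ k) a = a → a = 1)
    (hchar : ∀ x ∈ X, IsCharacter A (f x))
    (hinv : ∀ x ∈ X, ∀ a : A, f x (ν a) = f x a)
    (hdpos : ∀ x ∈ X, 0 < d x)
    (hcol : ∀ a a' : A, a ≠ 1 → a' ≠ 1 → ∑ x ∈ X, f x a * conj (f x a') =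
      (p : ℂ) * ∑ k ∈ Finset.range m, (if a' = (ν ^ k) a then (1 : ℂ) else 0))
    (hnv : ∀ x ∈ X, ∃ a : A, a ≠ 1 ∧ f x a ≠ 0)
    (hTL : ∀ x ∈ X, ∀ a : A, a ≠ 1 → ∃ mult : ι → ℕ, 1 ≤ mult x ∧
      (∀ y ∈ X, ∀ y' ∈ X, 0 < mult y → 0 < mult y' →
        (∃ r : ℚ, f y a / (d y : ℂ) = (r : ℂ)) → f y' a / (d y' : ℂ) = f y a / (d y : ℂ)) ∧
      ∃ t : ℤ, (t = -1 ∨ t = 0 ∨ t = 1) ∧ ∑ y ∈ X, (mult y : ℂ) * f y a = (t : ℂ)) :
    ∃ (Xs Y : Finset ι) (s : ι → ℤ) (ε δ dd : ℤ) (ζ : IrrCharacter A → ι),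
      Xs ∪ Y = X ∧ Disjoint Xs Y ∧ Xs.card = m ∧ Y.card = (p - 1) / m ∧
      (∀ x ∈ Xs, (s x = 1 ∨ s x = -1) ∧ (∀ a : A, a ≠ 1 → f x a = (s x : ℂ)) ∧
        ∃ z : ℤ, f x 1 = (z : ℂ) ∧ z ≡ s x [ZMOD p]) ∧
      (ε = 1 ∨ ε = -1) ∧ (δ = 1 ∨ δ = -1) ∧
      (∀ y ∈ Y, ∃ z : ℤ, f y 1 = (z : ℂ) ∧ z ≡ -ε * (m : ℤ) [ZMOD p]) ∧
      (∀ ψ : IrrCharacter A, ψ ≠ principalChar A → ζ ψ ∈ Y) ∧
      (∀ y ∈ Y, ∃ ψ : IrrCharacter A, ψ ≠ principalChar A ∧ ζ ψ = y) ∧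
      (∀ ψ ψ' : IrrCharacter A, ψ ≠ principalChar A → ψ' ≠ principalChar A →
        (ζ ψ = ζ ψ' ↔ ∃ k < m, ∀ a : A, (ψ : A → ℂ) a = (ψ' : A → ℂ) ((ν ^ k) a))) ∧
      (∀ ψ : IrrCharacter A, ψ ≠ principalChar A → ∀ a : A, a ≠ 1 →
        f (ζ ψ) a = (dd : ℂ) + (δ : ℂ) * ∑ k ∈ Finset.range m, (ψ : A → ℂ) ((ν ^ k) a)) ∧
      ∀ w : ι → ℂ, (∀ a : A, a ≠ 1 → ∑ x ∈ X, w x * f x a = 0) →
        (∀ y ∈ Y, ∀ y' ∈ Y, w y = w y') ∧
        ∀ y ∈ Y, (ε : ℂ) * w y + ∑ x ∈ Xs, (s x : ℂ) * w x = 0 := by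
  classical
  have hpp : p.Prime := Fact.out
  haveI : Finite A := Finite.of_fintype A
  have hcomm := abs_comm hA
  obtain ⟨a₀, ha₀⟩ := abs_exists_ne_one hA
  -- a nontrivial linear character
  obtain ⟨ψ₀, hψ₀⟩ : ∃ ψ : IrrCharacter A, ψ ≠ principalChar A := by
    apply Fintype.exists_ne_of_one_lt_card
    rw [card_irr_abelian hcomm, hA]
    exact hpp.one_lt
  -- invariance under the powers of `ν`
  have hinvk : ∀ x ∈ X, ∀ k : ℕ, ∀ a : A, f x ((ν ^ k) a) = f x a := by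
    intro x hx k
    induction k with
    | zero => intro a; rw [pow_zero]; rfl
    | succ k ih =>
      intro a
      rw [pow_succ, MulAut.mul_apply, ih, hinv x hx]
  set c : ι → ℤ := fun x => bint (f x) ψ₀ with hcdef
  have hc : ∀ x ∈ X, ∀ ψ : IrrCharacter A, ψ ≠ principalChar A → bint (f x) ψ = c x := by
    intro x hx ψ hψ
    obtain ⟨k, -, rfl⟩ := abs_trans p hA ν m hm1 hfpf hψ₀ hψ
    exact bint_compIrr (ν ^ k) (hinvk x hx k) ψ₀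
  have hval : ∀ x ∈ X, ∀ a : A, a ≠ 1 → f x a = -(c x : ℂ) :=
    fun x hx => value_of_const hcomm (hchar x hx) (c x) (hc x hx)
  have hc0 : ∀ x ∈ X, c x ≠ 0 := by
    intro x hx h0
    obtain ⟨a, ha, hfa⟩ := hnv x hx
    apply hfa
    rw [hval x hx a ha, h0]
    simp
  have hc1 : ∀ x ∈ X, c x = 1 ∨ c x = -1 := fun x hx =>
    abs_appx X f d hdpos a₀ x hx (c x) (hc0 x hx) (hval x hx a₀ ha₀) (hTL x hx a₀ ha₀)
  -- the number of members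
  have hXcard : X.card = p := by
    have h := hcol a₀ a₀ ha₀ ha₀
    have h1 : ∑ k ∈ Finset.range m, (if a₀ = (ν ^ k) a₀ then (1 : ℂ) else 0) = 1 := by
      rw [Finset.sum_eq_single 0]
      · rw [pow_zero, if_pos (show a₀ = (1 : MulAut A) a₀ from rfl)]
      · intro k hk hk0
        rw [if_neg]
        intro h2
        exact ha₀ (hfpf k (Nat.pos_of_ne_zero hk0) (Finset.mem_range.1 hk) a₀ h2.symm)
      · intro h2
        exact absurd (Finset.mem_range.2 hm0) h2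
    rw [h1, mul_one] at h
    have h2 : ∀ x ∈ X, f x a₀ * conj (f x a₀) = 1 := by
      intro x hx
      rw [hval x hx a₀ ha₀]
      rcases hc1 x hx with h3 | h3 <;> rw [h3] <;> simp
    rw [Finset.sum_congr rfl h2, Finset.sum_const, nsmul_eq_mul, mul_one] at h
    exact_mod_cast h
  obtain ⟨y, hy⟩ : X.Nonempty := by
    rw [← Finset.card_pos, hXcard]
    exact hpp.pos
  have hsumw : ∀ w : ι → ℂ, (∀ a : A, a ≠ 1 → ∑ x ∈ X, w x * f x a = 0) →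
      ∑ x ∈ X, (c x : ℂ) * w x = 0 := by
    intro w hw
    have h := hw a₀ ha₀
    rw [Finset.sum_congr rfl (fun x hx => by rw [hval x hx a₀ ha₀])] at h
    have e : ∑ x ∈ X, (c x : ℂ) * w x = -∑ x ∈ X, w x * -(c x : ℂ) := by
      rw [← Finset.sum_neg_distrib]
      refine Finset.sum_congr rfl fun x _ => ?_
      ring
    rw [e, h, neg_zero]
  have hpm : (p : ℤ) = (m : ℤ) + 1 := by
    rw [← hm1]
    push_cast
    rfl
  refine ⟨X.erase y, {y}, fun x => -c x, -c y, 1, -c y + 1, fun _ => y, ?_, ?_, ?_, ?_, ?_, ?_,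
    Or.inl rfl, ?_, ?_, ?_, ?_, ?_, ?_⟩
  · ext x
    simp only [Finset.mem_union, Finset.mem_erase, Finset.mem_singleton]
    constructor
    · rintro (⟨-, h⟩ | rfl)
      · exact h
      · exact hy
    · intro h
      by_cases hxy : x = y
      · exact Or.inr hxy
      · exact Or.inl ⟨hxy, h⟩
  · exact Finset.disjoint_singleton_right.2 (Finset.notMem_erase y X)
  · rw [Finset.card_erase_of_mem hy, hXcard]
    omega
  · rw [Finset.card_singleton, show p - 1 = m by omega, Nat.div_self hm0]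
  · intro x hx
    have hxX := Finset.mem_of_mem_erase hx
    refine ⟨?_, ?_, ?_⟩
    · show -c x = 1 ∨ -c x = -1
      rcases hc1 x hxX with h | h <;> rw [h] <;> norm_num
    · intro a ha
      rw [hval x hxX a ha]
      push_cast
      rfl
    · obtain ⟨m', hm'⟩ := degree_of_const hcomm (hchar x hxX) (c x) (hc x hxX)
      refine ⟨(Nat.card A : ℤ) * m' - c x, hm', ?_⟩
      rw [hA, Int.modEq_iff_dvd]
      exact ⟨-m', by ring⟩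
  · rcases hc1 y hy with h | h <;> rw [h] <;> norm_num
  · intro y' hy'
    rw [Finset.mem_singleton] at hy'
    subst hy'
    obtain ⟨m', hm'⟩ := degree_of_const hcomm (hchar y' hy) (c y') (hc y' hy)
    refine ⟨(Nat.card A : ℤ) * m' - c y', hm', ?_⟩
    rw [hA, Int.modEq_iff_dvd]
    refine ⟨c y' - m', ?_⟩
    rw [hpm]
    ring
  · intro ψ _
    exact Finset.mem_singleton_self y
  · intro y' hy'
    rw [Finset.mem_singleton] at hy'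
    exact ⟨ψ₀, hψ₀, hy'.symm⟩
  · intro ψ ψ' hψ hψ'
    constructor
    · intro _
      obtain ⟨k, hk, h⟩ := abs_trans p hA ν m hm1 hfpf hψ' hψ
      refine ⟨k, hk, fun a => ?_⟩
      rw [h]
      rfl
    · intro _
      rfl
  · intro ψ hψ a ha
    rw [abs_orbit_sum p hA ν m hm1 hfpf hψ a ha, hval y hy a ha]
    push_cast
    ring
  · intro w hw
    refine ⟨?_, ?_⟩
    · intro y₁ hy₁ y₂ hy₂
      rw [Finset.mem_singleton] at hy₁ hy₂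
      rw [hy₁, hy₂]
    · intro y' hy'
      rw [Finset.mem_singleton] at hy'
      subst hy'
      have h := hsumw w hw
      rw [← Finset.add_sum_erase _ _ hy] at h
      have e : ∑ x ∈ X.erase y', (((-c x : ℤ)) : ℂ) * w x =
          -∑ x ∈ X.erase y', (c x : ℂ) * w x := by
        rw [← Finset.sum_neg_distrib]
        refine Finset.sum_congr rfl fun x _ => ?_
        push_cast
        ring
      rw [e]
      push_cast
      linear_combination -h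

end One

section Final

/-- **PIECE ABS**, without the oddness hypothesis. -/
theorem abs_structure' {A : Type u} [Group A] [Finite A] [DecidableEq A] (p : ℕ) [Fact p.Prime]
    (hA : Nat.card A = p) {ι : Type*} [DecidableEq ι] (X : Finset ι) (f : ι → A → ℂ) (d : ι → ℕ)
    (ν : MulAut A) (m : ℕ) (hm0 : 0 < m) (hmdvd : m ∣ p - 1) (hνm : ν ^ m = 1)
    (hfpf : ∀ k : ℕ, 0 < k → k < m → ∀ a : A, (ν ^ k) a = a → a = 1)
    (hchar : ∀ x ∈ X, IsCharacter A (f x))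
    (hinv : ∀ x ∈ X, ∀ a : A, f x (ν a) = f x a)
    (hdpos : ∀ x ∈ X, 0 < d x)
    (hcol : ∀ a a' : A, a ≠ 1 → a' ≠ 1 → ∑ x ∈ X, f x a * conj (f x a') =
      (p : ℂ) * ∑ k ∈ Finset.range m, (if a' = (ν ^ k) a then (1 : ℂ) else 0))
    (hB : ∀ a : A, a ≠ 1 → ∑ x ∈ X, (d x : ℂ) * f x a = 0)
    (hnv : ∀ x ∈ X, ∃ a : A, a ≠ 1 ∧ f x a ≠ 0)
    (hTL : ∀ x ∈ X, ∀ a : A, a ≠ 1 → ∃ mult : ι → ℕ, 1 ≤ mult x ∧
      (∀ y ∈ X, ∀ y' ∈ X, 0 < mult y → 0 < mult y' →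
        (∃ r : ℚ, f y a / (d y : ℂ) = (r : ℂ)) → f y' a / (d y' : ℂ) = f y a / (d y : ℂ)) ∧
      ∃ t : ℤ, (t = -1 ∨ t = 0 ∨ t = 1) ∧ ∑ y ∈ X, (mult y : ℂ) * f y a = (t : ℂ)) :
    ∃ (Xs Y : Finset ι) (s : ι → ℤ) (ε δ dd : ℤ) (ζ : IrrCharacter A → ι),
      Xs ∪ Y = X ∧ Disjoint Xs Y ∧ Xs.card = m ∧ Y.card = (p - 1) / m ∧
      (∀ x ∈ Xs, (s x = 1 ∨ s x = -1) ∧ (∀ a : A, a ≠ 1 → f x a = (s x : ℂ)) ∧
        ∃ z : ℤ, f x 1 = (z : ℂ) ∧ z ≡ s x [ZMOD p]) ∧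
      (ε = 1 ∨ ε = -1) ∧ (δ = 1 ∨ δ = -1) ∧
      (∀ y ∈ Y, ∃ z : ℤ, f y 1 = (z : ℂ) ∧ z ≡ -ε * (m : ℤ) [ZMOD p]) ∧
      (∀ ψ : IrrCharacter A, ψ ≠ Cfsg.Agent.Helper24.principalChar A → ζ ψ ∈ Y) ∧
      (∀ y ∈ Y, ∃ ψ : IrrCharacter A, ψ ≠ Cfsg.Agent.Helper24.principalChar A ∧ ζ ψ = y) ∧
      (∀ ψ ψ' : IrrCharacter A, ψ ≠ Cfsg.Agent.Helper24.principalChar A →
        ψ' ≠ Cfsg.Agent.Helper24.principalChar A →
        (ζ ψ = ζ ψ' ↔ ∃ k < m, ∀ a : A, (ψ : A → ℂ) a = (ψ' : A → ℂ) ((ν ^ k) a))) ∧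
      (∀ ψ : IrrCharacter A, ψ ≠ Cfsg.Agent.Helper24.principalChar A → ∀ a : A, a ≠ 1 →
        f (ζ ψ) a = (dd : ℂ) + (δ : ℂ) * ∑ k ∈ Finset.range m, (ψ : A → ℂ) ((ν ^ k) a)) ∧
      ∀ w : ι → ℂ, (∀ a : A, a ≠ 1 → ∑ x ∈ X, w x * f x a = 0) →
        (∀ y ∈ Y, ∀ y' ∈ Y, w y = w y') ∧
        ∀ y ∈ Y, (ε : ℂ) * w y + ∑ x ∈ Xs, (s x : ℂ) * w x = 0 := by
  classical
  have hpp : p.Prime := Fact.out
  haveI : Fintype A := Fintype.ofFinite A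
  letI : Fintype (IrrCharacter A) := irrFintype
  obtain ⟨q, hq⟩ := hmdvd
  have hp2 := hpp.two_le
  rcases Nat.lt_or_ge q 2 with hq2 | hq2
  · have hq1 : q = 1 := by
      rcases Nat.eq_zero_or_pos q with h0 | h0
      · rw [h0, mul_zero] at hq
        omega
      · omega
    rw [hq1, mul_one] at hq
    exact abs_structure_one p hA X f d ν m hm0 (by omega) hfpf hchar hinv hdpos hcol hnv hTL
  · have h2 : m * 2 ≤ m * q := Nat.mul_le_mul_left m hq2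
    exact abs_structure_small p hA X f d ν m hm0 (by omega) hνm hfpf hchar hdpos hcol hB hnv hTL

/-- **PIECE ABS** (helper5's `TLDSkel` signature). -/
theorem abs_structure {A : Type u} [Group A] [Finite A] [DecidableEq A] (p : ℕ) [Fact p.Prime]
    (hodd : p ≠ 2)
    (hA : Nat.card A = p) {ι : Type*} [DecidableEq ι] (X : Finset ι) (f : ι → A → ℂ) (d : ι → ℕ)
    (ν : MulAut A) (m : ℕ) (hm0 : 0 < m) (hmdvd : m ∣ p - 1) (hνm : ν ^ m = 1)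
    (hfpf : ∀ k : ℕ, 0 < k → k < m → ∀ a : A, (ν ^ k) a = a → a = 1)
    (hchar : ∀ x ∈ X, IsCharacter A (f x))
    (hinv : ∀ x ∈ X, ∀ a : A, f x (ν a) = f x a)
    (hdpos : ∀ x ∈ X, 0 < d x)
    (hcol : ∀ a a' : A, a ≠ 1 → a' ≠ 1 → ∑ x ∈ X, f x a * conj (f x a') =
      (p : ℂ) * ∑ k ∈ Finset.range m, (if a' = (ν ^ k) a then (1 : ℂ) else 0))
    (hB : ∀ a : A, a ≠ 1 → ∑ x ∈ X, (d x : ℂ) * f x a = 0)
    (hnv : ∀ x ∈ X, ∃ a : A, a ≠ 1 ∧ f x a ≠ 0)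
    (hTL : ∀ x ∈ X, ∀ a : A, a ≠ 1 → ∃ mult : ι → ℕ, 1 ≤ mult x ∧
      (∀ y ∈ X, ∀ y' ∈ X, 0 < mult y → 0 < mult y' →
        (∃ r : ℚ, f y a / (d y : ℂ) = (r : ℂ)) → f y' a / (d y' : ℂ) = f y a / (d y : ℂ)) ∧
      ∃ t : ℤ, (t = -1 ∨ t = 0 ∨ t = 1) ∧ ∑ y ∈ X, (mult y : ℂ) * f y a = (t : ℂ)) :
    ∃ (Xs Y : Finset ι) (s : ι → ℤ) (ε δ dd : ℤ) (ζ : IrrCharacter A → ι),
      Xs ∪ Y = X ∧ Disjoint Xs Y ∧ Xs.card = m ∧ Y.card = (p - 1) / m ∧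
      (∀ x ∈ Xs, (s x = 1 ∨ s x = -1) ∧ (∀ a : A, a ≠ 1 → f x a = (s x : ℂ)) ∧
        ∃ z : ℤ, f x 1 = (z : ℂ) ∧ z ≡ s x [ZMOD p]) ∧
      (ε = 1 ∨ ε = -1) ∧ (δ = 1 ∨ δ = -1) ∧
      (∀ y ∈ Y, ∃ z : ℤ, f y 1 = (z : ℂ) ∧ z ≡ -ε * (m : ℤ) [ZMOD p]) ∧
      (∀ ψ : IrrCharacter A, ψ ≠ Cfsg.Agent.Helper24.principalChar A → ζ ψ ∈ Y) ∧
      (∀ y ∈ Y, ∃ ψ : IrrCharacter A, ψ ≠ Cfsg.Agent.Helper24.principalChar A ∧ ζ ψ = y) ∧
      (∀ ψ ψ' : IrrCharacter A, ψ ≠ Cfsg.Agent.Helper24.principalChar A →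
        ψ' ≠ Cfsg.Agent.Helper24.principalChar A →
        (ζ ψ = ζ ψ' ↔ ∃ k < m, ∀ a : A, (ψ : A → ℂ) a = (ψ' : A → ℂ) ((ν ^ k) a))) ∧
      (∀ ψ : IrrCharacter A, ψ ≠ Cfsg.Agent.Helper24.principalChar A → ∀ a : A, a ≠ 1 →
        f (ζ ψ) a = (dd : ℂ) + (δ : ℂ) * ∑ k ∈ Finset.range m, (ψ : A → ℂ) ((ν ^ k) a)) ∧
      ∀ w : ι → ℂ, (∀ a : A, a ≠ 1 → ∑ x ∈ X, w x * f x a = 0) →
        (∀ y ∈ Y, ∀ y' ∈ Y, w y = w y') ∧
        ∀ y ∈ Y, (ε : ℂ) * w y + ∑ x ∈ Xs, (s x : ℂ) * w x = 0 :=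
  abs_structure' p hA X f d ν m hm0 hmdvd hνm hfpf hchar hinv hdpos hcol hB hnv hTL

end Final

end Cfsg.Agent.Helper5.TLD
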