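import Mathlib
import Cfsg.Agent.Lib.Helper7.TLDABS3

/-!
S4442 PIECE ABS (helper7): `Cfsg.Agent.Helper5.TLD.abs_structure` (exact `TLDSkel` signature) and
`Cfsg.Agent.Helper5.TLD.abs_structure'` (the same without the oddness hypothesis) are proved in
`TLDABS3.lean` (case `m + 1 = p` and the assembly), on top of `TLDABS2.lean` (case `m + 1 < p`)
and `TLDABS1.lean` (groups of prime order, rational independence of the roots of unity).
-/
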