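import Mathlib
import Cfsg.Agent.Lib.Helper10.BRArith

/-!
# S0996 (Brauer–Reynolds) — piece NUM2 (helper7): `num_perm`, `num_u0`, `num_dvd`, `num_t1`
(pure finset arithmetic; skeleton `plans/BR996_Skel.lean.txt`).

NOTE: `num_perm` carries the extra hypothesis `hdeg1 : deg one = 1` (the skeleton statement without it is false
for `d0 = -1`; see board msg 3708).
-/

set_option autoImplicit false

namespace Cfsg.Agent.Helper10.BR996

namespace NUM2

theorem sum_split {ι : Type*} [Fintype ι] [DecidableEq ι] {M : Type*} [AddCommMonoid M]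
    (X Y : Finset ι) (hdisj : Disjoint X Y) (f : ι → M) :
    ∑ i, f i = ∑ i ∈ X, f i + ∑ i ∈ Y, f i + ∑ i ∈ (Finset.univ \ X) \ Y, f i := by
  have h1 := Finset.sum_sdiff (Finset.subset_univ X) (f := f)
  have hY : Y ⊆ Finset.univ \ X := by
    intro i hi
    rw [Finset.mem_sdiff]
    exact ⟨Finset.mem_univ i, fun hx => Finset.disjoint_left.mp hdisj hx hi⟩
  have h2 := Finset.sum_sdiff hY (f := f)
  rw [← h1, ← h2]
  abel

end NUM2

/-- PIECE NUM (the permutation character): multiplicities `m` of `π = 1_N^G`: `m ≤ a` (`π ⊆ Π`), degree `r`,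
deficiency `p - 1`, weight `n + 1`.  Then `m = a` off `X ∪ Y`, `m = 0` on `(X ∪ Y) ∖ {1}` and `∑ m² = n + 1`. -/
theorem num_perm {ι : Type*} [Fintype ι] [DecidableEq ι] (deg a m : ι → ℕ) (X Y : Finset ι)
    (sg : ι → ℤ) (d0 : ℤ) (one : ι) (p w n : ℕ) (hp : 2 ≤ p) (hw : 1 ≤ w)
    (hdisj : Disjoint X Y) (hd0 : d0 = 1 ∨ d0 = -1)
    (hone : one ∈ X) (hsg1 : sg one = 1) (ha1 : a one = 1) (hdeg1 : deg one = 1)
    (hsgX : ∀ i ∈ X, sg i = 1 ∨ sg i = -1)
    (hplus : ∀ i ∈ X, i ≠ one → sg i = 1 → deg i = 1 + n * p)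
    (hminus : ∀ i ∈ X, sg i = -1 → a i = 0)
    (hK : ∑ i ∈ (Finset.univ \ X) \ Y, a i ^ 2 = n)
    (hm1 : m one = 1) (hma : ∀ i, m i ≤ a i)
    (hmdeg : ∑ i, m i * deg i = 1 + n * p)
    (hmdef : ((p : ℤ) - 1) * ∑ i ∈ X, sg i * (m i : ℤ) + d0 * w * ∑ i ∈ Y, (m i : ℤ) = (p : ℤ) - 1)
    (hmwt : ∑ i, m i * a i = n + 1) :
    (∀ i, i ∉ X → i ∉ Y → m i = a i) ∧ (∀ i, i ∈ X ∪ Y → i ≠ one → m i = 0) ∧
      ∑ i, m i ^ 2 = n + 1 := by
  -- `m = 0` on `E−`
  have hmEm : ∀ i ∈ X, sg i = -1 → m i = 0 := fun i hi hs =>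
    Nat.le_zero.mp (by rw [← hminus i hi hs]; exact hma i)
  -- `m = 0` on `E+` (degrees)
  have hmEp : ∀ j ∈ X, j ≠ one → sg j = 1 → m j = 0 := by
    intro j hj hj1 hsj
    by_contra hne
    have hmj : 1 ≤ m j := Nat.one_le_iff_ne_zero.mpr hne
    have h1 : ∑ i ∈ ({one, j} : Finset ι), m i * deg i ≤ ∑ i, m i * deg i :=
      Finset.sum_le_sum_of_subset (Finset.subset_univ _)
    rw [Finset.sum_pair hj1.symm, hmdeg, hm1, hdeg1, hplus j hj hj1 hsj] at h1
    have h2 := Nat.mul_le_mul_right (1 + n * p) hmj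
    generalize 1 + n * p = r at h1 h2
    generalize m j * r = y at h1 h2
    omega
  have hsumX : ∑ i ∈ X, sg i * (m i : ℤ) = 1 := by
    rw [Finset.sum_eq_single_of_mem one hone]
    · rw [hsg1, hm1]; norm_num
    · intro i hi hi1
      rcases hsgX i hi with h | h
      · rw [hmEp i hi hi1 h]; simp
      · rw [hmEm i hi h]; simp
  have hsumY : ∑ i ∈ Y, m i = 0 := by
    have h := hmdef
    rw [hsumX, mul_one] at h
    have h0 : d0 * w * ∑ i ∈ Y, (m i : ℤ) = 0 := by linarith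
    have hw0 : (w : ℤ) ≠ 0 := by
      have : (1 : ℤ) ≤ w := by exact_mod_cast hw
      omega
    have hd00 : d0 ≠ 0 := by rcases hd0 with h | h <;> rw [h] <;> norm_num
    have h3 : ∑ i ∈ Y, (m i : ℤ) = 0 := by
      rcases mul_eq_zero.mp h0 with h1 | h1
      · exact absurd h1 (mul_ne_zero hd00 hw0)
      · exact h1
    exact_mod_cast h3
  have hmY : ∀ i ∈ Y, m i = 0 := fun i hi => (Finset.sum_eq_zero_iff.mp hsumY) i hi
  have hXY0 : ∀ i, i ∈ X ∪ Y → i ≠ one → m i = 0 := by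
    intro i hi hi1
    rcases Finset.mem_union.mp hi with hX | hY
    · rcases hsgX i hX with h | h
      · exact hmEp i hX hi1 h
      · exact hmEm i hX h
    · exact hmY i hY
  -- the weight equation on `D`
  have hwt := hmwt
  rw [NUM2.sum_split X Y hdisj] at hwt
  have hwX1 : ∑ i ∈ X, m i * a i = 1 := by
    rw [Finset.sum_eq_single_of_mem one hone]
    · rw [hm1, ha1]
    · intro i hi hi1
      rw [hXY0 i (Finset.mem_union_left _ hi) hi1, zero_mul]
  have hwY0 : ∑ i ∈ Y, m i * a i = 0 := by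
    apply Finset.sum_eq_zero
    intro i hi
    rw [hmY i hi, zero_mul]
  rw [hwX1, hwY0, add_zero] at hwt
  have hwD : ∑ i ∈ (Finset.univ \ X) \ Y, m i * a i = ∑ i ∈ (Finset.univ \ X) \ Y, a i ^ 2 := by
    rw [hK]; omega
  have hle : ∀ i ∈ (Finset.univ \ X) \ Y, m i * a i ≤ a i ^ 2 := by
    intro i _
    rw [sq]
    exact Nat.mul_le_mul_right _ (hma i)
  have heqD := (Finset.sum_eq_sum_iff_of_le hle).mp hwD
  have hmD : ∀ i, i ∉ X → i ∉ Y → m i = a i := by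
    intro i hiX hiY
    have hi : i ∈ (Finset.univ \ X) \ Y := by
      simp only [Finset.mem_sdiff, Finset.mem_univ, true_and]
      exact ⟨hiX, hiY⟩
    have h := heqD i hi
    rw [sq] at h
    rcases Nat.eq_zero_or_pos (a i) with h0 | hpos
    · have := hma i
      omega
    · exact Nat.eq_of_mul_eq_mul_right hpos h
  refine ⟨hmD, hXY0, ?_⟩
  rw [NUM2.sum_split X Y hdisj]
  have hsX : ∑ i ∈ X, m i ^ 2 = 1 := by
    rw [Finset.sum_eq_single_of_mem one hone]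
    · rw [hm1]; norm_num
    · intro i hi hi1
      rw [hXY0 i (Finset.mem_union_left _ hi) hi1]; norm_num
  have hsY : ∑ i ∈ Y, m i ^ 2 = 0 := by
    apply Finset.sum_eq_zero
    intro i hi
    rw [hmY i hi]; norm_num
  have hsD : ∑ i ∈ (Finset.univ \ X) \ Y, m i ^ 2 = n := by
    rw [← hK]
    apply Finset.sum_congr rfl
    intro i hi
    simp only [Finset.mem_sdiff, Finset.mem_univ, true_and] at hi
    rw [hmD i hi.1 hi.2]
  rw [hsX, hsY, hsD]
  omega

/-- PIECE NUM (`δ₀ = +1`): `u₀ = 1`. -/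
theorem num_u0 {p w t n e u0 : ℕ} (hp : p = w * t + 1) (ht : 1 ≤ t)
    (h1 : n + 1 = u0 * t) (h2 : w = 1 + e * (n + 1) + u0) (hdvd : n + 1 ∣ w * t) : u0 = 1 := by
  rw [h1] at hdvd
  have hu0w : u0 ∣ w := Nat.dvd_of_mul_dvd_mul_right (by omega) hdvd
  have h3 : u0 ∣ e * (n + 1) + u0 := by
    rw [h1]
    exact Dvd.dvd.add (Dvd.dvd.mul_left (Dvd.intro _ rfl) _) (dvd_refl _)
  have h4 : u0 ∣ 1 := by
    have h5 : w = 1 + (e * (n + 1) + u0) := by omega
    rw [h5] at hu0w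
    exact (Nat.dvd_add_left h3).mp hu0w
  exact Nat.dvd_one.mp h4

/-- PIECE NUM: `|N_G(W)| = w (n+1)` divides `|G| = p w (1 + n p)` and `n + 1 < p`, hence `(n+1) ∣ p - 1`. -/
theorem num_dvd {p w n : ℕ} (hp : p.Prime) (hw : 1 ≤ w) (hn : n + 1 < p)
    (hdvd : w * (n + 1) ∣ p * w * (1 + n * p)) : n + 1 ∣ p - 1 := by
  have h1 : w * (n + 1) ∣ w * (p * (1 + n * p)) := by
    have : p * w * (1 + n * p) = w * (p * (1 + n * p)) := by ring
    rwa [this] at hdvd
  have h2 : n + 1 ∣ p * (1 + n * p) := Nat.dvd_of_mul_dvd_mul_left (by omega) h1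
  have hcop : Nat.Coprime (n + 1) p := by
    rw [Nat.coprime_comm]
    exact (Nat.Prime.coprime_iff_not_dvd hp).mpr (fun h => by
      have := Nat.le_of_dvd (by omega) h
      omega)
  have h3 : n + 1 ∣ 1 + n * p := hcop.dvd_of_dvd_mul_left h2
  have h4 : (n + 1) * p = (1 + n * p) + (p - 1) := by
    have : 1 ≤ p := hp.pos
    have e1 : (n + 1) * p = n * p + p := by ring
    omega
  have h5 : n + 1 ∣ (1 + n * p) + (p - 1) := by
    rw [← h4]; exact Dvd.intro _ rfl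
  exact (Nat.dvd_add_right h3).mp h5

/-- PIECE NUM (`t = 1`, all `p` characters of the principal block constant `±1` on `P ∖ 1`, no `Y`): -/
theorem num_t1 {ι : Type*} [Fintype ι] [DecidableEq ι] (deg a : ι → ℕ) (X : Finset ι)
    (sg : ι → ℤ) (one : ι) (p n : ℕ) (hp : 3 ≤ p) (hn1 : 1 ≤ n) (hn : 2 * n ≤ p + 1)
    (hX : X.card = p)
    (hsg : ∀ i ∈ X, sg i = 1 ∨ sg i = -1)
    (hone : one ∈ X) (hsg1 : sg one = 1) (hdeg1 : deg one = 1) (hperf : ∀ i, deg i = 1 → i = one)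
    (hdegpos : ∀ i, 0 < deg i)
    (hwX : ∀ i ∈ X, (p : ℤ) * a i = deg i + sg i * ((p : ℤ) - 1))
    (hwD : ∀ i, i ∉ X → (p : ℤ) * a i = deg i)
    (hdvd : ∀ i, deg i ∣ p * (p - 1) * (1 + n * p))
    (hdegeq : ∑ i ∈ X, sg i * (deg i : ℤ) = 0)
    (hnorm : ∑ i, a i ^ 2 = (p - 1) * (n + 1)) :
    ∃ e : ℕ, e * (n + 1) + 2 = p ∧
      (∀ i ∈ X, i ≠ one → sg i = 1 → deg i = 1 + n * p ∧ a i = n + 1) ∧
      (∀ i ∈ X, sg i = -1 → a i = 0) ∧
      (∑ i ∈ Finset.univ \ X, a i ^ 2 = n) := by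
  have hp0 : (p : ℤ) ≠ 0 := by
    have : (3 : ℤ) ≤ p := by exact_mod_cast hp
    omega
  -- `E+`: degree `r`, weight `n + 1`
  have hEp : ∀ i ∈ X, i ≠ one → sg i = 1 → deg i = 1 + n * p ∧ a i = n + 1 := by
    intro i hi hi1 hsi
    have h1 := hwX i hi
    rw [hsi, one_mul] at h1
    have hpos := hdegpos i
    -- natural number form: p * a i + 1 = deg i + p
    have h2 : p * a i + 1 = deg i + p := by
      have : ((p * a i + 1 : ℕ) : ℤ) = ((deg i + p : ℕ) : ℤ) := by push_cast; linarith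
      exact_mod_cast this
    have ha1 : 1 ≤ a i := by
      by_contra hlt
      have : a i = 0 := by omega
      rw [this] at h2
      omega
    obtain ⟨u, hu⟩ : ∃ u, a i = u + 1 := ⟨a i - 1, by omega⟩
    have hdu : deg i = u * p + 1 := by
      rw [hu] at h2
      have : p * (u + 1) = u * p + p := by ring
      omega
    have hu1 : 1 ≤ u := by
      by_contra hlt
      have hu0 : u = 0 := by omega
      rw [hu0] at hdu
      exact hi1 (hperf i (by omega))
    have hcop : Nat.Coprime (deg i) p := by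
      rw [hdu, add_comm]
      exact (Nat.coprime_add_mul_right_left 1 p u).mpr (Nat.coprime_one_left p)
    have hd := hdvd i
    have hd' : deg i ∣ p * ((p - 1) * (1 + n * p)) := by rwa [mul_assoc] at hd
    have hd'' : deg i ∣ (p - 1) * (1 + n * p) := hcop.dvd_of_dvd_mul_left hd'
    have hun : u = n := Cfsg.Agent.Helper10.BRArith.L5 (p := p) (w := p - 1) (t := 1) (n := n) (u := u)
      (x := deg i) (by omega) (by omega) (le_refl 1) hn hu1 hdu hd''
    rw [hun] at hdu hu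
    exact ⟨by rw [hdu]; ring, hu⟩
  have ha_one : a one = 1 := by
    have h1 := hwX one hone
    rw [hsg1, hdeg1, one_mul] at h1
    have h2 : (p : ℤ) * a one = p * 1 := by push_cast at h1 ⊢; linarith
    exact_mod_cast mul_left_cancel₀ hp0 h2
  -- the key identity `∑_X sg a = p - 1`
  have hsq : ∀ i ∈ X, sg i * sg i = 1 := by
    intro i hi
    rcases hsg i hi with h | h <;> rw [h] <;> norm_num
  have hstar : ∑ i ∈ X, sg i * (a i : ℤ) = (p : ℤ) - 1 := by
    have h1 : ∑ i ∈ X, sg i * (deg i : ℤ) = ∑ i ∈ X, ((p : ℤ) * (sg i * (a i : ℤ)) - ((p : ℤ) - 1)) := by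
      apply Finset.sum_congr rfl
      intro i hi
      have h2 := hwX i hi
      have h3 : (deg i : ℤ) = (p : ℤ) * a i - sg i * ((p : ℤ) - 1) := by linarith
      rw [h3]
      have h4 := hsq i hi
      calc sg i * ((p : ℤ) * a i - sg i * ((p : ℤ) - 1))
          = (p : ℤ) * (sg i * a i) - (sg i * sg i) * ((p : ℤ) - 1) := by ring
        _ = (p : ℤ) * (sg i * a i) - ((p : ℤ) - 1) := by rw [h4, one_mul]
    rw [hdegeq, Finset.sum_sub_distrib, ← Finset.mul_sum, Finset.sum_const, hX, nsmul_eq_mul] at h1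
    have h5 : (p : ℤ) * (∑ i ∈ X, sg i * (a i : ℤ)) = (p : ℤ) * ((p : ℤ) - 1) := by linarith
    exact mul_left_cancel₀ hp0 h5
  -- norm identity split
  obtain ⟨K, hKdef⟩ : ∃ K : ℕ, K = ∑ i ∈ Finset.univ \ X, a i ^ 2 := ⟨_, rfl⟩
  have hnormZ : (∑ i ∈ X, (a i : ℤ) ^ 2) + (K : ℤ) = ((p : ℤ) - 1) * ((n : ℤ) + 1) := by
    have h1 := Finset.sum_sdiff (Finset.subset_univ X) (f := fun i => a i ^ 2)
    rw [← hKdef, hnorm] at h1
    have h2 : ((K + ∑ i ∈ X, a i ^ 2 : ℕ) : ℤ) = (((p - 1) * (n + 1) : ℕ) : ℤ) := by rw [h1]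
    have hp1 : ((p - 1 : ℕ) : ℤ) = (p : ℤ) - 1 := by omega
    push_cast at h2
    rw [hp1] at h2
    linarith
  -- `g i = a i ^ 2 - (n+1) sg i a i`
  have hg : ∑ i ∈ X, ((a i : ℤ) ^ 2 - ((n : ℤ) + 1) * (sg i * (a i : ℤ))) = -(K : ℤ) := by
    rw [Finset.sum_sub_distrib, ← Finset.mul_sum, hstar]
    linarith
  have hg_one : ((a one : ℤ) ^ 2 - ((n : ℤ) + 1) * (sg one * (a one : ℤ))) = -(n : ℤ) := by
    rw [ha_one, hsg1]; push_cast; ring
  have hg_plus : ∀ i ∈ X, i ≠ one → sg i = 1 →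
      ((a i : ℤ) ^ 2 - ((n : ℤ) + 1) * (sg i * (a i : ℤ))) = 0 := by
    intro i hi hi1 hsi
    rw [(hEp i hi hi1 hsi).2, hsi]; push_cast; ring
  have hg_minus : ∀ i ∈ X, sg i = -1 →
      ((a i : ℤ) ^ 2 - ((n : ℤ) + 1) * (sg i * (a i : ℤ))) = (a i : ℤ) ^ 2 + ((n : ℤ) + 1) * a i := by
    intro i hi hsi
    rw [hsi]; ring
  have hg_nonneg : ∀ i ∈ X.erase one, 0 ≤ ((a i : ℤ) ^ 2 - ((n : ℤ) + 1) * (sg i * (a i : ℤ))) := by
    intro i hi
    obtain ⟨hi1, hiX⟩ := Finset.mem_erase.mp hi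
    rcases hsg i hiX with h | h
    · rw [hg_plus i hiX hi1 h]
    · rw [hg_minus i hiX h]; positivity
  have hgsplit : ∑ i ∈ X, ((a i : ℤ) ^ 2 - ((n : ℤ) + 1) * (sg i * (a i : ℤ))) =
      -(n : ℤ) + ∑ i ∈ X.erase one, ((a i : ℤ) ^ 2 - ((n : ℤ) + 1) * (sg i * (a i : ℤ))) := by
    rw [← Finset.add_sum_erase X _ hone, hg_one]
  -- `a = 0` on `E−`
  have hEm : ∀ i ∈ X, sg i = -1 → a i = 0 := by
    intro j hj hsj
    by_contra hne
    have haj : (1 : ℤ) ≤ a j := by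
      have : 1 ≤ a j := Nat.one_le_iff_ne_zero.mpr hne
      exact_mod_cast this
    have hj1 : j ≠ one := by
      intro e; rw [e, hsg1] at hsj; norm_num at hsj
    have hjm : j ∈ X.erase one := Finset.mem_erase.mpr ⟨hj1, hj⟩
    have h1 := Finset.single_le_sum hg_nonneg hjm
    rw [hg_minus j hj hsj] at h1
    have h2 : (n : ℤ) + 2 ≤ (a j : ℤ) ^ 2 + ((n : ℤ) + 1) * a j := by
      have hn0 : (0 : ℤ) ≤ n := Nat.cast_nonneg n
      nlinarith
    have hK0 : (0 : ℤ) ≤ K := Nat.cast_nonneg K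
    rw [hgsplit] at hg
    linarith
  -- all terms of `g` off `one` vanish
  have hg0 : ∑ i ∈ X.erase one, ((a i : ℤ) ^ 2 - ((n : ℤ) + 1) * (sg i * (a i : ℤ))) = 0 := by
    apply Finset.sum_eq_zero
    intro i hi
    obtain ⟨hi1, hiX⟩ := Finset.mem_erase.mp hi
    rcases hsg i hiX with h | h
    · exact hg_plus i hiX hi1 h
    · rw [hg_minus i hiX h, hEm i hiX h]; push_cast; ring
  have hKn : K = n := by
    rw [hgsplit, hg0, add_zero] at hg
    have : (K : ℤ) = n := by linarith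
    exact_mod_cast this
  -- counting `E+`
  refine ⟨(X.filter (fun i => i ≠ one ∧ sg i = 1)).card, ?_, hEp, hEm, by rw [← hKdef, hKn]⟩
  have hcount : ∑ i ∈ X, sg i * (a i : ℤ) =
      1 + ((X.filter (fun i => i ≠ one ∧ sg i = 1)).card : ℤ) * ((n : ℤ) + 1) := by
    have h1 : ∑ i ∈ X, sg i * (a i : ℤ) =
        ∑ i ∈ X, ((if i = one then (1 : ℤ) else 0) +
          (if i ≠ one ∧ sg i = 1 then ((n : ℤ) + 1) else 0)) := by
      apply Finset.sum_congr rfl
      intro i hi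
      by_cases hi1 : i = one
      · rw [hi1, hsg1, ha_one]; simp
      · rcases hsg i hi with h | h
        · rw [(hEp i hi hi1 h).2, h]; simp [hi1]
        · rw [hEm i hi h, h]
          have : ¬ ((-1 : ℤ) = 1) := by norm_num
          simp [hi1, this]
    rw [h1, Finset.sum_add_distrib, Finset.sum_ite_eq' X one, if_pos hone, Finset.sum_ite,
      Finset.sum_const, Finset.sum_const_zero, add_zero, nsmul_eq_mul]
  rw [hstar] at hcount
  have : ((X.filter (fun i => i ≠ one ∧ sg i = 1)).card * (n + 1) + 2 : ℕ) = p := by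
    have h : (((X.filter (fun i => i ≠ one ∧ sg i = 1)).card * (n + 1) + 2 : ℕ) : ℤ) = (p : ℤ) := by
      push_cast; linarith
    exact_mod_cast h
  exact this

end Cfsg.Agent.Helper10.BR996
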