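import Mathlib
import Cfsg.Agent.Lib.Helper21.BTDefs

/-!
# S0997 (Brauer–Tuan), piece NUMS (helper7 for helper21): the structure step

Sections 1 (first paragraph) and 2 of `plans/S0997_proof.md`, on the numerical shadow `Num ι`.
-/

set_option autoImplicit false

namespace Cfsg.Agent.Helper21.BT

namespace NUMS

variable {ι : Type*} [Fintype ι] [DecidableEq ι] (N : Num ι)

theorem t_pos : 1 ≤ N.t := by
  have h := N.hwt
  have h2 := N.hp.two_le
  rcases Nat.eq_zero_or_pos N.t with h0 | h0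
  · rw [h0, Nat.mul_zero] at h; omega
  · exact h0

theorem w_le : N.w ≤ N.p - 1 := by
  have h := N.hwt
  have ht := t_pos N
  have h1 : N.w ≤ N.w * N.t := Nat.le_mul_of_pos_right _ ht
  omega

theorem g0_pos : 1 ≤ N.g0 := by
  rcases Nat.eq_zero_or_pos N.g0 with h0 | h0
  · have h := N.hcard
    rw [h0, Nat.mul_zero] at h
    have hw := N.hw
    have hr0 : N.r = 0 := by
      rcases Nat.mul_eq_zero.mp h with h1 | h1
      · omega
      · exact h1
    have hr := N.hr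
    rw [hr0, Nat.zero_mod] at hr
    omega
  · exact h0

/-- the two shapes of a degree in `X` -/
theorem degX {i : ι} (hi : i ∈ N.X) :
    (N.sg i = 1 ∧ ∃ u : ℕ, N.deg i = u * N.p + 1) ∨
      (N.sg i = -1 ∧ ∃ u : ℕ, N.deg i + 1 = (u + 1) * N.p) := by
  have h := N.hwX i hi
  have hpos := N.deg_pos i
  have h2 := N.hp.two_le
  rcases N.sg_pm i hi with hs | hs
  · left
    refine ⟨hs, ?_⟩
    rw [hs] at h
    have h1 : N.deg i + N.p = N.p * N.a i + 1 := by
      have : ((N.deg i : ℤ) + N.p) = (N.p : ℤ) * N.a i + 1 := by linarith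
      exact_mod_cast this
    rcases Nat.eq_zero_or_pos (N.a i) with ha | ha
    · rw [ha, Nat.mul_zero] at h1; omega
    · obtain ⟨u, hu⟩ : ∃ u, N.a i = u + 1 := ⟨N.a i - 1, by omega⟩
      refine ⟨u, ?_⟩
      rw [hu] at h1
      have h3 : N.p * (u + 1) = u * N.p + N.p := by ring
      omega
  · right
    refine ⟨hs, N.a i, ?_⟩
    rw [hs] at h
    have h1 : N.deg i + 1 = N.p * N.a i + N.p := by
      have : ((N.deg i : ℤ) + 1) = (N.p : ℤ) * N.a i + N.p := by linarith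
      exact_mod_cast this
    have h3 : (N.a i + 1) * N.p = N.p * N.a i + N.p := by ring
    omega

theorem not_dvd_degX {i : ι} (hi : i ∈ N.X) : ¬ N.p ∣ N.deg i := by
  intro hd
  have hp1 : ¬ N.p ∣ 1 := by
    intro h
    have := Nat.le_of_dvd one_pos h
    have := N.hp.two_le
    omega
  rcases degX N hi with ⟨_, u, hu⟩ | ⟨_, u, hu⟩
  · rw [hu] at hd
    exact hp1 ((Nat.dvd_add_right (Dvd.intro_left u rfl)).mp hd)
  · have h1 : N.p ∣ N.deg i + 1 := by rw [hu]; exact Dvd.intro_left (u + 1) rfl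
    exact hp1 ((Nat.dvd_add_right hd).mp h1)

theorem degX_small {i : ι} (hi : i ∈ N.X) (hlt : N.deg i < N.p - 1) : N.deg i = 1 := by
  rcases degX N hi with ⟨_, u, hu⟩ | ⟨_, u, hu⟩
  · rcases Nat.eq_zero_or_pos u with h0 | h0
    · rw [hu, h0]; simp
    · have : N.p ≤ u * N.p := Nat.le_mul_of_pos_left _ h0
      omega
  · have : N.p ≤ (u + 1) * N.p := Nat.le_mul_of_pos_left _ (Nat.succ_pos u)
    omega

theorem not_dvd_degY {j : ι} (hj : j ∈ N.Y) : ¬ N.p ∣ N.deg j := by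
  intro hd
  have h := N.hwY j hj
  have hw := N.hw
  have hwle := w_le N
  have h2 := N.hp.two_le
  have hdz : (N.p : ℤ) ∣ (N.deg j : ℤ) := Int.natCast_dvd_natCast.mpr hd
  have h1 : (N.p : ℤ) ∣ N.d0 * N.w := by
    have : N.d0 * (N.w : ℤ) = (N.p : ℤ) * N.a j - N.deg j := by linarith
    rw [this]
    exact dvd_sub (dvd_mul_right _ _) hdz
  have h3 : (N.p : ℤ) ∣ (N.w : ℤ) := by
    rcases N.d0_pm with hd0 | hd0
    · rw [hd0, one_mul] at h1; exact h1
    · rw [hd0] at h1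
      have : (N.p : ℤ) ∣ -((-1 : ℤ) * N.w) := (dvd_neg).mpr h1
      simpa using this
  have h4 : N.p ∣ N.w := Int.natCast_dvd_natCast.mp h3
  have := Nat.le_of_dvd (by omega) h4
  omega

theorem dvd_g0 {i : ι} (hp : ¬ N.p ∣ N.deg i) (hq : ¬ N.q ∣ N.deg i) : N.deg i ∣ N.g0 := by
  have h := N.hdvd i
  have c1 : Nat.Coprime (N.deg i) N.p := ((Nat.Prime.coprime_iff_not_dvd N.hp).2 hp).symm
  have c2 : Nat.Coprime (N.deg i) (N.q ^ N.b) :=
    Nat.Coprime.pow_right _ ((Nat.Prime.coprime_iff_not_dvd N.hq).2 hq).symm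
  have c3 : Nat.Coprime (N.deg i) (N.p * N.q ^ N.b) := Nat.Coprime.mul_right c1 c2
  exact (Nat.Coprime.dvd_mul_left c3).mp h

theorem Y_nonempty : N.Y.Nonempty := by
  rw [← Finset.card_pos, N.cardY]
  exact t_pos N

/-- some nontrivial member of the block has degree prime to `q` -/
theorem exists_psi : ∃ i, i ∈ N.X ∪ N.Y ∧ i ≠ N.one ∧ ¬ N.q ∣ N.deg i := by
  by_contra hcon
  push Not at hcon
  obtain ⟨j, hj⟩ := Y_nonempty N
  have hdeg := N.degeq j hj
  have hq1 : ¬ (N.q : ℤ) ∣ 1 := by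
    intro h
    have h1 : N.q ∣ 1 := by exact_mod_cast h
    have := Nat.le_of_dvd one_pos h1
    have := N.hq.two_le
    omega
  by_cases h1X : N.one ∈ N.X
  · -- `one ∈ X`
    have hjne : j ≠ N.one := by
      intro h
      rw [h] at hj
      exact (Finset.disjoint_left.mp N.disj h1X) hj
    have hqj : (N.q : ℤ) ∣ N.d0 * (N.deg j : ℤ) :=
      Dvd.dvd.mul_left (Int.natCast_dvd_natCast.mpr
        (hcon j (Finset.mem_union_right _ hj) hjne)) _
    have hsum : (N.q : ℤ) ∣ ∑ i ∈ N.X.erase N.one, N.sg i * (N.deg i : ℤ) := by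
      apply Finset.dvd_sum
      intro i hi
      have hi' := Finset.mem_erase.mp hi
      exact Dvd.dvd.mul_left (Int.natCast_dvd_natCast.mpr
        (hcon i (Finset.mem_union_left _ hi'.2) hi'.1)) _
    have hsplit := Finset.add_sum_erase N.X (fun i => N.sg i * (N.deg i : ℤ)) h1X
    rw [N.sg_one h1X, N.deg_one] at hsplit
    apply hq1
    have h3 : (1 : ℤ) = -(∑ i ∈ N.X.erase N.one, N.sg i * (N.deg i : ℤ)) -
        N.d0 * (N.deg j : ℤ) := by
      have : ((1 : ℤ) * ((1 : ℕ) : ℤ)) = 1 := by norm_num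
      linarith
    rw [h3]
    exact dvd_sub ((dvd_neg).mpr hsum) hqj
  · -- `one ∈ Y`
    have h1Y : N.one ∈ N.Y := by
      rcases Finset.mem_union.mp N.one_mem with h | h
      · exact absurd h h1X
      · exact h
    have hdj : N.deg j = 1 := by rw [N.degY j hj N.one h1Y, N.deg_one]
    have hsum : (N.q : ℤ) ∣ ∑ i ∈ N.X, N.sg i * (N.deg i : ℤ) := by
      apply Finset.dvd_sum
      intro i hi
      have hine : i ≠ N.one := by
        intro h
        rw [h] at hi
        exact h1X hi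
      exact Dvd.dvd.mul_left (Int.natCast_dvd_natCast.mpr
        (hcon i (Finset.mem_union_left _ hi) hine)) _
    rw [hdj] at hdeg
    have h3 : N.d0 = -(∑ i ∈ N.X, N.sg i * (N.deg i : ℤ)) := by
      have : (N.d0 * ((1 : ℕ) : ℤ)) = N.d0 := by norm_num
      linarith
    have h4 : (N.q : ℤ) ∣ N.d0 := by rw [h3]; exact (dvd_neg).mpr hsum
    rcases N.d0_pm with hd0 | hd0
    · rw [hd0] at h4; exact hq1 h4
    · rw [hd0] at h4; exact hq1 ((dvd_neg).mp h4)

/-- the weight of an exceptional character of small degree -/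
theorem weightY {j : ι} (hj : j ∈ N.Y) {x0 : ℕ} (hx : N.deg j = x0) (h1 : 1 < x0)
    (hlt : x0 < N.p - 1) :
    (N.d0 = -1 ∧ x0 = N.w ∧ N.a j = 0) ∨ (N.d0 = 1 ∧ x0 + N.w = N.p ∧ N.a j = 1) := by
  have h := N.hwY j hj
  rw [hx] at h
  have hw := N.hw
  have hwle := w_le N
  have h2 := N.hp.two_le
  rcases N.d0_pm with hd0 | hd0
  · right
    rw [hd0, one_mul] at h
    have h' : N.p * N.a j = x0 + N.w := by exact_mod_cast h
    rcases Nat.eq_zero_or_pos (N.a j) with ha | ha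
    · rw [ha, Nat.mul_zero] at h'; omega
    · rcases Nat.lt_or_ge (N.a j) 2 with ha2 | ha2
      · have ha1 : N.a j = 1 := by omega
        rw [ha1, Nat.mul_one] at h'
        exact ⟨hd0, h'.symm, ha1⟩
      · have : N.p * 2 ≤ N.p * N.a j := Nat.mul_le_mul_left _ ha2
        omega
  · left
    rw [hd0] at h
    have h' : N.p * N.a j + N.w = x0 := by
      have : ((N.p : ℤ) * N.a j + N.w) = x0 := by linarith
      exact_mod_cast this
    rcases Nat.eq_zero_or_pos (N.a j) with ha | ha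
    · rw [ha, Nat.mul_zero, Nat.zero_add] at h'
      exact ⟨hd0, h'.symm, ha⟩
    · have : N.p * 1 ≤ N.p * N.a j := Nat.mul_le_mul_left _ ha
      omega

end NUMS

namespace Num

variable {ι : Type*} [Fintype ι] [DecidableEq ι] (N : Num ι)

/-- PIECE NUMS (sections 1 (first paragraph) and 2 of the paper proof). -/
theorem exists_struct : ∃ x0 : ℕ, N.Struct x0 ∧
    ((N.d0 = -1 ∧ x0 = N.w ∧ N.t = 2 ∧ ∀ j ∈ N.Y, N.a j = 0) ∨
      (N.d0 = 1 ∧ x0 + N.w = N.p ∧ ∀ j ∈ N.Y, N.a j = 1)) := by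
  obtain ⟨ψ, hψmem, hψne, hψq⟩ := NUMS.exists_psi N
  have hw := N.hw
  have hwle := NUMS.w_le N
  have h2 := N.hp.two_le
  have hg0 := N.hg0
  have hg0pos := NUMS.g0_pos N
  have htpos := NUMS.t_pos N
  have hwt := N.hwt
  -- `p ∤ ψ(1)`, so `ψ(1) ∣ g0`
  have hψp : ¬ N.p ∣ N.deg ψ := by
    rcases Finset.mem_union.mp hψmem with h | h
    · exact NUMS.not_dvd_degX N h
    · exact NUMS.not_dvd_degY N h
  have hψg : N.deg ψ ∣ N.g0 := NUMS.dvd_g0 N hψp hψq
  have hψle : N.deg ψ ≤ N.g0 := Nat.le_of_dvd hg0pos hψg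
  have hψ1 : 1 < N.deg ψ := by
    have hpos := N.deg_pos ψ
    rcases Nat.lt_or_ge 1 (N.deg ψ) with h | h
    · exact h
    · exact absurd (N.eq_one ψ (by omega)) hψne
  -- `ψ ∈ Y`
  have hψY : ψ ∈ N.Y := by
    rcases Finset.mem_union.mp hψmem with h | h
    · have := NUMS.degX_small N h (by omega)
      omega
    · exact h
  set x0 := N.deg ψ with hx0
  have hdegY : ∀ j ∈ N.Y, N.deg j = x0 := fun j hj => N.degY j hj ψ hψY
  have hfaith : N.p ≤ 2 * x0 + 1 := N.faith ψ hψne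
  -- `g0 = x0`
  have hgx : N.g0 = x0 := by
    obtain ⟨k, hk⟩ := hψg
    rcases Nat.lt_or_ge k 2 with hk2 | hk2
    · have hk1 : k = 1 := by
        rcases Nat.eq_zero_or_pos k with h0 | h0
        · rw [h0, Nat.mul_zero] at hk; omega
        · omega
      rw [hk, hk1, Nat.mul_one]
    · have : x0 * 2 ≤ x0 * k := Nat.mul_le_mul_left _ hk2
      omega
  -- `q ∣ χ(1)` on `X ∖ 1`
  have hqX : ∀ i ∈ N.X, i ≠ N.one → N.q ∣ N.deg i := by
    intro i hi hne
    by_contra hnq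
    have hd : N.deg i ∣ N.g0 := NUMS.dvd_g0 N (NUMS.not_dvd_degX N hi) hnq
    have hle : N.deg i ≤ N.g0 := Nat.le_of_dvd hg0pos hd
    exact hne (N.eq_one i (NUMS.degX_small N hi (by omega)))
  -- `b ≥ 1`
  have hb : 1 ≤ N.b := by
    rcases Nat.eq_zero_or_pos N.b with hb0 | hb0
    · exfalso
      -- some `i ∈ X`, `i ≠ one`
      have hcard : 1 < N.X.card := by rw [N.cardX]; omega
      obtain ⟨i, hi, hine⟩ := Finset.exists_mem_ne hcard N.one
      have hqi := hqX i hi hine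
      have hdv := N.hdvd i
      rw [hb0, pow_zero, Nat.mul_one, hgx] at hdv
      have hq2 : N.q ∣ N.p * x0 := dvd_trans hqi hdv
      rcases (Nat.Prime.dvd_mul N.hq).mp hq2 with h | h
      · exact N.hpq ((Nat.prime_dvd_prime_iff_eq N.hq N.hp).mp h).symm
      · exact hψq h
    · exact hb0
  -- the two cases
  have hcases := NUMS.weightY N hψY rfl hψ1 (by omega)
  have hall : ∀ j ∈ N.Y, (N.d0 = -1 ∧ x0 = N.w ∧ N.a j = 0) ∨
      (N.d0 = 1 ∧ x0 + N.w = N.p ∧ N.a j = 1) := fun j hj =>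
    NUMS.weightY N hj (hdegY j hj) hψ1 (by omega)
  rcases hcases with ⟨hd0, hxw, _⟩ | ⟨hd0, hxw, _⟩
  · -- `d0 = -1`
    have ht2 : N.t = 2 := by
      -- `w t = p - 1 ≤ 2 w`, `w < p - 1`
      have h1 : N.w * N.t ≤ 2 * N.w := by omega
      have h3 : N.t ≤ 2 := by
        by_contra hcon
        have : N.w * 3 ≤ N.w * N.t := Nat.mul_le_mul_left _ (by omega)
        omega
      have h4 : N.t ≠ 1 := by
        intro h
        rw [h, Nat.mul_one] at hwt
        omega
      omega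
    refine ⟨x0, ⟨by omega, hb, hdegY, hgx, hψq, hqX⟩, Or.inl ⟨hd0, hxw, ht2, ?_⟩⟩
    intro j hj
    rcases hall j hj with ⟨_, _, ha⟩ | ⟨hd1, _, _⟩
    · exact ha
    · rw [hd0] at hd1; omega
  · -- `d0 = 1`
    have ht2 : 2 ≤ N.t := by
      rcases Nat.lt_or_ge N.t 2 with h | h
      · have h1 : N.t = 1 := by omega
        rw [h1, Nat.mul_one] at hwt
        omega
      · exact h
    refine ⟨x0, ⟨ht2, hb, hdegY, hgx, hψq, hqX⟩, Or.inr ⟨hd0, hxw, ?_⟩⟩
    intro j hj
    rcases hall j hj with ⟨hd1, _, _⟩ | ⟨_, _, ha⟩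
    · rw [hd0] at hd1; omega
    · exact ha

end Num

end Cfsg.Agent.Helper21.BT
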