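import Mathlib
import Cfsg.Agent.Lib.Helper21.BTDefs
import Cfsg.Agent.Lib.Helper7.BTNUMS

/-!
# S0997 (Brauer–Tuan), piece NUMA (helper7 for helper21): case A

Sections 4 and 6 (case A) of `plans/S0997_proof.md`, on the numerical shadow `Num ι`:
`d0 = -1`, `t = 2`, `x0 = w = (p - 1) / 2`.
-/

set_option autoImplicit false

namespace Cfsg.Agent.Helper21.BT

namespace NUMA

variable {ι : Type*} [Fintype ι] [DecidableEq ι] (N : Num ι)

/-- `hwX` over `ℕ` -/
theorem degX' {i : ι} (hi : i ∈ N.X) :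
    (N.sg i = 1 ∧ N.deg i + N.p = N.p * N.a i + 1) ∨
      (N.sg i = -1 ∧ N.deg i + 1 = N.p * N.a i + N.p) := by
  have h := N.hwX i hi
  rcases N.sg_pm i hi with hs | hs
  · left
    refine ⟨hs, ?_⟩
    rw [hs] at h
    have : ((N.deg i : ℤ) + N.p) = (N.p : ℤ) * N.a i + 1 := by linarith
    exact_mod_cast this
  · right
    refine ⟨hs, ?_⟩
    rw [hs] at h
    have : ((N.deg i : ℤ) + 1) = (N.p : ℤ) * N.a i + N.p := by linarith
    exact_mod_cast this

/-- (WT): `∑_X δ A(χ) + δ₀ A(θ) = w` -/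
theorem weight_sum' {j : ι} (hj : j ∈ N.Y) :
    ∑ i ∈ N.X, N.sg i * (N.a i : ℤ) + N.d0 * (N.a j : ℤ) = N.w := by
  have hp0 : (N.p : ℤ) ≠ 0 := by
    have := N.hp.pos
    exact_mod_cast this.ne'
  have h1 : ∀ i ∈ N.X, (N.p : ℤ) * (N.sg i * (N.a i : ℤ)) = N.sg i * (N.deg i : ℤ) + ((N.p : ℤ) - 1) := by
    intro i hi
    have h := N.hwX i hi
    rcases N.sg_pm i hi with hs | hs
    · rw [hs] at h ⊢; linarith
    · rw [hs] at h ⊢; linarith
  have h2 : (N.p : ℤ) * (N.d0 * (N.a j : ℤ)) = N.d0 * (N.deg j : ℤ) + N.w := by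
    have h := N.hwY j hj
    rcases N.d0_pm with hs | hs
    · rw [hs] at h ⊢; linarith
    · rw [hs] at h ⊢; linarith
  have h3 : (N.p : ℤ) * (∑ i ∈ N.X, N.sg i * (N.a i : ℤ) + N.d0 * (N.a j : ℤ)) = (N.p : ℤ) * N.w := by
    rw [mul_add, Finset.mul_sum, Finset.sum_congr rfl h1, Finset.sum_add_distrib, Finset.sum_const,
      N.cardX, h2, nsmul_eq_mul]
    have := N.degeq j hj
    linarith
  exact mul_left_cancel₀ hp0 h3

theorem aux_false (w : ℕ) (h : (2 * w + 1 + 1) * (2 * w + 1) + 1 ≤ w ^ 2) : False := by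
  nlinarith

end NUMA

namespace Num

variable {ι : Type*} [Fintype ι] [DecidableEq ι] (N : Num ι)

/-- PIECE NUMA (sections 4 and 6, case A). -/
theorem caseA {x0 : ℕ} (hS : N.Struct x0) (hd0 : N.d0 = -1) (hxw : x0 = N.w) (ht : N.t = 2)
    (haY : ∀ j ∈ N.Y, N.a j = 0) (hΔ : N.HasDelta x0) (hB : N.HasBlk x0) :
    N.q = 2 ∧ (∃ m : ℕ, N.p + 1 = 2 ^ m) ∧ N.r = N.p + 1 := by
  classical
  subst hxw
  obtain ⟨m1, m2, hm, hd1, hd2, ha1, ha2⟩ := hΔ
  have hw := N.hw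
  have h2 := N.hp.two_le
  have hp : N.p = 2 * N.w + 1 := by
    have := N.hwt
    rw [ht] at this
    omega
  have h1X : N.one ∈ N.X := N.one_memX (by omega)
  have hsg1 := N.sg_one h1X
  have hdeg1 := N.deg_one
  -- the weight of the principal character
  have ha1one : N.a N.one = 1 := by
    rcases NUMA.degX' N h1X with ⟨_, h⟩ | ⟨hs, _⟩
    · rw [hdeg1] at h
      have h3 : N.p * 1 = N.p * N.a N.one := by omega
      exact (Nat.eq_of_mul_eq_mul_left (by omega) h3).symm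
    · rw [hsg1] at hs; omega
  -- the three parts of `X`
  set Em := N.X.filter (fun i => N.sg i = -1) with hEmdef
  set Xp := N.X.filter (fun i => ¬ N.sg i = -1) with hXpdef
  set Ep := Xp.erase N.one with hEpdef
  have h1Xp : N.one ∈ Xp := Finset.mem_filter.mpr ⟨h1X, by rw [hsg1]; norm_num⟩
  have hsplit : ∀ f : ι → ℤ, ∑ i ∈ N.X, f i = ∑ i ∈ Em, f i + (f N.one + ∑ i ∈ Ep, f i) := by
    intro f
    rw [← Finset.sum_filter_add_sum_filter_not N.X (fun i => N.sg i = -1) f,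
      Finset.add_sum_erase Xp f h1Xp]
  have hEm : ∀ i ∈ Em, i ∈ N.X ∧ N.sg i = -1 := fun i hi => Finset.mem_filter.mp hi
  have hEp : ∀ i ∈ Ep, i ∈ N.X ∧ i ≠ N.one ∧ N.sg i = 1 := by
    intro i hi
    have h := Finset.mem_erase.mp hi
    have h' := Finset.mem_filter.mp h.2
    exact ⟨h'.1, h.1, (N.sg_pm i h'.1).resolve_right h'.2⟩
  have hcardsplit : N.w = Em.card + (1 + Ep.card) := by
    have h := hsplit (fun _ => (1 : ℤ))
    simp only [Finset.sum_const, nsmul_eq_mul, mul_one, N.cardX] at h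
    exact_mod_cast h
  -- (F1), (F2)
  have hF1 : ∀ i, m2 i * N.a i = 0 := by
    have h0 : N.p * ∑ i, m2 i * N.a i = 0 := by omega
    have h00 : ∑ i, m2 i * N.a i = 0 := by
      rcases Nat.mul_eq_zero.mp h0 with h | h
      · omega
      · exact h
    intro i
    exact (Finset.sum_eq_zero_iff.mp h00) i (Finset.mem_univ i)
  have hF2 : ∑ i, m1 i * N.a i = N.w := by
    have h0 : N.p * ∑ i, m1 i * N.a i = N.p * N.w := by omega
    exact Nat.eq_of_mul_eq_mul_left (by omega) h0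
  -- `E-`
  have hEmdeg : ∀ i ∈ Em, N.deg i = 2 * N.w ∧ 1 ≤ m2 i ∧ N.a i = 0 := by
    intro i hi
    obtain ⟨hiX, hs⟩ := hEm i hi
    have hmi := hm i hiX
    rw [hs] at hmi
    have hm2 : 1 ≤ m2 i := by omega
    have hai : N.a i = 0 := by
      rcases Nat.mul_eq_zero.mp (hF1 i) with h | h
      · omega
      · exact h
    rcases NUMA.degX' N hiX with ⟨hs', _⟩ | ⟨_, h⟩
    · rw [hs] at hs'; omega
    · rw [hai, Nat.mul_zero] at h
      exact ⟨by omega, hm2, hai⟩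
  have h4 : 2 * Em.card ≤ N.w := by
    have h : Em.card * (2 * N.w) ≤ N.w ^ 2 := by
      calc Em.card * (2 * N.w) = Em.card • (2 * N.w) := by rw [smul_eq_mul]
        _ ≤ ∑ i ∈ Em, m2 i * N.deg i := Finset.card_nsmul_le_sum _ _ _ (fun i hi => by
            obtain ⟨hd, hm', _⟩ := hEmdeg i hi
            rw [hd]
            exact Nat.le_mul_of_pos_left _ hm')
        _ ≤ ∑ i, m2 i * N.deg i := Finset.sum_le_sum_of_subset (Finset.subset_univ _)
        _ = N.w ^ 2 := hd2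
    nlinarith
  -- (F5)
  have hale : ∀ i, N.a i ≤ N.deg i := by
    intro i
    by_cases hiX : i ∈ N.X
    · rcases NUMA.degX' N hiX with ⟨_, h⟩ | ⟨_, h⟩
      · rcases Nat.eq_zero_or_pos (N.a i) with h0 | h0
        · rw [h0]; exact Nat.zero_le _
        · obtain ⟨k, hk⟩ : ∃ k, N.a i = k + 1 := ⟨N.a i - 1, by omega⟩
          rw [hk] at h ⊢
          have e1 : N.p * (k + 1) = N.p * k + N.p := by ring
          have e2 : 2 * k ≤ N.p * k := Nat.mul_le_mul_right _ h2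
          omega
      · have e2 : 2 * N.a i ≤ N.p * N.a i := Nat.mul_le_mul_right _ h2
        omega
    · by_cases hiY : i ∈ N.Y
      · rw [haY i hiY]; exact Nat.zero_le _
      · have h := N.hwD i hiX hiY
        calc N.a i ≤ N.p * N.a i := Nat.le_mul_of_pos_left _ (by omega)
          _ = N.deg i := h
  -- `E+`
  have hEp6 : ∀ i ∈ Ep, 2 ≤ N.a i ∧ N.deg i - N.a i = 2 * N.w * (N.a i - 1) ∧ 1 ≤ m1 i ∧
      N.deg i + N.p = N.p * N.a i + 1 := by
    intro i hi
    obtain ⟨hiX, hine, hs⟩ := hEp i hi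
    have hmi := hm i hiX
    rw [hs] at hmi
    have hm1 : 1 ≤ m1 i := by omega
    rcases NUMA.degX' N hiX with ⟨_, h⟩ | ⟨hs', _⟩
    · have ha2 : 2 ≤ N.a i := by
        rcases Nat.lt_or_ge (N.a i) 2 with hlt | hge
        · exfalso
          rcases Nat.eq_zero_or_pos (N.a i) with h0 | h0
          · rw [h0, Nat.mul_zero] at h; omega
          · have h1 : N.a i = 1 := by omega
            rw [h1, Nat.mul_one] at h
            exact hine (N.eq_one i (by omega))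
        · exact hge
      obtain ⟨k, hk⟩ : ∃ k, N.a i = k + 2 := ⟨N.a i - 2, by omega⟩
      refine ⟨ha2, ?_, hm1, h⟩
      rw [hk] at h ⊢
      have e1 : N.p * (k + 2) = N.p * (k + 1) + N.p := by ring
      have e2 : N.p * (k + 1) = 2 * N.w * (k + 1) + (k + 1) := by rw [hp]; ring
      have e3 : k + 2 - 1 = k + 1 := by omega
      rw [e3]
      omega
    · rw [hs] at hs'; omega
  -- (F7)
  have h7 : ∑ i, m1 i * (N.deg i - N.a i) + N.w = N.w ^ 2 := by
    have h : ∑ i, m1 i * (N.deg i - N.a i) + ∑ i, m1 i * N.a i = ∑ i, m1 i * N.deg i := by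
      rw [← Finset.sum_add_distrib]
      refine Finset.sum_congr rfl (fun i _ => ?_)
      rw [← Nat.mul_add, Nat.sub_add_cancel (hale i)]
    rw [hF2, hd1] at h
    exact h
  -- (F8), (F9)
  have h8 : 2 * (∑ i ∈ Ep, (N.a i - 1)) + 1 ≤ N.w := by
    have h : (2 * N.w) * (∑ i ∈ Ep, (N.a i - 1)) ≤ ∑ i, m1 i * (N.deg i - N.a i) := by
      calc (2 * N.w) * (∑ i ∈ Ep, (N.a i - 1)) = ∑ i ∈ Ep, 2 * N.w * (N.a i - 1) := Finset.mul_sum _ _ _
        _ ≤ ∑ i ∈ Ep, m1 i * (N.deg i - N.a i) := Finset.sum_le_sum (fun i hi => by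
            obtain ⟨_, hd, hm', _⟩ := hEp6 i hi
            rw [hd]
            exact Nat.le_mul_of_pos_left _ hm')
        _ ≤ ∑ i, m1 i * (N.deg i - N.a i) := Finset.sum_le_sum_of_subset (Finset.subset_univ _)
    nlinarith
  have h9 : Ep.card ≤ ∑ i ∈ Ep, (N.a i - 1) := by
    have := Finset.card_nsmul_le_sum Ep (fun i => N.a i - 1) 1 (fun i hi => by
      have := (hEp6 i hi).1
      omega)
    simpa using this
  have hU : ∑ i ∈ Ep, (N.a i - 1) = Ep.card := by omega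
  have hall : ∀ i ∈ Ep, N.a i = 2 := by
    intro i hi
    by_contra hne
    have h3 : 3 ≤ N.a i := by
      have := (hEp6 i hi).1
      omega
    have hsp := Finset.add_sum_erase Ep (fun i => N.a i - 1) hi
    have hle : (Ep.erase i).card ≤ ∑ x ∈ Ep.erase i, (N.a x - 1) := by
      have := Finset.card_nsmul_le_sum (Ep.erase i) (fun x => N.a x - 1) 1 (fun x hx => by
        have := (hEp6 x (Finset.mem_of_mem_erase hx)).1
        omega)
      simpa using this
    have hc : (Ep.erase i).card = Ep.card - 1 := Finset.card_erase_of_mem hi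
    have hpos : 1 ≤ Ep.card := Finset.card_pos.mpr ⟨i, hi⟩
    omega
  have hEpdeg : ∀ i ∈ Ep, N.deg i = N.p + 1 := by
    intro i hi
    obtain ⟨_, _, _, h⟩ := hEp6 i hi
    rw [hall i hi] at h
    omega
  -- (WT)
  have hwt : N.w = 1 + 2 * Ep.card := by
    obtain ⟨j, hj⟩ := NUMS.Y_nonempty N
    have h := NUMA.weight_sum' N hj
    rw [haY j hj, hsplit] at h
    have e1 : ∑ i ∈ Em, N.sg i * (N.a i : ℤ) = 0 := by
      apply Finset.sum_eq_zero
      intro i hi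
      rw [(hEmdeg i hi).2.2]
      simp
    have e2 : ∑ i ∈ Ep, N.sg i * (N.a i : ℤ) = 2 * (Ep.card : ℤ) := by
      rw [Finset.sum_congr rfl (fun i hi => by
        rw [(hEp i hi).2.2, hall i hi] : ∀ i ∈ Ep, N.sg i * (N.a i : ℤ) = (1 : ℤ) * ((2 : ℕ) : ℤ))]
      rw [Finset.sum_const, nsmul_eq_mul]
      push_cast
      ring
    rw [e1, e2, hsg1, ha1one] at h
    have : (N.w : ℤ) = 1 + 2 * (Ep.card : ℤ) := by
      push_cast at h
      linarith
    exact_mod_cast this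
  have hEmcard : Em.card = Ep.card := by omega
  have hEppos : 1 ≤ Ep.card := by omega
  -- (F12)
  obtain ⟨i0, hi0⟩ := Finset.card_pos.mp hEppos
  have hdv0 := N.hdvd i0
  rw [hEpdeg i0 hi0, hS.hg] at hdv0
  have hwodd : ¬ 2 ∣ N.w := by omega
  have c1 : Nat.Coprime (N.p + 1) N.p := by simp
  have c2 : Nat.Coprime (N.p + 1) N.w := by
    have e : N.p + 1 = 2 + 2 * N.w := by omega
    rw [e, Nat.coprime_add_mul_right_left]
    exact (Nat.Prime.coprime_iff_not_dvd Nat.prime_two).2 hwodd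
  have hdvq : N.p + 1 ∣ N.q ^ N.b :=
    Nat.Coprime.dvd_of_dvd_mul_left c1 (Nat.Coprime.dvd_of_dvd_mul_right c2 hdv0)
  obtain ⟨m, hmb, hpm⟩ := (Nat.dvd_prime_pow N.hq).mp hdvq
  have hq2 : N.q = 2 := by
    have h2q : 2 ∣ N.q ^ m := by rw [← hpm]; omega
    have := Nat.Prime.dvd_of_dvd_pow Nat.prime_two h2q
    exact ((Nat.prime_dvd_prime_iff_eq Nat.prime_two N.hq).mp this).symm
  rw [hq2] at hpm
  refine ⟨hq2, ⟨m, hpm⟩, ?_⟩
  -- (F13): the principal 2-block
  obtain ⟨S, c, hSX, hc, h1S, hpow, hdiv⟩ := hB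
  have h1S' : N.one ∈ S := h1S h1X
  have hSerase : ∀ i ∈ S.erase N.one, i ∈ Em := by
    intro i hi
    have h := Finset.mem_erase.mp hi
    have hiX := hSX h.2
    rcases N.sg_pm i hiX with hs | hs
    · exfalso
      have hiEp : i ∈ Ep := by
        rw [hEpdef]
        refine Finset.mem_erase.mpr ⟨h.1, Finset.mem_filter.mpr ⟨hiX, ?_⟩⟩
        rw [hs]; norm_num
      exact hpow i h.2 h.1 m (by rw [hEpdeg i hiEp, hpm])
    · exact Finset.mem_filter.mpr ⟨hiX, hs⟩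
  have hecard : (S.erase N.one).card ≤ Ep.card := by
    rw [← hEmcard]
    exact Finset.card_le_card (fun i hi => hSerase i hi)
  set e' := (S.erase N.one).card with he'
  have hsumS : ∑ i ∈ S, N.sg i * (N.deg i : ℤ) = 1 - 2 * ((e' : ℤ) * N.w) := by
    rw [← Finset.add_sum_erase S _ h1S', hsg1, hdeg1]
    rw [Finset.sum_congr rfl (fun i hi => by
      have hiEm := hSerase i hi
      rw [(hEm i hiEm).2, (hEmdeg i hiEm).1] :
        ∀ i ∈ S.erase N.one, N.sg i * (N.deg i : ℤ) = (-1 : ℤ) * ((2 * N.w : ℕ) : ℤ))]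
    rw [Finset.sum_const, nsmul_eq_mul]
    push_cast
    ring
  have hb1 := hS.hb
  have hgw : N.g0 = N.w := hS.hg
  have hdvb : 2 ^ N.b ∣ N.p * N.q ^ N.b * N.g0 := by
    rw [hq2]
    exact Dvd.dvd.mul_right (Dvd.intro_left _ rfl) _
  have hdv1 : 2 ^ 1 ∣ N.p * N.q ^ N.b * N.g0 :=
    dvd_trans (pow_dvd_pow 2 hb1) hdvb
  have hD1 := hdiv 1 hdv1
  have hDb := hdiv N.b hdvb
  rw [hsumS, hd0] at hD1 hDb
  -- `c = 1`
  have hc1 : c = 1 := by
    rcases hc with hc0 | hc1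
    · exfalso
      rw [hc0] at hD1
      norm_num at hD1
      omega
    · exact hc1
  rw [hc1] at hDb
  -- `V`
  obtain ⟨V, hV⟩ : ∃ V : ℕ, V + 1 = N.w + 2 * (e' * N.w) := ⟨N.w + 2 * (e' * N.w) - 1, by omega⟩
  have hVdvd : 2 ^ N.b ∣ V := by
    have hz : ((2 : ℤ) ^ N.b) ∣ (V : ℤ) := by
      have e : (V : ℤ) = -(1 - 2 * ((e' : ℤ) * N.w) + 1 * -1 * (N.w : ℤ)) := by
        have : ((V : ℤ) + 1) = N.w + 2 * ((e' : ℤ) * N.w) := by exact_mod_cast hV
        linarith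
      rw [e]
      exact (dvd_neg).mpr hDb
    exact_mod_cast hz
  have hVpos : 0 < V := by omega
  have hVle : 2 ^ N.b ≤ V := Nat.le_of_dvd hVpos hVdvd
  have hVw : V + 1 ≤ N.w ^ 2 := by
    have h1 : 2 * (e' * N.w) ≤ 2 * (Ep.card * N.w) :=
      Nat.mul_le_mul_left _ (Nat.mul_le_mul_right _ hecard)
    have h3 : N.w ^ 2 = N.w + 2 * (Ep.card * N.w) := by
      rw [hwt]; ring
    omega
  -- `r = 2^b`
  have hr : N.r = 2 ^ N.b := by
    have h := N.hcard
    rw [hq2, hgw, Nat.mul_comm (2 ^ N.b) N.w] at h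
    exact Nat.eq_of_mul_eq_mul_left (by omega) h
  obtain ⟨s, hs⟩ : ∃ s, N.b = m + s := ⟨N.b - m, by omega⟩
  obtain ⟨T, hT⟩ : ∃ T : ℕ, T = 2 ^ s := ⟨_, rfl⟩
  have hrs : N.r = (N.p + 1) * T := by rw [hr, hs, pow_add, hpm, hT]
  have hslt : T < N.p := by
    by_contra hcon
    have hge : N.p ≤ T := by omega
    have h1 : (N.p + 1) * N.p ≤ (N.p + 1) * T := Nat.mul_le_mul_left _ hge
    have h3 : (N.p + 1) * T + 1 ≤ N.w ^ 2 := by
      rw [← hrs, hr]; omega
    have h5 : (N.p + 1) * N.p + 1 ≤ N.w ^ 2 := by omega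
    rw [hp] at h5
    exact NUMA.aux_false N.w h5
  have hmod : T = 1 := by
    have h : ((N.p + 1) * T) % N.p = 1 := by rw [← hrs]; exact N.hr
    have e : (N.p + 1) * T = N.p * T + T := by ring
    rw [e, Nat.mul_add_mod, Nat.mod_eq_of_lt hslt] at h
    exact h
  rw [hrs, hmod, Nat.mul_one]

end Num

end Cfsg.Agent.Helper21.BT
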