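import Mathlib
import Cfsg.Prelude.Def_Local
import Cfsg.Prelude.Def_Balance
import Cfsg.Agent.S0030
import Cfsg.Agent.Lib.Helper1.Coprime

set_option autoImplicit false

namespace Cfsg.Agent.Helper7

open Subgroup

variable {G : Type*} [Group G]

/-- The centralizer of the cyclic group generated by `a` is the centralizer of `a`. -/
theorem centralizer_zpowers_eq (a : G) :
    Subgroup.centralizer ((Subgroup.zpowers a : Subgroup G) : Set G) = Subgroup.centralizer {a} := by
  rw [Subgroup.zpowers_eq_closure, Subgroup.centralizer_closure]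

/-- A nonidentity element of an elementary abelian `p`-group generates a group of order `p`. -/
theorem card_zpowers_of_isElementaryAbelian {p : ℕ} [hp : Fact p.Prime] {A : Subgroup G}
    (hA : Cfsg.IsElementaryAbelian p A) {a : G} (ha : a ∈ A) (ha1 : a ≠ 1) :
    Nat.card (Subgroup.zpowers a) = p := by
  rw [Nat.card_zpowers]
  exact orderOf_eq_prime (hA.2 a ha) ha1

/-- If `Y` normalizes `X` then `X` is normal in `X ⊔ Y`. -/
theorem normal_subgroupOf_sup {X Y : Subgroup G} (hn : Y ≤ Subgroup.normalizer (X : Set G)) :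
    (X.subgroupOf (X ⊔ Y)).Normal :=
  (Subgroup.normal_subgroupOf_iff_le_normalizer le_sup_left).mpr
    (sup_le Subgroup.le_normalizer hn)

/-- If `Y` normalizes `X` then `Y` maps onto `(X ⊔ Y) / X`. -/
theorem sup_quotient_surjective {X Y : Subgroup G} (hn : Y ≤ Subgroup.normalizer (X : Set G)) :
    haveI := normal_subgroupOf_sup hn
    Function.Surjective ((QuotientGroup.mk' (X.subgroupOf (X ⊔ Y))).comp
      (Subgroup.inclusion (le_sup_right : Y ≤ X ⊔ Y))) := by
  haveI := normal_subgroupOf_sup hn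
  intro q
  obtain ⟨⟨g, hg⟩, rfl⟩ := QuotientGroup.mk'_surjective _ q
  obtain ⟨x, hx, y, hy, hxy⟩ := Cfsg.Agent.Helper1.exists_mul_of_mem_sup hn hg
  refine ⟨⟨y, hy⟩, ?_⟩
  simp only [MonoidHom.comp_apply, QuotientGroup.mk'_apply]
  rw [QuotientGroup.eq]
  rw [Subgroup.mem_subgroupOf]
  simp only [Subgroup.coe_mul, Subgroup.coe_inv, Subgroup.coe_inclusion]
  subst hxy
  have : y⁻¹ * (x * y) = y⁻¹ * x * y⁻¹⁻¹ := by group
  rw [this]
  exact (Subgroup.mem_normalizer_iff.mp (hn (Y.inv_mem hy)) x).mp hx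

/-- If `Y` normalizes `X` then `|X ⊔ Y|` divides `|X| |Y|`. -/
theorem card_sup_dvd_mul_of_le_normalizer [Finite G] {X Y : Subgroup G}
    (hn : Y ≤ Subgroup.normalizer (X : Set G)) :
    Nat.card (X ⊔ Y : Subgroup G) ∣ Nat.card X * Nat.card Y := by
  haveI := normal_subgroupOf_sup hn
  have h1 := Subgroup.card_eq_card_quotient_mul_card_subgroup (X.subgroupOf (X ⊔ Y))
  have h2 : Nat.card (X.subgroupOf (X ⊔ Y)) = Nat.card X :=
    Nat.card_congr (Subgroup.subgroupOfEquivOfLe le_sup_left).toEquiv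
  have h3 := Subgroup.card_dvd_of_surjective _ (sup_quotient_surjective hn)
  rw [h1, h2, mul_comm]
  exact Nat.mul_dvd_mul_left _ h3

/-- If `Y` normalizes `X` and both are solvable then `X ⊔ Y` is solvable. -/
theorem isSolvable_sup_of_le_normalizer {X Y : Subgroup G}
    (hn : Y ≤ Subgroup.normalizer (X : Set G)) (hX : Group.IsSolvable ↥X)
    (hY : Group.IsSolvable ↥Y) : Group.IsSolvable ↥(X ⊔ Y : Subgroup G) := by
  haveI := normal_subgroupOf_sup hn
  haveI : Group.IsSolvable (↥(X ⊔ Y : Subgroup G) ⧸ X.subgroupOf (X ⊔ Y)) :=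
    Group.isSolvable_of_surjective (sup_quotient_surjective hn)
  refine solvable_of_ker_le_range (Subgroup.inclusion (le_sup_left : X ≤ X ⊔ Y))
    (QuotientGroup.mk' (X.subgroupOf (X ⊔ Y))) ?_
  rw [QuotientGroup.ker_mk']
  intro g hg
  rw [Subgroup.mem_subgroupOf] at hg
  exact ⟨⟨g, hg⟩, Subtype.ext rfl⟩

/-- Conjugation-invariance of a join. -/
theorem conj_mem_sup_of_forall {X Y : Subgroup G} {b : G}
    (hX : ∀ u ∈ X, b * u * b⁻¹ ∈ X) (hY : ∀ u ∈ Y, b * u * b⁻¹ ∈ Y) :
    ∀ u ∈ X ⊔ Y, b * u * b⁻¹ ∈ X ⊔ Y := by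
  intro u hu
  have h1 : (X ⊔ Y).map (MulAut.conj b).toMonoidHom ≤ X ⊔ Y := by
    rw [Subgroup.map_sup]
    apply sup_le_sup
    · rintro _ ⟨x, hx, rfl⟩
      exact hX x hx
    · rintro _ ⟨y, hy, rfl⟩
      exact hY y hy
  exact h1 ⟨u, hu, rfl⟩

/-- A subgroup closed under conjugation by `b` (finite group) is normalized by `b`. -/
theorem mem_normalizer_of_forall_conj_mem [Finite G] {X : Subgroup G} {b : G}
    (hX : ∀ u ∈ X, b * u * b⁻¹ ∈ X) : b ∈ Subgroup.normalizer (X : Set G) := by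
  have hle : X.map (MulAut.conj b).toMonoidHom ≤ X := by
    rintro _ ⟨x, hx, rfl⟩
    exact hX x hx
  have hcard : Nat.card (X.map (MulAut.conj b).toMonoidHom) = Nat.card X :=
    Subgroup.card_map_of_injective (MulAut.conj b).injective
  have heq : X.map (MulAut.conj b).toMonoidHom = X :=
    Subgroup.eq_of_le_of_card_ge hle hcard.ge
  rw [Subgroup.mem_normalizer_iff]
  intro h
  constructor
  · exact hX h
  · intro hh
    have : b * h * b⁻¹ ∈ X.map (MulAut.conj b).toMonoidHom := by rw [heq]; exact hh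
    obtain ⟨x, hx, hxe⟩ := this
    have : x = h := by
      have h1 : b * x * b⁻¹ = b * h * b⁻¹ := hxe
      have h2 : x = b⁻¹ * (b * x * b⁻¹) * b := by group
      rw [h2, h1]; group
    rw [← this]; exact hx

/-- `zpowers b ≤ N(X)` from elementwise invariance. -/
theorem zpowers_le_normalizer_of_forall [Finite G] {X : Subgroup G} {b : G}
    (hX : ∀ u ∈ X, b * u * b⁻¹ ∈ X) : Subgroup.zpowers b ≤ Subgroup.normalizer (X : Set G) := by
  rw [Subgroup.zpowers_le]
  exact mem_normalizer_of_forall_conj_mem hX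

/-- Coprime factorization of centralizers: for `a` of prime order `p` normalizing `p'`-groups
`X` and `Y` with `Y ≤ N(X)`, `C_{XY}(a) ⊆ C_X(a) C_Y(a)`. -/
theorem exists_mul_of_mem_sup_centralizer [Finite G] {p : ℕ} [hp : Fact p.Prime] {a : G}
    (hcard : Nat.card (Subgroup.zpowers a) = p) {X Y : Subgroup G}
    (hn : Y ≤ Subgroup.normalizer (X : Set G))
    (hX : ¬ p ∣ Nat.card X) (hY : ¬ p ∣ Nat.card Y)
    (haX : ∀ u ∈ X, a * u * a⁻¹ ∈ X) (haY : ∀ u ∈ Y, a * u * a⁻¹ ∈ Y)
    {k : G} (hk : k ∈ X ⊔ Y) (hka : k ∈ Subgroup.centralizer {a}) :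
    ∃ x ∈ X ⊓ Subgroup.centralizer {a}, ∃ y ∈ Y ⊓ Subgroup.centralizer {a}, k = x * y := by
  have hAX := zpowers_le_normalizer_of_forall haX
  have hAY := zpowers_le_normalizer_of_forall haY
  have hAK : Subgroup.zpowers a ≤ Subgroup.normalizer ((X ⊔ Y : Subgroup G) : Set G) :=
    zpowers_le_normalizer_of_forall (conj_mem_sup_of_forall haX haY)
  have hcop : (Nat.card (Subgroup.zpowers a)).Coprime (Nat.card (X ⊔ Y : Subgroup G)) := by
    rw [hcard]
    apply (Nat.Prime.coprime_iff_not_dvd hp.out).mpr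
    intro hdvd
    have := hdvd.trans (card_sup_dvd_mul_of_le_normalizer hn)
    rcases (Nat.Prime.dvd_mul hp.out).mp this with h | h
    · exact hX h
    · exact hY h
  have hsolv : Group.IsSolvable (Subgroup.zpowers a) ∨ Group.IsSolvable ↥(X ⊔ Y : Subgroup G) := by
    left
    infer_instance
  have := Cfsg.Agent.S0030.result (Subgroup.zpowers a) (X ⊔ Y) hAK hcop hsolv X Y le_sup_left
    le_sup_right hAX hAY
    (fun k hk => by
      obtain ⟨x, hx, y, hy, h⟩ := Cfsg.Agent.Helper1.exists_mul_of_mem_sup hn hk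
      exact ⟨x, hx, y, hy, h⟩) k
    (by rw [centralizer_zpowers_eq]; exact Subgroup.mem_inf.mpr ⟨hk, hka⟩)
  rw [centralizer_zpowers_eq] at this
  exact this

end Cfsg.Agent.Helper7
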