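import Mathlib
import Cfsg.Prelude.Def_Local
import Cfsg.Agent.Lib.Helper7.FStar2
import Cfsg.Agent.Lib.Helper7.Components2
import Cfsg.Agent.Lib.Helper7.Layer6
import Cfsg.Agent.Lib.Helper7.PLocal4
import Cfsg.Agent.Lib.Helper7.Cores
import Cfsg.Agent.Lib.Helper20.PrimaryParts

set_option autoImplicit false

namespace Cfsg.Agent.Helper7

open Subgroup
open scoped commutatorElement Pointwise

universe u

variable {H : Type u} [Group H]

instance pCore_normal (p : ℕ) : (Cfsg.pCore p H).Normal :=
  haveI := pCore_characteristic (G := H) p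
  Subgroup.normal_of_characteristic _

theorem pCore_le_fittingSubgroup [Finite H] (p : ℕ) [Fact p.Prime] :
    Cfsg.pCore p H ≤ Cfsg.fittingSubgroup H :=
  le_fittingSubgroup _ (pCore_isPGroup p).isNilpotent

/-- `p`-elements of the Fitting subgroup lie in `O_p`. -/
theorem mem_pCore_of_mem_fittingSubgroup [Finite H] (p : ℕ) [Fact p.Prime] {x : H}
    (hx : x ∈ Cfsg.fittingSubgroup H) (hp : ∃ k : ℕ, x ^ (p ^ k) = 1) : x ∈ Cfsg.pCore p H := by
  set N := Cfsg.fittingSubgroup H with hN
  have : Group.IsNilpotent ↥N := fittingSubgroup_isNilpotent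
  have hz : IsPGroup p ↥(Subgroup.zpowers (⟨x, hx⟩ : N)) := by
    obtain ⟨k, hk⟩ := hp
    rw [IsPGroup.iff_card, Nat.card_zpowers]
    have : orderOf (⟨x, hx⟩ : N) ∣ p ^ k := by
      apply orderOf_dvd_of_pow_eq_one
      apply Subtype.ext
      simpa using hk
    obtain ⟨j, -, hj⟩ := (Nat.dvd_prime_pow Fact.out).mp this
    exact ⟨j, hj⟩
  obtain ⟨P, hP⟩ := hz.exists_le_sylow
  have hxP : (⟨x, hx⟩ : N) ∈ (P : Subgroup N) := hP (Subgroup.mem_zpowers _)
  have hsn : ((P : Subgroup N).map N.subtype).IsSubnormal := by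
    have h1 : (P : Subgroup N).IsSubnormal := (inferInstance : (P : Subgroup N).Normal).isSubnormal
    exact h1.trans' (fittingSubgroup_normal' (G := H)).isSubnormal
  have hle := subnormal_isPGroup_le_pCore p _ hsn (P.isPGroup'.map N.subtype)
  exact hle ⟨⟨x, hx⟩, hxP, rfl⟩

/-- `p'`-elements of the Fitting subgroup centralize `O_p`. -/
theorem commute_of_mem_fittingSubgroup_of_coprime [Finite H] (p : ℕ) [Fact p.Prime] {y d : H}
    (hy : y ∈ Cfsg.fittingSubgroup H) (hcop : (orderOf y).Coprime p)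
    (hd : d ∈ Cfsg.pCore p H) : y * d = d * y := by
  have hc : (orderOf y).Coprime (Nat.card ↥(Cfsg.pCore p H)) := by
    obtain ⟨n, hn⟩ := IsPGroup.iff_card.mp (pCore_isPGroup (G := H) p)
    rw [hn]; exact Nat.Coprime.pow_right n hcop
  have := mem_centralizer_of_isNilpotent_of_coprime (Cfsg.fittingSubgroup H) (Cfsg.pCore p H)
    fittingSubgroup_isNilpotent (pCore_le_fittingSubgroup p)
    (by rw [Subgroup.normalizer_eq_top]; exact le_top) y hy hc
  exact ((Subgroup.mem_centralizer_iff.mp this) d hd).symm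

/-- The Fitting subgroup is generated by the `O_r`. -/
theorem fittingSubgroup_eq_iSup_pCore [Finite H] :
    Cfsg.fittingSubgroup H = ⨆ r : Nat.Primes, Cfsg.pCore (r : ℕ) H := by
  set N := Cfsg.fittingSubgroup H with hN
  set K : Subgroup H := ⨆ r : Nat.Primes, Cfsg.pCore (r : ℕ) H with hK
  have hKN : K ≤ N := iSup_le fun r => by
    haveI : Fact (r : ℕ).Prime := ⟨r.2⟩
    exact pCore_le_fittingSubgroup (r : ℕ)
  have hdvd : Nat.card N ∣ Nat.card K := by
    rw [Nat.dvd_iff_prime_pow_dvd_dvd]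
    intro r k hr hrk
    haveI : Fact r.Prime := ⟨hr⟩
    have : Group.IsNilpotent ↥N := fittingSubgroup_isNilpotent
    obtain ⟨P⟩ : Nonempty (Sylow r N) := inferInstance
    have h1 : r ^ k ∣ Nat.card (P : Subgroup N) := P.pow_dvd_card_of_pow_dvd_card hrk
    have hsn : ((P : Subgroup N).map N.subtype).IsSubnormal := by
      have h1 : (P : Subgroup N).IsSubnormal :=
        (inferInstance : (P : Subgroup N).Normal).isSubnormal
      exact h1.trans' (fittingSubgroup_normal' (G := H)).isSubnormal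
    have hle := subnormal_isPGroup_le_pCore r _ hsn (P.isPGroup'.map N.subtype)
    have hle2 : (P : Subgroup N).map N.subtype ≤ K :=
      hle.trans (le_iSup (fun r : Nat.Primes => Cfsg.pCore (r : ℕ) H) ⟨r, hr⟩)
    have h2 : Nat.card ((P : Subgroup N).map N.subtype) = Nat.card (P : Subgroup N) :=
      Subgroup.card_map_of_injective (Subgroup.subtype_injective _)
    exact dvd_trans (h2 ▸ h1) (Subgroup.card_dvd_of_le hle2)
  exact (Subgroup.eq_of_le_of_card_ge hKN (Nat.le_of_dvd Nat.card_pos hdvd)).symm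

theorem pCore_commutator_pCore_of_ne [Finite H] {r s : ℕ} [Fact r.Prime] [Fact s.Prime]
    (hrs : r ≠ s) : ⁅Cfsg.pCore r H, Cfsg.pCore s H⁆ = ⊥ := by
  apply commutator_eq_bot_of_normal_of_coprime
  obtain ⟨a, ha⟩ := IsPGroup.iff_card.mp (pCore_isPGroup (G := H) r)
  obtain ⟨b, hb⟩ := IsPGroup.iff_card.mp (pCore_isPGroup (G := H) s)
  rw [ha, hb]
  exact Nat.coprime_pow_primes a b Fact.out Fact.out hrs

/-- An element of `O_r` centralizing `O_r` centralizes `F*`. -/
theorem mem_centralizer_generalizedFittingSubgroup_of_mem_pCore [Finite H] {r : ℕ}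
    [Fact r.Prime] {x : H} (hx : x ∈ Cfsg.pCore r H)
    (hc : x ∈ Subgroup.centralizer (Cfsg.pCore r H : Set H)) :
    x ∈ Subgroup.centralizer (Cfsg.generalizedFittingSubgroup H : Set H) := by
  have hxz : Subgroup.zpowers x ≤ Subgroup.centralizer (Cfsg.generalizedFittingSubgroup H : Set H) := by
    rw [Subgroup.le_centralizer_iff]
    unfold Cfsg.generalizedFittingSubgroup
    apply sup_le
    · -- layer
      have h1 : ⁅Cfsg.layer H, Cfsg.fittingSubgroup H⁆ = ⊥ := layer_commutator_fittingSubgroup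
      have h2 := Subgroup.commutator_eq_bot_iff_le_centralizer.mp h1
      refine h2.trans (Subgroup.centralizer_le ?_)
      intro y hy
      exact pCore_le_fittingSubgroup r ((Subgroup.zpowers_le.mpr hx) hy)
    · rw [fittingSubgroup_eq_iSup_pCore]
      apply iSup_le
      intro s
      haveI : Fact (s : ℕ).Prime := ⟨s.2⟩
      by_cases hrs : (s : ℕ) = r
      · rw [hrs, ← Subgroup.le_centralizer_iff]
        exact Subgroup.zpowers_le.mpr hc
      · have h1 : ⁅Cfsg.pCore (s : ℕ) H, Cfsg.pCore r H⁆ = ⊥ := pCore_commutator_pCore_of_ne hrs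
        have h2 := Subgroup.commutator_eq_bot_iff_le_centralizer.mp h1
        refine h2.trans (Subgroup.centralizer_le ?_)
        intro y hy
        exact (Subgroup.zpowers_le.mpr hx) hy
  exact hxz (Subgroup.mem_zpowers x)

/-- Bender's hypothesis on `S`: a subnormal subgroup of `F*(H)` containing its centralizer in
`F*(H)`. -/
structure BenderHyp (S : Subgroup H) : Prop where
  le : S ≤ Cfsg.generalizedFittingSubgroup H
  sn : S.IsSubnormal
  cent : Cfsg.generalizedFittingSubgroup H ⊓ Subgroup.centralizer (S : Set H) ≤ S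

theorem BenderHyp.layer_le [Finite H] {S : Subgroup H} (hS : BenderHyp S) : Cfsg.layer H ≤ S := by
  unfold Cfsg.layer
  apply sSup_le
  intro L hL
  rcases component_le_or_commutator_eq_bot' L S hL hS.sn with h | h
  · exact h
  · refine le_trans (le_inf ?_ ?_) hS.cent
    · exact (component_le_layer hL).trans layer_le_generalizedFittingSubgroup
    · exact Subgroup.commutator_eq_bot_iff_le_centralizer.mp h

theorem BenderHyp.center_pCore_le [Finite H] {S : Subgroup H} (hS : BenderHyp S) {r : ℕ}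
    [Fact r.Prime] {x : H} (hx : x ∈ Cfsg.pCore r H)
    (hc : x ∈ Subgroup.centralizer (Cfsg.pCore r H : Set H)) : x ∈ S := by
  apply hS.cent
  refine ⟨?_, ?_⟩
  · exact fittingSubgroup_le_generalizedFittingSubgroup (pCore_le_fittingSubgroup r hx)
  · exact Subgroup.centralizer_le hS.le (mem_centralizer_generalizedFittingSubgroup_of_mem_pCore hx hc)

/-- `C_{O_q(H)}(S ∩ O_q(H)) ≤ S`. -/
theorem BenderHyp.centralizer_inf_pCore_le [Finite H] {S : Subgroup H} (hS : BenderHyp S) {q : ℕ}
    [Fact q.Prime] {x : H} (hx : x ∈ Cfsg.pCore q H)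
    (hc : x ∈ Subgroup.centralizer ((S ⊓ Cfsg.pCore q H : Subgroup H) : Set H)) : x ∈ S := by
  apply hS.cent
  refine ⟨fittingSubgroup_le_generalizedFittingSubgroup (pCore_le_fittingSubgroup q hx), ?_⟩
  have hxF : x ∈ Cfsg.fittingSubgroup H := pCore_le_fittingSubgroup q hx
  have hSle := le_layer_sup_fitting_of_subnormal hS.sn hS.le
  have hzx : (Subgroup.zpowers x : Subgroup H) ≤ Cfsg.fittingSubgroup H := Subgroup.zpowers_le.mpr hxF
  suffices h : S ≤ Subgroup.centralizer ((Subgroup.zpowers x : Subgroup H) : Set H) by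
    show x ∈ Subgroup.centralizer (S : Set H)
    rw [Subgroup.mem_centralizer_iff]
    intro s hs
    exact ((Subgroup.mem_centralizer_iff.mp (h hs)) x (Subgroup.mem_zpowers x)).symm
  refine hSle.trans (sup_le ?_ ?_)
  · have h1 : ⁅Cfsg.layer H, Cfsg.fittingSubgroup H⁆ = ⊥ := layer_commutator_fittingSubgroup
    have h2 := Subgroup.commutator_eq_bot_iff_le_centralizer.mp h1
    exact (map_subtype_layer_le hS.sn).trans (h2.trans (Subgroup.centralizer_le hzx))
  · intro t ht
    obtain ⟨htF, htS⟩ := Subgroup.mem_inf.mp ht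
    obtain ⟨u, v, htuv, -, ⟨k, hk⟩, hv, hu', hv'⟩ :=
      Cfsg.Agent.Helper20.exists_pPart_decomp q t (orderOf_pos t)
    have huS : u ∈ S := (Subgroup.zpowers_le.mpr htS) hu'
    have huF : u ∈ Cfsg.fittingSubgroup H := (Subgroup.zpowers_le.mpr htF) hu'
    have hvF : v ∈ Cfsg.fittingSubgroup H := (Subgroup.zpowers_le.mpr htF) hv'
    have huq : u ∈ Cfsg.pCore q H :=
      mem_pCore_of_mem_fittingSubgroup q huF ⟨k, by rw [← hk]; exact pow_orderOf_eq_one u⟩
    have h1 : u * x = x * u := ((Subgroup.mem_centralizer_iff.mp hc) u ⟨huS, huq⟩)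
    have h2 : v * x = x * v := commute_of_mem_fittingSubgroup_of_coprime q hvF hv hx
    rw [Subgroup.mem_centralizer_iff]
    intro y hy
    obtain ⟨n, rfl⟩ := Subgroup.mem_zpowers_iff.mp hy
    have hcomm : Commute t x := by
      rw [htuv]
      exact Commute.mul_left h1 h2
    exact ((hcomm.zpow_right n).eq).symm

/-- A solvable subgroup normalized by `S` centralizes the layer. -/
theorem BenderHyp.layer_le_centralizer [Finite H] {S : Subgroup H} (hS : BenderHyp S)
    (X : Subgroup H) (hsolv : Group.IsSolvable ↥X)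
    (hSX : S ≤ Subgroup.normalizer (X : Set H)) :
    Cfsg.layer H ≤ Subgroup.centralizer (X : Set H) := by
  unfold Cfsg.layer
  apply sSup_le
  intro L hL
  have hLS : L ≤ S := (component_le_layer hL).trans hS.layer_le
  have := component_commutator_solvable_eq_bot L X hL hsolv (hLS.trans hSX)
  exact Subgroup.commutator_eq_bot_iff_le_centralizer.mp this

/-- A `p`-subgroup normalized by `S` centralizes `O_q(H)` for every prime `q ≠ p`. -/
theorem BenderHyp.pCore_le_centralizer [Finite H] {S : Subgroup H} (hS : BenderHyp S)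
    {p q : ℕ} [Fact p.Prime] [Fact q.Prime] (hpq : p ≠ q)
    (X : Subgroup H) (hX : IsPGroup p ↥X) (hSX : S ≤ Subgroup.normalizer (X : Set H)) :
    Cfsg.pCore q H ≤ Subgroup.centralizer (X : Set H) := by
  set Q := Cfsg.pCore q H with hQ
  set B := S ⊓ Q with hB
  have hQq : IsPGroup q ↥Q := pCore_isPGroup q
  have hcop : (Nat.card X).Coprime (Nat.card Q) := by
    obtain ⟨a, ha⟩ := IsPGroup.iff_card.mp hX
    obtain ⟨b, hb⟩ := IsPGroup.iff_card.mp hQq
    rw [ha, hb]
    exact Nat.coprime_pow_primes a b Fact.out Fact.out hpq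
  have hXQ : X ≤ Subgroup.normalizer (Q : Set H) := by
    rw [Subgroup.normalizer_eq_top]; exact le_top
  have hBX : B ≤ Subgroup.normalizer (X : Set H) := inf_le_left.trans hSX
  have hAB : ⁅X, B⁆ = ⊥ := by
    rw [eq_bot_iff, ← Subgroup.inf_eq_bot_of_coprime hcop]
    apply le_inf
    · exact commutator_le_of_le_normalizer hBX
    · rw [Subgroup.commutator_comm]
      exact (Subgroup.commutator_mono (inf_le_right : B ≤ Q) le_rfl).trans
        (commutator_le_of_le_normalizer hXQ)
  apply thompson_AxB Q X B hXQ (inf_le_right.trans Subgroup.le_normalizer) hAB hcop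
  · rw [sup_eq_left.mpr (inf_le_right : B ≤ Q)]
    exact hQq.isNilpotent
  · intro x hx
    obtain ⟨hxQ, hxB⟩ := Subgroup.mem_inf.mp hx
    have hxS : x ∈ S := hS.centralizer_inf_pCore_le hxQ hxB
    have hxB' : x ∈ B := ⟨hxS, hxQ⟩
    have h1 := Subgroup.commutator_eq_bot_iff_le_centralizer.mp hAB
    rw [Subgroup.mem_centralizer_iff]
    intro y hy
    exact ((Subgroup.mem_centralizer_iff.mp (h1 hy)) x hxB').symm

/-- The centre of `F*(H)` lies in `F(H)`. -/
theorem generalizedFittingSubgroup_inf_centralizer_le_fittingSubgroup [Finite H] :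
    Cfsg.generalizedFittingSubgroup H ⊓
      Subgroup.centralizer (Cfsg.generalizedFittingSubgroup H : Set H) ≤
        Cfsg.fittingSubgroup H := by
  set Z := Cfsg.generalizedFittingSubgroup H ⊓
      Subgroup.centralizer (Cfsg.generalizedFittingSubgroup H : Set H) with hZ
  haveI : Z.Normal := Subgroup.normal_inf_normal _ _
  apply le_fittingSubgroup Z
  haveI : IsMulCommutative ↥Z := ⟨⟨fun a b => by
    apply Subtype.ext
    have ha := (Subgroup.mem_inf.mp a.2).2
    have hb := (Subgroup.mem_inf.mp b.2).1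
    exact ((Subgroup.mem_centralizer_iff.mp ha) b hb).symm⟩⟩
  exact isNilpotent_of_isMulCommutative _

/-- **Bender's lemma (a)**: a `q`-subgroup normalized by `S`, with `q ∤ |F(H)|`, is trivial. -/
theorem BenderHyp.eq_bot_of_not_dvd [Finite H] {S : Subgroup H} (hS : BenderHyp S) {q : ℕ}
    [Fact q.Prime] (hq : ¬ q ∣ Nat.card ↥(Cfsg.fittingSubgroup H)) (X : Subgroup H)
    (hX : IsPGroup q ↥X) (hSX : S ≤ Subgroup.normalizer (X : Set H)) : X = ⊥ := by
  have hqbot : ∀ Y : Subgroup H, IsPGroup q ↥Y → Y ≤ Cfsg.fittingSubgroup H → Y = ⊥ := by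
    intro Y hY hle
    obtain ⟨a, ha⟩ := IsPGroup.iff_card.mp hY
    have hdvd : q ^ a ∣ Nat.card ↥(Cfsg.fittingSubgroup H) := ha ▸ Subgroup.card_dvd_of_le hle
    rcases Nat.eq_zero_or_pos a with h0 | h0
    · rw [h0, pow_zero] at ha
      exact Subgroup.card_eq_one.mp ha
    · exact absurd (dvd_trans (dvd_pow_self q h0.ne') hdvd) hq
  have hsolv : Group.IsSolvable ↥X := isSolvable_of_isPGroup hX
  have hcen : Cfsg.generalizedFittingSubgroup H ≤ Subgroup.centralizer (X : Set H) := by
    unfold Cfsg.generalizedFittingSubgroup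
    apply sup_le (hS.layer_le_centralizer X hsolv hSX)
    rw [fittingSubgroup_eq_iSup_pCore]
    apply iSup_le
    intro r
    haveI : Fact (r : ℕ).Prime := ⟨r.2⟩
    by_cases hrq : q = (r : ℕ)
    · rw [← hrq, hqbot _ (pCore_isPGroup q) (pCore_le_fittingSubgroup q)]
      exact bot_le
    · exact hS.pCore_le_centralizer hrq X hX hSX
  have hX1 : X ≤ Subgroup.centralizer (Cfsg.generalizedFittingSubgroup H : Set H) :=
    Subgroup.le_centralizer_iff.mp hcen
  have hX2 : X ≤ Cfsg.generalizedFittingSubgroup H :=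
    hX1.trans centralizer_generalizedFittingSubgroup_le
  exact hqbot X hX ((le_inf hX2 hX1).trans
    generalizedFittingSubgroup_inf_centralizer_le_fittingSubgroup)

/-- `O^p(F*(H))` in explicit form: the layer together with the `O_q(H)`, `q ≠ p`. -/
def pPrimeFStar (p : ℕ) (H : Type u) [Group H] : Subgroup H :=
  Cfsg.layer H ⊔ ⨆ r : {r : Nat.Primes // (r : ℕ) ≠ p}, Cfsg.pCore ((r : Nat.Primes) : ℕ) H

instance pPrimeFStar_normal (p : ℕ) : (pPrimeFStar p H).Normal := by
  unfold pPrimeFStar
  infer_instance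

theorem generalizedFittingSubgroup_le_pPrimeFStar_sup [Finite H] (p : ℕ) :
    Cfsg.generalizedFittingSubgroup H ≤ pPrimeFStar p H ⊔ Cfsg.pCore p H := by
  unfold Cfsg.generalizedFittingSubgroup pPrimeFStar
  apply sup_le (le_sup_left.trans le_sup_left)
  rw [fittingSubgroup_eq_iSup_pCore]
  apply iSup_le
  intro r
  by_cases hr : (r : ℕ) = p
  · rw [hr]; exact le_sup_right
  · refine le_trans ?_ le_sup_left
    refine le_trans ?_ le_sup_right
    exact le_iSup (fun r : {r : Nat.Primes // (r : ℕ) ≠ p} =>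
      Cfsg.pCore ((r : Nat.Primes) : ℕ) H) ⟨r, hr⟩

/-- `p'`-elements of `F*(H)` lie in `pPrimeFStar p H`. -/
theorem mem_pPrimeFStar_of_coprime [Finite H] (p : ℕ) [Fact p.Prime] {u : H}
    (hu : u ∈ Cfsg.generalizedFittingSubgroup H) (hcop : (orderOf u).Coprime p) :
    u ∈ pPrimeFStar p H := by
  set K := pPrimeFStar p H with hK
  set π := QuotientGroup.mk' K with hπ
  have h1 : π u ∈ (Cfsg.pCore p H).map π := by
    have h2 := generalizedFittingSubgroup_le_pPrimeFStar_sup p hu
    have h3 : π u ∈ (K ⊔ Cfsg.pCore p H).map π := Subgroup.mem_map_of_mem π h2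
    rw [Subgroup.map_sup] at h3
    have h4 : K.map π = ⊥ := by
      rw [Subgroup.map_eq_bot_iff, hπ, QuotientGroup.ker_mk']
    rwa [h4, bot_sup_eq] at h3
  have h5 : IsPGroup p ↥((Cfsg.pCore p H).map π) := (pCore_isPGroup p).map π
  have h6 : (orderOf (π u)).Coprime p :=
    Nat.Coprime.coprime_dvd_left (orderOf_map_dvd π u) hcop
  have h7 := eq_one_of_isPGroup_of_coprime h5 h1 h6
  rw [hπ, QuotientGroup.mk'_apply] at h7
  exact (QuotientGroup.eq_one_iff u).mp h7

theorem pPrimeFStar_le_centralizer_pCore [Finite H] (p : ℕ) [Fact p.Prime] :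
    pPrimeFStar p H ≤ Subgroup.centralizer (Cfsg.pCore p H : Set H) := by
  unfold pPrimeFStar
  apply sup_le
  · have h1 : ⁅Cfsg.layer H, Cfsg.fittingSubgroup H⁆ = ⊥ := layer_commutator_fittingSubgroup
    have h2 := Subgroup.commutator_eq_bot_iff_le_centralizer.mp h1
    exact h2.trans (Subgroup.centralizer_le (pCore_le_fittingSubgroup p))
  · apply iSup_le
    rintro ⟨r, hr⟩
    haveI : Fact (r : ℕ).Prime := ⟨r.2⟩
    exact Subgroup.commutator_eq_bot_iff_le_centralizer.mp (pCore_commutator_pCore_of_ne hr)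

theorem BenderHyp.pPrimeFStar_le_centralizer [Finite H] {S : Subgroup H} (hS : BenderHyp S)
    {p : ℕ} [Fact p.Prime] (X : Subgroup H) (hX : IsPGroup p ↥X)
    (hSX : S ≤ Subgroup.normalizer (X : Set H)) :
    pPrimeFStar p H ≤ Subgroup.centralizer (X : Set H) := by
  unfold pPrimeFStar
  apply sup_le (hS.layer_le_centralizer X (isSolvable_of_isPGroup hX) hSX)
  apply iSup_le
  rintro ⟨r, hr⟩
  haveI : Fact (r : ℕ).Prime := ⟨r.2⟩
  exact hS.pCore_le_centralizer (Ne.symm hr) X hX hSX

/-- In a finite perfect group, the elements of order prime to `p` generate. -/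
theorem closure_coprime_eq_top_of_perfect {L : Type*} [Group L] [Finite L] (p : ℕ) [Fact p.Prime]
    (hperf : ⁅(⊤ : Subgroup L), (⊤ : Subgroup L)⁆ = ⊤) :
    Subgroup.closure {g : L | (orderOf g).Coprime p} = ⊤ := by
  set M := Subgroup.closure {g : L | (orderOf g).Coprime p} with hM
  have : M.Normal := by
    rw [← Subgroup.normalizer_eq_top_iff, eq_top_iff]
    refine le_trans ?_ (Subgroup.normalizer_le_normalizer_closure _)
    intro g _
    rw [Subgroup.mem_set_normalizer_iff]
    intro x
    simp only [Set.mem_setOf_eq]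
    have : orderOf (g * x * g⁻¹) = orderOf x :=
      orderOf_injective (MulAut.conj g).toMonoidHom (MulAut.conj g).injective x
    rw [this]
  rw [eq_top_iff]
  apply le_of_perfect_of_pow_mem p ⊤ M hperf
  intro x _
  obtain ⟨k, hk⟩ := exists_pow_coprime p x
  exact ⟨k, Subgroup.subset_closure hk⟩

/-- A perfect subgroup all of whose `p'`-elements centralize `P` centralizes `P`. -/
theorem perfect_le_centralizer_of_coprime {G : Type*} [Group G] [Finite G] (p : ℕ) [Fact p.Prime]
    (L : Subgroup G) (hperf : ⁅L, L⁆ = L) (P : Set G)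
    (h : ∀ u ∈ L, (orderOf u).Coprime p → u ∈ Subgroup.centralizer P) :
    L ≤ Subgroup.centralizer P := by
  have hperf' : ⁅(⊤ : Subgroup L), (⊤ : Subgroup L)⁆ = ⊤ := by
    apply Subgroup.map_injective (Subgroup.subtype_injective L)
    rw [Subgroup.map_commutator, ← MonoidHom.range_eq_map, Subgroup.range_subtype, hperf]
  have hcl := closure_coprime_eq_top_of_perfect p hperf'
  intro l hl
  have hmem : (⟨l, hl⟩ : L) ∈ Subgroup.closure {g : L | (orderOf g).Coprime p} := by
    rw [hcl]; exact Subgroup.mem_top _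
  have key : ∀ g : L, g ∈ Subgroup.closure {g : L | (orderOf g).Coprime p} →
      (g : G) ∈ Subgroup.centralizer P := by
    intro g hg
    induction hg using Subgroup.closure_induction with
    | mem x hx =>
      apply h _ x.2
      rw [Subgroup.orderOf_coe]
      exact hx
    | one => exact Subgroup.one_mem _
    | mul x y _ _ hx hy => exact Subgroup.mul_mem _ hx hy
    | inv x _ hx => exact Subgroup.inv_mem _ hx
  exact key _ hmem

end Cfsg.Agent.Helper7
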