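import Mathlib
import Cfsg.Prelude.Def_Transfer
import Cfsg.Agent.Lib.Helper7.Signalizer
import Cfsg.Agent.Lib.Helper7.Coprime
import Cfsg.Agent.Lib.Helper15.CoprimeGen

set_option autoImplicit false

namespace Cfsg.Agent.Helper7

open Subgroup
open scoped commutatorElement

/-- Nongenerator lemma: in a finite nilpotent group, a subgroup which together with the commutator
subgroup generates everything is everything. -/
theorem eq_top_of_sup_commutator_eq_top {X : Type*} [Group X] [Finite X] [Group.IsNilpotent X]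
    (Y : Subgroup X) (h : Y ⊔ commutator X = ⊤) : Y = ⊤ := by
  by_contra hne
  obtain ⟨K, hK, hYK⟩ := (eq_top_or_exists_le_coatom Y).resolve_left hne
  haveI hKn : K.Normal := NormalizerCondition.normal_of_coatom K normalizerCondition_of_isNilpotent hK
  have hKtop : K ≠ ⊤ := hK.1
  have hlt := hK.2 (K ⊔ commutator X)
  by_cases hcK : commutator X ≤ K
  · have : Y ⊔ commutator X ≤ K := sup_le hYK hcK
    rw [h] at this
    exact hKtop (top_le_iff.mp this)
  · have hlt' : K < K ⊔ commutator X := by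
      refine lt_of_le_of_ne le_sup_left ?_
      intro heq
      apply hcK
      rw [heq]
      exact le_sup_right
    have htop : K ⊔ commutator X = ⊤ := hlt hlt'
    -- the quotient is perfect and nilpotent, nontrivial
    haveI : Nontrivial (X ⧸ K) := by
      rw [← not_subsingleton_iff_nontrivial]
      intro hs
      exact hKtop (QuotientGroup.subsingleton_iff.mp hs)
    have hperf : commutator (X ⧸ K) = ⊤ := by
      have h1 : (commutator X).map (QuotientGroup.mk' K) = commutator (X ⧸ K) := by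
        rw [_root_.commutator_def, _root_.commutator_def, Subgroup.map_commutator, ← MonoidHom.range_eq_map,
          MonoidHom.range_eq_top.mpr (QuotientGroup.mk'_surjective K)]
      rw [← h1]
      have h2 : (K ⊔ commutator X).map (QuotientGroup.mk' K) = ⊤ := by
        rw [htop, ← MonoidHom.range_eq_map, MonoidHom.range_eq_top.mpr (QuotientGroup.mk'_surjective K)]
      rw [Subgroup.map_sup, QuotientGroup.map_mk'_self, bot_sup_eq] at h2
      exact h2
    have := Group.IsSolvable.commutator_lt_top_of_nontrivial (X ⧸ K)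
    rw [hperf] at this
    exact lt_irrefl _ this

variable {H : Type*} [Group H]

/-- Internal nongenerator lemma. -/
theorem le_of_le_sup_commutator [Finite H] {X Y : Subgroup H} (hX : Group.IsNilpotent ↥X)
    (hYX : Y ≤ X) (h : X ≤ Y ⊔ ⁅X, X⁆) : X ≤ Y := by
  have h1 : Y.subgroupOf X ⊔ commutator ↥X = ⊤ := by
    apply Subgroup.map_injective X.subtype_injective
    rw [Subgroup.map_sup, Subgroup.map_subtype_commutator, Subgroup.map_subgroupOf_eq_of_le hYX,
      ← MonoidHom.range_eq_map, X.range_subtype]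
    exact le_antisymm (sup_le hYX (Subgroup.commutator_le_self X)) h
  have h2 := eq_top_of_sup_commutator_eq_top _ h1
  rw [Subgroup.subgroupOf_eq_top] at h2
  exact h2

/-- conjugation by `g ∈ N(X) ∩ N(M)` maps `M ∩ X` (inside `X`) to itself -/
theorem map_normalizerMonoidHom_subgroupOf (X M : Subgroup H)
    (g : ↥(Subgroup.normalizer (X : Set H) ⊓ Subgroup.normalizer (M : Set H))) :
    (M.subgroupOf X).map
      ((X.normalizerMonoidHom ⟨(g : H), (Subgroup.mem_inf.mp g.2).1⟩ : ↥X ≃* ↥X) : ↥X →* ↥X)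
      = M.subgroupOf X := by
  have hgM := (Subgroup.mem_inf.mp g.2).2
  ext y
  constructor
  · rintro ⟨x, hx, rfl⟩
    have hx' : (x : H) ∈ M := Subgroup.mem_subgroupOf.mp hx
    rw [Subgroup.mem_subgroupOf]
    exact (Subgroup.mem_normalizer_iff.mp hgM _).mp hx'
  · intro hy
    rw [Subgroup.mem_subgroupOf] at hy
    have hgX := (Subgroup.mem_inf.mp g.2).1
    have hginvX : (g : H)⁻¹ ∈ Subgroup.normalizer (X : Set H) := Subgroup.inv_mem _ hgX
    have hginvM : (g : H)⁻¹ ∈ Subgroup.normalizer (M : Set H) := Subgroup.inv_mem _ hgM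
    refine ⟨⟨(g : H)⁻¹ * y * ((g : H)⁻¹)⁻¹, (Subgroup.mem_normalizer_iff.mp hginvX _).mp y.2⟩, ?_, ?_⟩
    · rw [SetLike.mem_coe, Subgroup.mem_subgroupOf]
      exact (Subgroup.mem_normalizer_iff.mp hginvM _).mp hy
    · apply Subtype.ext
      show (g : H) * ((g : H)⁻¹ * y * ((g : H)⁻¹)⁻¹) * (g : H)⁻¹ = y
      group

/-- The action of `N(X) ∩ N(M)` on `X / (M ∩ X)` by conjugation, as a homomorphism to the
automorphism group. -/
noncomputable def quotConjHom (X M : Subgroup H) [(M.subgroupOf X).Normal] :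
    ↥(Subgroup.normalizer (X : Set H) ⊓ Subgroup.normalizer (M : Set H)) →*
      MulAut (↥X ⧸ M.subgroupOf X) where
  toFun g := QuotientGroup.congr (M.subgroupOf X) (M.subgroupOf X)
    (X.normalizerMonoidHom ⟨(g : H), (Subgroup.mem_inf.mp g.2).1⟩)
    (map_normalizerMonoidHom_subgroupOf X M g)
  map_one' := by
    ext q
    induction q using QuotientGroup.induction_on with
    | H x =>
      rw [QuotientGroup.congr_mk]
      simp only [MulAut.one_apply]
      congr 1
      apply Subtype.ext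
      simp
  map_mul' g₁ g₂ := by
    ext q
    induction q using QuotientGroup.induction_on with
    | H x =>
      rw [MulAut.mul_apply, QuotientGroup.congr_mk, QuotientGroup.congr_mk, QuotientGroup.congr_mk]
      congr 1
      apply Subtype.ext
      simp only [Subgroup.normalizerMonoidHom_apply_apply_coe, Subgroup.coe_mul]
      group

theorem quotConjHom_mk (X M : Subgroup H) [(M.subgroupOf X).Normal]
    (g : ↥(Subgroup.normalizer (X : Set H) ⊓ Subgroup.normalizer (M : Set H))) (x : ↥X) :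
    quotConjHom X M g (QuotientGroup.mk x) =
      QuotientGroup.mk (⟨(g : H) * x * (g : H)⁻¹,
        (Subgroup.mem_normalizer_iff.mp (Subgroup.mem_inf.mp g.2).1 _).mp x.2⟩ : ↥X) := by
  rfl

/-- **Averaging lemma.** `X` a `p'`-group, `M ≤ X` containing `X'`, both normalized by the
commuting elements `a, b` of order dividing `p`; if `C_X(a^i b^j) ≤ M` whenever `(i, j) ≠ (0, 0)`
mod `p`, then `X = M`. -/
theorem le_of_forall_centralizer_le [Finite H] (p : ℕ) [Fact p.Prime] (X M : Subgroup H)
    (hMX : M ≤ X) (hXM : ⁅X, X⁆ ≤ M) (hXp : ¬ p ∣ Nat.card ↥X) (a b : H)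
    (haX : a ∈ Subgroup.normalizer (X : Set H)) (hbX : b ∈ Subgroup.normalizer (X : Set H))
    (haM : a ∈ Subgroup.normalizer (M : Set H)) (hbM : b ∈ Subgroup.normalizer (M : Set H))
    (hab : a * b = b * a) (hap : a ^ p = 1) (hbp : b ^ p = 1)
    (hfix : ∀ i j : ℕ, ¬ (p ∣ i ∧ p ∣ j) → X ⊓ Subgroup.centralizer {a ^ i * b ^ j} ≤ M) :
    X ≤ M := by
  classical
  have hpp := (Fact.out : p.Prime)
  haveI hn : (M.subgroupOf X).Normal := by
    constructor
    intro m hm x
    rw [Subgroup.mem_subgroupOf] at hm ⊢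
    have : ((x * m * x⁻¹ : ↥X) : H) = ⁅(x : H), (m : H)⁆ * m := by
      simp [commutatorElement_def]
    rw [this]
    exact M.mul_mem (hXM (Subgroup.commutator_mem_commutator x.2 m.2)) hm
  letI : CommGroup (↥X ⧸ M.subgroupOf X) :=
    { (inferInstance : Group (↥X ⧸ M.subgroupOf X)) with
      mul_comm := by
        intro u v
        induction u using QuotientGroup.induction_on with
        | H x =>
        induction v using QuotientGroup.induction_on with
        | H y =>
          rw [← QuotientGroup.mk_mul, ← QuotientGroup.mk_mul, QuotientGroup.eq,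
            Subgroup.mem_subgroupOf]
          have : (((x * y)⁻¹ * (y * x) : ↥X) : H) = ⁅(y : H)⁻¹, (x : H)⁻¹⁆ := by
            simp [commutatorElement_def, mul_assoc]
          rw [this]
          exact hXM (Subgroup.commutator_mem_commutator (X.inv_mem y.2) (X.inv_mem x.2)) }
  have hMp : ¬ p ∣ Nat.card ↥M := fun h => hXp (h.trans (Subgroup.card_dvd_of_le hMX))
  set a' : ↥(Subgroup.normalizer (X : Set H) ⊓ Subgroup.normalizer (M : Set H)) :=
    ⟨a, Subgroup.mem_inf.mpr ⟨haX, haM⟩⟩ with ha'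
  set b' : ↥(Subgroup.normalizer (X : Set H) ⊓ Subgroup.normalizer (M : Set H)) :=
    ⟨b, Subgroup.mem_inf.mpr ⟨hbX, hbM⟩⟩ with hb'
  have hab' : Commute a' b' := Subtype.ext hab
  have hap' : a' ^ p = 1 := Subtype.ext (by simp [ha', hap])
  have hbp' : b' ^ p = 1 := Subtype.ext (by simp [hb', hbp])
  set Φ := quotConjHom X M with hΦ
  have hW : ∀ w : ↥X ⧸ M.subgroupOf X, w ^ p = 1 → w = 1 := by
    intro w hw
    have h1 : orderOf w ∣ p := orderOf_dvd_of_pow_eq_one hw
    have h2 : orderOf w ∣ Nat.card ↥X :=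
      (orderOf_dvd_natCard w).trans (Subgroup.card_quotient_dvd_card _)
    have h3 : orderOf w ∣ Nat.gcd p (Nat.card ↥X) := Nat.dvd_gcd h1 h2
    rw [(Nat.Prime.coprime_iff_not_dvd hpp).mpr hXp] at h3
    exact orderOf_eq_one_iff.mp (Nat.dvd_one.mp h3)
  have hkey : ∀ w : ↥X ⧸ M.subgroupOf X, w = 1 := by
    intro w
    refine Cfsg.Agent.Helper15.eq_one_of_fixedPointFree_pair (p := p) hW (Φ a') (Φ b')
      (hab'.map Φ) (by rw [← map_pow, hap', map_one]) (by rw [← map_pow, hbp', map_one]) ?_ w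
    intro i j hij w hw
    induction w using QuotientGroup.induction_on with
    | H x =>
      set c' := a' ^ i * b' ^ j with hc'
      have hcc : (c' : H) = a ^ i * b ^ j := by simp [hc', ha', hb']
      have e1 : Φ a' ^ i * Φ b' ^ j = Φ c' := by rw [hc', map_mul, map_pow, map_pow]
      rw [e1] at hw
      have hcp : (a ^ i * b ^ j) ^ p = 1 := by
        have hc : Commute (a ^ i) (b ^ j) := (Commute.pow_pow (show Commute a b from hab) i j)
        rw [hc.mul_pow, ← pow_mul, ← pow_mul, mul_comm i p, mul_comm j p, pow_mul, pow_mul, hap,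
          hbp, one_pow, one_pow, one_mul]
      have hz : ∀ k : ℤ, Φ (c' ^ k) (QuotientGroup.mk x) = QuotientGroup.mk x := by
        intro k
        rw [map_zpow]
        have hmem : Φ c' ∈ MulAction.stabilizer (MulAut (↥X ⧸ M.subgroupOf X))
            (QuotientGroup.mk x : ↥X ⧸ M.subgroupOf X) := hw
        exact Subgroup.zpow_mem _ hmem k
      have hinv : ∀ s ∈ Subgroup.zpowers (a ^ i * b ^ j), (x : H)⁻¹ * s * x * s⁻¹ ∈ M := by
        intro s hs
        obtain ⟨k, rfl⟩ := Subgroup.mem_zpowers_iff.mp hs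
        have h1 := hz k
        rw [quotConjHom_mk, QuotientGroup.eq, Subgroup.mem_subgroupOf] at h1
        have h2 : ((c' ^ k : ↥(Subgroup.normalizer (X : Set H) ⊓ Subgroup.normalizer (M : Set H))) : H)
            = (a ^ i * b ^ j) ^ k := by
          rw [Subgroup.coe_zpow, hcc]
        simp only [Subgroup.coe_mul, Subgroup.coe_inv, h2] at h1
        have h3 := M.inv_mem h1
        have h4 : (((a ^ i * b ^ j) ^ k * (x : H) * ((a ^ i * b ^ j) ^ k)⁻¹)⁻¹ * (x : H))⁻¹
            = (x : H)⁻¹ * (a ^ i * b ^ j) ^ k * x * ((a ^ i * b ^ j) ^ k)⁻¹ := by group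
        rw [h4] at h3
        exact h3
      have hcM : a ^ i * b ^ j ∈ Subgroup.normalizer (M : Set H) :=
        Subgroup.mul_mem _ (Subgroup.pow_mem _ haM i) (Subgroup.pow_mem _ hbM j)
      obtain ⟨c₀, hc₀, hc₀M⟩ := Cfsg.Agent.Helper1.exists_centralizer_mem_coset M
        (Subgroup.zpowers (a ^ i * b ^ j))
        (by rw [Subgroup.zpowers_le]; exact hcM)
        (by
          rw [Nat.card_zpowers]
          exact Nat.Coprime.coprime_dvd_left (orderOf_dvd_of_pow_eq_one hcp)
            ((Nat.Prime.coprime_iff_not_dvd hpp).mpr hMp))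
        (Or.inl inferInstance) (x : H) hinv
      rw [centralizer_zpowers_eq] at hc₀
      have hc₀X : c₀ ∈ X := by
        have : c₀ = (x : H) * ((x : H)⁻¹ * c₀) := by group
        rw [this]
        exact X.mul_mem x.2 (hMX hc₀M)
      have hc₀M' : c₀ ∈ M := hfix i j hij (Subgroup.mem_inf.mpr ⟨hc₀X, hc₀⟩)
      have hxM : (x : H) ∈ M := by
        have : (x : H) = c₀ * ((x : H)⁻¹ * c₀)⁻¹ := by group
        rw [this]
        exact M.mul_mem hc₀M' (M.inv_mem hc₀M)
      exact (QuotientGroup.eq_one_iff x).mpr (Subgroup.mem_subgroupOf.mpr hxM)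
  intro x hx
  have := hkey (QuotientGroup.mk (⟨x, hx⟩ : ↥X))
  rw [QuotientGroup.eq_one_iff, Subgroup.mem_subgroupOf] at this
  exact this

theorem conj_mem_of_mem_normalizer {K : Subgroup H} {g : H}
    (hg : g ∈ Subgroup.normalizer (K : Set H)) {u : H} (hu : u ∈ K) : g * u * g⁻¹ ∈ K :=
  (Subgroup.mem_normalizer_iff.mp hg u).mp hu

theorem mem_normalizer_sup [Finite H] {K L : Subgroup H} {g : H}
    (hK : g ∈ Subgroup.normalizer (K : Set H)) (hL : g ∈ Subgroup.normalizer (L : Set H)) :
    g ∈ Subgroup.normalizer ((K ⊔ L : Subgroup H) : Set H) :=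
  mem_normalizer_of_forall_conj_mem
    (conj_mem_sup_of_forall (fun _ hu => conj_mem_of_mem_normalizer hK hu)
      (fun _ hu => conj_mem_of_mem_normalizer hL hu))

theorem mem_normalizer_iSup [Finite H] {ι : Sort*} {K : ι → Subgroup H} {g : H}
    (hK : ∀ i, g ∈ Subgroup.normalizer ((K i : Subgroup H) : Set H)) :
    g ∈ Subgroup.normalizer ((⨆ i, K i : Subgroup H) : Set H) := by
  apply mem_normalizer_of_forall_conj_mem
  intro u hu
  have h1 : (⨆ i, K i).map (MulAut.conj g).toMonoidHom ≤ ⨆ i, K i := by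
    rw [Subgroup.map_iSup]
    apply iSup_le
    intro i
    refine le_trans ?_ (le_iSup K i)
    rintro _ ⟨x, hx, rfl⟩
    exact conj_mem_of_mem_normalizer (hK i) hx
  exact h1 ⟨u, hu, rfl⟩

theorem mem_normalizer_inf_centralizer_singleton {X : Subgroup H} {g c : H}
    (hgX : g ∈ Subgroup.normalizer (X : Set H)) (hgc : g * c = c * g) :
    g ∈ Subgroup.normalizer ((X ⊓ Subgroup.centralizer {c} : Subgroup H) : Set H) := by
  apply Subgroup.inf_normalizer_le_normalizer_inf
  refine Subgroup.mem_inf.mpr ⟨hgX, ?_⟩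
  apply Subgroup.le_normalizer
  rw [Subgroup.mem_centralizer_singleton_iff]
  exact hgc

/-- **Rank two generation** for nilpotent `p'`-groups: if the commuting elements `a, b` of order
dividing `p` normalize `X`, then `X` is generated by the `C_X(a^i b^j)`, `(i,j) ≠ (0,0)` mod `p`. -/
theorem rank_two_generation [Finite H] (p : ℕ) [Fact p.Prime] (X : Subgroup H)
    (hXn : Group.IsNilpotent ↥X) (hXp : ¬ p ∣ Nat.card ↥X) (a b : H)
    (haX : a ∈ Subgroup.normalizer (X : Set H)) (hbX : b ∈ Subgroup.normalizer (X : Set H))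
    (hab : a * b = b * a) (hap : a ^ p = 1) (hbp : b ^ p = 1) :
    X ≤ ⨆ ij : {ij : ℕ × ℕ // ¬ (p ∣ ij.1 ∧ p ∣ ij.2)},
      X ⊓ Subgroup.centralizer {a ^ ij.1.1 * b ^ ij.1.2} := by
  set X₁ := ⨆ ij : {ij : ℕ × ℕ // ¬ (p ∣ ij.1 ∧ p ∣ ij.2)},
      X ⊓ Subgroup.centralizer {a ^ ij.1.1 * b ^ ij.1.2} with hX₁
  have hX₁X : X₁ ≤ X := iSup_le (fun _ => inf_le_left)
  have hcomm : Commute a b := hab
  have haX₁ : a ∈ Subgroup.normalizer (X₁ : Set H) := by
    apply mem_normalizer_iSup
    intro ij
    apply mem_normalizer_inf_centralizer_singleton haX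
    exact ((Commute.refl a).pow_right _).mul_right (hcomm.pow_right _)
  have hbX₁ : b ∈ Subgroup.normalizer (X₁ : Set H) := by
    apply mem_normalizer_iSup
    intro ij
    apply mem_normalizer_inf_centralizer_singleton hbX
    exact (hcomm.symm.pow_right _).mul_right ((Commute.refl b).pow_right _)
  have hXX : ∀ g ∈ Subgroup.normalizer (X : Set H),
      g ∈ Subgroup.normalizer ((⁅X, X⁆ : Subgroup H) : Set H) := fun g hg =>
    normalizer_inf_normalizer_le_normalizer_commutator X X (Subgroup.mem_inf.mpr ⟨hg, hg⟩)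
  apply le_of_le_sup_commutator hXn hX₁X
  exact le_of_forall_centralizer_le p X (X₁ ⊔ ⁅X, X⁆)
    (sup_le hX₁X (Subgroup.commutator_le_self X)) le_sup_right hXp a b haX hbX
    (mem_normalizer_sup haX₁ (hXX a haX)) (mem_normalizer_sup hbX₁ (hXX b hbX)) hab hap hbp
    (fun i j hij => (le_iSup (fun ij : {ij : ℕ × ℕ // ¬ (p ∣ ij.1 ∧ p ∣ ij.2)} =>
      X ⊓ Subgroup.centralizer {a ^ ij.1.1 * b ^ ij.1.2}) ⟨(i, j), hij⟩).trans le_sup_left)

end Cfsg.Agent.Helper7
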