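import Mathlib
import Cfsg.Prelude.Def_Local
import Cfsg.Agent.Lib.Helper7.PConstrained

set_option autoImplicit false

namespace Cfsg.Agent.Helper7

open Subgroup
open scoped commutatorElement

variable {G : Type*} [Group G] [Finite G] (p : ℕ) [hp : Fact p.Prime]

/-- If `F*(Y) = O_p(Y)` then the normalizer `N` of a `p`-subgroup has `E(N) = 1`, `O_{p'}(N) = 1`;
stated for any subgroup `N` equal to the normalizer. -/
theorem layer_pPrimeCore_normalizer_eq_bot {Y : Type*} [Group Y] [Finite Y]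
    (h : Cfsg.generalizedFittingSubgroup Y = Cfsg.pCore p Y) (P : Subgroup Y) (hP : IsPGroup p ↥P)
    (N : Subgroup Y) (hN : N = Subgroup.normalizer (P : Set Y)) :
    Cfsg.layer ↥N = ⊥ ∧ Cfsg.pPrimeCore p ↥N = ⊥ := by
  subst hN
  have h1 := centralizer_pCore_normalizer_le p
    (centralizer_pCore_le_of_generalizedFittingSubgroup_eq p h) P hP
  have h2 := generalizedFittingSubgroup_eq_pCore_of_centralizer_le p h1
  exact ⟨layer_eq_bot_of_generalizedFittingSubgroup_eq_pCore p h2,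
    pPrimeCore_eq_bot_of_generalizedFittingSubgroup_eq_pCore p h2⟩

/-- `L_{p'}(G) = 1`, `H = N_G(P)` for a `p`-subgroup `P`: then `L_{p'}(H) = 1` and
`O_{p'}(H) ≤ O_{p'}(G)`. -/
theorem pLayer_normalizer_eq_bot (hL : Cfsg.pLayer p G = ⊥) (P : Subgroup G) (hP : IsPGroup p ↥P) :
    Cfsg.pLayer p ↥(Subgroup.normalizer (P : Set G)) = ⊥ ∧
      (Cfsg.pPrimeCore p ↥(Subgroup.normalizer (P : Set G))).map
        (Subgroup.normalizer (P : Set G)).subtype ≤ Cfsg.pPrimeCore p G := by
  set R := Cfsg.pPrimeCore p G with hR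
  set φ := QuotientGroup.mk' R with hφ
  set H := Subgroup.normalizer (P : Set G) with hH
  have hRcop : (Nat.card ↥R).Coprime p := Cfsg.Agent.Helper22.card_pPrimeCore_coprime p
  have hE : Cfsg.layer (G ⧸ R) = ⊥ := by
    rw [← map_pLayer_eq_layer p, hL, Subgroup.map_bot]
  have hF := generalizedFittingSubgroup_eq_pCore_of_layer_eq_bot p
    (pPrimeCore_quotient_eq_bot' (X := G) p) hE
  have hNeq : H.map φ = Subgroup.normalizer ((P.map φ : Subgroup (G ⧸ R)) : Set (G ⧸ R)) :=
    (normalizer_map_mk'_eq hP hRcop).symm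
  obtain ⟨hlay, hcore⟩ := layer_pPrimeCore_normalizer_eq_bot p hF (P.map φ) (hP.map φ) _ hNeq
  -- the map `H → H.map φ`
  set ψ := φ.subgroupMap H with hψ
  have hψs : Function.Surjective ψ := φ.subgroupMap_surjective H
  have hker : ψ.ker = R.subgroupOf H := by
    rw [hψ, Subgroup.ker_subgroupMap, hφ, QuotientGroup.ker_mk']
  -- part 2
  have hcoreH : Cfsg.pPrimeCore p ↥H ≤ R.subgroupOf H := by
    rw [← hker]
    intro x hx
    rw [MonoidHom.mem_ker]
    have h1 : ((Cfsg.pPrimeCore p ↥H).map ψ) ≤ Cfsg.pPrimeCore p ↥(H.map φ) := by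
      haveI : ((Cfsg.pPrimeCore p ↥H).map ψ).Normal :=
        Subgroup.Normal.map inferInstance ψ hψs
      apply Cfsg.Agent.Helper22.le_pPrimeCore p _ inferInstance
      exact Nat.Coprime.coprime_dvd_left (Subgroup.card_map_dvd _ _)
        (Cfsg.Agent.Helper22.card_pPrimeCore_coprime p)
    have h2 := h1 (Subgroup.mem_map_of_mem ψ hx)
    rw [hcore, Subgroup.mem_bot] at h2
    exact h2
  have hcoreH' : Cfsg.pPrimeCore p ↥H = R.subgroupOf H := by
    apply le_antisymm hcoreH
    apply Cfsg.Agent.Helper22.le_pPrimeCore p _ inferInstance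
    have h2 : Nat.card ↥(R.subgroupOf H) = Nat.card ↥(R ⊓ H) := by
      rw [← Subgroup.subgroupOf_map_subtype, card_map_subtype]
    rw [h2]
    exact Nat.Coprime.coprime_dvd_left (Subgroup.card_dvd_of_le inf_le_left) hRcop
  refine ⟨?_, ?_⟩
  · unfold Cfsg.pLayer
    rw [sSup_eq_bot]
    intro K hK
    exfalso
    have e : ↥H ⧸ Cfsg.pPrimeCore p ↥H ≃* ↥(H.map φ) :=
      (QuotientGroup.quotientMulEquivOfEq (by rw [hcoreH', hker])).trans
        (QuotientGroup.quotientKerEquivOfSurjective ψ hψs)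
    have hc := isComponent_map_mulEquiv e hK.2.1
    exact (layer_eq_bot_iff.mp hlay) _ hc
  · rintro x ⟨y, hy, rfl⟩
    exact Subgroup.mem_subgroupOf.mp (hcoreH hy)

end Cfsg.Agent.Helper7
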