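import Mathlib
import Cfsg.Prelude.Def_Local
import Cfsg.Agent.Lib.Helper7.PLocal5

set_option autoImplicit false

namespace Cfsg.Agent.Helper7

open Subgroup
open scoped commutatorElement

section transport

variable {A B : Type*} [Group A] [Group B]

theorem map_pCore_mulEquiv_le (p : ℕ) (e : A ≃* B) :
    (Cfsg.pCore p A).map e.toMonoidHom ≤ Cfsg.pCore p B := by
  rw [Subgroup.map_le_iff_le_comap]
  unfold Cfsg.pCore
  apply sSup_le
  rintro N ⟨hNn, hN⟩
  rw [← Subgroup.map_le_iff_le_comap]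
  apply le_sSup
  exact ⟨hNn.map e.toMonoidHom e.surjective, hN.map e.toMonoidHom⟩

theorem map_pCore_mulEquiv (p : ℕ) (e : A ≃* B) :
    (Cfsg.pCore p A).map e.toMonoidHom = Cfsg.pCore p B := by
  apply le_antisymm (map_pCore_mulEquiv_le p e)
  intro b hb
  have h1 := map_pCore_mulEquiv_le p e.symm (Subgroup.mem_map_of_mem e.symm.toMonoidHom hb)
  refine ⟨e.symm b, h1, ?_⟩
  simp

theorem mem_pCore_mulEquiv_iff (p : ℕ) (e : A ≃* B) (a : A) :
    e a ∈ Cfsg.pCore p B ↔ a ∈ Cfsg.pCore p A := by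
  rw [← map_pCore_mulEquiv p e]
  constructor
  · rintro ⟨a', ha', h⟩
    have : a' = a := e.injective h
    rw [← this]; exact ha'
  · intro h
    exact ⟨a, h, rfl⟩

/-- `C(O_p) ≤ O_p` is invariant under isomorphism -/
theorem centralizer_pCore_le_of_mulEquiv (p : ℕ) (e : A ≃* B)
    (h : Subgroup.centralizer (Cfsg.pCore p A : Set A) ≤ Cfsg.pCore p A) :
    Subgroup.centralizer (Cfsg.pCore p B : Set B) ≤ Cfsg.pCore p B := by
  intro b hb
  have h1 : e.symm b ∈ Subgroup.centralizer (Cfsg.pCore p A : Set A) := by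
    rw [Subgroup.mem_centralizer_iff]
    intro a ha
    have ha' : e a ∈ Cfsg.pCore p B := (mem_pCore_mulEquiv_iff p e a).mpr ha
    have := Subgroup.mem_centralizer_iff.mp hb (e a) ha'
    apply e.injective
    simpa using this
  have h2 := h h1
  have := (mem_pCore_mulEquiv_iff p e (e.symm b)).mpr h2
  simpa using this

end transport

section abstract

variable {Y : Type*} [Group Y] [Finite Y] (p : ℕ) [Fact p.Prime]

/-- If `C_Y(O_p(Y)) ≤ O_p(Y)`, a `p'`-element of a normal subgroup `X'` centralizing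
`O_p(Y) ∩ X'` is trivial. -/
theorem eq_one_of_centralizes_pCore_inf
    (h : Subgroup.centralizer (Cfsg.pCore p Y : Set Y) ≤ Cfsg.pCore p Y)
    (X' : Subgroup Y) [X'.Normal] (x : Y) (hx : x ∈ X') (hcop : (orderOf x).Coprime p)
    (hc : ∀ y ∈ Cfsg.pCore p Y ⊓ X', x * y = y * x) : x = 1 := by
  set Q := Cfsg.pCore p Y with hQ
  set A := Subgroup.zpowers x with hA
  have hAX : A ≤ X' := Subgroup.zpowers_le.mpr hx
  have h1 : ⁅Q, A⁆ ≤ Q ⊓ X' :=
    le_inf (Subgroup.commutator_le_left Q A)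
      ((Subgroup.commutator_mono le_rfl hAX).trans (Subgroup.commutator_le_right Q X'))
  have h2 : ⁅⁅Q, A⁆, A⁆ = ⊥ := by
    rw [Subgroup.commutator_eq_bot_iff_le_centralizer]
    refine h1.trans ?_
    rw [Subgroup.le_centralizer_iff]
    rw [hA, Subgroup.zpowers_le, Subgroup.mem_centralizer_iff]
    intro y hy
    exact (hc y hy).symm
  have h3 : (Nat.card ↥A).Coprime (Nat.card ↥Q) := by
    rw [hA, Nat.card_zpowers]
    obtain ⟨n, hn⟩ := IsPGroup.iff_card.mp (pCore_isPGroup (G := Y) p)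
    rw [hn]
    exact Nat.Coprime.pow_right n hcop
  have h4 : A ≤ Subgroup.normalizer (Q : Set Y) := by
    rw [Subgroup.normalizer_eq_top Q]; exact le_top
  have h5 := le_centralizer_of_commutator_commutator_eq_bot h3 h4 h2
  have h6 : x ∈ Subgroup.centralizer (Q : Set Y) :=
    Subgroup.le_centralizer_iff.mp h5 (Subgroup.mem_zpowers x)
  exact eq_one_of_isPGroup_of_coprime (pCore_isPGroup p) (h h6) hcop

end abstract

section involution

theorem le_normalizer_of_forall_conj_mem {G : Type*} [Group G] {H K : Subgroup G}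
    (h : ∀ g ∈ H, ∀ y ∈ K, g * y * g⁻¹ ∈ K) : H ≤ Subgroup.normalizer (K : Set G) := by
  intro g hg
  rw [Subgroup.mem_normalizer_iff]
  intro y
  constructor
  · exact h g hg y
  · intro hy
    have := h g⁻¹ (H.inv_mem hg) _ hy
    have h2 : g⁻¹ * (g * y * g⁻¹) * g⁻¹⁻¹ = y := by group
    rwa [h2] at this

theorem le_normalizer_map_subtype_of_normal {G : Type*} [Group G] {N : Subgroup G}
    (X : Subgroup ↥N) [X.Normal] : N ≤ Subgroup.normalizer ((X.map N.subtype : Subgroup G) : Set G) := by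
  calc N = (⊤ : Subgroup ↥N).map N.subtype := by
        rw [← MonoidHom.range_eq_map, Subgroup.range_subtype]
    _ = (Subgroup.normalizer (X : Set ↥N)).map N.subtype := by rw [Subgroup.normalizer_eq_top X]
    _ ≤ _ := Subgroup.le_normalizer_map _

variable {G : Type*} [Group G] [Finite G]

/-- If `F*(C_G(t)) = O_2(C_G(t))` for all involutions `t`, then `F*(N_G(T)) = O_2(N_G(T))` for every
nontrivial `2`-subgroup `T` (S1292). -/
theorem generalizedFittingSubgroup_normalizer_two
    (h : ∀ t : G, orderOf t = 2 →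
      Cfsg.generalizedFittingSubgroup ↥(Subgroup.centralizer ({t} : Set G)) =
        Cfsg.pCore 2 ↥(Subgroup.centralizer ({t} : Set G)))
    (T : Subgroup G) (hT : IsPGroup 2 ↥T) (hT1 : T ≠ ⊥) :
    Cfsg.generalizedFittingSubgroup ↥(Subgroup.normalizer (T : Set G)) =
      Cfsg.pCore 2 ↥(Subgroup.normalizer (T : Set G)) := by
  obtain ⟨t, htT, ht2, htc⟩ : ∃ t ∈ T, orderOf t = 2 ∧ ∀ u ∈ T, u * t = t * u := by
    haveI : Nontrivial ↥T := (Subgroup.nontrivial_iff_ne_bot T).mpr hT1
    haveI := hT.center_nontrivial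
    have hZ : IsPGroup 2 ↥(center ↥T) := hT.to_subgroup _
    obtain ⟨n, hn0, hn⟩ := hZ.nontrivial_iff_card.mp inferInstance
    obtain ⟨z, hz⟩ := exists_prime_orderOf_dvd_card' (G := ↥(center ↥T)) 2
      (hn ▸ dvd_pow_self 2 hn0.ne')
    refine ⟨((z : ↥T) : G), (z : ↥T).2, ?_, ?_⟩
    · rw [Subgroup.orderOf_coe, Subgroup.orderOf_coe]; exact hz
    · intro u hu
      have := Subgroup.mem_center_iff.mp z.2 ⟨u, hu⟩
      exact congrArg Subtype.val this
  set N := Subgroup.normalizer (T : Set G) with hN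
  set C := Subgroup.centralizer ({t} : Set G) with hC
  have hTC : T ≤ C := by
    intro u hu
    rw [hC, Subgroup.mem_centralizer_iff]
    intro y hy
    rw [Set.mem_singleton_iff] at hy
    subst hy
    exact (htc u hu).symm
  have hTN : T ≤ N := Subgroup.le_normalizer
  have hM : Subgroup.centralizer (Cfsg.pCore 2 ↥(N ⊓ C) : Set ↥(N ⊓ C)) ≤
      Cfsg.pCore 2 ↥(N ⊓ C) := by
    have h1 := centralizer_pCore_normalizer_le 2
      (centralizer_pCore_le_of_generalizedFittingSubgroup_eq 2 (h t ht2)) (T.subgroupOf C)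
      hT.comap_subtype
    have e : ↥(Subgroup.normalizer ((T.subgroupOf C : Subgroup ↥C) : Set ↥C)) ≃* ↥(N ⊓ C) :=
      (MulEquiv.subgroupCongr (by
        rw [← Subgroup.subgroupOf_normalizer_eq hTC, Subgroup.inf_subgroupOf_right])).trans
        (Subgroup.subgroupOfEquivOfLe inf_le_right)
    exact centralizer_pCore_le_of_mulEquiv 2 e h1
  apply generalizedFittingSubgroup_eq_pCore_of_centralizer_le 2
  set X := Subgroup.centralizer (Cfsg.pCore 2 ↥N : Set ↥N) with hX
  haveI hXn : X.Normal := inferInstance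
  apply le_pCore inferInstance
  apply isPGroup_of_forall_coprime_eq_one
  intro x hx hcop
  have hXT : ∀ g : ↥N, g ∈ X → ∀ u ∈ T, (g : G) * u = u * (g : G) := by
    intro g hg u hu
    have hu' : (⟨u, hTN hu⟩ : ↥N) ∈ Cfsg.pCore 2 ↥N :=
      le_pCore Subgroup.normal_in_normalizer hT.comap_subtype (Subgroup.mem_subgroupOf.mpr hu)
    have := Subgroup.mem_centralizer_iff.mp hg _ hu'
    exact (congrArg Subtype.val this).symm
  have hXC : ∀ g : ↥N, g ∈ X → (g : G) ∈ N ⊓ C := by
    intro g hg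
    refine ⟨g.2, ?_⟩
    show (g : G) ∈ Subgroup.centralizer ({t} : Set G)
    rw [Subgroup.mem_centralizer_iff]
    intro y hy
    rw [Set.mem_singleton_iff] at hy
    subst hy
    exact (hXT g hg _ htT).symm
  set M := N ⊓ C with hMdef
  set X' : Subgroup ↥M := (X.map N.subtype).subgroupOf M with hX'
  haveI hX'n : X'.Normal :=
    Subgroup.normal_subgroupOf_of_le_normalizer
      (inf_le_left.trans (le_normalizer_map_subtype_of_normal X))
  have hxM : (x : G) ∈ M := hXC x hx
  set xM : ↥M := ⟨(x : G), hxM⟩ with hxMdef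
  have hxX' : xM ∈ X' := Subgroup.mem_subgroupOf.mpr ⟨x, hx, rfl⟩
  have hcopM : (orderOf xM).Coprime 2 := by
    rw [Subgroup.orderOf_mk, Subgroup.orderOf_coe]; exact hcop
  set W := Cfsg.pCore 2 ↥M ⊓ X' with hW
  haveI hWn : W.Normal := inferInstance
  -- the image of `W` in `N`
  set YN : Subgroup ↥N := (W.map M.subtype).subgroupOf N with hYN
  have hYNp : IsPGroup 2 ↥YN :=
    (((pCore_isPGroup (G := ↥M) 2).to_le inf_le_left).map M.subtype).comap_subtype
  have hYNX : YN ≤ X := by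
    intro y' hy'
    obtain ⟨w, hw, hwy⟩ := Subgroup.mem_subgroupOf.mp hy'
    obtain ⟨v, hv, hvw⟩ := Subgroup.mem_subgroupOf.mp hw.2
    have : v = y' := Subtype.ext (hvw.trans hwy)
    rw [← this]; exact hv
  have hconj : ∀ g ∈ X, ∀ y' ∈ YN, g * y' * g⁻¹ ∈ YN := by
    intro g hg y' hy'
    obtain ⟨w, hw, hwy⟩ := Subgroup.mem_subgroupOf.mp hy'
    have hgM : (g : G) ∈ M := hXC g hg
    have h1 : (⟨(g : G), hgM⟩ : ↥M) * w * (⟨(g : G), hgM⟩ : ↥M)⁻¹ ∈ W :=
      hWn.conj_mem w hw _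
    refine Subgroup.mem_subgroupOf.mpr ⟨_, h1, ?_⟩
    have hwy' : (w : G) = (y' : G) := hwy
    simp [hwy']
  have hYNsub : YN.IsSubnormal :=
    Subgroup.IsSubnormal.step YN X hYNX hXn.isSubnormal
      (Subgroup.normal_subgroupOf_of_le_normalizer (le_normalizer_of_forall_conj_mem hconj))
  have hYNle : YN ≤ Cfsg.pCore 2 ↥N := subnormal_isPGroup_le_pCore 2 YN hYNsub hYNp
  have hWc : ∀ y ∈ W, xM * y = y * xM := by
    intro y hy
    obtain ⟨yN, hyN, hyy⟩ := Subgroup.mem_subgroupOf.mp hy.2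
    have hyy' : (yN : G) = (y : G) := hyy
    have hyP : yN ∈ Cfsg.pCore 2 ↥N := by
      apply hYNle
      exact Subgroup.mem_subgroupOf.mpr ⟨y, hy, hyy'.symm⟩
    have h1 := Subgroup.mem_centralizer_iff.mp hx yN hyP
    apply Subtype.ext
    show (x : G) * (y : G) = (y : G) * (x : G)
    rw [← hyy']
    exact (congrArg Subtype.val h1).symm
  have h1 := eq_one_of_centralizes_pCore_inf 2 hM X' xM hxX' hcopM hWc
  have h2 : (x : G) = 1 := congrArg Subtype.val h1
  exact Subtype.ext h2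

end involution

end Cfsg.Agent.Helper7
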