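import Mathlib
import Cfsg.Prelude.Def_Local
import Cfsg.Agent.Lib.Helper7.PLocal6

set_option autoImplicit false

namespace Cfsg.Agent.Helper7

open Subgroup
open scoped commutatorElement

variable {G : Type*} [Group G]

/-- `O_p(C)`, as a subgroup of `G`, is normalized by `N_G(C)`. -/
theorem normalizer_le_normalizer_map_pCore (p : ℕ) [Fact p.Prime] (C : Subgroup G) :
    Subgroup.normalizer (C : Set G) ≤
      Subgroup.normalizer (((Cfsg.pCore p ↥C).map C.subtype : Subgroup G) : Set G) := by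
  set Q := (Cfsg.pCore p ↥C).map C.subtype with hQ
  have hQC : Q ≤ C := Subgroup.map_subtype_le _
  have hCQ : C ≤ Subgroup.normalizer (Q : Set G) :=
    le_normalizer_map_subtype_of_normal (Cfsg.pCore p ↥C)
  apply le_normalizer_of_forall_conj_mem
  intro g hg y hy
  set Q' := Q.map (MulAut.conj g).toMonoidHom with hQ'
  have hmem : ∀ z, z ∈ Q' ↔ g⁻¹ * z * g ∈ Q := by
    intro z
    constructor
    · rintro ⟨w, hw, rfl⟩
      simpa [MulAut.conj_apply, mul_assoc] using hw
    · intro h
      refine ⟨g⁻¹ * z * g, h, ?_⟩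
      simp [MulAut.conj_apply, mul_assoc]
  have hQ'C : Q' ≤ C := by
    intro z hz
    have h1 : g⁻¹ * z * g ∈ C := hQC ((hmem z).mp hz)
    have h2 := (Subgroup.mem_normalizer_iff.mp hg (g⁻¹ * z * g)).mp h1
    have h3 : g * (g⁻¹ * z * g) * g⁻¹ = z := by group
    rwa [h3] at h2
  have hCQ' : C ≤ Subgroup.normalizer (Q' : Set G) := by
    apply le_normalizer_of_forall_conj_mem
    intro c hc z hz
    rw [hmem] at hz ⊢
    have hc' : g⁻¹ * c * g ∈ C := by
      have := (Subgroup.mem_normalizer_iff.mp (Subgroup.inv_mem _ hg) c).mp hc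
      simpa using this
    have h1 := (Subgroup.mem_normalizer_iff.mp (hCQ hc') (g⁻¹ * z * g)).mp hz
    have h2 : g⁻¹ * c * g * (g⁻¹ * z * g) * (g⁻¹ * c * g)⁻¹ = g⁻¹ * (c * z * c⁻¹) * g := by group
    rwa [h2] at h1
  have hQ'p : IsPGroup p ↥Q' := ((pCore_isPGroup (G := ↥C) p).map _).map _
  have h1 : Q'.subgroupOf C ≤ Cfsg.pCore p ↥C :=
    le_pCore (Subgroup.normal_subgroupOf_of_le_normalizer hCQ') hQ'p.comap_subtype
  have h2 : Q' ≤ Q := by
    rw [← Subgroup.map_subgroupOf_eq_of_le hQ'C]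
    exact Subgroup.map_mono h1
  apply h2
  rw [hmem]
  have : g⁻¹ * (g * y * g⁻¹) * g = y := by group
  rw [this]; exact hy

variable [Finite G] (p : ℕ) [Fact p.Prime]

/-- `F*(Y)` is a `p`-group iff `C_Y(O_p(Y)) ≤ O_p(Y)`. -/
theorem isPGroup_generalizedFittingSubgroup_iff {Y : Type*} [Group Y] [Finite Y] :
    IsPGroup p ↥(Cfsg.generalizedFittingSubgroup Y) ↔
      Subgroup.centralizer (Cfsg.pCore p Y : Set Y) ≤ Cfsg.pCore p Y := by
  constructor
  · intro h
    have h1 : Cfsg.generalizedFittingSubgroup Y ≤ Cfsg.pCore p Y := le_pCore inferInstance h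
    have h2 : Cfsg.pCore p Y ≤ Cfsg.generalizedFittingSubgroup Y :=
      (le_fittingSubgroup _ (pCore_isPGroup p).isNilpotent).trans
        fittingSubgroup_le_generalizedFittingSubgroup
    exact centralizer_pCore_le_of_generalizedFittingSubgroup_eq p (le_antisymm h1 h2)
  · intro h
    rw [generalizedFittingSubgroup_eq_pCore_of_centralizer_le p h]
    exact pCore_isPGroup p

/-- one step: `V ≤ U ≤ N(V)`, `U` a `p`-group: `C(O_p) ≤ O_p` passes from `C_G(V)` to `C_G(U)`. -/
theorem centralizer_pCore_le_centralizer_step (U V : Subgroup G) (hVU : V ≤ U)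
    (hUV : U ≤ Subgroup.normalizer (V : Set G)) (hU : IsPGroup p ↥U)
    (hV : Subgroup.centralizer (Cfsg.pCore p ↥(Subgroup.centralizer (V : Set G)) :
      Set ↥(Subgroup.centralizer (V : Set G))) ≤ Cfsg.pCore p ↥(Subgroup.centralizer (V : Set G))) :
    Subgroup.centralizer (Cfsg.pCore p ↥(Subgroup.centralizer (U : Set G)) :
      Set ↥(Subgroup.centralizer (U : Set G))) ≤ Cfsg.pCore p ↥(Subgroup.centralizer (U : Set G)) := by
  set C := Subgroup.centralizer (V : Set G) with hC
  set D := Subgroup.centralizer (U : Set G) with hD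
  have hDC : D ≤ C := Subgroup.centralizer_le (by exact_mod_cast hVU)
  set Q := (Cfsg.pCore p ↥C).map C.subtype with hQ
  have hQp : IsPGroup p ↥Q := (pCore_isPGroup (G := ↥C) p).map _
  have hCQ : C ≤ Subgroup.normalizer (Q : Set G) :=
    le_normalizer_map_subtype_of_normal (Cfsg.pCore p ↥C)
  have hUC : U ≤ Subgroup.normalizer (C : Set G) := by
    refine hUV.trans ?_
    intro g hg
    rw [Subgroup.mem_normalizer_iff] at hg ⊢
    intro c
    constructor
    · intro hc
      rw [hC, Subgroup.mem_centralizer_iff] at hc ⊢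
      intro v hv
      have hv' : g⁻¹ * v * g ∈ V := by
        have := (hg (g⁻¹ * v * g)).mpr (by
          have : g * (g⁻¹ * v * g) * g⁻¹ = v := by group
          rw [this]; exact hv)
        exact this
      have := hc _ hv'
      calc v * (g * c * g⁻¹) = g * ((g⁻¹ * v * g) * c) * g⁻¹ := by group
        _ = g * (c * (g⁻¹ * v * g)) * g⁻¹ := by rw [this]
        _ = g * c * g⁻¹ * v := by group
    · intro hc
      rw [hC, Subgroup.mem_centralizer_iff] at hc ⊢
      intro v hv
      have hv' : g * v * g⁻¹ ∈ V := (hg v).mp hv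
      have := hc _ hv'
      calc v * c = g⁻¹ * ((g * v * g⁻¹) * (g * c * g⁻¹)) * g := by group
        _ = g⁻¹ * ((g * c * g⁻¹) * (g * v * g⁻¹)) * g := by rw [this]
        _ = c * v := by group
  have hUQ : U ≤ Subgroup.normalizer (Q : Set G) :=
    hUC.trans (normalizer_le_normalizer_map_pCore p C)
  apply le_pCore inferInstance
  apply isPGroup_of_forall_coprime_eq_one
  intro x hx hcop
  have hxC : (x : G) ∈ C := hDC x.2
  have hxQ : (x : G) ∈ Subgroup.centralizer (Q : Set G) := by
    apply thompson_AxB_element p Q U hQp hU hUQ (x : G) (hCQ hxC)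
    · rw [Subgroup.orderOf_coe]; exact hcop
    · exact x.2
    · rw [Subgroup.mem_centralizer_iff]
      intro y hy
      have hyD : y ∈ D := hy.2
      have hnorm : ((Q ⊓ D).subgroupOf D).Normal := by
        apply Subgroup.normal_subgroupOf_of_le_normalizer
        exact (le_inf (hDC.trans hCQ) Subgroup.le_normalizer).trans
          Subgroup.inf_normalizer_le_normalizer_inf
      have hle : (Q ⊓ D).subgroupOf D ≤ Cfsg.pCore p ↥D :=
        le_pCore hnorm (hQp.to_le inf_le_left).comap_subtype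
      have hy' : (⟨y, hyD⟩ : ↥D) ∈ Cfsg.pCore p ↥D := hle (Subgroup.mem_subgroupOf.mpr hy)
      have := Subgroup.mem_centralizer_iff.mp hx _ hy'
      exact congrArg Subtype.val this
  have hxC' : (⟨(x : G), hxC⟩ : ↥C) ∈ Subgroup.centralizer (Cfsg.pCore p ↥C : Set ↥C) := by
    rw [Subgroup.mem_centralizer_iff]
    intro y hy
    have := Subgroup.mem_centralizer_iff.mp hxQ (y : G) (Subgroup.mem_map_of_mem _ hy)
    exact Subtype.ext this
  have h1 := hV hxC'
  have h2 : (⟨(x : G), hxC⟩ : ↥C) = 1 := by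
    apply eq_one_of_isPGroup_of_coprime (pCore_isPGroup (G := ↥C) p) h1
    rw [Subgroup.orderOf_mk, Subgroup.orderOf_coe]; exact hcop
  have h3 : (x : G) = 1 := congrArg Subtype.val h2
  exact Subtype.ext h3

theorem card_lt_card_of_lt {H K : Subgroup G} (h : H < K) : Nat.card ↥H < Nat.card ↥K := by
  have h1 : Nat.card ↥H ∣ Nat.card ↥K := Subgroup.card_dvd_of_le h.le
  have h2 : Nat.card ↥H ≤ Nat.card ↥K := Nat.le_of_dvd Nat.card_pos h1
  rcases lt_or_eq_of_le h2 with h3 | h3
  · exact h3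
  · exact absurd (Subgroup.eq_of_le_of_card_ge h.le h3.ge) h.ne

/-- a proper subgroup of a finite `p`-group is properly contained in its normalizer there -/
theorem lt_inf_normalizer_of_lt {U V : Subgroup G} (hU : IsPGroup p ↥U) (hlt : V < U) :
    V < U ⊓ Subgroup.normalizer (V : Set G) := by
  haveI : Group.IsNilpotent ↥U := hU.isNilpotent
  have hnc := normalizerCondition_of_isNilpotent (G := ↥U)
  have hlt' : V.subgroupOf U < ⊤ := by
    rw [lt_top_iff_ne_top, Ne, Subgroup.subgroupOf_eq_top]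
    exact not_le_of_gt hlt
  obtain ⟨g, hgN, hgV⟩ := SetLike.exists_of_lt (hnc _ hlt')
  rw [← Subgroup.subgroupOf_normalizer_eq hlt.le] at hgN
  refine lt_of_le_of_ne (le_inf hlt.le Subgroup.le_normalizer) ?_
  intro heq
  apply hgV
  rw [Subgroup.mem_subgroupOf, heq]
  exact ⟨g.2, Subgroup.mem_subgroupOf.mp hgN⟩

theorem centralizer_pCore_le_centralizer_aux : ∀ (n : ℕ) (U V : Subgroup G), V ≤ U →
    IsPGroup p ↥U → Nat.card ↥U - Nat.card ↥V = n →
    Subgroup.centralizer (Cfsg.pCore p ↥(Subgroup.centralizer (V : Set G)) :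
      Set ↥(Subgroup.centralizer (V : Set G))) ≤ Cfsg.pCore p ↥(Subgroup.centralizer (V : Set G)) →
    Subgroup.centralizer (Cfsg.pCore p ↥(Subgroup.centralizer (U : Set G)) :
      Set ↥(Subgroup.centralizer (U : Set G))) ≤ Cfsg.pCore p ↥(Subgroup.centralizer (U : Set G)) := by
  intro n
  induction n using Nat.strong_induction_on with
  | _ n ih =>
    intro U V hVU hU hn hV
    by_cases heq : V = U
    · subst heq; exact hV
    have hlt : V < U := lt_of_le_of_ne hVU heq
    set V₁ := U ⊓ Subgroup.normalizer (V : Set G) with hV₁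
    have hlt₁ : V < V₁ := lt_inf_normalizer_of_lt p hU hlt
    have hV₁U : V₁ ≤ U := inf_le_left
    have h1 := centralizer_pCore_le_centralizer_step p V₁ V hlt₁.le inf_le_right
      (hU.to_le hV₁U) hV
    have hc1 : Nat.card ↥V < Nat.card ↥V₁ := card_lt_card_of_lt hlt₁
    have hc2 : Nat.card ↥V₁ ≤ Nat.card ↥U :=
      Nat.le_of_dvd Nat.card_pos (Subgroup.card_dvd_of_le hV₁U)
    exact ih (Nat.card ↥U - Nat.card ↥V₁) (by omega) U V₁ hV₁U hU rfl h1

/-- S1246: if `F*(C_G(V))` is a `p`-group and `V ≤ U` are `p`-subgroups, `F*(C_G(U))` is a `p`-group. -/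
theorem isPGroup_generalizedFittingSubgroup_centralizer_of_le (U V : Subgroup G) (hVU : V ≤ U)
    (hU : IsPGroup p ↥U)
    (hV : IsPGroup p ↥(Cfsg.generalizedFittingSubgroup ↥(Subgroup.centralizer (V : Set G)))) :
    IsPGroup p ↥(Cfsg.generalizedFittingSubgroup ↥(Subgroup.centralizer (U : Set G))) := by
  rw [isPGroup_generalizedFittingSubgroup_iff] at hV ⊢
  exact centralizer_pCore_le_centralizer_aux p _ U V hVU hU rfl hV

end Cfsg.Agent.Helper7
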