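import Mathlib
import Cfsg.Prelude.Def_Transfer
import Cfsg.Agent.Lib.Helper7.CoprimeGen1
import Cfsg.Agent.Lib.Helper7.PLocal7

set_option autoImplicit false

namespace Cfsg.Agent.Helper7

open Subgroup
open scoped commutatorElement

variable {H : Type*} [Group H]

/-- The subgroup of `X` generated by the centralizers in `X` of the subgroups of index at most `p`
of `A`. -/
def hyperGen (p : ℕ) (A X : Subgroup H) : Subgroup H :=
  ⨆ B : {B : Subgroup H // B ≤ A ∧ B.relIndex A ≤ p}, X ⊓ Subgroup.centralizer ((B : Subgroup H) : Set H)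

theorem hyperGen_le (p : ℕ) (A X : Subgroup H) : hyperGen p A X ≤ X :=
  iSup_le (fun _ => inf_le_left)

theorem hyperGen_mono (p : ℕ) (A : Subgroup H) {X Y : Subgroup H} (h : X ≤ Y) :
    hyperGen p A X ≤ hyperGen p A Y :=
  iSup_le (fun B => le_trans (inf_le_inf_right _ h)
    (le_iSup (fun B : {B : Subgroup H // B ≤ A ∧ B.relIndex A ≤ p} =>
      Y ⊓ Subgroup.centralizer ((B : Subgroup H) : Set H)) B))

theorem isElementaryAbelian_comm {p : ℕ} {A : Subgroup H} (hA : Cfsg.IsElementaryAbelian p A)
    {a b : H} (ha : a ∈ A) (hb : b ∈ A) : a * b = b * a := by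
  haveI := hA.1
  exact congrArg Subtype.val (mul_comm' (⟨a, ha⟩ : ↥A) ⟨b, hb⟩)

theorem relIndex_mul_card_of_le {K A : Subgroup H} (h : K ≤ A) :
    K.relIndex A * Nat.card ↥K = Nat.card ↥A := by
  have h1 := (K.subgroupOf A).index_mul_card
  rw [Nat.card_congr (Subgroup.subgroupOfEquivOfLe h).toEquiv] at h1
  exact h1

theorem mem_of_pow_mem_of_not_dvd {p : ℕ} (hpp : p.Prime) {K : Subgroup H} {a : H} (hap : a ^ p = 1)
    {i : ℕ} (hi : ¬ p ∣ i) (h : a ^ i ∈ K) : a ∈ K := by
  have hcop : i.Coprime (orderOf a) :=
    Nat.Coprime.coprime_dvd_right (orderOf_dvd_of_pow_eq_one hap)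
      ((Nat.Prime.coprime_iff_not_dvd hpp).mpr hi).symm
  obtain ⟨m, hm⟩ := exists_pow_eq_self_of_coprime hcop
  rw [← hm]
  exact K.pow_mem h m

theorem pow_eq_one_of_dvd {p : ℕ} {a : H} (hap : a ^ p = 1) {i : ℕ} (hi : p ∣ i) : a ^ i = 1 := by
  obtain ⟨k, rfl⟩ := hi
  rw [pow_mul, hap, one_pow]

/-- generation for `q`-groups, by induction on the order -/
theorem le_hyperGen_of_isPGroup_aux [Finite H] (p : ℕ) [Fact p.Prime] (A : Subgroup H)
    (hA : Cfsg.IsElementaryAbelian p A) (q : ℕ) [Fact q.Prime] (hqp : q ≠ p) :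
    ∀ n : ℕ, ∀ X : Subgroup H, Nat.card ↥X = n → IsPGroup q ↥X →
      A ≤ Subgroup.normalizer (X : Set H) → X ≤ hyperGen p A X := by
  have hpp := (Fact.out : p.Prime)
  have hqq := (Fact.out : q.Prime)
  intro n
  induction n using Nat.strong_induction_on with
  | _ n ih =>
    intro X hXn hXq hAX
    have hXp : ¬ p ∣ Nat.card ↥X := by
      intro hd
      obtain ⟨k, hk⟩ := hXq.exists_card_eq
      rw [hk] at hd
      exact hqp ((Nat.prime_dvd_prime_iff_eq hpp hqq).mp (hpp.dvd_of_dvd_pow hd)).symm
    -- the kernel of the action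
    set K := A ⊓ Subgroup.centralizer (X : Set H) with hK
    have hKA : K ≤ A := inf_le_left
    have hXK : X ≤ Subgroup.centralizer (K : Set H) := by
      rw [← Subgroup.le_centralizer_iff]
      exact inf_le_right
    by_cases hcase1 : K = A
    · -- everything centralizes
      refine le_trans ?_ (le_iSup (fun B : {B : Subgroup H // B ≤ A ∧ B.relIndex A ≤ p} =>
        X ⊓ Subgroup.centralizer ((B : Subgroup H) : Set H)) ⟨K, hKA, ?_⟩)
      · exact le_inf le_rfl hXK
      · rw [hcase1, Subgroup.relIndex_self]
        exact hpp.one_lt.le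
    · obtain ⟨a, haA, haK⟩ : ∃ a ∈ A, a ∉ K := by
        by_contra hcon
        push_neg at hcon
        exact hcase1 (le_antisymm hKA hcon)
      have hap : a ^ p = 1 := hA.2 a haA
      set K' := K ⊔ Subgroup.zpowers a with hK'
      have hK'A : K' ≤ A := sup_le hKA (by rw [Subgroup.zpowers_le]; exact haA)
      by_cases hcase2 : K' = A
      · refine le_trans ?_ (le_iSup (fun B : {B : Subgroup H // B ≤ A ∧ B.relIndex A ≤ p} =>
          X ⊓ Subgroup.centralizer ((B : Subgroup H) : Set H)) ⟨K, hKA, ?_⟩)
        · exact le_inf le_rfl hXK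
        · -- index at most p
          have hzn : Subgroup.zpowers a ≤ Subgroup.normalizer (K : Set H) := by
            rw [Subgroup.zpowers_le]
            apply Subgroup.centralizer_le_normalizer
            rw [Subgroup.mem_centralizer_iff]
            intro k hk
            exact isElementaryAbelian_comm hA (hKA hk) haA
          have h1 : Nat.card ↥A ∣ Nat.card ↥K * p := by
            rw [← hcase2, hK']
            refine (card_sup_dvd_mul_of_le_normalizer hzn).trans ?_
            apply Nat.mul_dvd_mul_left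
            rw [Nat.card_zpowers]
            exact orderOf_dvd_of_pow_eq_one hap
          rw [← relIndex_mul_card_of_le hKA, mul_comm] at h1
          have h2 : K.relIndex A ∣ p := Nat.dvd_of_mul_dvd_mul_left Nat.card_pos h1
          exact Nat.le_of_dvd hpp.pos h2
      · obtain ⟨b, hbA, hbK'⟩ : ∃ b ∈ A, b ∉ K' := by
          by_contra hcon
          push_neg at hcon
          exact hcase2 (le_antisymm hK'A hcon)
        have hbp : b ^ p = 1 := hA.2 b hbA
        have hgen := rank_two_generation p X hXq.isNilpotent hXp a b (hAX haA) (hAX hbA)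
          (isElementaryAbelian_comm hA haA hbA) hap hbp
        refine hgen.trans (iSup_le ?_)
        rintro ⟨⟨i, j⟩, hij⟩
        simp only
        set c := a ^ i * b ^ j with hc
        have hcA : c ∈ A := A.mul_mem (A.pow_mem haA i) (A.pow_mem hbA j)
        have hcK : c ∉ K := by
          intro hcK
          by_cases hj : p ∣ j
          · have hbj : b ^ j = 1 := pow_eq_one_of_dvd hbp hj
            have hi : ¬ p ∣ i := fun hi => hij ⟨hi, hj⟩
            rw [hc, hbj, mul_one] at hcK
            exact haK (mem_of_pow_mem_of_not_dvd hpp hap hi hcK)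
          · have hbj : b ^ j ∈ K' := by
              have : b ^ j = (a ^ i)⁻¹ * c := by rw [hc]; group
              rw [this]
              exact K'.mul_mem (K'.inv_mem (K'.pow_mem
                (Subgroup.mem_sup_right (Subgroup.mem_zpowers a)) i)) (Subgroup.mem_sup_left hcK)
            exact hbK' (mem_of_pow_mem_of_not_dvd hpp hbp hj hbj)
        set Y := X ⊓ Subgroup.centralizer {c} with hY
        have hYX : Y < X := by
          refine lt_of_le_of_ne inf_le_left ?_
          intro heq
          apply hcK
          refine Subgroup.mem_inf.mpr ⟨hcA, ?_⟩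
          rw [Subgroup.mem_centralizer_iff]
          intro x hx
          have hx' : x ∈ Y := by rw [heq]; exact hx
          have := (Subgroup.mem_inf.mp hx').2
          rw [Subgroup.mem_centralizer_singleton_iff] at this
          exact this
        have hAY : A ≤ Subgroup.normalizer (Y : Set H) := by
          intro g hg
          exact mem_normalizer_inf_centralizer_singleton (hAX hg)
            (isElementaryAbelian_comm hA hg hcA)
        have := ih (Nat.card ↥Y) (by rw [← hXn]; exact card_lt_card_of_lt hYX) Y rfl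
          (hXq.to_le inf_le_left) hAY
        exact this.trans (hyperGen_mono p A inf_le_left)

theorem isPGroup_of_isElementaryAbelian {p : ℕ} {A : Subgroup H}
    (hA : Cfsg.IsElementaryAbelian p A) : IsPGroup p ↥A := by
  intro u
  refine ⟨1, ?_⟩
  rw [pow_one]
  exact Subtype.ext (hA.2 u u.2)

/-- **Coprime generation**: an elementary abelian `p`-group `A` normalizing a `p'`-group `X`:
`X` is generated by the `C_X(B)`, `B ≤ A` of index at most `p`. -/
theorem le_hyperGen [Finite H] (p : ℕ) [Fact p.Prime] (A X : Subgroup H)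
    (hA : Cfsg.IsElementaryAbelian p A) (hX : ¬ p ∣ Nat.card ↥X)
    (hAX : A ≤ Subgroup.normalizer (X : Set H)) : X ≤ hyperGen p A X := by
  have hpp := (Fact.out : p.Prime)
  have hAp := isPGroup_of_isElementaryAbelian hA
  have hcop : (Nat.card ↥X).Coprime p := ((Nat.Prime.coprime_iff_not_dvd hpp).mpr hX).symm
  have key : ∀ r : ℕ, r.Prime →
      r ^ (Nat.card ↥X).factorization r ∣ Nat.card ↥(hyperGen p A X) := by
    intro r hr
    haveI : Fact r.Prime := ⟨hr⟩
    by_cases hrp : r = p
    · subst hrp
      rw [Nat.factorization_eq_zero_of_not_dvd hX, pow_zero]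
      exact one_dvd _
    · obtain ⟨P, hPX, hPr, hPcard, hAP⟩ :=
        Cfsg.Agent.Helper15.exists_invariant_sylow_of_coprime r hAp hcop hAX
      have h1 : P ≤ hyperGen p A X :=
        (le_hyperGen_of_isPGroup_aux p A hA r hrp _ P rfl hPr hAP).trans (hyperGen_mono p A hPX)
      rw [← hPcard]
      exact Subgroup.card_dvd_of_le h1
  have hdvd : Nat.card ↥X ∣ Nat.card ↥(hyperGen p A X) := by
    rw [← Nat.factorization_prime_le_iff_dvd Nat.card_pos.ne' Nat.card_pos.ne']
    intro r hr
    exact (Nat.Prime.pow_dvd_iff_le_factorization hr Nat.card_pos.ne').mp (key r hr)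
  have heq := Subgroup.eq_of_le_of_card_ge (hyperGen_le p A X) (Nat.le_of_dvd Nat.card_pos hdvd)
  rw [heq]

end Cfsg.Agent.Helper7
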