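import Mathlib
import Cfsg.Prelude.Def_Transfer
import Cfsg.Prelude.Def_Local
import Cfsg.Prelude.Def_Balance
import Cfsg.Agent.Lib.Helper7.CoprimeGen2

set_option autoImplicit false

namespace Cfsg.Agent.Helper7

open Subgroup
open scoped commutatorElement

variable {H : Type*} [Group H]

/-- In a nontrivial finite `p`-group `B`, below every subgroup of index at most `p` there is one of
index exactly `p`. -/
theorem exists_le_relIndex_eq [Finite H] (p : ℕ) [Fact p.Prime] {B D' : Subgroup H}
    (hB : IsPGroup p ↥B) (hB1 : B ≠ ⊥) (hD' : D' ≤ B) (hr : D'.relIndex B ≤ p) :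
    ∃ D : Subgroup H, D ≤ D' ∧ D ≤ B ∧ D.relIndex B = p := by
  have hpp := (Fact.out : p.Prime)
  obtain ⟨n, hn⟩ := hB.exists_card_eq
  have hdvd : D'.relIndex B ∣ p ^ n := by rw [← hn]; exact Subgroup.relIndex_dvd_card _ _
  obtain ⟨k, hk, hkeq⟩ := (Nat.dvd_prime_pow hpp).mp hdvd
  have hk1 : k ≤ 1 := by
    by_contra hcon
    push_neg at hcon
    have : p ^ 2 ≤ p ^ k := Nat.pow_le_pow_right hpp.pos hcon
    rw [← hkeq] at this
    have h2 : p ^ 2 ≤ p := this.trans hr
    have h3 : p * p ≤ p * 1 := by rw [mul_one, ← sq]; exact h2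
    have := Nat.le_of_mul_le_mul_left h3 hpp.pos
    exact absurd hpp.one_lt (not_lt.mpr this)
  interval_cases k
  · -- index one: D' = B, choose a maximal subgroup
    rw [pow_zero, Subgroup.relIndex_eq_one] at hkeq
    have hn1 : 1 ≤ n := by
      by_contra hcon
      push_neg at hcon
      have : n = 0 := by omega
      rw [this, pow_zero] at hn
      exact hB1 (Subgroup.card_eq_one.mp hn)
    obtain ⟨K, hK⟩ := Sylow.exists_subgroup_card_pow_prime (G := ↥B) p (n := n - 1)
      (by rw [hn]; exact pow_dvd_pow p (Nat.sub_le n 1))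
    refine ⟨K.map B.subtype, (Subgroup.map_subtype_le K).trans hkeq, Subgroup.map_subtype_le K, ?_⟩
    have h1 := relIndex_mul_card_of_le (Subgroup.map_subtype_le K)
    rw [card_map_subtype, hK, hn] at h1
    have h2 : p ^ n = p * p ^ (n - 1) := by
      rw [← pow_succ']
      congr 1
      omega
    rw [h2] at h1
    exact Nat.eq_of_mul_eq_mul_right (pow_pos hpp.pos _) h1
  · exact ⟨D', le_rfl, hD', by rw [hkeq, pow_one]⟩

/-- `hyperGen` is already generated by the centralizers of the subgroups of index exactly `p`. -/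
theorem hyperGen_le_iSup_relIndex_eq [Finite H] (p : ℕ) [Fact p.Prime] {B : Subgroup H}
    (hB : IsPGroup p ↥B) (hB1 : B ≠ ⊥) (X : Subgroup H) :
    hyperGen p B X ≤ ⨆ D : {D : Subgroup H // D ≤ B ∧ D.relIndex B = p},
      X ⊓ Subgroup.centralizer ((D : Subgroup H) : Set H) := by
  apply iSup_le
  rintro ⟨D', hD'B, hD'r⟩
  obtain ⟨D, hDD', hDB, hDr⟩ := exists_le_relIndex_eq p hB hB1 hD'B hD'r
  refine le_trans ?_ (le_iSup (fun D : {D : Subgroup H // D ≤ B ∧ D.relIndex B = p} =>
      X ⊓ Subgroup.centralizer ((D : Subgroup H) : Set H)) ⟨D, hDB, hDr⟩)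
  exact inf_le_inf_left _ (Subgroup.centralizer_le hDD')

end Cfsg.Agent.Helper7
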