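import Mathlib
import Cfsg.Prelude.Def_Local
import Cfsg.Prelude.Def_Balance
import Cfsg.Agent.Lib.Helper7.Signalizer
import Cfsg.Agent.Lib.Helper7.PLocal5
import Cfsg.Agent.Lib.Helper7.Cores
import Cfsg.Agent.Lib.Helper1.CharacteristicMap

set_option autoImplicit false

namespace Cfsg.Agent.Helper7

open Subgroup
open scoped commutatorElement

variable {G : Type*} [Group G]

/-- A perfect solvable subgroup is trivial. -/
theorem eq_bot_of_perfect_of_isSolvable {K : Subgroup G} (hK : ⁅K, K⁆ = K)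
    (hs : Group.IsSolvable ↥K) : K = ⊥ := by
  by_contra hne
  have hne' : K ≠ ⊥ := hne
  rw [← Subgroup.nontrivial_iff_ne_bot] at hne'
  have h := Group.IsSolvable.commutator_lt_top_of_nontrivial ↥K
  have h2 : (commutator ↥K).map K.subtype < (⊤ : Subgroup ↥K).map K.subtype :=
    (Subgroup.map_subtype_lt_map_subtype).2 h
  rw [Subgroup.map_subtype_commutator, ← MonoidHom.range_eq_map, K.range_subtype, hK] at h2
  exact lt_irrefl _ h2

/-- A solvable group has trivial `p`-layer. -/
theorem pLayer_eq_bot_of_isSolvable [Finite G] (p : ℕ) [Fact p.Prime] (hs : Group.IsSolvable G) :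
    Cfsg.pLayer p G = ⊥ := by
  unfold Cfsg.pLayer
  rw [sSup_eq_bot]
  intro K hK
  have hK' : Cfsg.IsPComponent p K := hK
  have hsK : Group.IsSolvable ↥K :=
    Group.isSolvable_of_isSolvable_injective (f := K.subtype) K.subtype_injective
  have hbot := eq_bot_of_perfect_of_isSolvable (IsPComponent.perfect p hK') hsK
  exfalso
  have hd := IsPComponent.dvd_card p hK'
  rw [hbot, Subgroup.card_bot] at hd
  exact (Fact.out : p.Prime).one_lt.ne' (Nat.dvd_one.mp hd)

/-- `N(⟨x⟩) ≤ N(C(x))`. -/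
theorem normalizer_zpowers_le_normalizer_centralizer (x : G) :
    Subgroup.normalizer ((Subgroup.zpowers x : Subgroup G) : Set G) ≤
      Subgroup.normalizer ((Subgroup.centralizer ({x} : Set G) : Subgroup G) : Set G) := by
  rw [← centralizer_zpowers_eq]
  exact (Subgroup.normal_subgroupOf_iff_le_normalizer (Subgroup.centralizer_le_normalizer _)).mp
    (Subgroup.normal_subgroupOf_centralizer_normalizer _)

/-- If `L_{p'}(G) = 1` then `O_{p'}(C_G(x)) ≤ O_{p'}(G)` for every element `x` of order `p`. -/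
theorem centralizerPPrimeCore_le_pPrimeCore [Finite G] (p : ℕ) [Fact p.Prime]
    (hL : Cfsg.pLayer p G = ⊥) (x : G) (hx : x ^ p = 1) :
    Cfsg.centralizerPPrimeCore p x ≤ Cfsg.pPrimeCore p G := by
  set P := Subgroup.zpowers x with hPdef
  have hP : IsPGroup p ↥P := by
    intro g
    refine ⟨1, ?_⟩
    obtain ⟨g, hg⟩ := g
    obtain ⟨k, rfl⟩ := Subgroup.mem_zpowers_iff.mp hg
    apply Subtype.ext
    simp only [pow_one, Subgroup.coe_pow, Subgroup.coe_one]
    rw [← zpow_natCast, ← zpow_mul, mul_comm, zpow_mul, zpow_natCast, hx, one_zpow]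
  obtain ⟨-, h2⟩ := pLayer_normalizer_eq_bot p hL P hP
  refine le_trans ?_ h2
  set N := Subgroup.normalizer (P : Set G) with hN
  set D := Cfsg.centralizerPPrimeCore p x with hD
  have hDC : D ≤ Subgroup.centralizer ({x} : Set G) := Subgroup.map_subtype_le _
  have hCN : Subgroup.centralizer ({x} : Set G) ≤ N := by
    rw [← centralizer_zpowers_eq]
    exact Subgroup.centralizer_le_normalizer _
  have hDN : D ≤ N := hDC.trans hCN
  haveI := pPrimeCore_characteristic (G := ↥(Subgroup.centralizer ({x} : Set G))) p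
  have hND : N ≤ Subgroup.normalizer (D : Set G) :=
    (normalizer_zpowers_le_normalizer_centralizer x).trans
      (Cfsg.Agent.Helper1.normalizer_le_normalizer_map_of_characteristic _ _)
  have hnorm : (D.subgroupOf N).Normal :=
    (Subgroup.normal_subgroupOf_iff_le_normalizer hDN).mpr hND
  have hcop : (Nat.card ↥(D.subgroupOf N)).Coprime p := by
    rw [card_subgroupOf_of_le hDN, hD]
    unfold Cfsg.centralizerPPrimeCore
    rw [card_map_subtype]
    exact Cfsg.Agent.Helper22.card_pPrimeCore_coprime p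
  have hle := Cfsg.Agent.Helper22.le_pPrimeCore p _ hnorm hcop
  intro d hd
  exact ⟨⟨d, hDN hd⟩, hle (Subgroup.mem_subgroupOf.mpr hd), rfl⟩

end Cfsg.Agent.Helper7

namespace Cfsg.Agent.Helper7

open Subgroup

variable {G : Type*} [Group G]

/-- Conjugation by an element of `C(a)` preserves `O_{p'}(C(a))`. -/
theorem conj_mem_centralizerPPrimeCore (p : ℕ) {a g d : G}
    (hg : g ∈ Subgroup.centralizer ({a} : Set G)) (hd : d ∈ Cfsg.centralizerPPrimeCore p a) :
    g * d * g⁻¹ ∈ Cfsg.centralizerPPrimeCore p a := by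
  obtain ⟨d', hd', rfl⟩ := hd
  haveI := Cfsg.Agent.Helper22.pPrimeCore_normal (G := ↥(Subgroup.centralizer ({a} : Set G))) p
  exact ⟨⟨g, hg⟩ * d' * ⟨g, hg⟩⁻¹,
    (inferInstance : (Cfsg.pPrimeCore p ↥(Subgroup.centralizer ({a} : Set G))).Normal).conj_mem d' hd' _,
    rfl⟩

/-- `O_{p'}(C(a))` has order prime to `p`. -/
theorem card_centralizerPPrimeCore_coprime [Finite G] (p : ℕ) (a : G) :
    (Nat.card ↥(Cfsg.centralizerPPrimeCore p a)).Coprime p := by
  unfold Cfsg.centralizerPPrimeCore
  rw [card_map_subtype]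
  exact Cfsg.Agent.Helper22.card_pPrimeCore_coprime p

/-- Local balance: if `a` has order `p`, commutes with `b`, and `L_{p'}(C_G(b)) = 1`, then
`O_{p'}(C_G(a)) ∩ C_G(b) ≤ O_{p'}(C_G(b))`. -/
theorem centralizerPPrimeCore_inf_centralizer_le [Finite G] (p : ℕ) [Fact p.Prime] (a b : G)
    (hab : a * b = b * a) (ha : a ^ p = 1)
    (hL : Cfsg.pLayer p ↥(Subgroup.centralizer ({b} : Set G)) = ⊥) :
    Cfsg.centralizerPPrimeCore p a ⊓ Subgroup.centralizer ({b} : Set G) ≤
      Cfsg.centralizerPPrimeCore p b := by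
  set H := Subgroup.centralizer ({b} : Set G) with hH
  have haH : a ∈ H := by
    rw [hH, Subgroup.mem_centralizer_singleton_iff]
    exact hab
  set a' : ↥H := ⟨a, haH⟩ with ha'
  have ha'p : a' ^ p = 1 := Subtype.ext (by simp [ha', ha])
  have hkey := centralizerPPrimeCore_le_pPrimeCore p hL a' ha'p
  set M := Subgroup.centralizer ({a'} : Set ↥H) with hM
  set D₀ := Cfsg.centralizerPPrimeCore p a ⊓ H with hD₀
  set E : Subgroup ↥M := D₀.comap (H.subtype.comp M.subtype) with hE
  have hEn : E.Normal := by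
    constructor
    intro e he g
    rw [hE, Subgroup.mem_comap] at he ⊢
    obtain ⟨he1, he2⟩ := Subgroup.mem_inf.mp he
    have hgC : ((g : ↥H) : G) ∈ Subgroup.centralizer ({a} : Set G) := by
      have h1 : (g : ↥H) ∈ Subgroup.centralizer ({a'} : Set ↥H) := g.2
      rw [Subgroup.mem_centralizer_singleton_iff] at h1
      rw [Subgroup.mem_centralizer_singleton_iff]
      have := congrArg Subtype.val h1
      simpa [ha'] using this
    refine Subgroup.mem_inf.mpr ⟨?_, ?_⟩
    · have := conj_mem_centralizerPPrimeCore p hgC he1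
      simpa using this
    · exact ((g * e * g⁻¹ : ↥M) : ↥H).2
  have hEcop : (Nat.card ↥E).Coprime p := by
    have hinj : Function.Injective (H.subtype.comp M.subtype) :=
      H.subtype_injective.comp M.subtype_injective
    have h1 : Nat.card ↥(E.map (H.subtype.comp M.subtype)) = Nat.card ↥E :=
      Subgroup.card_map_of_injective hinj
    have h2 : E.map (H.subtype.comp M.subtype) ≤ Cfsg.centralizerPPrimeCore p a := by
      rw [hE]
      exact (Subgroup.map_comap_le _ _).trans inf_le_left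
    rw [← h1]
    exact Nat.Coprime.coprime_dvd_left (Subgroup.card_dvd_of_le h2)
      (card_centralizerPPrimeCore_coprime p a)
  have hEle := Cfsg.Agent.Helper22.le_pPrimeCore p E hEn hEcop
  intro d hd
  have hdH : d ∈ H := (Subgroup.mem_inf.mp hd).2
  have hdC : d ∈ Subgroup.centralizer ({a} : Set G) :=
    (Subgroup.map_subtype_le _) (Subgroup.mem_inf.mp hd).1
  have hdM : (⟨d, hdH⟩ : ↥H) ∈ M := by
    rw [hM, Subgroup.mem_centralizer_singleton_iff]
    apply Subtype.ext
    rw [Subgroup.mem_centralizer_singleton_iff] at hdC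
    simpa [ha'] using hdC
  have hdE : (⟨⟨d, hdH⟩, hdM⟩ : ↥M) ∈ E := by
    rw [hE, Subgroup.mem_comap]
    exact hd
  have h3 : (⟨d, hdH⟩ : ↥H) ∈ Cfsg.centralizerPPrimeCore p a' :=
    ⟨⟨⟨d, hdH⟩, hdM⟩, hEle hdE, rfl⟩
  exact ⟨⟨d, hdH⟩, hkey h3, rfl⟩

end Cfsg.Agent.Helper7
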