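import Mathlib
import Cfsg.Prelude.Def_Local
import Cfsg.Agent.Lib.Helper7.PConstrained
import Cfsg.Agent.Lib.Helper7.Signalizer2
import Cfsg.Agent.Lib.Helper7.CoprimeGen3
import Cfsg.Agent.Lib.Helper1.CharacteristicMap

/-!
# `O_{q',q}` of a solvable group and a criterion for `U ≤ O_{q'}(K)` (helper7)
-/

set_option autoImplicit false

namespace Cfsg.Agent.Helper7

open Subgroup
open scoped commutatorElement

section general

variable {Y : Type*} [Group Y]

/-- `O_{q',q}` is characteristic. -/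
theorem pPrimePCore_characteristic (q : ℕ) : (Cfsg.pPrimePCore q Y).Characteristic := by
  rw [Subgroup.characteristic_iff_map_le]
  intro φ x hx
  obtain ⟨y, hy, rfl⟩ := hx
  have hy' : (QuotientGroup.mk' (Cfsg.pPrimeCore q Y)) y ∈
      Cfsg.pCore q (Y ⧸ Cfsg.pPrimeCore q Y) := hy
  show (QuotientGroup.mk' (Cfsg.pPrimeCore q Y)) (φ.toMonoidHom y) ∈
      Cfsg.pCore q (Y ⧸ Cfsg.pPrimeCore q Y)
  have hO : (Cfsg.pPrimeCore q Y).map φ.toMonoidHom = Cfsg.pPrimeCore q Y :=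
    Subgroup.characteristic_iff_map_eq.mp (pPrimeCore_characteristic q) φ
  let ψ : (Y ⧸ Cfsg.pPrimeCore q Y) ≃* (Y ⧸ Cfsg.pPrimeCore q Y) :=
    QuotientGroup.congr (Cfsg.pPrimeCore q Y) (Cfsg.pPrimeCore q Y) φ hO
  have hψ : (Cfsg.pCore q (Y ⧸ Cfsg.pPrimeCore q Y)).map ψ.toMonoidHom =
      Cfsg.pCore q (Y ⧸ Cfsg.pPrimeCore q Y) :=
    Subgroup.characteristic_iff_map_eq.mp (pCore_characteristic q) ψ
  have h1 : ψ ((QuotientGroup.mk' (Cfsg.pPrimeCore q Y)) y) ∈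
      Cfsg.pCore q (Y ⧸ Cfsg.pPrimeCore q Y) := by
    rw [← hψ]
    exact Subgroup.mem_map_of_mem _ hy'
  exact h1

instance pPrimePCore_normal (q : ℕ) : (Cfsg.pPrimePCore q Y).Normal := by
  unfold Cfsg.pPrimePCore
  have : (Cfsg.pCore q (Y ⧸ Cfsg.pPrimeCore q Y)).Normal := by
    unfold Cfsg.pCore
    exact Subgroup.sSup_normal _ (fun _ h => h.1)
  infer_instance

theorem pPrimeCore_le_pPrimePCore_q (q : ℕ) : Cfsg.pPrimeCore q Y ≤ Cfsg.pPrimePCore q Y := by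
  intro x hx
  unfold Cfsg.pPrimePCore
  rw [Subgroup.mem_comap]
  have : (QuotientGroup.mk' (Cfsg.pPrimeCore q Y)) x = 1 := (QuotientGroup.eq_one_iff x).mpr hx
  rw [this]
  exact Subgroup.one_mem _

variable [Finite Y]

/-- In a solvable group, an element acting trivially on `O_{q',q}/O_{q'}` lies in `O_{q',q}`. -/
theorem mem_pPrimePCore_of_forall_commutator_mem (q : ℕ) [Fact q.Prime]
    (hs : Group.IsSolvable Y) (u : Y)
    (h : ∀ x ∈ Cfsg.pPrimePCore q Y, ⁅u, x⁆ ∈ Cfsg.pPrimeCore q Y) :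
    u ∈ Cfsg.pPrimePCore q Y := by
  have hcon : Cfsg.IsPConstrained q Y :=
    (isPConstrained_iff_pLayer_eq_bot q).mpr (pLayer_eq_bot_of_isSolvable q hs)
  have hcent := (isPConstrained_iff_centralizer_le (X := Y) q).mp hcon
  show u ∈ (Cfsg.pCore q (Y ⧸ Cfsg.pPrimeCore q Y)).comap
    (QuotientGroup.mk' (Cfsg.pPrimeCore q Y))
  rw [Subgroup.mem_comap]
  apply hcent
  rw [Subgroup.mem_centralizer_iff]
  intro xb hxb
  obtain ⟨x, rfl⟩ := QuotientGroup.mk'_surjective (Cfsg.pPrimeCore q Y) xb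
  have hx : x ∈ Cfsg.pPrimePCore q Y := hxb
  have h1 : (QuotientGroup.mk' (Cfsg.pPrimeCore q Y)) ⁅u, x⁆ = 1 :=
    (QuotientGroup.eq_one_iff _).mpr (h x hx)
  rw [map_commutatorElement, commutatorElement_eq_one_iff_commute] at h1
  exact h1.eq.symm

/-- A `q'`-subgroup of `O_{q',q}` lies in `O_{q'}`. -/
theorem le_pPrimeCore_of_le_pPrimePCore (q : ℕ) [hq : Fact q.Prime] (D : Subgroup Y)
    (hD : D ≤ Cfsg.pPrimePCore q Y) (hDq : ¬ q ∣ Nat.card ↥D) : D ≤ Cfsg.pPrimeCore q Y := by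
  set φ := QuotientGroup.mk' (Cfsg.pPrimeCore q Y) with hφ
  have h1 : D.map φ ≤ Cfsg.pCore q (Y ⧸ Cfsg.pPrimeCore q Y) := by
    rintro _ ⟨d, hd, rfl⟩
    exact hD hd
  have h2 : IsPGroup q ↥(D.map φ) := (pCore_isPGroup q).to_le h1
  have h3 : Nat.card ↥(D.map φ) ∣ Nat.card ↥D := Subgroup.card_map_dvd D φ
  have h4 : D.map φ = ⊥ := by
    obtain ⟨n, hn⟩ := h2.exists_card_eq
    rcases Nat.eq_zero_or_pos n with h0 | hpos
    · rw [h0, pow_zero] at hn
      exact Subgroup.card_eq_one.mp hn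
    · exfalso
      apply hDq
      refine dvd_trans ?_ h3
      rw [hn]
      exact dvd_pow_self q hpos.ne'
  intro d hd
  have : φ d ∈ D.map φ := Subgroup.mem_map_of_mem φ hd
  rw [h4, Subgroup.mem_bot] at this
  exact (QuotientGroup.eq_one_iff _).mp this

end general

section main

variable {H : Type*} [Group H] [Finite H]

/-- S1288 core. -/
theorem le_pPrimeCore_of_commutator_hyperplanes (p : ℕ) [Fact p.Prime] (A K : Subgroup H)
    (hA : Cfsg.IsElementaryAbelian p A) (hA2 : p ^ 2 ≤ Nat.card ↥A) (hK : ¬ p ∣ Nat.card ↥K)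
    (hKs : Group.IsSolvable ↥K) (hAK : A ≤ Subgroup.normalizer (K : Set H)) (q : ℕ)
    [Fact q.Prime] (U : Subgroup H) (hU : U ≤ K) (hUq : ¬ q ∣ Nat.card ↥U)
    (hcomm : ∀ B : Subgroup H, B ≤ A → B.relIndex A = p →
      ¬ q ∣ Nat.card ↥⁅U, K ⊓ Subgroup.centralizer (B : Set H)⁆) :
    U ≤ (Cfsg.pPrimeCore q ↥K).map K.subtype := by
  have hpp := (Fact.out : p.Prime)
  set O : Subgroup H := (Cfsg.pPrimeCore q ↥K).map K.subtype with hO
  set Q : Subgroup H := (Cfsg.pPrimePCore q ↥K).map K.subtype with hQ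
  have hOK : O ≤ K := Subgroup.map_subtype_le _
  have hQK : Q ≤ K := Subgroup.map_subtype_le _
  -- membership transport
  have memO : ∀ {x : H} (hx : x ∈ K), x ∈ O ↔ (⟨x, hx⟩ : ↥K) ∈ Cfsg.pPrimeCore q ↥K := by
    intro x hx
    constructor
    · rintro ⟨y, hy, hyx⟩
      have : y = ⟨x, hx⟩ := Subtype.ext hyx
      rw [← this]; exact hy
    · intro h
      exact ⟨⟨x, hx⟩, h, rfl⟩
  have memQ : ∀ {x : H} (hx : x ∈ K), x ∈ Q ↔ (⟨x, hx⟩ : ↥K) ∈ Cfsg.pPrimePCore q ↥K := by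
    intro x hx
    constructor
    · rintro ⟨y, hy, hyx⟩
      have : y = ⟨x, hx⟩ := Subtype.ext hyx
      rw [← this]; exact hy
    · intro h
      exact ⟨⟨x, hx⟩, h, rfl⟩
  -- `O` and `Q` are normalized by `K`
  have hKO : ∀ k ∈ K, ∀ x ∈ O, k * x * k⁻¹ ∈ O := by
    intro k hk x hx
    have hxK := hOK hx
    rw [memO (K.mul_mem (K.mul_mem hk hxK) (K.inv_mem hk))]
    exact (pPrimeCore_normal' q).conj_mem _ ((memO hxK).mp hx) ⟨k, hk⟩
  have hKQ : ∀ k ∈ K, ∀ x ∈ Q, k * x * k⁻¹ ∈ Q := by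
    intro k hk x hx
    have hxK := hQK hx
    rw [memQ (K.mul_mem (K.mul_mem hk hxK) (K.inv_mem hk))]
    exact (pPrimePCore_normal q).conj_mem _ ((memQ hxK).mp hx) ⟨k, hk⟩
  -- `A` normalizes `Q`
  have hAQ : A ≤ Subgroup.normalizer (Q : Set H) := by
    have := pPrimePCore_characteristic (Y := ↥K) q
    exact hAK.trans
      (Cfsg.Agent.Helper1.normalizer_le_normalizer_map_of_characteristic K (Cfsg.pPrimePCore q ↥K))
  have hQp : ¬ p ∣ Nat.card ↥Q := fun h => hK (h.trans (Subgroup.card_dvd_of_le hQK))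
  -- generation
  have hAp := isPGroup_of_isElementaryAbelian hA
  have hA1 : A ≠ ⊥ := by
    intro h
    rw [h, Subgroup.card_bot] at hA2
    have : 2 ≤ p := hpp.two_le
    nlinarith
  have hgen : Q ≤ ⨆ D : {D : Subgroup H // D ≤ A ∧ D.relIndex A = p},
      Q ⊓ Subgroup.centralizer ((D : Subgroup H) : Set H) :=
    (le_hyperGen p A Q hA hQp hAQ).trans (hyperGen_le_iSup_relIndex_eq p hAp hA1 Q)
  -- each `⁅U, C_Q(B)⁆` lies in `O`
  have hstep : ∀ D : {D : Subgroup H // D ≤ A ∧ D.relIndex A = p},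
      ⁅U, Q ⊓ Subgroup.centralizer ((D : Subgroup H) : Set H)⁆ ≤ O := by
    intro D
    set T := ⁅U, Q ⊓ Subgroup.centralizer ((D : Subgroup H) : Set H)⁆ with hT
    have hTQ : T ≤ Q := by
      rw [hT, Subgroup.commutator_le]
      intro u hu x hx
      have hxQ : x ∈ Q := hx.1
      have : ⁅u, x⁆ = (u * x * u⁻¹) * x⁻¹ := by rw [commutatorElement_def]
      rw [this]
      exact Q.mul_mem (hKQ u (hU hu) x hxQ) (Q.inv_mem hxQ)
    have hTq : ¬ q ∣ Nat.card ↥T := by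
      intro h
      apply hcomm D.1 D.2.1 D.2.2
      refine h.trans (Subgroup.card_dvd_of_le ?_)
      exact Subgroup.commutator_mono le_rfl (inf_le_inf_right _ hQK)
    -- transport to `K`
    have hTK : T ≤ K := hTQ.trans hQK
    have h1 : T.subgroupOf K ≤ Cfsg.pPrimePCore q ↥K := by
      intro x hx
      rw [Subgroup.mem_subgroupOf] at hx
      exact (memQ x.2).mp (hTQ hx)
    have h2 : ¬ q ∣ Nat.card ↥(T.subgroupOf K) := by
      rw [card_subgroupOf_of_le hTK]; exact hTq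
    have h3 := le_pPrimeCore_of_le_pPrimePCore q (T.subgroupOf K) h1 h2
    intro x hx
    rw [memO (hTK hx)]
    exact h3 (Subgroup.mem_subgroupOf.mpr hx)
  -- `U` acts trivially on `Q / O`
  have hUQ : ∀ u ∈ U, ∀ x ∈ Q, ⁅u, x⁆ ∈ O := by
    intro u hu
    let S : Subgroup H :=
      { carrier := {x | x ∈ K ∧ ⁅u, x⁆ ∈ O}
        mul_mem' := by
          rintro x y ⟨hx, hx'⟩ ⟨hy, hy'⟩
          refine ⟨K.mul_mem hx hy, ?_⟩
          have : ⁅u, x * y⁆ = ⁅u, x⁆ * (x * ⁅u, y⁆ * x⁻¹) := by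
            simp only [commutatorElement_def]; group
          rw [this]
          exact O.mul_mem hx' (hKO x hx _ hy')
        one_mem' := ⟨K.one_mem, by rw [commutatorElement_one_right]; exact O.one_mem⟩
        inv_mem' := by
          rintro x ⟨hx, hx'⟩
          refine ⟨K.inv_mem hx, ?_⟩
          have : ⁅u, x⁻¹⁆ = x⁻¹ * ⁅u, x⁆⁻¹ * x⁻¹⁻¹ := by
            simp only [commutatorElement_def]; group
          rw [this]
          exact hKO x⁻¹ (K.inv_mem hx) _ (O.inv_mem hx') }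
    have hS : Q ≤ S := by
      refine hgen.trans (iSup_le ?_)
      intro D x hx
      refine ⟨hQK hx.1, ?_⟩
      exact hstep D (Subgroup.commutator_mem_commutator hu hx)
    intro x hx
    exact (hS hx).2
  -- conclusion
  have hUQ' : U ≤ Q := by
    intro u hu
    rw [memQ (hU hu)]
    apply mem_pPrimePCore_of_forall_commutator_mem q hKs
    intro x hx
    have hxQ : (x : H) ∈ Q := (memQ x.2).mpr hx
    have := hUQ u hu x hxQ
    have hcK : ⁅u, (x : H)⁆ ∈ K := by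
      rw [commutatorElement_def]
      exact K.mul_mem (K.mul_mem (K.mul_mem (hU hu) x.2) (K.inv_mem (hU hu))) (K.inv_mem x.2)
    rw [memO hcK] at this
    have e : (⁅(⟨u, hU hu⟩ : ↥K), x⁆ : ↥K) = ⟨⁅u, (x : H)⁆, hcK⟩ := Subtype.ext rfl
    rw [e]
    exact this
  have h1 : U.subgroupOf K ≤ Cfsg.pPrimePCore q ↥K := by
    intro x hx
    rw [Subgroup.mem_subgroupOf] at hx
    exact (memQ x.2).mp (hUQ' hx)
  have h2 : ¬ q ∣ Nat.card ↥(U.subgroupOf K) := by
    rw [card_subgroupOf_of_le hU]; exact hUq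
  have h3 := le_pPrimeCore_of_le_pPrimePCore q (U.subgroupOf K) h1 h2
  intro x hx
  rw [memO (hU hx)]
  exact h3 (Subgroup.mem_subgroupOf.mpr hx)

end main

end Cfsg.Agent.Helper7
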