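import Mathlib
import Cfsg.Prelude.Def_Transfer
import Cfsg.Prelude.Def_Local
import Cfsg.Prelude.Def_Balance
import Cfsg.Agent.Lib.Helper7.CoprimeGen3
import Cfsg.Agent.Lib.Helper15.SylowIn
import Cfsg.Agent.S0024
import Cfsg.Agent.S0025
import Cfsg.Agent.S1280
import Cfsg.Agent.S1282

set_option autoImplicit false

namespace Cfsg.Agent.Helper7

open Subgroup
open Cfsg.Agent.Helper15 (mem_map_conj_iff conj_mem_map_conj map_conj_map_conj map_conj_one
  map_conj_inv_map_conj map_conj_map_conj_inv map_conj_mono card_map_conj isPGroup_map_conj)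

variable {G : Type*} [Group G]

theorem signalizerInf_le_theta {A : Subgroup G} {θ : G → Subgroup G} {a : G} (ha : a ∈ A)
    (ha1 : a ≠ 1) : Cfsg.signalizerInf A θ ≤ θ a :=
  iInf_le (fun a : {a : G // a ∈ A ∧ a ≠ 1} => θ (a : G)) ⟨a, ha, ha1⟩

theorem signalizerInf_le_centralizer {p : ℕ} {A : Subgroup G} {θ : G → Subgroup G}
    (hθ : Cfsg.IsSignalizerFunctor p A θ) :
    Cfsg.signalizerInf A θ ≤ Subgroup.centralizer (A : Set G) := by
  intro c hc
  rw [Subgroup.mem_centralizer_iff]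
  intro a ha
  by_cases ha1 : a = 1
  · rw [ha1, one_mul, mul_one]
  · have := hθ.1 a ha ha1 (signalizerInf_le_theta ha ha1 hc)
    rw [Subgroup.mem_centralizer_singleton_iff] at this
    exact this.symm

/-- conjugating a member of the family by an element of `θ(C_G(A))` stays in the family -/
theorem map_conj_mem_signalizerFamily [Finite G] {p : ℕ} {A : Subgroup G} {θ : G → Subgroup G}
    (hθ : Cfsg.IsSignalizerFunctor p A θ) {U : Subgroup G}
    (hU : U ∈ Cfsg.signalizerFamily p A θ) {c : G} (hc : c ∈ Cfsg.signalizerInf A θ) :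
    U.map (MulAut.conj c).toMonoidHom ∈ Cfsg.signalizerFamily p A θ := by
  obtain ⟨hUs, hUp, hUA, hUb⟩ := hU
  have hcA := signalizerInf_le_centralizer hθ hc
  rw [Subgroup.mem_centralizer_iff] at hcA
  refine ⟨?_, ?_, ?_, ?_⟩
  · have e := U.equivMapOfInjective (MulAut.conj c).toMonoidHom (MulAut.conj c).injective
    exact Group.isSolvable_of_isSolvable_injective (f := e.symm.toMonoidHom) e.symm.injective
  · rw [card_map_conj]; exact hUp
  · intro b hb x hx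
    rw [mem_map_conj_iff] at hx ⊢
    have h1 := hUA b hb _ hx
    have hbc : b * c = c * b := hcA b hb
    have : c⁻¹ * (b * x * b⁻¹) * c = b * (c⁻¹ * x * c) * b⁻¹ := by
      have hbc' : c⁻¹ * b = b * c⁻¹ := by
        calc c⁻¹ * b = c⁻¹ * (b * c) * c⁻¹ := by group
          _ = c⁻¹ * (c * b) * c⁻¹ := by rw [hbc]
          _ = b * c⁻¹ := by group
      have hbc'' : b⁻¹ * c = c * b⁻¹ := by
        calc b⁻¹ * c = b⁻¹ * (c * b) * b⁻¹ := by group
          _ = b⁻¹ * (b * c) * b⁻¹ := by rw [hbc]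
          _ = c * b⁻¹ := by group
      calc c⁻¹ * (b * x * b⁻¹) * c = (c⁻¹ * b) * x * (b⁻¹ * c) := by group
        _ = (b * c⁻¹) * x * (c * b⁻¹) := by rw [hbc', hbc'']
        _ = b * (c⁻¹ * x * c) * b⁻¹ := by group
    rw [this]
    exact h1
  · intro a ha ha1 x hx
    obtain ⟨hx1, hx2⟩ := Subgroup.mem_inf.mp hx
    rw [mem_map_conj_iff] at hx1
    rw [Subgroup.mem_centralizer_singleton_iff] at hx2
    have hac : a * c = c * a := hcA a ha
    have hu : c⁻¹ * x * c ∈ U ⊓ Subgroup.centralizer {a} := by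
      refine Subgroup.mem_inf.mpr ⟨hx1, ?_⟩
      rw [Subgroup.mem_centralizer_singleton_iff]
      have hac' : a * c⁻¹ = c⁻¹ * a := by
        calc a * c⁻¹ = c⁻¹ * (c * a) * c⁻¹ := by group
          _ = c⁻¹ * (a * c) * c⁻¹ := by rw [hac]
          _ = c⁻¹ * a := by group
      symm
      calc a * (c⁻¹ * x * c) = (a * c⁻¹) * x * c := by group
        _ = c⁻¹ * (a * x) * c := by rw [hac']; group
        _ = c⁻¹ * (x * a) * c := by rw [hx2]
        _ = c⁻¹ * x * (a * c) := by group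
        _ = c⁻¹ * x * c * a := by rw [hac]; group
    have h1 := hUb a ha ha1 hu
    have hcθ := signalizerInf_le_theta ha ha1 hc
    have : x = c * (c⁻¹ * x * c) * c⁻¹ := by group
    rw [this]
    exact (θ a).mul_mem ((θ a).mul_mem hcθ h1) ((θ a).inv_mem hcθ)

/-- `A`-invariant subgroups of members of the family are in the family -/
theorem mem_signalizerFamily_of_le [Finite G] {p : ℕ} {A : Subgroup G} {θ : G → Subgroup G}
    {U V : Subgroup G} (hU : U ∈ Cfsg.signalizerFamily p A θ) (hVU : V ≤ U)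
    (hVA : ∀ b ∈ A, ∀ v ∈ V, b * v * b⁻¹ ∈ V) : V ∈ Cfsg.signalizerFamily p A θ := by
  obtain ⟨hUs, hUp, hUA, hUb⟩ := hU
  refine ⟨?_, ?_, hVA, ?_⟩
  · exact Group.isSolvable_of_isSolvable_injective (f := Subgroup.inclusion hVU)
      (Subgroup.inclusion_injective hVU)
  · exact fun h => hUp (h.trans (Subgroup.card_dvd_of_le hVU))
  · intro a ha ha1
    exact (inf_le_inf_right _ hVU).trans (hUb a ha ha1)

/-- the values of a solvable signalizer functor are in its family -/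
theorem theta_mem_signalizerFamily {p : ℕ} {A : Subgroup G} {θ : G → Subgroup G}
    (hθ : Cfsg.IsSolvableSignalizerFunctor p A θ) {a : G} (ha : a ∈ A) (ha1 : a ≠ 1) :
    θ a ∈ Cfsg.signalizerFamily p A θ :=
  ⟨hθ.2 a ha ha1, hθ.1.2.1 a ha ha1, hθ.1.2.2.1 a ha ha1, fun b hb hb1 => hθ.1.2.2.2 a ha ha1 b hb hb1⟩

/-- `Q` is maximal among the `q`-subgroups in the family of `θ`. -/
def IsMaxSignalizer (p : ℕ) (A : Subgroup G) (θ : G → Subgroup G) (q : ℕ) (Q : Subgroup G) : Prop :=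
  Q ∈ Cfsg.signalizerFamily p A θ ∧ IsPGroup q ↥Q ∧
    ∀ R ∈ Cfsg.signalizerFamily p A θ, IsPGroup q ↥R → Q ≤ R → R = Q

/-- every `q`-subgroup in the family lies in a maximal one -/
theorem exists_isMaxSignalizer_ge [Finite G] {p : ℕ} {A : Subgroup G} {θ : G → Subgroup G} {q : ℕ}
    {U : Subgroup G} (hU : U ∈ Cfsg.signalizerFamily p A θ) (hUq : IsPGroup q ↥U) :
    ∃ Q : Subgroup G, IsMaxSignalizer p A θ q Q ∧ U ≤ Q := by
  obtain ⟨Q, hQ⟩ := Set.Finite.exists_maximal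
    (s := {R : Subgroup G | R ∈ Cfsg.signalizerFamily p A θ ∧ IsPGroup q ↥R ∧ U ≤ R})
    (Set.toFinite _) ⟨U, hU, hUq, le_rfl⟩
  obtain ⟨⟨hQ1, hQ2, hQ3⟩, hQmax⟩ := hQ
  refine ⟨Q, ⟨hQ1, hQ2, ?_⟩, hQ3⟩
  intro R hR hRq hQR
  exact le_antisymm (hQmax ⟨hR, hRq, hQ3.trans hQR⟩ hQR) hQR

/-- conjugates of maximal elements by `θ(C_G(A))` are maximal -/
theorem IsMaxSignalizer.map_conj [Finite G] {p : ℕ} {A : Subgroup G} {θ : G → Subgroup G} {q : ℕ}
    (hθ : Cfsg.IsSignalizerFunctor p A θ) {Q : Subgroup G} (hQ : IsMaxSignalizer p A θ q Q)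
    {c : G} (hc : c ∈ Cfsg.signalizerInf A θ) :
    IsMaxSignalizer p A θ q (Q.map (MulAut.conj c).toMonoidHom) := by
  obtain ⟨hQ1, hQ2, hQ3⟩ := hQ
  refine ⟨map_conj_mem_signalizerFamily hθ hQ1 hc, isPGroup_map_conj hQ2 c, ?_⟩
  intro R hR hRq hQR
  have hc' : c⁻¹ ∈ Cfsg.signalizerInf A θ := Subgroup.inv_mem _ hc
  have h1 := hQ3 _ (map_conj_mem_signalizerFamily hθ hR hc') (isPGroup_map_conj hRq c⁻¹) (by
    have := map_conj_mono hQR c⁻¹
    rwa [map_conj_inv_map_conj] at this)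
  rw [← h1, map_conj_map_conj_inv]

/-- the conjugacy relation under `θ(C_G(A))` -/
def SigConj (A : Subgroup G) (θ : G → Subgroup G) (Q Q' : Subgroup G) : Prop :=
  ∃ c ∈ Cfsg.signalizerInf A θ, Q.map (MulAut.conj c).toMonoidHom = Q'

theorem SigConj.refl (A : Subgroup G) (θ : G → Subgroup G) (Q : Subgroup G) : SigConj A θ Q Q :=
  ⟨1, Subgroup.one_mem _, map_conj_one Q⟩

theorem SigConj.symm {A : Subgroup G} {θ : G → Subgroup G} {Q Q' : Subgroup G}
    (h : SigConj A θ Q Q') : SigConj A θ Q' Q := by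
  obtain ⟨c, hc, rfl⟩ := h
  exact ⟨c⁻¹, Subgroup.inv_mem _ hc, map_conj_inv_map_conj Q c⟩

theorem SigConj.trans {A : Subgroup G} {θ : G → Subgroup G} {Q Q' Q'' : Subgroup G}
    (h : SigConj A θ Q Q') (h' : SigConj A θ Q' Q'') : SigConj A θ Q Q'' := by
  obtain ⟨c, hc, rfl⟩ := h
  obtain ⟨d, hd, rfl⟩ := h'
  exact ⟨d * c, Subgroup.mul_mem _ hd hc, (map_conj_map_conj Q d c).symm⟩

/-- a join of two `q`-groups, one normalizing the other, is a `q`-group -/
theorem isPGroup_sup_of_le_normalizer [Finite G] {q : ℕ} [Fact q.Prime] {X Y : Subgroup G}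
    (hX : IsPGroup q ↥X) (hY : IsPGroup q ↥Y) (hn : Y ≤ Subgroup.normalizer (X : Set G)) :
    IsPGroup q ↥(X ⊔ Y : Subgroup G) := by
  obtain ⟨k, hk⟩ := hX.exists_card_eq
  obtain ⟨l, hl⟩ := hY.exists_card_eq
  have h1 := card_sup_dvd_mul_of_le_normalizer hn
  rw [hk, hl, ← pow_add] at h1
  obtain ⟨m, -, hm⟩ := (Nat.dvd_prime_pow (Fact.out : q.Prime)).mp h1
  exact IsPGroup.of_card hm

/-- Invariant Sylow subgroups over given invariant `q`-subgroups, and their conjugacy. -/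
theorem exists_conj_invariant_sylow [Finite G] (A K : Subgroup G)
    (hAK : A ≤ Subgroup.normalizer (K : Set G))
    (hcop : (Nat.card A).Coprime (Nat.card K)) (hsolv : Group.IsSolvable A ∨ Group.IsSolvable K)
    (q : ℕ) [Fact q.Prime] (U₁ U₂ : Subgroup G) (hU₁K : U₁ ≤ K) (hU₂K : U₂ ≤ K)
    (hU₁ : IsPGroup q ↥U₁) (hU₂ : IsPGroup q ↥U₂)
    (hU₁A : A ≤ Subgroup.normalizer (U₁ : Set G)) (hU₂A : A ≤ Subgroup.normalizer (U₂ : Set G)) :
    ∃ R₁ R₂ : Subgroup G, U₁ ≤ R₁ ∧ U₂ ≤ R₂ ∧ R₁ ≤ K ∧ R₂ ≤ K ∧ IsPGroup q ↥R₁ ∧ IsPGroup q ↥R₂ ∧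
      A ≤ Subgroup.normalizer (R₁ : Set G) ∧ A ≤ Subgroup.normalizer (R₂ : Set G) ∧
      ∃ h ∈ K ⊓ Subgroup.centralizer (A : Set G), R₁.map (MulAut.conj h).toMonoidHom = R₂ := by
  obtain ⟨P₁, hP₁U, hP₁A⟩ := Cfsg.Agent.S0025.result A K hAK hcop hsolv q U₁ hU₁K hU₁ hU₁A
  obtain ⟨P₂, hP₂U, hP₂A⟩ := Cfsg.Agent.S0025.result A K hAK hcop hsolv q U₂ hU₂K hU₂ hU₂A
  obtain ⟨c, hcA, hc⟩ := Cfsg.Agent.S0024.result A K hAK hcop hsolv q P₁ P₂ hP₁A hP₂A
  refine ⟨(P₁ : Subgroup ↥K).map K.subtype, (P₂ : Subgroup ↥K).map K.subtype, hP₁U, hP₂U,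
    Subgroup.map_subtype_le _, Subgroup.map_subtype_le _, P₁.isPGroup'.map _, P₂.isPGroup'.map _,
    hP₁A, hP₂A, (c : G), Subgroup.mem_inf.mpr ⟨c.2, hcA⟩, ?_⟩
  rw [← hc, Sylow.pointwise_smul_def]
  ext x
  constructor
  · rintro ⟨_, ⟨y, hy, rfl⟩, rfl⟩
    exact ⟨MulAut.conj c • y, Subgroup.smul_mem_pointwise_smul _ _ _ hy, by
      simp [MulAut.smul_def]⟩
  · rintro ⟨z, hz, rfl⟩
    obtain ⟨y, hy, rfl⟩ := hz
    exact ⟨(y : G), ⟨y, hy, rfl⟩, by simp [MulAut.smul_def]⟩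

theorem le_normalizer_of_forall_conj_mem' [Finite G] {A X : Subgroup G}
    (h : ∀ b ∈ A, ∀ u ∈ X, b * u * b⁻¹ ∈ X) : A ≤ Subgroup.normalizer (X : Set G) :=
  fun b hb => mem_normalizer_of_forall_conj_mem (h b hb)

theorem forall_conj_mem_of_le_normalizer {A X : Subgroup G}
    (h : A ≤ Subgroup.normalizer (X : Set G)) : ∀ b ∈ A, ∀ u ∈ X, b * u * b⁻¹ ∈ X :=
  fun _ hb _ hu => conj_mem_of_mem_normalizer (h hb) hu

theorem le_normalizer_centralizer_singleton {p : ℕ} {A : Subgroup G}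
    (hA : Cfsg.IsElementaryAbelian p A) {a : G} (ha : a ∈ A) :
    A ≤ Subgroup.normalizer ((Subgroup.centralizer {a} : Subgroup G) : Set G) := by
  intro g hg
  apply Subgroup.le_normalizer
  rw [Subgroup.mem_centralizer_singleton_iff]
  exact isElementaryAbelian_comm hA hg ha

theorem card_sub_lt_of_lt [Finite G] {D E : Subgroup G} (h : D < E) :
    Nat.card G - Nat.card ↥E < Nat.card G - Nat.card ↥D := by
  have h1 := card_lt_card_of_lt h
  have h2 : Nat.card ↥E ≤ Nat.card G := Subgroup.card_le_card_group E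
  omega

/-- **Transitivity theorem**, inductive form. -/
theorem sigConj_of_isMaxSignalizer_aux [Finite G] (p : ℕ) [Fact p.Prime] (A : Subgroup G)
    (hA : Cfsg.IsElementaryAbelian p A) (hA3 : p ^ 3 ≤ Nat.card ↥A) (θ : G → Subgroup G)
    (hθ : Cfsg.IsSolvableSignalizerFunctor p A θ) (q : ℕ) [Fact q.Prime] (hqp : q ≠ p) :
    ∀ m : ℕ, ∀ Q₁ Q₂ : Subgroup G, IsMaxSignalizer p A θ q Q₁ → IsMaxSignalizer p A θ q Q₂ →
      Nat.card G - Nat.card ↥(Q₁ ⊓ Q₂ : Subgroup G) = m → SigConj A θ Q₁ Q₂ := by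
  have hpp := (Fact.out : p.Prime)
  have hA2 : p ^ 2 ≤ Nat.card ↥A := (Nat.pow_le_pow_right hpp.pos (by norm_num)).trans hA3
  intro m
  induction m using Nat.strong_induction_on with
  | _ m ih =>
    intro Q₁ Q₂ h₁ h₂ hm
    set D := Q₁ ⊓ Q₂ with hD
    by_cases hD₁ : D = Q₁
    · have hle : Q₁ ≤ Q₂ := by rw [← hD₁]; exact inf_le_right
      rw [h₁.2.2 Q₂ h₂.1 h₂.2.1 hle]
      exact SigConj.refl A θ Q₁
    by_cases hD₂ : D = Q₂
    · have hle : Q₂ ≤ Q₁ := by rw [← hD₂]; exact inf_le_left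
      rw [← h₂.2.2 Q₁ h₁.1 h₁.2.1 hle]
      exact SigConj.refl A θ Q₁
    have hAQ₁ : A ≤ Subgroup.normalizer (Q₁ : Set G) := le_normalizer_of_forall_conj_mem' h₁.1.2.2.1
    have hAQ₂ : A ≤ Subgroup.normalizer (Q₂ : Set G) := le_normalizer_of_forall_conj_mem' h₂.1.2.2.1
    obtain ⟨a, haA, ha1, hN₁, hN₂⟩ := Cfsg.Agent.S1282.result p A hA hA3 q hqp Q₁ Q₂ h₁.2.1 h₂.2.1
      hAQ₁ hAQ₂ hD₁ hD₂
    rw [← hD] at hN₁ hN₂
    have hAD : A ≤ Subgroup.normalizer (D : Set G) :=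
      (le_inf hAQ₁ hAQ₂).trans Subgroup.inf_normalizer_le_normalizer_inf
    have hANN : A ≤ Subgroup.normalizer ((Subgroup.normalizer (D : Set G) : Subgroup G) : Set G) :=
      hAD.trans Subgroup.le_normalizer
    have hAθ : A ≤ Subgroup.normalizer ((θ a : Subgroup G) : Set G) :=
      le_normalizer_of_forall_conj_mem' (hθ.1.2.2.1 a haA ha1)
    have hACa := le_normalizer_centralizer_singleton hA haA
    set Hh := θ a ⊓ Subgroup.normalizer (D : Set G) with hHh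
    have hAHh : A ≤ Subgroup.normalizer (Hh : Set G) :=
      (le_inf hAθ hANN).trans Subgroup.inf_normalizer_le_normalizer_inf
    have hHhmem : Hh ∈ Cfsg.signalizerFamily p A θ :=
      mem_signalizerFamily_of_le (theta_mem_signalizerFamily hθ haA ha1) inf_le_left
        (forall_conj_mem_of_le_normalizer hAHh)
    set N₁ := Subgroup.normalizer (D : Set G) ⊓ Q₁ ⊓ Subgroup.centralizer {a} with hN₁def
    set N₂ := Subgroup.normalizer (D : Set G) ⊓ Q₂ ⊓ Subgroup.centralizer {a} with hN₂def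
    have hN₁Q : N₁ ≤ Q₁ := inf_le_left.trans inf_le_right
    have hN₂Q : N₂ ≤ Q₂ := inf_le_left.trans inf_le_right
    have hN₁H : N₁ ≤ Hh := by
      refine le_inf ?_ (inf_le_left.trans inf_le_left)
      exact (inf_le_inf_right _ inf_le_right).trans (h₁.1.2.2.2 a haA ha1)
    have hN₂H : N₂ ≤ Hh := by
      refine le_inf ?_ (inf_le_left.trans inf_le_left)
      exact (inf_le_inf_right _ inf_le_right).trans (h₂.1.2.2.2 a haA ha1)
    have hAN₁ : A ≤ Subgroup.normalizer (N₁ : Set G) :=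
      (le_inf ((le_inf hANN hAQ₁).trans Subgroup.inf_normalizer_le_normalizer_inf) hACa).trans
        Subgroup.inf_normalizer_le_normalizer_inf
    have hAN₂ : A ≤ Subgroup.normalizer (N₂ : Set G) :=
      (le_inf ((le_inf hANN hAQ₂).trans Subgroup.inf_normalizer_le_normalizer_inf) hACa).trans
        Subgroup.inf_normalizer_le_normalizer_inf
    have hcop : (Nat.card ↥A).Coprime (Nat.card ↥Hh) := by
      obtain ⟨k, hk⟩ := (isPGroup_of_isElementaryAbelian hA).exists_card_eq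
      rw [hk]
      exact Nat.Coprime.pow_left k ((Nat.Prime.coprime_iff_not_dvd hpp).mpr hHhmem.2.1)
    obtain ⟨R₁, R₂, hNR₁, hNR₂, hR₁H, hR₂H, hR₁q, hR₂q, hAR₁, hAR₂, h, hh, hconj⟩ :=
      exists_conj_invariant_sylow A Hh hAHh hcop (Or.inr hHhmem.1) q N₁ N₂ hN₁H hN₂H
        (h₁.2.1.to_le hN₁Q) (h₂.2.1.to_le hN₂Q) hAN₁ hAN₂
    obtain ⟨hhH, hhA⟩ := Subgroup.mem_inf.mp hh
    have hhC : h ∈ Cfsg.signalizerInf A θ := by
      unfold Cfsg.signalizerInf
      rw [Subgroup.mem_iInf]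
      rintro ⟨b, hb, hb1⟩
      apply hθ.1.2.2.2 a haA ha1 b hb hb1
      refine Subgroup.mem_inf.mpr ⟨(Subgroup.mem_inf.mp hhH).1, ?_⟩
      rw [Subgroup.mem_centralizer_singleton_iff]
      exact ((Subgroup.mem_centralizer_iff.mp hhA) b hb).symm
    have hhD : h ∈ Subgroup.normalizer (D : Set G) := (Subgroup.mem_inf.mp hhH).2
    have hDmem : D ∈ Cfsg.signalizerFamily p A θ :=
      mem_signalizerFamily_of_le h₁.1 inf_le_left (forall_conj_mem_of_le_normalizer hAD)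
    have hDq : IsPGroup q ↥D := h₁.2.1.to_le inf_le_left
    have hR₁mem : R₁ ∈ Cfsg.signalizerFamily p A θ :=
      mem_signalizerFamily_of_le hHhmem hR₁H (forall_conj_mem_of_le_normalizer hAR₁)
    have hR₂mem : R₂ ∈ Cfsg.signalizerFamily p A θ :=
      mem_signalizerFamily_of_le hHhmem hR₂H (forall_conj_mem_of_le_normalizer hAR₂)
    have hR₁D : R₁ ≤ Subgroup.normalizer (D : Set G) := hR₁H.trans inf_le_right
    have hR₂D : R₂ ≤ Subgroup.normalizer (D : Set G) := hR₂H.trans inf_le_right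
    have hDR₁mem := Cfsg.Agent.S1280.result p A hA hA2 θ hθ D R₁ hDmem hR₁mem hR₁D
    have hDR₂mem := Cfsg.Agent.S1280.result p A hA hA2 θ hθ D R₂ hDmem hR₂mem hR₂D
    obtain ⟨Q₁s, hQ₁s, hle₁⟩ := exists_isMaxSignalizer_ge hDR₁mem
      (isPGroup_sup_of_le_normalizer hDq hR₁q hR₁D)
    obtain ⟨Q₂s, hQ₂s, hle₂⟩ := exists_isMaxSignalizer_ge hDR₂mem
      (isPGroup_sup_of_le_normalizer hDq hR₂q hR₂D)
    -- first claim
    have c1 : SigConj A θ Q₁ Q₁s := by
      have hlt : D < Q₁ ⊓ Q₁s := by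
        refine lt_of_le_of_ne (le_inf inf_le_left (le_sup_left.trans hle₁)) ?_
        intro heq
        apply hN₁
        rw [heq]
        exact le_inf hN₁Q (hNR₁.trans (le_sup_right.trans hle₁))
      exact ih _ (by rw [← hm]; exact card_sub_lt_of_lt hlt) Q₁ Q₁s h₁ hQ₁s rfl
    have c2 : SigConj A θ Q₂ Q₂s := by
      have hlt : D < Q₂ ⊓ Q₂s := by
        refine lt_of_le_of_ne (le_inf inf_le_right (le_sup_left.trans hle₂)) ?_
        intro heq
        apply hN₂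
        rw [heq]
        exact le_inf hN₂Q (hNR₂.trans (le_sup_right.trans hle₂))
      exact ih _ (by rw [← hm]; exact card_sub_lt_of_lt hlt) Q₂ Q₂s h₂ hQ₂s rfl
    have hQ₁ss := IsMaxSignalizer.map_conj hθ.1 hQ₁s hhC
    have hle₃ : D ⊔ R₂ ≤ Q₁s.map (MulAut.conj h).toMonoidHom := by
      have := map_conj_mono hle₁ h
      rw [Subgroup.map_sup, hconj, Cfsg.Agent.Helper15.map_conj_eq_of_mem_normalizer hhD] at this
      exact this
    have c3 : SigConj A θ (Q₁s.map (MulAut.conj h).toMonoidHom) Q₂s := by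
      have hlt : D < Q₁s.map (MulAut.conj h).toMonoidHom ⊓ Q₂s := by
        refine lt_of_le_of_ne (le_inf (le_sup_left.trans hle₃) (le_sup_left.trans hle₂)) ?_
        intro heq
        apply hN₂
        rw [heq]
        exact le_inf (hNR₂.trans (le_sup_right.trans hle₃)) (hNR₂.trans (le_sup_right.trans hle₂))
      exact ih _ (by rw [← hm]; exact card_sub_lt_of_lt hlt) _ Q₂s hQ₁ss hQ₂s rfl
    exact (c1.trans ⟨h, hhC, rfl⟩).trans (c3.trans c2.symm)

theorem eq_bot_of_isPGroup_of_not_dvd [Finite G] {p : ℕ} [Fact p.Prime] {Q : Subgroup G}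
    (hQ : IsPGroup p ↥Q) (hp : ¬ p ∣ Nat.card ↥Q) : Q = ⊥ := by
  obtain ⟨k, hk⟩ := hQ.exists_card_eq
  rcases Nat.eq_zero_or_pos k with h0 | hpos
  · rw [h0, pow_zero] at hk
    exact Subgroup.card_eq_one.mp hk
  · exfalso
    apply hp
    rw [hk]
    exact dvd_pow_self p hpos.ne'

/-- **Transitivity theorem.** -/
theorem sigConj_of_isMaxSignalizer [Finite G] (p : ℕ) [Fact p.Prime] (A : Subgroup G)
    (hA : Cfsg.IsElementaryAbelian p A) (hA3 : p ^ 3 ≤ Nat.card ↥A) (θ : G → Subgroup G)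
    (hθ : Cfsg.IsSolvableSignalizerFunctor p A θ) (q : ℕ) [Fact q.Prime] {Q₁ Q₂ : Subgroup G}
    (h₁ : IsMaxSignalizer p A θ q Q₁) (h₂ : IsMaxSignalizer p A θ q Q₂) : SigConj A θ Q₁ Q₂ := by
  by_cases hqp : q = p
  · subst hqp
    rw [eq_bot_of_isPGroup_of_not_dvd h₁.2.1 h₁.1.2.1, eq_bot_of_isPGroup_of_not_dvd h₂.2.1 h₂.1.2.1]
    exact SigConj.refl A θ ⊥
  · exact sigConj_of_isMaxSignalizer_aux p A hA hA3 θ hθ q hqp _ Q₁ Q₂ h₁ h₂ rfl

end Cfsg.Agent.Helper7
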