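import Mathlib
import Cfsg.Prelude.Def_Local
import Cfsg.Agent.Lib.Helper7.Bender
import Cfsg.Agent.Lib.Helper7.PLocal2
import Cfsg.Agent.Lib.Helper7.PLocal6
import Cfsg.Agent.Lib.Helper7.FStar3

set_option autoImplicit false

namespace Cfsg.Agent.Helper7

open Subgroup
open scoped commutatorElement Pointwise

universe u

variable {G : Type u} [Group G]

/-- The normalizer of every nontrivial subgroup of `A` that is normal in `A` is `A`. -/
def IsBenderMax (A : Subgroup G) : Prop :=
  ∀ X : Subgroup G, X ≠ ⊥ → X ≤ A → A ≤ Subgroup.normalizer (X : Set G) →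
    Subgroup.normalizer (X : Set G) ≤ A

theorem isBenderMax_of_isCoatom [IsSimpleGroup G] (A : Subgroup G) (hA : IsCoatom A) :
    IsBenderMax A := by
  intro X hX hXA hAN
  by_contra hcon
  have hlt : A < Subgroup.normalizer (X : Set G) := lt_of_le_of_ne hAN (fun h => hcon h.ge)
  have htop := hA.2 _ hlt
  have hn : X.Normal := Subgroup.normalizer_eq_top_iff.mp htop
  rcases hn.eq_bot_or_eq_top with h | h
  · exact hX h
  · apply hA.1
    rw [eq_top_iff, ← h]
    exact hXA

/-- `S ≤ A` normalizing `Y` normalizes `Y ∩ A` inside `A`. -/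
theorem subgroupOf_le_normalizer_inf_subgroupOf {A S Y : Subgroup G} (hSA : S ≤ A)
    (hSY : S ≤ Subgroup.normalizer (Y : Set G)) :
    S.subgroupOf A ≤ Subgroup.normalizer (((Y ⊓ A).subgroupOf A : Subgroup ↥A) : Set ↥A) := by
  apply le_normalizer_of_forall_conj_mem
  intro g hg y hy
  rw [Subgroup.mem_subgroupOf] at hg hy ⊢
  refine ⟨?_, (g * y * g⁻¹).2⟩
  have := hSY hg
  rw [Subgroup.mem_normalizer_iff] at this
  have h2 := (this (y : G)).mp hy.1
  simpa using h2

/-- **Bender's lemma (a)**, ambient form. -/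
theorem bender_a [Finite G] (A S : Subgroup G) (hSA : S ≤ A) (hS : BenderHyp (S.subgroupOf A))
    (q : ℕ) [Fact q.Prime] (hq : ¬ q ∣ Nat.card ↥(Cfsg.fittingSubgroup ↥A))
    (Q : Subgroup G) (hQ : IsPGroup q ↥Q) (hSQ : S ≤ Subgroup.normalizer (Q : Set G)) :
    Q ⊓ A = ⊥ := by
  have hX : IsPGroup q ↥((Q ⊓ A).subgroupOf A) := (hQ.to_le inf_le_left).comap_subtype
  have h1 := hS.eq_bot_of_not_dvd hq _ hX (subgroupOf_le_normalizer_inf_subgroupOf hSA hSQ)
  rw [Subgroup.subgroupOf_eq_bot, disjoint_iff, inf_assoc, inf_idem] at h1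
  exact h1

/-- the centre of a nontrivial `O_r(A)`, as a subgroup of `G` -/
theorem center_pCore_map_ne_bot [Finite G] (A : Subgroup G) (r : ℕ) [Fact r.Prime]
    (hr : Cfsg.pCore r ↥A ≠ ⊥) :
    ((Cfsg.pCore r ↥A ⊓ Subgroup.centralizer (Cfsg.pCore r ↥A : Set ↥A)).map A.subtype) ≠ ⊥ := by
  intro h
  rw [Subgroup.map_eq_bot_iff_of_injective _ (Subgroup.subtype_injective A)] at h
  rw [← map_subtype_center] at h
  rw [Subgroup.map_eq_bot_iff_of_injective _ (Subgroup.subtype_injective _)] at h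
  haveI : Nontrivial ↥(Cfsg.pCore r ↥A) := (Subgroup.nontrivial_iff_ne_bot _).mpr hr
  have := (pCore_isPGroup (G := ↥A) r).center_nontrivial
  exact (Subgroup.nontrivial_iff_ne_bot _).mp this h

theorem le_normalizer_center_pCore_map (A : Subgroup G) (r : ℕ) :
    A ≤ Subgroup.normalizer
      (((Cfsg.pCore r ↥A ⊓ Subgroup.centralizer (Cfsg.pCore r ↥A : Set ↥A)).map A.subtype :
        Subgroup G) : Set G) := by
  haveI : (Cfsg.pCore r ↥A ⊓ Subgroup.centralizer (Cfsg.pCore r ↥A : Set ↥A)).Normal :=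
    Subgroup.normal_inf_normal _ _
  exact le_normalizer_map_subtype_of_normal _

/-- **Bender's lemma (b)**, ambient form: a `p`-subgroup `P` of `G` normalized by `S` commutes
with every `p'`-element of `F*(A)`, when `O_p(A) ≠ 1`. -/
theorem bender_b [Finite G] (A : Subgroup G) (hA : IsBenderMax A) (S : Subgroup G) (hSA : S ≤ A)
    (hS : BenderHyp (S.subgroupOf A)) (p : ℕ) [Fact p.Prime] (hp : Cfsg.pCore p ↥A ≠ ⊥)
    (P : Subgroup G) (hP : IsPGroup p ↥P) (hSP : S ≤ Subgroup.normalizer (P : Set G))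
    (u : ↥A) (hu : u ∈ Cfsg.generalizedFittingSubgroup ↥A) (hcop : (orderOf u).Coprime p) :
    ∀ x ∈ P, x * (u : G) = (u : G) * x := by
  set S' := S.subgroupOf A with hS'
  set K' := pPrimeFStar p ↥A with hK'
  set D := Cfsg.pCore p ↥A with hD
  -- Step 1
  have step1 : ∀ x ∈ P ⊓ A, ∀ k ∈ K', x * (k : G) = (k : G) * x := by
    intro x hx k hk
    have hX : IsPGroup p ↥((P ⊓ A).subgroupOf A) := (hP.to_le inf_le_left).comap_subtype
    have h1 := hS.pPrimeFStar_le_centralizer _ hX (subgroupOf_le_normalizer_inf_subgroupOf hSA hSP)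
    have h2 := Subgroup.mem_centralizer_iff.mp (h1 hk) ⟨x, hx.2⟩ (Subgroup.mem_subgroupOf.mpr hx)
    exact congrArg Subtype.val h2
  -- Step 2
  set T' := S' ⊓ D with hT'
  have step2 : ∀ x ∈ P, (∀ t ∈ T', x * (t : G) = (t : G) * x) → x ∈ A := by
    intro x _ hxt
    set ZD := (D ⊓ Subgroup.centralizer (D : Set ↥A)).map A.subtype with hZD
    have h1 : ZD ≠ ⊥ := center_pCore_map_ne_bot A p hp
    have h2 : ZD ≤ A := Subgroup.map_subtype_le _
    have h3 : A ≤ Subgroup.normalizer (ZD : Set G) := le_normalizer_center_pCore_map A p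
    apply hA ZD h1 h2 h3
    apply Subgroup.centralizer_le_normalizer
    rw [Subgroup.mem_centralizer_iff]
    rintro z ⟨z', hz', rfl⟩
    obtain ⟨hz1, hz2⟩ := Subgroup.mem_inf.mp hz'
    have hzS : z' ∈ S' := hS.center_pCore_le hz1 hz2
    exact (hxt z' ⟨hzS, hz1⟩).symm
  -- Step 3
  have step3 : ∀ v ∈ S', (orderOf v).Coprime p →
      (v : G) ∈ Subgroup.centralizer (P : Set G) := by
    intro v hv hvc
    have hvK : v ∈ K' := mem_pPrimeFStar_of_coprime p (hS.le hv) hvc
    have hvD := pPrimeFStar_le_centralizer_pCore p hvK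
    set T := T'.map A.subtype with hT
    have hTp : IsPGroup p ↥T := ((pCore_isPGroup (G := ↥A) p).to_le inf_le_right).map _
    have hTS : T ≤ S := by
      rintro t ⟨t', ht', rfl⟩
      exact Subgroup.mem_subgroupOf.mp ht'.1
    apply thompson_AxB_element p P T hP hTp (hTS.trans hSP) (v : G)
      (hSP (Subgroup.mem_subgroupOf.mp hv))
    · rw [Subgroup.orderOf_coe]; exact hvc
    · rw [Subgroup.mem_centralizer_iff]
      rintro t ⟨t', ht', rfl⟩
      have := Subgroup.mem_centralizer_iff.mp hvD t' ht'.2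
      exact congrArg Subtype.val this
    · rw [Subgroup.mem_centralizer_iff]
      intro x hx
      obtain ⟨hxP, hxT⟩ := Subgroup.mem_inf.mp hx
      have hxA : x ∈ A := by
        apply step2 x hxP
        intro t ht
        exact ((Subgroup.mem_centralizer_iff.mp hxT) (t : G) ⟨t, ht, rfl⟩).symm
      exact step1 x ⟨hxP, hxA⟩ v hvK
  -- Step 4
  have step4 : K' ≠ ⊥ → P ≤ A := by
    intro hKne
    by_cases hlayer : Cfsg.layer ↥A = ⊥
    · -- some `O_q(A)`, `q ≠ p`, is nontrivial
      have hex : ∃ r : {r : Nat.Primes // (r : ℕ) ≠ p}, Cfsg.pCore ((r : Nat.Primes) : ℕ) ↥A ≠ ⊥ := by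
        by_contra hcon
        push Not at hcon
        apply hKne
        rw [hK']
        unfold pPrimeFStar
        rw [hlayer, bot_sup_eq, iSup_eq_bot]
        exact hcon
      obtain ⟨⟨r, hrp⟩, hr⟩ := hex
      haveI : Fact (r : ℕ).Prime := ⟨r.2⟩
      set Dq := Cfsg.pCore (r : ℕ) ↥A with hDq
      set ZD := (Dq ⊓ Subgroup.centralizer (Dq : Set ↥A)).map A.subtype with hZD
      have h1 : ZD ≠ ⊥ := center_pCore_map_ne_bot A r hr
      have h2 : ZD ≤ A := Subgroup.map_subtype_le _
      have h3 : A ≤ Subgroup.normalizer (ZD : Set G) := le_normalizer_center_pCore_map A r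
      refine le_trans ?_ (hA ZD h1 h2 h3)
      refine le_trans ?_ (Subgroup.centralizer_le_normalizer _)
      rw [Subgroup.le_centralizer_iff]
      rintro z ⟨z', hz', rfl⟩
      obtain ⟨hz1, hz2⟩ := Subgroup.mem_inf.mp hz'
      have hzS : z' ∈ S' := hS.center_pCore_le hz1 hz2
      apply step3 z' hzS
      obtain ⟨k, hk⟩ := (IsPGroup.iff_orderOf.mp (pCore_isPGroup (G := ↥A) (r : ℕ))) ⟨z', hz1⟩
      rw [Subgroup.orderOf_mk] at hk
      rw [hk]
      apply Nat.Coprime.pow_left
      exact (Nat.coprime_primes r.2 Fact.out).mpr hrp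
    · set EA := (Cfsg.layer ↥A).map A.subtype with hEA
      have h1 : EA ≠ ⊥ := by
        intro h
        rw [Subgroup.map_eq_bot_iff_of_injective _ (Subgroup.subtype_injective A)] at h
        exact hlayer h
      have h2 : EA ≤ A := Subgroup.map_subtype_le _
      have h3 : A ≤ Subgroup.normalizer (EA : Set G) := le_normalizer_map_subtype_of_normal _
      refine le_trans ?_ (hA EA h1 h2 h3)
      refine le_trans ?_ (Subgroup.centralizer_le_normalizer _)
      rw [Subgroup.le_centralizer_iff, hEA, Subgroup.map_le_iff_le_comap]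
      unfold Cfsg.layer
      apply sSup_le
      intro L hL
      rw [← Subgroup.map_le_iff_le_comap]
      apply perfect_le_centralizer_of_coprime p
      · rw [← Subgroup.map_commutator, component_perfect hL]
      · rintro w ⟨w', hw', rfl⟩ hwc
        apply step3 w' (hS.layer_le (component_le_layer hL hw'))
        rw [← Subgroup.orderOf_coe]
        exact hwc
  -- Step 5
  have huK : u ∈ K' := mem_pPrimeFStar_of_coprime p hu hcop
  intro x hx
  by_cases hu1 : u = 1
  · rw [hu1]; simp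
  · have hKne : K' ≠ ⊥ := by
      intro h
      rw [h, Subgroup.mem_bot] at huK
      exact hu1 huK
    exact step1 x ⟨hx, step4 hKne hx⟩ u huK

/-- Converting the ambient form of Bender's hypothesis to `BenderHyp`. -/
theorem benderHyp_of_ambient {G : Type u} [Group G] [Finite G] (A S : Subgroup G)
    (hSF : S ≤ (Cfsg.generalizedFittingSubgroup ↥A).map A.subtype)
    (hSsn : (S.subgroupOf ((Cfsg.generalizedFittingSubgroup ↥A).map A.subtype)).IsSubnormal)
    (hSC : (Cfsg.generalizedFittingSubgroup ↥A).map A.subtype ⊓ Subgroup.centralizer (S : Set G) ≤ S) :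
    BenderHyp (S.subgroupOf A) := by
  set Fs := Cfsg.generalizedFittingSubgroup ↥A with hFs
  set FsG := Fs.map A.subtype with hFsG
  have hSA : S ≤ A := hSF.trans (Subgroup.map_subtype_le _)
  have hle : S.subgroupOf A ≤ Fs := by
    intro s hs
    obtain ⟨f, hf, hfs⟩ := hSF (Subgroup.mem_subgroupOf.mp hs)
    have : f = s := Subtype.ext hfs
    rwa [this] at hf
  refine ⟨hle, ?_, ?_⟩
  · let e : ↥Fs →* ↥FsG := (Subgroup.equivMapOfInjective Fs A.subtype (Subgroup.subtype_injective A)).toMonoidHom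
    have h1 := hSsn.comap e
    have h2 : (S.subgroupOf FsG).comap e = (S.subgroupOf A).subgroupOf Fs := by
      ext x
      simp only [Subgroup.mem_comap, Subgroup.mem_subgroupOf]
      rfl
    rw [h2] at h1
    exact Subgroup.IsSubnormal.trans hle h1 (generalizedFittingSubgroup_normal (G := ↥A)).isSubnormal
  · intro x hx
    obtain ⟨hx1, hx2⟩ := Subgroup.mem_inf.mp hx
    rw [Subgroup.mem_subgroupOf]
    apply hSC
    refine ⟨⟨x, hx1, rfl⟩, ?_⟩
    show (x : G) ∈ Subgroup.centralizer (S : Set G)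
    rw [Subgroup.mem_centralizer_iff]
    intro s hs
    have := Subgroup.mem_centralizer_iff.mp hx2 ⟨s, hSA hs⟩ (Subgroup.mem_subgroupOf.mpr hs)
    exact congrArg Subtype.val this

/-- `p ∣ |F(H)|` forces `O_p(H) ≠ 1`. -/
theorem pCore_ne_bot_of_dvd_card_fittingSubgroup {H : Type u} [Group H] [Finite H] (p : ℕ)
    [Fact p.Prime] (hp : p ∣ Nat.card ↥(Cfsg.fittingSubgroup H)) : Cfsg.pCore p H ≠ ⊥ := by
  obtain ⟨x, hx⟩ := exists_prime_orderOf_dvd_card' (G := ↥(Cfsg.fittingSubgroup H)) p hp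
  have h1 : (x : H) ∈ Cfsg.pCore p H := by
    apply mem_pCore_of_mem_fittingSubgroup p x.2
    refine ⟨1, ?_⟩
    rw [pow_one, ← Subgroup.coe_pow, ← hx, pow_orderOf_eq_one]
    rfl
  intro h
  rw [h, Subgroup.mem_bot] at h1
  have h2 : x = 1 := Subtype.ext h1
  rw [h2, orderOf_one] at hx
  exact (Fact.out : p.Prime).one_lt.ne hx

end Cfsg.Agent.Helper7
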