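import Mathlib
import Cfsg.Prelude.Def_Local
import Cfsg.Agent.Lib.Helper7.Bender2

set_option autoImplicit false

namespace Cfsg.Agent.Helper7

open Subgroup
open scoped commutatorElement Pointwise

universe u

section abstract

variable {H : Type u} [Group H]

theorem pPrimeFStar_le_generalizedFittingSubgroup [Finite H] (p : ℕ) :
    pPrimeFStar p H ≤ Cfsg.generalizedFittingSubgroup H := by
  unfold pPrimeFStar
  apply sup_le layer_le_generalizedFittingSubgroup
  apply iSup_le
  rintro ⟨r, hr⟩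
  haveI : Fact (r : ℕ).Prime := ⟨r.2⟩
  exact (pCore_le_fittingSubgroup (r : ℕ)).trans fittingSubgroup_le_generalizedFittingSubgroup

theorem benderHyp_generalizedFittingSubgroup [Finite H] :
    BenderHyp (Cfsg.generalizedFittingSubgroup H) :=
  ⟨le_rfl, (generalizedFittingSubgroup_normal (G := H)).isSubnormal, inf_le_left⟩

/-- Stability: if `c` centralizes `O^p(F*(H))`, `y` is a `p'`-element centralizing `O_p(H)`, then
`c⁻¹ (y c y⁻¹)` lies in `O^p(F*(H))`. -/
theorem mem_pPrimeFStar_of_stability [Finite H] (p : ℕ) [Fact p.Prime] {c y : H}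
    (hc : c ∈ Subgroup.centralizer (pPrimeFStar p H : Set H))
    (hy : y ∈ Subgroup.centralizer (Cfsg.pCore p H : Set H))
    (hcop : (orderOf y).Coprime p) :
    c⁻¹ * (y * c * y⁻¹) ∈ pPrimeFStar p H := by
  set K := pPrimeFStar p H with hK
  set D := Cfsg.pCore p H with hD
  set Fs := Cfsg.generalizedFittingSubgroup H with hFs
  set w := c⁻¹ * (y * c * y⁻¹) with hw
  have hCK : (Subgroup.centralizer (K : Set H)).Normal := inferInstance
  have hCD : (Subgroup.centralizer (D : Set H)).Normal := inferInstance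
  have hw1 : w ∈ Subgroup.centralizer (K : Set H) :=
    Subgroup.mul_mem _ (Subgroup.inv_mem _ hc) (hCK.conj_mem c hc y)
  have hw2 : w ∈ Subgroup.centralizer (D : Set H) := by
    have : w = (c⁻¹ * y * c⁻¹⁻¹) * y⁻¹ := by rw [hw]; group
    rw [this]
    exact Subgroup.mul_mem _ (hCD.conj_mem y hy c⁻¹) (Subgroup.inv_mem _ hy)
  have hw3 : w ∈ Subgroup.centralizer (Fs : Set H) := by
    have h1 : Fs ≤ K ⊔ D := generalizedFittingSubgroup_le_pPrimeFStar_sup p
    have h2 : K ⊔ D ≤ Subgroup.centralizer ((Subgroup.zpowers w : Subgroup H) : Set H) := by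
      apply sup_le
      · rw [← Subgroup.le_centralizer_iff]; exact Subgroup.zpowers_le.mpr hw1
      · rw [← Subgroup.le_centralizer_iff]; exact Subgroup.zpowers_le.mpr hw2
    have h3 := Subgroup.le_centralizer_iff.mp (h1.trans h2)
    exact h3 (Subgroup.mem_zpowers w)
  have hw4 : w ∈ Fs := centralizer_generalizedFittingSubgroup_le hw3
  have hwF : w ∈ Cfsg.fittingSubgroup H :=
    generalizedFittingSubgroup_inf_centralizer_le_fittingSubgroup ⟨hw4, hw3⟩
  -- decompose `w`
  obtain ⟨a, b, hab, -, ⟨k, hk⟩, hb, ha', hb'⟩ :=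
    Cfsg.Agent.Helper20.exists_pPart_decomp p w (orderOf_pos w)
  have haF : a ∈ Cfsg.fittingSubgroup H := (Subgroup.zpowers_le.mpr hwF) ha'
  have haD : a ∈ D :=
    mem_pCore_of_mem_fittingSubgroup p haF ⟨k, by rw [← hk]; exact pow_orderOf_eq_one a⟩
  have hbK : b ∈ K := mem_pPrimeFStar_of_coprime p ((Subgroup.zpowers_le.mpr hw4) hb') hb
  -- work in the quotient by `K`
  set π := QuotientGroup.mk' K with hπ
  have hπw : π w = π a := by
    rw [hab, map_mul]
    have : π b = 1 := by rw [hπ, QuotientGroup.mk'_apply]; exact (QuotientGroup.eq_one_iff b).mpr hbK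
    rw [this, mul_one]
  have hya : y * a = a * y := ((Subgroup.mem_centralizer_iff.mp hy) a haD).symm
  have hzeq : (π c)⁻¹ * (π y * π c * (π y)⁻¹) = π a := by
    rw [← hπw, hw]; simp
  have key := conj_eq_self_of_coprime (π y) (π c) (isOfFinOrder_of_finite _)
    (by
      rw [hzeq, ← map_mul, ← map_inv, ← map_mul, hya, mul_inv_cancel_right])
    (by
      rw [hzeq]
      have h1 : orderOf (π a) ∣ p ^ k := hk ▸ orderOf_map_dvd π a
      have h2 : orderOf (π y) ∣ orderOf y := orderOf_map_dvd π y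
      exact Nat.Coprime.coprime_dvd_left h2
        (Nat.Coprime.coprime_dvd_right h1 (Nat.Coprime.pow_right k hcop)))
  have : π w = 1 := by
    rw [hw]
    simp only [map_mul, map_inv]
    rw [key, inv_mul_cancel]
  rw [hπ, QuotientGroup.mk'_apply] at this
  exact (QuotientGroup.eq_one_iff w).mp this

end abstract

section ambient

variable {G : Type u} [Group G] [Finite G]

theorem pCore_map_le_generalizedFittingSubgroup_map (N : Subgroup G) (r : ℕ) [Fact r.Prime] :
    (Cfsg.pCore r ↥N).map N.subtype ≤ (Cfsg.generalizedFittingSubgroup ↥N).map N.subtype :=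
  Subgroup.map_mono ((pCore_le_fittingSubgroup r).trans fittingSubgroup_le_generalizedFittingSubgroup)

/-- The key step of Bender's maximal subgroup theorem: `O_p(N) ≤ O_p(M)`. -/
theorem bender_pCore_le (M N : Subgroup G) (hN : IsBenderMax N)
    (h2 : (Cfsg.generalizedFittingSubgroup ↥N).map N.subtype ≤ M)
    (p q : ℕ) [Fact p.Prime] [Fact q.Prime] (hpq : p ≠ q)
    (hE1 : (Cfsg.pCore p ↥N).map N.subtype ≤
      Subgroup.centralizer (((pPrimeFStar p ↥M).map M.subtype : Subgroup G) : Set G))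
    (hE2 : ∀ r : ℕ, r.Prime → r ≠ p → (Cfsg.pCore r ↥N).map N.subtype ≤
      Subgroup.centralizer (((Cfsg.pCore p ↥M).map M.subtype : Subgroup G) : Set G))
    (hq : Cfsg.pCore q ↥N ≠ ⊥) :
    (Cfsg.pCore p ↥N).map N.subtype ≤ (Cfsg.pCore p ↥M).map M.subtype := by
  set Q := (Cfsg.pCore p ↥N).map N.subtype with hQ
  set Kp := pPrimeFStar p ↥M with hKp
  set Dp := Cfsg.pCore p ↥M with hDp
  set Cp := Subgroup.centralizer (Kp : Set ↥M) with hCp
  have hQM : Q ≤ M := (pCore_map_le_generalizedFittingSubgroup_map N p).trans h2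
  have hYM : ∀ r : ℕ, r.Prime → (Cfsg.pCore r ↥N).map N.subtype ≤ M := by
    intro r hr
    haveI : Fact r.Prime := ⟨hr⟩
    exact (pCore_map_le_generalizedFittingSubgroup_map N r).trans h2
  set QM := Q.subgroupOf M with hQM'
  let Ygen : Set ↥M := {y : ↥M | ∃ r : ℕ, r.Prime ∧ r ≠ p ∧ (y : G) ∈ (Cfsg.pCore r ↥N).map N.subtype}
  set N₀ := Cp ⊓ Subgroup.centralizer Ygen with hN₀
  -- (a)
  have hQC : QM ≤ Cp := by
    intro x hx
    rw [hCp, Subgroup.mem_centralizer_iff]
    intro k hk
    apply Subtype.ext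
    have h1 := hE1 (Subgroup.mem_subgroupOf.mp hx)
    have h2 := Subgroup.mem_centralizer_iff.mp h1 (k : G) ⟨k, hk, rfl⟩
    exact h2
  -- (b)
  have hQN₀ : QM ≤ N₀ := by
    apply le_inf hQC
    intro x hx
    rw [Subgroup.mem_centralizer_iff]
    rintro y ⟨r, hr, hrp, hy⟩
    haveI : Fact r.Prime := ⟨hr⟩
    apply Subtype.ext
    obtain ⟨x', hx', hxx⟩ := Subgroup.mem_subgroupOf.mp hx
    obtain ⟨y', hy', hyy⟩ := hy
    have h1 : ⁅Cfsg.pCore r ↥N, Cfsg.pCore p ↥N⁆ = ⊥ := pCore_commutator_pCore_of_ne hrp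
    have h2 := Subgroup.commutator_eq_bot_iff_le_centralizer.mp h1 hy'
    have h3 := Subgroup.mem_centralizer_iff.mp h2 x' hx'
    have h4 := congrArg Subtype.val h3
    simp only [Subgroup.coe_mul] at h4
    show (y : G) * (x : G) = (x : G) * (y : G)
    rw [← hxx, ← hyy]
    exact h4.symm
  -- (c)
  have hN₀C : N₀ ≤ Cp := inf_le_left
  have hnorm1 : (N₀.subgroupOf Cp).Normal := by
    rw [Subgroup.normal_subgroupOf_iff_le_normalizer hN₀C]
    apply le_normalizer_of_forall_conj_mem
    intro c hc n hn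
    refine ⟨Cp.mul_mem (Cp.mul_mem hc hn.1) (Cp.inv_mem hc), ?_⟩
    show c * n * c⁻¹ ∈ Subgroup.centralizer Ygen
    rw [Subgroup.mem_centralizer_iff]
    rintro y ⟨r, hr, hrp, hy⟩
    haveI : Fact r.Prime := ⟨hr⟩
    have hyD : y ∈ Subgroup.centralizer (Dp : Set ↥M) := by
      rw [Subgroup.mem_centralizer_iff]
      intro d hd
      apply Subtype.ext
      exact Subgroup.mem_centralizer_iff.mp (hE2 r hr hrp hy) (d : G) ⟨d, hd, rfl⟩
    have hyc : (orderOf y).Coprime p := by
      obtain ⟨y', hy', hyy⟩ := hy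
      obtain ⟨k, hk⟩ := (IsPGroup.iff_orderOf.mp (pCore_isPGroup (G := ↥N) r)) ⟨y', hy'⟩
      rw [Subgroup.orderOf_mk] at hk
      have : orderOf y = orderOf y' := by
        rw [← Subgroup.orderOf_coe y, ← Subgroup.orderOf_coe y']
        exact congrArg orderOf hyy.symm
      rw [this, hk]
      apply Nat.Coprime.pow_left
      exact (Nat.coprime_primes hr Fact.out).mpr hrp
    set w := c⁻¹ * (y * c * y⁻¹) with hw
    have hwK : w ∈ Kp := mem_pPrimeFStar_of_stability p hc hyD hyc
    have hwn : w * n = n * w := ((Subgroup.mem_centralizer_iff.mp hn.1) w hwK)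
    have hyn : y * n = n * y := (Subgroup.mem_centralizer_iff.mp hn.2) y ⟨r, hr, hrp, hy⟩
    have e1 : y * c = c * w * y := by rw [hw]; group
    have e2 : w * y * c⁻¹ = c⁻¹ * y := by rw [hw]; group
    calc y * (c * n * c⁻¹) = (y * c) * n * c⁻¹ := by group
      _ = c * w * y * n * c⁻¹ := by rw [e1]
      _ = c * w * (y * n) * c⁻¹ := by group
      _ = c * w * (n * y) * c⁻¹ := by rw [hyn]
      _ = c * (w * n) * y * c⁻¹ := by group
      _ = c * (n * w) * y * c⁻¹ := by rw [hwn]
      _ = c * n * (w * y * c⁻¹) := by group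
      _ = c * n * (c⁻¹ * y) := by rw [e2]
      _ = (c * n * c⁻¹) * y := by group
  -- (d)
  have hnorm2 : (QM.subgroupOf N₀).Normal := by
    rw [Subgroup.normal_subgroupOf_iff_le_normalizer hQN₀]
    apply le_normalizer_of_forall_conj_mem
    intro n hn x hx
    rw [Subgroup.mem_subgroupOf] at hx ⊢
    set Yq := (Cfsg.pCore q ↥N).map N.subtype with hYq
    have hYq1 : Yq ≠ ⊥ := by
      intro h
      rw [Subgroup.map_eq_bot_iff_of_injective _ (Subgroup.subtype_injective N)] at h
      exact hq h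
    have hYq2 : Yq ≤ N := Subgroup.map_subtype_le _
    have hYq3 : N ≤ Subgroup.normalizer (Yq : Set G) := le_normalizer_map_subtype_of_normal _
    have hnN : (n : G) ∈ N := by
      apply hN Yq hYq1 hYq2 hYq3
      apply Subgroup.centralizer_le_normalizer
      rw [Subgroup.mem_centralizer_iff]
      intro y hy
      have hyM : y ∈ M := hYM q Fact.out hy
      have := (Subgroup.mem_centralizer_iff.mp hn.2) ⟨y, hyM⟩ ⟨q, Fact.out, hpq.symm, hy⟩
      exact congrArg Subtype.val this
    have hQnorm : N ≤ Subgroup.normalizer (Q : Set G) := le_normalizer_map_subtype_of_normal _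
    have := hQnorm hnN
    rw [Subgroup.mem_normalizer_iff] at this
    have h3 := (this (x : G)).mp hx
    simpa using h3
  -- (e)
  have hsn : QM.IsSubnormal := by
    have h1 : Cp.IsSubnormal := (inferInstance : Cp.Normal).isSubnormal
    have h2 : N₀.IsSubnormal := Subgroup.IsSubnormal.step N₀ Cp hN₀C h1 hnorm1
    exact Subgroup.IsSubnormal.step QM N₀ hQN₀ h2 hnorm2
  have hQp : IsPGroup p ↥QM := ((pCore_isPGroup (G := ↥N) p).map _).comap_subtype
  have hle := subnormal_isPGroup_le_pCore p QM hsn hQp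
  intro x hx
  exact ⟨⟨x, hQM hx⟩, hle (Subgroup.mem_subgroupOf.mpr hx), rfl⟩

theorem benderHyp_map_subgroupOf (M : Subgroup G) :
    BenderHyp (((Cfsg.generalizedFittingSubgroup ↥M).map M.subtype).subgroupOf M) := by
  have : ((Cfsg.generalizedFittingSubgroup ↥M).map M.subtype).subgroupOf M =
      Cfsg.generalizedFittingSubgroup ↥M :=
    Subgroup.comap_map_eq_self_of_injective (Subgroup.subtype_injective M) _
  rw [this]
  exact benderHyp_generalizedFittingSubgroup

/-- prime divisors of `|F(N)|` divide `|F(M)|` -/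
theorem bender_primes (M N : Subgroup G)
    (h1 : (Cfsg.generalizedFittingSubgroup ↥M).map M.subtype ≤ N)
    (h2 : (Cfsg.generalizedFittingSubgroup ↥N).map N.subtype ≤ M)
    (q : ℕ) [Fact q.Prime] (hq : q ∣ Nat.card ↥(Cfsg.fittingSubgroup ↥N)) :
    q ∣ Nat.card ↥(Cfsg.fittingSubgroup ↥M) := by
  by_contra hcon
  set S := (Cfsg.generalizedFittingSubgroup ↥M).map M.subtype with hS
  set Q := (Cfsg.pCore q ↥N).map N.subtype with hQ
  have hSQ : S ≤ Subgroup.normalizer (Q : Set G) :=
    h1.trans (le_normalizer_map_subtype_of_normal _)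
  have h3 := bender_a M S (Subgroup.map_subtype_le _) (benderHyp_map_subgroupOf M) q hcon Q
    ((pCore_isPGroup (G := ↥N) q).map _) hSQ
  have hQM : Q ≤ M := (pCore_map_le_generalizedFittingSubgroup_map N q).trans h2
  rw [inf_eq_left.mpr hQM] at h3
  rw [hQ, Subgroup.map_eq_bot_iff_of_injective _ (Subgroup.subtype_injective N)] at h3
  exact pCore_ne_bot_of_dvd_card_fittingSubgroup (H := ↥N) q hq h3

theorem pPrimeFStar_map_le_centralizer_of_coprime (A : Subgroup G) (p : ℕ) [Fact p.Prime]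
    (P : Set G)
    (h : ∀ u : ↥A, u ∈ Cfsg.generalizedFittingSubgroup ↥A → (orderOf u).Coprime p →
      (u : G) ∈ Subgroup.centralizer P) :
    (pPrimeFStar p ↥A).map A.subtype ≤ Subgroup.centralizer P := by
  rw [Subgroup.map_le_iff_le_comap]
  unfold pPrimeFStar
  apply sup_le
  · unfold Cfsg.layer
    apply sSup_le
    intro L hL
    rw [← Subgroup.map_le_iff_le_comap]
    apply perfect_le_centralizer_of_coprime p
    · rw [← Subgroup.map_commutator, component_perfect hL]
    · rintro w ⟨w', hw', rfl⟩ hwc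
      apply h w' (layer_le_generalizedFittingSubgroup (component_le_layer hL hw'))
      rw [← Subgroup.orderOf_coe]
      exact hwc
  · apply iSup_le
    rintro ⟨r, hr⟩
    haveI : Fact (r : ℕ).Prime := ⟨r.2⟩
    intro x hx
    rw [Subgroup.mem_comap]
    apply h x (fittingSubgroup_le_generalizedFittingSubgroup (pCore_le_fittingSubgroup (r : ℕ) hx))
    obtain ⟨k, hk⟩ := (IsPGroup.iff_orderOf.mp (pCore_isPGroup (G := ↥A) (r : ℕ))) ⟨x, hx⟩
    rw [Subgroup.orderOf_mk] at hk
    rw [hk]
    apply Nat.Coprime.pow_left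
    exact (Nat.coprime_primes r.2 Fact.out).mpr hr

/-- Bender's lemma (b) for `S = F*(M)`, `P = O_p(N)`. -/
theorem bender_b_FsG (M N : Subgroup G) (hM : IsBenderMax M)
    (h1 : (Cfsg.generalizedFittingSubgroup ↥M).map M.subtype ≤ N)
    (p : ℕ) [Fact p.Prime] (hp : Cfsg.pCore p ↥M ≠ ⊥) :
    (pPrimeFStar p ↥M).map M.subtype ≤
      Subgroup.centralizer (((Cfsg.pCore p ↥N).map N.subtype : Subgroup G) : Set G) := by
  apply pPrimeFStar_map_le_centralizer_of_coprime
  intro u hu hcop
  set S := (Cfsg.generalizedFittingSubgroup ↥M).map M.subtype with hS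
  have hSP : S ≤ Subgroup.normalizer (((Cfsg.pCore p ↥N).map N.subtype : Subgroup G) : Set G) :=
    h1.trans (le_normalizer_map_subtype_of_normal _)
  have key := bender_b M hM S (Subgroup.map_subtype_le _) (benderHyp_map_subgroupOf M) p hp _
    ((pCore_isPGroup (G := ↥N) p).map _) hSP u hu hcop
  rw [Subgroup.mem_centralizer_iff]
  intro x hx
  exact key x hx

end ambient

end Cfsg.Agent.Helper7
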