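import Mathlib
import Cfsg.Prelude.Def_Local
import Cfsg.Agent.Lib.Helper7.Bender3

set_option autoImplicit false

namespace Cfsg.Agent.Helper7

open Subgroup
open scoped commutatorElement Pointwise

universe u

variable {G : Type u} [Group G] [Finite G]

/-- `O_r(N)` centralizes `E(M)` -/
theorem pCore_map_le_centralizer_layer_map (M N : Subgroup G) (hM : IsBenderMax M)
    (h1 : (Cfsg.generalizedFittingSubgroup ↥M).map M.subtype ≤ N)
    (h2 : (Cfsg.generalizedFittingSubgroup ↥N).map N.subtype ≤ M)
    (r : ℕ) [Fact r.Prime] :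
    (Cfsg.pCore r ↥N).map N.subtype ≤
      Subgroup.centralizer (((Cfsg.layer ↥M).map M.subtype : Subgroup G) : Set G) := by
  by_cases hr : Cfsg.pCore r ↥N = ⊥
  · rw [hr, Subgroup.map_bot]; exact bot_le
  · have hdvd : r ∣ Nat.card ↥(Cfsg.fittingSubgroup ↥N) := by
      have hle : Cfsg.pCore r ↥N ≤ Cfsg.fittingSubgroup ↥N := pCore_le_fittingSubgroup r
      obtain ⟨k, hk⟩ := IsPGroup.iff_card.mp (pCore_isPGroup (G := ↥N) r)
      have hk0 : k ≠ 0 := by
        rintro rfl
        rw [pow_zero] at hk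
        exact hr (Subgroup.card_eq_one.mp hk)
      exact dvd_trans (hk ▸ dvd_pow_self r hk0) (Subgroup.card_dvd_of_le hle)
    have hdvd' := bender_primes M N h1 h2 r hdvd
    have hne := pCore_ne_bot_of_dvd_card_fittingSubgroup (H := ↥M) r hdvd'
    have key := bender_b_FsG M N hM h1 r hne
    rw [Subgroup.le_centralizer_iff]
    refine le_trans (Subgroup.map_mono ?_) key
    unfold pPrimeFStar
    exact le_sup_left

/-- `F(N)` centralizes `E(M)` -/
theorem fittingSubgroup_map_le_centralizer_layer_map (M N : Subgroup G) (hM : IsBenderMax M)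
    (h1 : (Cfsg.generalizedFittingSubgroup ↥M).map M.subtype ≤ N)
    (h2 : (Cfsg.generalizedFittingSubgroup ↥N).map N.subtype ≤ M) :
    (Cfsg.fittingSubgroup ↥N).map N.subtype ≤
      Subgroup.centralizer (((Cfsg.layer ↥M).map M.subtype : Subgroup G) : Set G) := by
  rw [fittingSubgroup_eq_iSup_pCore, Subgroup.map_iSup]
  apply iSup_le
  intro r
  haveI : Fact (r : ℕ).Prime := ⟨r.2⟩
  exact pCore_map_le_centralizer_layer_map M N hM h1 h2 r

/-- `E(M) ≤ E(N)` under the hypotheses of Bender's maximal subgroup theorem. -/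
theorem bender_layer_le (M N : Subgroup G) (hM : IsBenderMax M)
    (h1 : (Cfsg.generalizedFittingSubgroup ↥M).map M.subtype ≤ N)
    (h2 : (Cfsg.generalizedFittingSubgroup ↥N).map N.subtype ≤ M) :
    (Cfsg.layer ↥M).map M.subtype ≤ (Cfsg.layer ↥N).map N.subtype := by
  set EM := (Cfsg.layer ↥M).map M.subtype with hEM
  set EN := (Cfsg.layer ↥N).map N.subtype with hEN
  have hEMN : EM ≤ N := (Subgroup.map_mono layer_le_generalizedFittingSubgroup).trans h1
  have hENM : EN ≤ M := (Subgroup.map_mono layer_le_generalizedFittingSubgroup).trans h2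
  have hEMM : EM ≤ M := Subgroup.map_subtype_le _
  have hENN : EN ≤ N := Subgroup.map_subtype_le _
  have hMEM : M ≤ Subgroup.normalizer (EM : Set G) := le_normalizer_map_subtype_of_normal _
  have hNEN : N ≤ Subgroup.normalizer (EN : Set G) := le_normalizer_map_subtype_of_normal _
  set D₀ := EM ⊓ EN with hD₀
  have hcomm : ⁅EM, EN⁆ ≤ D₀ := by
    apply le_inf
    · exact commutator_le_of_le_normalizer (hENM.trans hMEM)
    · rw [Subgroup.commutator_comm]
      exact commutator_le_of_le_normalizer (hEMN.trans hNEN)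
  have hFN := fittingSubgroup_map_le_centralizer_layer_map M N hM h1 h2
  rw [hEM, Subgroup.map_le_iff_le_comap]
  unfold Cfsg.layer
  apply sSup_le
  intro L hL
  rw [← Subgroup.map_le_iff_le_comap]
  set LG := L.map M.subtype with hLG
  have hLEM : LG ≤ EM := Subgroup.map_mono (component_le_layer hL)
  have hperf : ⁅LG, LG⁆ = LG := by rw [hLG, ← Subgroup.map_commutator, component_perfect hL]
  have hLne : LG ≠ ⊥ := by
    intro h
    rw [hLG, Subgroup.map_eq_bot_iff_of_injective _ (Subgroup.subtype_injective M)] at h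
    exact component_ne_bot hL h
  -- (C2)
  have hC2 : ⁅LG, EN⁆ ≠ ⊥ := by
    intro hbot
    have hLN : LG ≤ N := hLEM.trans hEMN
    have hcen : LG.subgroupOf N ≤
        Subgroup.centralizer (Cfsg.generalizedFittingSubgroup ↥N : Set ↥N) := by
      rw [Subgroup.le_centralizer_iff]
      unfold Cfsg.generalizedFittingSubgroup
      apply sup_le
      · intro f hf
        rw [Subgroup.mem_centralizer_iff]
        intro l hl
        apply Subtype.ext
        have h3 := Subgroup.commutator_eq_bot_iff_le_centralizer.mp hbot (Subgroup.mem_subgroupOf.mp hl)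
        exact (Subgroup.mem_centralizer_iff.mp h3 (f : G) ⟨f, hf, rfl⟩).symm
      · intro f hf
        rw [Subgroup.mem_centralizer_iff]
        intro l hl
        apply Subtype.ext
        have h3 := hFN ⟨f, hf, rfl⟩
        exact (Subgroup.mem_centralizer_iff.mp h3 (l : G) (hLEM (Subgroup.mem_subgroupOf.mp hl)))
    have hle : LG.subgroupOf N ≤ Cfsg.generalizedFittingSubgroup ↥N :=
      hcen.trans centralizer_generalizedFittingSubgroup_le
    have habel : ⁅LG, LG⁆ = ⊥ := by
      rw [Subgroup.commutator_eq_bot_iff_le_centralizer]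
      intro a ha
      rw [Subgroup.mem_centralizer_iff]
      intro b hb
      have ha' : (⟨a, hLN ha⟩ : ↥N) ∈ LG.subgroupOf N := Subgroup.mem_subgroupOf.mpr ha
      have hb' : (⟨b, hLN hb⟩ : ↥N) ∈ LG.subgroupOf N := Subgroup.mem_subgroupOf.mpr hb
      have := Subgroup.mem_centralizer_iff.mp (hcen ha') _ (hle hb')
      exact congrArg Subtype.val this
    rw [hperf] at habel
    exact hLne habel
  -- (C4)
  have hC4 : ⁅LG, D₀⁆ ≠ ⊥ := by
    intro hbot
    have h3 : ⁅⁅LG, EN⁆, LG⁆ = ⊥ := by
      rw [eq_bot_iff, ← hbot, Subgroup.commutator_comm LG D₀]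
      exact Subgroup.commutator_mono ((Subgroup.commutator_mono hLEM le_rfl).trans hcomm) le_rfl
    have h4 : ⁅⁅EN, LG⁆, LG⁆ = ⊥ := by rw [Subgroup.commutator_comm EN LG]; exact h3
    have h5 := Subgroup.commutator_commutator_eq_bot_of_rotate h3 h4
    rw [hperf] at h5
    exact hC2 h5
  -- (C5)
  set D₀' := D₀.subgroupOf M with hD₀'
  have hD₀M : D₀ ≤ M := inf_le_left.trans hEMM
  have hD₀layer : D₀' ≤ Cfsg.layer ↥M := by
    intro x hx
    obtain ⟨y, hy, hyx⟩ := (Subgroup.mem_subgroupOf.mp hx).1
    have : y = x := Subtype.ext hyx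
    rwa [this] at hy
  have hnormal : (D₀'.subgroupOf (Cfsg.layer ↥M)).Normal := by
    rw [Subgroup.normal_subgroupOf_iff_le_normalizer hD₀layer]
    apply le_normalizer_of_forall_conj_mem
    intro e he x hx
    rw [Subgroup.mem_subgroupOf] at hx ⊢
    have heM : (e : G) ∈ EM := ⟨e, he, rfl⟩
    have hn1 := (hEMM.trans hMEM) heM
    have hn2 := (hEMN.trans hNEN) heM
    rw [Subgroup.mem_normalizer_iff] at hn1 hn2
    refine ⟨?_, ?_⟩
    · have := (hn1 (x : G)).mp hx.1
      simpa using this
    · have := (hn2 (x : G)).mp hx.2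
      simpa using this
  have hsn : D₀'.IsSubnormal :=
    Subgroup.IsSubnormal.step D₀' (Cfsg.layer ↥M) hD₀layer
      (layer_normal (G := ↥M)).isSubnormal hnormal
  rcases component_le_or_commutator_eq_bot' L D₀' hL hsn with h | h
  · intro x hx
    obtain ⟨y, hy, rfl⟩ := hx
    exact (Subgroup.mem_subgroupOf.mp (h hy)).2
  · exfalso
    apply hC4
    have hLeq : L = LG.subgroupOf M :=
      (Subgroup.comap_map_eq_self_of_injective (Subgroup.subtype_injective M) L).symm
    rw [hLeq] at h
    exact (commutator_subgroupOf_eq_bot_iff (Subgroup.map_subtype_le _) hD₀M).mp h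

end Cfsg.Agent.Helper7
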