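import Mathlib
import Cfsg.Prelude.Def_Local
import Cfsg.Agent.Lib.Helper7.Bender4

set_option autoImplicit false

namespace Cfsg.Agent.Helper7

open Subgroup
open scoped commutatorElement Pointwise

universe u

variable {G : Type u} [Group G] [Finite G]

theorem dvd_card_fittingSubgroup_of_pCore_ne_bot {H : Type u} [Group H] [Finite H] (r : ℕ)
    [Fact r.Prime] (hr : Cfsg.pCore r H ≠ ⊥) : r ∣ Nat.card ↥(Cfsg.fittingSubgroup H) := by
  have hle : Cfsg.pCore r H ≤ Cfsg.fittingSubgroup H := pCore_le_fittingSubgroup r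
  obtain ⟨k, hk⟩ := IsPGroup.iff_card.mp (pCore_isPGroup (G := H) r)
  have hk0 : k ≠ 0 := by
    rintro rfl
    rw [pow_zero] at hk
    exact hr (Subgroup.card_eq_one.mp hk)
  exact dvd_trans (hk ▸ dvd_pow_self r hk0) (Subgroup.card_dvd_of_le hle)

/-- `O_r(N)` centralizes `O_p(M)` for `r ≠ p` -/
theorem pCore_map_le_centralizer_pCore_map (M N : Subgroup G) (hM : IsBenderMax M)
    (h1 : (Cfsg.generalizedFittingSubgroup ↥M).map M.subtype ≤ N)
    (h2 : (Cfsg.generalizedFittingSubgroup ↥N).map N.subtype ≤ M)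
    (r p : ℕ) [Fact r.Prime] [Fact p.Prime] (hrp : r ≠ p) :
    (Cfsg.pCore r ↥N).map N.subtype ≤
      Subgroup.centralizer (((Cfsg.pCore p ↥M).map M.subtype : Subgroup G) : Set G) := by
  by_cases hr : Cfsg.pCore r ↥N = ⊥
  · rw [hr, Subgroup.map_bot]; exact bot_le
  · have hdvd := dvd_card_fittingSubgroup_of_pCore_ne_bot r hr
    have hdvd' := bender_primes M N h1 h2 r hdvd
    have hne := pCore_ne_bot_of_dvd_card_fittingSubgroup (H := ↥M) r hdvd'
    have key := bender_b_FsG M N hM h1 r hne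
    rw [Subgroup.le_centralizer_iff]
    refine le_trans (Subgroup.map_mono ?_) key
    unfold pPrimeFStar
    refine le_trans ?_ le_sup_right
    exact le_iSup (fun s : {s : Nat.Primes // (s : ℕ) ≠ r} =>
      Cfsg.pCore ((s : Nat.Primes) : ℕ) ↥M) ⟨⟨p, Fact.out⟩, hrp.symm⟩

theorem eq_of_isCoatom_of_le {M N : Subgroup G} (hM : IsCoatom M) (hN : IsCoatom N)
    (h : N ≤ M) : M = N := by
  rcases eq_or_lt_of_le h with h' | h'
  · exact h'.symm
  · exact absurd (hN.2 M h') hM.1

/-- `O_p(N) = O_p(M)` when two distinct primes divide `|F(M)|`. -/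
theorem bender_pCore_eq (M N : Subgroup G) (hM : IsBenderMax M) (hN : IsBenderMax N)
    (h1 : (Cfsg.generalizedFittingSubgroup ↥M).map M.subtype ≤ N)
    (h2 : (Cfsg.generalizedFittingSubgroup ↥N).map N.subtype ≤ M)
    (p q : ℕ) [Fact p.Prime] [Fact q.Prime] (hpq : p ≠ q)
    (hp : p ∣ Nat.card ↥(Cfsg.fittingSubgroup ↥M))
    (hq : q ∣ Nat.card ↥(Cfsg.fittingSubgroup ↥M)) :
    (Cfsg.pCore p ↥N).map N.subtype = (Cfsg.pCore p ↥M).map M.subtype := by
  have hpN := bender_primes N M h2 h1 p hp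
  have hqN := bender_primes N M h2 h1 q hq
  have hpM' := pCore_ne_bot_of_dvd_card_fittingSubgroup (H := ↥M) p hp
  have hqM' := pCore_ne_bot_of_dvd_card_fittingSubgroup (H := ↥M) q hq
  have hpN' := pCore_ne_bot_of_dvd_card_fittingSubgroup (H := ↥N) p hpN
  have hqN' := pCore_ne_bot_of_dvd_card_fittingSubgroup (H := ↥N) q hqN
  apply le_antisymm
  · apply bender_pCore_le M N hN h2 p q hpq _ _ hqN'
    · rw [Subgroup.le_centralizer_iff]
      exact bender_b_FsG M N hM h1 p hpM'
    · intro r hr hrp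
      haveI : Fact r.Prime := ⟨hr⟩
      exact pCore_map_le_centralizer_pCore_map M N hM h1 h2 r p hrp
  · apply bender_pCore_le N M hM h1 p q hpq _ _ hqM'
    · rw [Subgroup.le_centralizer_iff]
      exact bender_b_FsG N M hN h2 p hpN'
    · intro r hr hrp
      haveI : Fact r.Prime := ⟨hr⟩
      exact pCore_map_le_centralizer_pCore_map N M hN h2 h1 r p hrp

/-- **Bender's maximal subgroup theorem.** -/
theorem bender_maximal_subgroup [IsSimpleGroup G] (M N : Subgroup G) (hM : IsCoatom M)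
    (hN : IsCoatom N) (hMN : M ≠ N)
    (h1 : (Cfsg.generalizedFittingSubgroup ↥M).map M.subtype ≤ N)
    (h2 : (Cfsg.generalizedFittingSubgroup ↥N).map N.subtype ≤ M) :
    ∃ p : ℕ, p.Prime ∧ IsPGroup p ↥(Cfsg.generalizedFittingSubgroup ↥M) ∧
      IsPGroup p ↥(Cfsg.generalizedFittingSubgroup ↥N) := by
  have hbM := isBenderMax_of_isCoatom M hM
  have hbN := isBenderMax_of_isCoatom N hN
  -- a common nontrivial subgroup normal in both forces `M = N`
  have hcommon : ∀ X : Subgroup G, X ≠ ⊥ → X ≤ M → M ≤ Subgroup.normalizer (X : Set G) →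
      N ≤ Subgroup.normalizer (X : Set G) → False := by
    intro X hX hXM hMX hNX
    exact hMN (eq_of_isCoatom_of_le hM hN (hNX.trans (hbM X hX hXM hMX)))
  -- layers
  have hEeq : (Cfsg.layer ↥M).map M.subtype = (Cfsg.layer ↥N).map N.subtype :=
    le_antisymm (bender_layer_le M N hbM h1 h2) (bender_layer_le N M hbN h2 h1)
  have hEM : Cfsg.layer ↥M = ⊥ := by
    by_contra hne
    apply hcommon ((Cfsg.layer ↥M).map M.subtype)
    · intro h
      rw [Subgroup.map_eq_bot_iff_of_injective _ (Subgroup.subtype_injective M)] at h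
      exact hne h
    · exact Subgroup.map_subtype_le _
    · exact le_normalizer_map_subtype_of_normal _
    · rw [hEeq]; exact le_normalizer_map_subtype_of_normal _
  have hEN : Cfsg.layer ↥N = ⊥ := by
    rw [hEM, Subgroup.map_bot] at hEeq
    have := hEeq.symm
    rwa [Subgroup.map_eq_bot_iff_of_injective _ (Subgroup.subtype_injective N)] at this
  have hFM : Cfsg.generalizedFittingSubgroup ↥M = Cfsg.fittingSubgroup ↥M := by
    unfold Cfsg.generalizedFittingSubgroup; rw [hEM, bot_sup_eq]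
  have hFN : Cfsg.generalizedFittingSubgroup ↥N = Cfsg.fittingSubgroup ↥N := by
    unfold Cfsg.generalizedFittingSubgroup; rw [hEN, bot_sup_eq]
  -- `M ≠ ⊥`
  have hMbot : M ≠ ⊥ := by
    intro h
    have hlt : M < N := by
      rw [h]; exact bot_lt_iff_ne_bot.mpr (fun h' => hMN (h.trans h'.symm))
    exact hN.1 (hM.2 N hlt)
  have hFne : Cfsg.fittingSubgroup ↥M ≠ ⊥ := by
    intro h
    have h3 := centralizer_generalizedFittingSubgroup_le (G := ↥M)
    rw [hFM, h] at h3
    have h4 : (⊤ : Subgroup ↥M) ≤ ⊥ := by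
      refine le_trans ?_ h3
      intro x _
      rw [Subgroup.mem_centralizer_iff]
      intro y hy
      rw [SetLike.mem_coe, Subgroup.mem_bot] at hy
      rw [hy]; simp
    apply hMbot
    rw [eq_bot_iff]
    intro x hx
    have := h4 (Subgroup.mem_top (⟨x, hx⟩ : ↥M))
    rw [Subgroup.mem_bot] at this
    rw [Subgroup.mem_bot]
    exact congrArg Subtype.val this
  have hcard : Nat.card ↥(Cfsg.fittingSubgroup ↥M) ≠ 1 := fun h =>
    hFne (Subgroup.card_eq_one.mp h)
  obtain ⟨p, hp, hpd⟩ := Nat.exists_prime_and_dvd hcard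
  haveI : Fact p.Prime := ⟨hp⟩
  have huniq : ∀ q : ℕ, q.Prime → q ∣ Nat.card ↥(Cfsg.fittingSubgroup ↥M) → q = p := by
    intro q hq hqd
    by_contra hqp
    haveI : Fact q.Prime := ⟨hq⟩
    have heq := bender_pCore_eq M N hbM hbN h1 h2 p q (Ne.symm hqp) hpd hqd
    apply hcommon ((Cfsg.pCore p ↥M).map M.subtype)
    · intro h
      rw [Subgroup.map_eq_bot_iff_of_injective _ (Subgroup.subtype_injective M)] at h
      exact pCore_ne_bot_of_dvd_card_fittingSubgroup (H := ↥M) p hpd h
    · exact Subgroup.map_subtype_le _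
    · exact le_normalizer_map_subtype_of_normal _
    · rw [← heq]; exact le_normalizer_map_subtype_of_normal _
  have huniqN : ∀ q : ℕ, q.Prime → q ∣ Nat.card ↥(Cfsg.fittingSubgroup ↥N) → q = p := by
    intro q hq hqd
    haveI : Fact q.Prime := ⟨hq⟩
    exact huniq q hq (bender_primes M N h1 h2 q hqd)
  refine ⟨p, hp, ?_, ?_⟩
  · rw [hFM]
    apply IsPGroup.of_card (n := (Nat.card ↥(Cfsg.fittingSubgroup ↥M)).primeFactorsList.length)
    exact Nat.eq_prime_pow_of_unique_prime_dvd Nat.card_pos.ne' (fun {q} hq hqd => huniq q hq hqd)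
  · rw [hFN]
    apply IsPGroup.of_card (n := (Nat.card ↥(Cfsg.fittingSubgroup ↥N)).primeFactorsList.length)
    exact Nat.eq_prime_pow_of_unique_prime_dvd Nat.card_pos.ne' (fun {q} hq hqd => huniqN q hq hqd)

end Cfsg.Agent.Helper7
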