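import Mathlib

set_option autoImplicit false

namespace Cfsg.Agent.Helper7

open Subgroup

variable {G : Type*} [Group G]

/-- `b` acts on `y` as `±1`. -/
def IsEigenFor (b y : G) : Prop := b * y * b⁻¹ = y ∨ b * y * b⁻¹ = y⁻¹

/-- **Eigen lemma.**  An abelian group `A` of exponent 2 normalizing a nontrivial abelian subgroup
`N` without involutions has a common "eigenvector" in `N`. -/
theorem exists_eigen [Finite G] (A N : Subgroup G)
    (hAc : ∀ a ∈ A, ∀ b ∈ A, a * b = b * a) (hA2 : ∀ a ∈ A, a * a = 1)
    (hAN : ∀ a ∈ A, ∀ y ∈ N, a * y * a⁻¹ ∈ N)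
    (hNc : ∀ x ∈ N, ∀ y ∈ N, x * y = y * x)
    (hodd : ∀ y ∈ N, y * y = 1 → y = 1) (hne : N ≠ ⊥) :
    ∃ y ∈ N, y ≠ 1 ∧ ∀ b ∈ A, IsEigenFor b y := by
  classical
  haveI := Fintype.ofFinite G
  let E : G → Finset G := fun y => Finset.univ.filter (fun b => b ∈ A ∧ IsEigenFor b y)
  let S : Finset G := Finset.univ.filter (fun y => y ∈ N ∧ y ≠ 1)
  have hS : S.Nonempty := by
    obtain ⟨y, hy1⟩ := (Subgroup.ne_bot_iff_exists_ne_one).mp hne
    exact ⟨y.1, by
      simp only [S, Finset.mem_filter, Finset.mem_univ, true_and]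
      exact ⟨y.2, fun h => hy1 (Subtype.ext h)⟩⟩
  obtain ⟨y, hyS, hymax⟩ := Finset.exists_max_image S (fun y => (E y).card) hS
  simp only [S, Finset.mem_filter, Finset.mem_univ, true_and] at hyS
  obtain ⟨hyN, hy1⟩ := hyS
  refine ⟨y, hyN, hy1, ?_⟩
  by_contra hcon
  push Not at hcon
  obtain ⟨a, haA, haE⟩ := hcon
  set w := a * y * a⁻¹ with hw
  have hwN : w ∈ N := hAN a haA y hyN
  have hainv : a⁻¹ = a := inv_eq_of_mul_eq_one_right (hA2 a haA)
  have hawa : a * w * a⁻¹ = y := by
    rw [hw, hainv]
    calc a * (a * y * a) * a = (a * a) * y * (a * a) := by group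
      _ = y := by rw [hA2 a haA]; group
  -- the general step: a new element `y'` with larger eigen set
  have step : ∀ y' ∈ N, y' ≠ 1 → (∀ b ∈ A, IsEigenFor b y → IsEigenFor b y') →
      IsEigenFor a y' → False := by
    intro y' hy'N hy'1 hsub ha'
    have hlt : (E y).card < (E y').card := by
      apply Finset.card_lt_card
      refine ⟨?_, ?_⟩
      · intro b hb
        simp only [E, Finset.mem_filter, Finset.mem_univ, true_and] at hb ⊢
        exact ⟨hb.1, hsub b hb.1 hb.2⟩
      · intro hsubset
        have : a ∈ E y := hsubset (by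
          simp only [E, Finset.mem_filter, Finset.mem_univ, true_and]
          exact ⟨haA, ha'⟩)
        simp only [E, Finset.mem_filter, Finset.mem_univ, true_and] at this
        exact haE this.2
    have := hymax y' (by
      simp only [S, Finset.mem_filter, Finset.mem_univ, true_and]
      exact ⟨hy'N, hy'1⟩)
    omega
  have hyw : y * w = w * y := hNc y hyN w hwN
  have hywi : y * w⁻¹ = w⁻¹ * y := hNc y hyN w⁻¹ (N.inv_mem hwN)
  by_cases hu : y * w = 1
  · -- use `v = y * w⁻¹`
    have hv1 : y * w⁻¹ ≠ 1 := by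
      intro hv
      apply hy1
      apply hodd y hyN
      have h1 : w = y := by
        have := mul_eq_one_iff_eq_inv.mp hv
        rw [inv_inv] at this
        exact this.symm
      rw [h1] at hu
      exact hu
    apply step (y * w⁻¹) (N.mul_mem hyN (N.inv_mem hwN)) hv1
    · intro b hbA hb
      have hbw : b * w * b⁻¹ = a * (b * y * b⁻¹) * a⁻¹ := by
        rw [hw]
        have hab : a * b = b * a := hAc a haA b hbA
        calc b * (a * y * a⁻¹) * b⁻¹ = (b * a) * y * (b * a)⁻¹ := by group
          _ = (a * b) * y * (a * b)⁻¹ := by rw [hab]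
          _ = a * (b * y * b⁻¹) * a⁻¹ := by group
      rcases hb with hb | hb
      · left
        have hbw' : b * w * b⁻¹ = w := by rw [hbw, hb]
        calc b * (y * w⁻¹) * b⁻¹ = (b * y * b⁻¹) * (b * w * b⁻¹)⁻¹ := by group
          _ = y * w⁻¹ := by rw [hb, hbw']
      · right
        have hbw' : b * w * b⁻¹ = w⁻¹ := by
          rw [hbw, hb, hw]; group
        calc b * (y * w⁻¹) * b⁻¹ = (b * y * b⁻¹) * (b * w * b⁻¹)⁻¹ := by group
          _ = y⁻¹ * w⁻¹⁻¹ := by rw [hb, hbw']
          _ = (y * w⁻¹)⁻¹ := by rw [hywi]; group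
    · right
      calc a * (y * w⁻¹) * a⁻¹ = (a * y * a⁻¹) * (a * w * a⁻¹)⁻¹ := by group
        _ = w * y⁻¹ := by rw [hawa]
        _ = (y * w⁻¹)⁻¹ := by group
  · -- use `u = y * w`
    apply step (y * w) (N.mul_mem hyN hwN) hu
    · intro b hbA hb
      have hbw : b * w * b⁻¹ = a * (b * y * b⁻¹) * a⁻¹ := by
        rw [hw]
        have hab : a * b = b * a := hAc a haA b hbA
        calc b * (a * y * a⁻¹) * b⁻¹ = (b * a) * y * (b * a)⁻¹ := by group
          _ = (a * b) * y * (a * b)⁻¹ := by rw [hab]
          _ = a * (b * y * b⁻¹) * a⁻¹ := by group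
      rcases hb with hb | hb
      · left
        have hbw' : b * w * b⁻¹ = w := by rw [hbw, hb]
        calc b * (y * w) * b⁻¹ = (b * y * b⁻¹) * (b * w * b⁻¹) := by group
          _ = y * w := by rw [hb, hbw']
      · right
        have hbw' : b * w * b⁻¹ = w⁻¹ := by
          rw [hbw, hb, hw]; group
        calc b * (y * w) * b⁻¹ = (b * y * b⁻¹) * (b * w * b⁻¹) := by group
          _ = y⁻¹ * w⁻¹ := by rw [hb, hbw']
          _ = (y * w)⁻¹ := by rw [hyw]; group
    · left
      calc a * (y * w) * a⁻¹ = (a * y * a⁻¹) * (a * w * a⁻¹) := by group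
        _ = w * y := by rw [hawa]
        _ = y * w := hyw.symm

theorem mem_centralizer_singleton_iff' {g x : G} :
    g ∈ Subgroup.centralizer ({x} : Set G) ↔ g * x * g⁻¹ = x := by
  rw [Subgroup.mem_centralizer_iff]
  constructor
  · intro h
    have := h x rfl
    rw [← this]; group
  · intro h y hy
    rw [Set.mem_singleton_iff] at hy
    subst hy
    calc y * g = (g * y * g⁻¹) * g := by rw [h]
      _ = g * y := by group

/-- **Half lemma.** -/
theorem card_le_two_mul_card_inf_centralizer [Finite G] (X : Subgroup G) (x : G)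
    (hX : ∀ c ∈ X, IsEigenFor c x) :
    Nat.card X ≤ 2 * Nat.card ↥(X ⊓ Subgroup.centralizer ({x} : Set G)) := by
  classical
  by_cases hall : X ≤ Subgroup.centralizer ({x} : Set G)
  · rw [inf_eq_left.mpr hall]; omega
  · obtain ⟨b, hbX, hbC⟩ := SetLike.not_le_iff_exists.mp hall
    have hb : b * x * b⁻¹ = x⁻¹ := by
      rcases hX b hbX with h | h
      · exact absurd (mem_centralizer_singleton_iff'.mpr h) hbC
      · exact h
    let f : X → ↥(X ⊓ Subgroup.centralizer ({x} : Set G)) × Bool := fun c =>
      if h : (c : G) * x * (c : G)⁻¹ = x then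
        (⟨c, c.2, mem_centralizer_singleton_iff'.mpr h⟩, false)
      else
        (⟨b * c, X.mul_mem hbX c.2, by
          show b * (c : G) ∈ Subgroup.centralizer ({x} : Set G)
          rw [mem_centralizer_singleton_iff']
          have hc : (c : G) * x * (c : G)⁻¹ = x⁻¹ := by
            rcases hX c c.2 with h' | h'
            · exact absurd h' h
            · exact h'
          calc b * ↑c * x * (b * ↑c)⁻¹ = b * (↑c * x * (↑c)⁻¹) * b⁻¹ := by group
            _ = b * x⁻¹ * b⁻¹ := by rw [hc]
            _ = (b * x * b⁻¹)⁻¹ := by group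
            _ = x := by rw [hb, inv_inv]⟩, true)
    have hf : Function.Injective f := by
      intro c c' hcc
      simp only [f] at hcc
      by_cases h : (c : G) * x * (c : G)⁻¹ = x <;> by_cases h' : (c' : G) * x * (c' : G)⁻¹ = x
      · rw [dif_pos h, dif_pos h'] at hcc
        have := congrArg (fun z => (z.1 : G)) hcc
        exact Subtype.ext this
      · rw [dif_pos h, dif_neg h'] at hcc
        have := congrArg Prod.snd hcc
        simp at this
      · rw [dif_neg h, dif_pos h'] at hcc
        have := congrArg Prod.snd hcc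
        simp at this
      · rw [dif_neg h, dif_neg h'] at hcc
        have := congrArg (fun z => (z.1 : G)) hcc
        simp only at this
        exact Subtype.ext (mul_left_cancel this)
    have := Nat.card_le_card_of_injective f hf
    rw [Nat.card_prod, Nat.card_eq_fintype_card (α := Bool), Fintype.card_bool, mul_comm] at this
    exact this

/-- iterating the half lemma -/
theorem card_le_two_pow_mul_card_inf_iInf_centralizer [Finite G] {ι : Type*} (A : Subgroup G)
    (x : ι → G) (hx : ∀ i, ∀ c ∈ A, IsEigenFor c (x i)) (J : Finset ι) :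
    Nat.card A ≤ 2 ^ J.card * Nat.card ↥(A ⊓ ⨅ j ∈ J, Subgroup.centralizer ({x j} : Set G)) := by
  classical
  induction J using Finset.induction_on with
  | empty => simp
  | insert i J hi ih =>
    rw [Finset.card_insert_of_notMem hi, Finset.iInf_insert]
    set X := A ⊓ ⨅ j ∈ J, Subgroup.centralizer ({x j} : Set G) with hX
    have h1 := card_le_two_mul_card_inf_centralizer X (x i)
      (fun c hc => hx i c (Subgroup.mem_inf.mp hc).1)
    have h2 : X ⊓ Subgroup.centralizer ({x i} : Set G) =
        A ⊓ (Subgroup.centralizer ({x i} : Set G) ⊓ ⨅ j ∈ J, Subgroup.centralizer ({x j} : Set G)) := by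
      rw [hX, inf_assoc, inf_comm (⨅ j ∈ J, Subgroup.centralizer ({x j} : Set G))]
    rw [h2] at h1
    calc Nat.card A ≤ 2 ^ J.card * Nat.card X := ih
      _ ≤ 2 ^ J.card * (2 * Nat.card _) := Nat.mul_le_mul_left _ h1
      _ = _ := by rw [pow_succ]; ring

end Cfsg.Agent.Helper7
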