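import Mathlib
import Cfsg.Agent.Lib.Helper7.Dihedral1

set_option autoImplicit false

namespace Cfsg.Agent.Helper7

open Subgroup

variable {G : Type*} [Group G]

theorem iInf_fin_snoc {α : Type*} [CompleteLattice α] {n : ℕ} (f : Fin n → α) (a : α) :
    ⨅ j, (Fin.snoc (α := fun _ => α) f a : Fin (n + 1) → α) j = (⨅ j, f j) ⊓ a := by
  apply le_antisymm
  · apply le_inf
    · apply le_iInf
      intro j
      have := iInf_le (Fin.snoc (α := fun _ => α) f a : Fin (n + 1) → α) j.castSucc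
      simpa using this
    · have := iInf_le (Fin.snoc (α := fun _ => α) f a : Fin (n + 1) → α) (Fin.last n)
      simpa using this
  · apply le_iInf
    intro j
    refine Fin.lastCases ?_ ?_ j
    · simp
    · intro k
      simp only [Fin.snoc_castSucc]
      exact inf_le_left.trans (iInf_le f k)

/-- **Lemma E**: an eigen-element inverted by `b₀`. -/
theorem exists_eigen_inverted [Finite G] (A M : Subgroup G)
    (hAc : ∀ a ∈ A, ∀ b ∈ A, a * b = b * a) (hA2 : ∀ a ∈ A, a * a = 1)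
    (hAM : ∀ a ∈ A, ∀ y ∈ M, a * y * a⁻¹ ∈ M)
    (hMc : ∀ x ∈ M, ∀ y ∈ M, x * y = y * x)
    (hodd : ∀ y ∈ M, y * y = 1 → y = 1)
    (b₀ : G) (hb₀ : b₀ ∈ A) (hb₀M : b₀ ∉ Subgroup.centralizer (M : Set G)) :
    ∃ x ∈ M, x ≠ 1 ∧ (∀ c ∈ A, IsEigenFor c x) ∧ b₀ * x * b₀⁻¹ = x⁻¹ := by
  have hb₀inv : b₀⁻¹ = b₀ := inv_eq_of_mul_eq_one_right (hA2 b₀ hb₀)
  let Mm : Subgroup G :=
    { carrier := {m | m ∈ M ∧ b₀ * m * b₀⁻¹ = m⁻¹}
      one_mem' := ⟨M.one_mem, by simp⟩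
      mul_mem' := by
        rintro m n ⟨hm, hm'⟩ ⟨hn, hn'⟩
        refine ⟨M.mul_mem hm hn, ?_⟩
        calc b₀ * (m * n) * b₀⁻¹ = (b₀ * m * b₀⁻¹) * (b₀ * n * b₀⁻¹) := by group
          _ = m⁻¹ * n⁻¹ := by rw [hm', hn']
          _ = (m * n)⁻¹ := by
            rw [mul_inv_rev]; exact hMc _ (M.inv_mem hm) _ (M.inv_mem hn)
      inv_mem' := by
        rintro m ⟨hm, hm'⟩
        refine ⟨M.inv_mem hm, ?_⟩
        calc b₀ * m⁻¹ * b₀⁻¹ = (b₀ * m * b₀⁻¹)⁻¹ := by group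
          _ = m⁻¹⁻¹ := by rw [hm'] }
  have hMmM : Mm ≤ M := fun m hm => hm.1
  have hMmne : Mm ≠ ⊥ := by
    intro hbot
    apply hb₀M
    rw [Subgroup.mem_centralizer_iff]
    intro m hm
    set y := m * (b₀ * m * b₀⁻¹)⁻¹ with hy
    have hconj : b₀ * m * b₀⁻¹ ∈ M := hAM b₀ hb₀ m hm
    have hyM : y ∈ Mm := by
      refine ⟨M.mul_mem hm (M.inv_mem hconj), ?_⟩
      have h1 : b₀ * y * b₀⁻¹ = (b₀ * m * b₀⁻¹) * m⁻¹ := by
        have h0 : b₀ * y * b₀⁻¹ = (b₀ * m * b₀⁻¹) * ((b₀ * b₀) * m⁻¹ * (b₀ * b₀)⁻¹) := by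
          rw [hy]; group
        rw [h0, hA2 b₀ hb₀]; group
      rw [h1, hy, mul_inv_rev, inv_inv]
    rw [hbot, Subgroup.mem_bot] at hyM
    have h2 : m = b₀ * m * b₀⁻¹ := by
      have := mul_eq_one_iff_eq_inv.mp hyM
      rwa [inv_inv] at this
    calc m * b₀ = (b₀ * m * b₀⁻¹) * b₀ := by rw [← h2]
      _ = b₀ * m := by group
  obtain ⟨y, hyMm, hy1, hyE⟩ := exists_eigen A Mm hAc hA2
    (by
      rintro a ha m ⟨hm, hm'⟩
      refine ⟨hAM a ha m hm, ?_⟩
      have hab : b₀ * a = a * b₀ := hAc b₀ hb₀ a ha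
      calc b₀ * (a * m * a⁻¹) * b₀⁻¹ = (b₀ * a) * m * (b₀ * a)⁻¹ := by group
        _ = (a * b₀) * m * (a * b₀)⁻¹ := by rw [hab]
        _ = a * (b₀ * m * b₀⁻¹) * a⁻¹ := by group
        _ = a * m⁻¹ * a⁻¹ := by rw [hm']
        _ = (a * m * a⁻¹)⁻¹ := by group)
    (fun x hx y hy => hMc x hx.1 y hy.1) (fun y hy => hodd y hy.1) hMmne
  exact ⟨y, hyMm.1, hy1, hyE, hyMm.2⟩

theorem card_mul_two_le_of_lt [Finite G] {X' X : Subgroup G} (h : X' < X) :
    Nat.card X' * 2 ≤ Nat.card X := by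
  obtain ⟨k, hk⟩ := Subgroup.card_dvd_of_le h.le
  have hpos : 0 < Nat.card X' := Nat.card_pos
  have hne : Nat.card X' ≠ Nat.card X := by
    intro heq
    exact h.ne (Subgroup.eq_of_le_of_card_ge h.le heq.ge)
  have hk2 : 2 ≤ k := by
    by_contra hlt
    push Not at hlt
    have hXpos : 0 < Nat.card X := Nat.card_pos
    interval_cases k
    · rw [mul_zero] at hk; omega
    · rw [mul_one] at hk; exact hne hk.symm
  rw [hk]
  exact Nat.mul_le_mul_left _ hk2

/-- a sequence of `d` eigen-elements whose centralizers in `A` meet trivially -/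
theorem exists_eigen_sequence [Finite G] (A M : Subgroup G)
    (hAc : ∀ a ∈ A, ∀ b ∈ A, a * b = b * a) (hA2 : ∀ a ∈ A, a * a = 1)
    (hAM : ∀ a ∈ A, ∀ y ∈ M, a * y * a⁻¹ ∈ M)
    (hMc : ∀ x ∈ M, ∀ y ∈ M, x * y = y * x)
    (hodd : ∀ y ∈ M, y * y = 1 → y = 1)
    (hfaith : A ⊓ Subgroup.centralizer (M : Set G) = ⊥)
    (d : ℕ) (hAd : Nat.card A = 2 ^ d) :
    ∀ i ≤ d, ∃ x : Fin i → G, (∀ j, x j ∈ M ∧ x j ≠ 1 ∧ ∀ c ∈ A, IsEigenFor c (x j)) ∧
      Nat.card ↥(A ⊓ ⨅ j, Subgroup.centralizer ({x j} : Set G)) * 2 ^ i ≤ 2 ^ d := by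
  intro i
  induction i with
  | zero =>
    intro _
    refine ⟨Fin.elim0, fun j => j.elim0, ?_⟩
    simp [hAd]
  | succ i ih =>
    intro hi
    obtain ⟨x, hx, hcard⟩ := ih (by omega)
    set X := A ⊓ ⨅ j, Subgroup.centralizer ({x j} : Set G) with hX
    have hlow := card_le_two_pow_mul_card_inf_iInf_centralizer A x (fun j => (hx j).2.2)
      Finset.univ
    simp only [Finset.mem_univ, iInf_pos, Finset.card_univ, Fintype.card_fin] at hlow
    rw [hAd, ← hX] at hlow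
    have hX2 : 2 ≤ Nat.card X := by
      by_contra hlt
      push Not at hlt
      have h1 : Nat.card X ≤ 1 := by omega
      have h2 : 2 ^ i * Nat.card X ≤ 2 ^ i := by
        calc 2 ^ i * Nat.card X ≤ 2 ^ i * 1 := Nat.mul_le_mul_left _ h1
          _ = 2 ^ i := mul_one _
      have h3 : 2 ^ i < 2 ^ d := Nat.pow_lt_pow_right (by norm_num) (by omega)
      omega
    have hXne : X ≠ ⊥ := by
      intro h
      rw [h, Subgroup.card_bot] at hX2
      omega
    obtain ⟨⟨b₀, hb₀X⟩, hb₀1⟩ := (Subgroup.ne_bot_iff_exists_ne_one).mp hXne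
    have hb₀1' : b₀ ≠ 1 := fun h => hb₀1 (Subtype.ext h)
    have hb₀A : b₀ ∈ A := (Subgroup.mem_inf.mp hb₀X).1
    have hb₀M : b₀ ∉ Subgroup.centralizer (M : Set G) := by
      intro h
      have : b₀ ∈ A ⊓ Subgroup.centralizer (M : Set G) := ⟨hb₀A, h⟩
      rw [hfaith, Subgroup.mem_bot] at this
      exact hb₀1' this
    obtain ⟨xn, hxnM, hxn1, hxnE, hxninv⟩ :=
      exists_eigen_inverted A M hAc hA2 hAM hMc hodd b₀ hb₀A hb₀M
    refine ⟨Fin.snoc (α := fun _ => G) x xn, ?_, ?_⟩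
    · intro j
      refine Fin.lastCases ?_ ?_ j
      · simp only [Fin.snoc_last]
        exact ⟨hxnM, hxn1, hxnE⟩
      · intro k
        simp only [Fin.snoc_castSucc]
        exact hx k
    · have hinf : (⨅ j, Subgroup.centralizer
          ({(Fin.snoc (α := fun _ => G) x xn : Fin (i + 1) → G) j} : Set G)) =
          (⨅ j, Subgroup.centralizer ({x j} : Set G)) ⊓ Subgroup.centralizer ({xn} : Set G) := by
        have := iInf_fin_snoc (fun j => Subgroup.centralizer ({x j} : Set G))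
          (Subgroup.centralizer ({xn} : Set G))
        rw [← this]
        congr 1
        funext j
        refine Fin.lastCases ?_ ?_ j
        · simp
        · intro k; simp
      rw [hinf, ← inf_assoc, ← hX]
      have hlt : X ⊓ Subgroup.centralizer ({xn} : Set G) < X := by
        refine lt_of_le_of_ne inf_le_left ?_
        intro heq
        have : b₀ ∈ X ⊓ Subgroup.centralizer ({xn} : Set G) := by rw [heq]; exact hb₀X
        have h2 := mem_centralizer_singleton_iff'.mp (Subgroup.mem_inf.mp this).2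
        rw [hxninv] at h2
        apply hxn1
        apply hodd xn hxnM
        calc xn * xn = xn⁻¹ * xn := by rw [h2]
          _ = 1 := inv_mul_cancel xn
      have h3 := card_mul_two_le_of_lt hlt
      calc Nat.card ↥(X ⊓ Subgroup.centralizer ({xn} : Set G)) * 2 ^ (i + 1)
          = (Nat.card ↥(X ⊓ Subgroup.centralizer ({xn} : Set G)) * 2) * 2 ^ i := by
            rw [pow_succ]; ring
        _ ≤ Nat.card X * 2 ^ i := Nat.mul_le_mul_right _ h3
        _ ≤ 2 ^ d := hcard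

end Cfsg.Agent.Helper7
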