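import Mathlib
import Cfsg.Agent.Lib.Helper7.Dihedral2

set_option autoImplicit false

namespace Cfsg.Agent.Helper7

open Subgroup

variable {G : Type*} [Group G]

/-- **Thompson's dihedral lemma, abelian case**: the data. -/
theorem exists_dihedral_data [Finite G] (A M : Subgroup G)
    (hAc : ∀ a ∈ A, ∀ b ∈ A, a * b = b * a) (hA2 : ∀ a ∈ A, a * a = 1)
    (hAM : ∀ a ∈ A, ∀ y ∈ M, a * y * a⁻¹ ∈ M)
    (hMc : ∀ x ∈ M, ∀ y ∈ M, x * y = y * x)
    (hodd : ∀ y ∈ M, y * y = 1 → y = 1)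
    (hfaith : A ⊓ Subgroup.centralizer (M : Set G) = ⊥)
    (d : ℕ) (hAd : Nat.card A = 2 ^ d) :
    ∃ a x : Fin d → G,
      (∀ i, a i ∈ A ∧ a i ≠ 1 ∧ x i ∈ M ∧ x i ≠ 1 ∧ a i * x i * (a i)⁻¹ = (x i)⁻¹) ∧
      (∀ i j, i ≠ j → a j * x i * (a j)⁻¹ = x i) ∧ Subgroup.closure (Set.range a) = A := by
  classical
  obtain ⟨x, hx, hcard⟩ := exists_eigen_sequence A M hAc hA2 hAM hMc hodd hfaith d hAd d le_rfl
  have hbot : A ⊓ ⨅ j, Subgroup.centralizer ({x j} : Set G) = ⊥ := by
    apply Subgroup.card_eq_one.mp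
    have hpos : 0 < Nat.card ↥(A ⊓ ⨅ j, Subgroup.centralizer ({x j} : Set G)) := Nat.card_pos
    have h2 : 0 < 2 ^ d := by positivity
    by_contra hne
    have h3 : 2 ≤ Nat.card ↥(A ⊓ ⨅ j, Subgroup.centralizer ({x j} : Set G)) := by omega
    have := Nat.mul_le_mul_right (2 ^ d) h3
    omega
  have hxE : ∀ j, ∀ c ∈ A, IsEigenFor c (x j) := fun j => (hx j).2.2
  have hex : ∀ i : Fin d, ∃ a, a ∈ A ⊓ ⨅ j ∈ Finset.univ.erase i,
      Subgroup.centralizer ({x j} : Set G) ∧ a ≠ 1 := by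
    intro i
    have h1 := card_le_two_pow_mul_card_inf_iInf_centralizer A x hxE (Finset.univ.erase i)
    rw [Finset.card_erase_of_mem (Finset.mem_univ i), Finset.card_univ, Fintype.card_fin, hAd] at h1
    have hd : 1 ≤ d := by
      have := i.2; omega
    have h2 : (2:ℕ) ^ d = 2 ^ (d - 1) * 2 := by
      rw [← pow_succ]; congr 1; omega
    rw [h2] at h1
    have h3 : 2 ≤ Nat.card ↥(A ⊓ ⨅ j ∈ Finset.univ.erase i,
        Subgroup.centralizer ({x j} : Set G)) :=
      Nat.le_of_mul_le_mul_left h1 (by positivity)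
    have hne : (A ⊓ ⨅ j ∈ Finset.univ.erase i, Subgroup.centralizer ({x j} : Set G)) ≠ ⊥ := by
      intro h
      rw [h, Subgroup.card_bot] at h3
      omega
    obtain ⟨⟨a, ha⟩, ha1⟩ := (Subgroup.ne_bot_iff_exists_ne_one).mp hne
    exact ⟨a, ha, fun h => ha1 (Subtype.ext h)⟩
  choose a ha using hex
  have haA : ∀ i, a i ∈ A := fun i => (Subgroup.mem_inf.mp (ha i).1).1
  have hcen : ∀ i j, i ≠ j → a j * x i * (a j)⁻¹ = x i := by
    intro i j hij
    have h1 := (Subgroup.mem_inf.mp (ha j).1).2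
    rw [Subgroup.mem_iInf] at h1
    have h2 := h1 i
    rw [Subgroup.mem_iInf] at h2
    exact mem_centralizer_singleton_iff'.mp (h2 (Finset.mem_erase.mpr ⟨hij, Finset.mem_univ i⟩))
  have hnc : ∀ i, a i * x i * (a i)⁻¹ ≠ x i := by
    intro i h
    apply (ha i).2
    have : a i ∈ A ⊓ ⨅ j, Subgroup.centralizer ({x j} : Set G) := by
      refine ⟨haA i, ?_⟩
      show a i ∈ ⨅ j, Subgroup.centralizer ({x j} : Set G)
      rw [Subgroup.mem_iInf]
      intro j
      by_cases hji : j = i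
      · rw [hji]; exact mem_centralizer_singleton_iff'.mpr h
      · exact mem_centralizer_singleton_iff'.mpr (hcen j i hji)
    rw [hbot, Subgroup.mem_bot] at this
    exact this
  have hinv : ∀ i, a i * x i * (a i)⁻¹ = (x i)⁻¹ := by
    intro i
    rcases hxE i (a i) (haA i) with h | h
    · exact absurd h (hnc i)
    · exact h
  refine ⟨a, x, fun i => ⟨haA i, (ha i).2, (hx i).1, (hx i).2.1, hinv i⟩, hcen, ?_⟩
  -- generation
  let B : ℕ → Subgroup G := fun k => Subgroup.closure {g | ∃ i : Fin d, i.val < k ∧ a i = g}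
  have hBmono : ∀ k, B k ≤ B (k + 1) := by
    intro k
    apply Subgroup.closure_mono
    rintro g ⟨i, hi, rfl⟩
    exact ⟨i, by omega, rfl⟩
  have hBcard : ∀ k ≤ d, 2 ^ k ≤ Nat.card (B k) := by
    intro k
    induction k with
    | zero =>
      intro _
      have h0 : 0 < Nat.card (B 0) := Nat.card_pos
      rw [pow_zero]
      exact h0
    | succ k ih =>
      intro hk
      have hkd : k < d := by omega
      have hlt : B k < B (k + 1) := by
        refine lt_of_le_of_ne (hBmono k) ?_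
        intro heq
        have h1 : a ⟨k, hkd⟩ ∈ B (k + 1) :=
          Subgroup.subset_closure ⟨⟨k, hkd⟩, by simp, rfl⟩
        rw [← heq] at h1
        have h2 : B k ≤ Subgroup.centralizer ({x ⟨k, hkd⟩} : Set G) := by
          apply (Subgroup.closure_le _).mpr
          rintro g ⟨i, hi, rfl⟩
          have hne : (⟨k, hkd⟩ : Fin d) ≠ i := by
            intro h
            rw [← h] at hi
            simp at hi
          exact mem_centralizer_singleton_iff'.mpr (hcen ⟨k, hkd⟩ i hne)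
        exact hnc ⟨k, hkd⟩ (mem_centralizer_singleton_iff'.mp (h2 h1))
      have := card_mul_two_le_of_lt hlt
      have ih' := ih (by omega)
      calc 2 ^ (k + 1) = 2 ^ k * 2 := pow_succ 2 k
        _ ≤ Nat.card (B k) * 2 := Nat.mul_le_mul_right _ ih'
        _ ≤ Nat.card (B (k + 1)) := this
  have hBd : B d ≤ Subgroup.closure (Set.range a) := by
    apply Subgroup.closure_mono
    rintro g ⟨i, _, rfl⟩
    exact ⟨i, rfl⟩
  have hle : Subgroup.closure (Set.range a) ≤ A := by
    apply (Subgroup.closure_le _).mpr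
    rintro g ⟨i, rfl⟩
    exact haA i
  apply Subgroup.eq_of_le_of_card_ge hle
  rw [hAd]
  exact (hBcard d le_rfl).trans (Subgroup.card_le_of_le hBd)

end Cfsg.Agent.Helper7
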