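import Mathlib
import Cfsg.Agent.Lib.Helper7.Dihedral3
import Cfsg.Agent.Lib.Helper7.Signalizer
import Cfsg.Agent.Lib.Helper7.Transitivity
import Cfsg.Agent.Lib.Lead.DihedralRecog

set_option autoImplicit false

namespace Cfsg.Agent.Helper7

open Subgroup

variable {G : Type*} [Group G]

theorem commute_of_mem_sup_zpowers {u v u' v' : G} (h1 : u * u' = u' * u)
    (h2 : u * v' = v' * u) (h3 : v * u' = u' * v) (h4 : v * v' = v' * v) :
    ∀ x ∈ zpowers u ⊔ zpowers v, ∀ y ∈ zpowers u' ⊔ zpowers v', x * y = y * x := by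
  have key : ∀ g w w' : G, g * w = w * g → g * w' = w' * g →
      ∀ y ∈ zpowers w ⊔ zpowers w', g * y = y * g := by
    intro g w w' hw hw' y hy
    have hle : zpowers w ⊔ zpowers w' ≤ Subgroup.centralizer ({g} : Set G) := by
      refine sup_le ?_ ?_
      · rw [Subgroup.zpowers_le]
        intro z hz
        rw [Set.mem_singleton_iff] at hz
        rw [hz]; exact hw
      · rw [Subgroup.zpowers_le]
        intro z hz
        rw [Set.mem_singleton_iff] at hz
        rw [hz]; exact hw'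
    exact hle hy g rfl
  intro x hx y hy
  exact (key y u v (key u u' v' h1 h2 y hy).symm (key v u' v' h3 h4 y hy).symm x hx).symm

theorem card_sup_zpowers_dihedral [Finite G] {a x : G} (ha : a * a = 1) (ha1 : a ≠ 1)
    (hinv : a * x * a⁻¹ = x⁻¹) (hodd : Odd (orderOf x)) :
    Nat.card ↥(zpowers a ⊔ zpowers x) = 2 * orderOf x := by
  have hn : zpowers a ≤ Subgroup.normalizer (zpowers x : Set G) := by
    rw [Subgroup.zpowers_le]
    apply mem_normalizer_of_forall_conj_mem
    intro u hu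
    obtain ⟨k, rfl⟩ := Subgroup.mem_zpowers_iff.mp hu
    have : a * x ^ k * a⁻¹ = (a * x * a⁻¹) ^ k := by
      rw [conj_zpow]
    rw [this, hinv]
    exact Subgroup.zpow_mem _ (Subgroup.inv_mem _ (Subgroup.mem_zpowers x)) k
  have h1 := card_sup_dvd_mul_of_le_normalizer hn
  rw [sup_comm] at h1
  have hoa : orderOf a = 2 := by
    haveI : Fact (Nat.Prime 2) := ⟨Nat.prime_two⟩
    exact orderOf_eq_prime (by rw [pow_two]; exact ha) ha1
  rw [Nat.card_zpowers, Nat.card_zpowers, hoa] at h1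
  have h2 : 2 ∣ Nat.card ↥(zpowers a ⊔ zpowers x) := by
    have := Subgroup.card_dvd_of_le (le_sup_left : zpowers a ≤ zpowers a ⊔ zpowers x)
    rwa [Nat.card_zpowers, hoa] at this
  have h3 : orderOf x ∣ Nat.card ↥(zpowers a ⊔ zpowers x) := by
    have := Subgroup.card_dvd_of_le (le_sup_right : zpowers x ≤ zpowers a ⊔ zpowers x)
    rwa [Nat.card_zpowers] at this
  have hcop : Nat.Coprime 2 (orderOf x) := (Nat.coprime_two_left).mpr hodd
  have h4 : 2 * orderOf x ∣ Nat.card ↥(zpowers a ⊔ zpowers x) :=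
    Nat.Coprime.mul_dvd_of_dvd_of_dvd hcop h2 h3
  rw [mul_comm] at h1
  exact Nat.dvd_antisymm h1 h4

/-- Part III: from the data to the conclusion of the dihedral lemma. -/
theorem thompson_dihedral_of_data [Finite G] (L A : Subgroup G) (hLodd : Odd (Nat.card ↥L))
    (d : ℕ) (a x : Fin d → G)
    (hA2 : ∀ a ∈ A, a * a = 1) (hAc : ∀ a ∈ A, ∀ b ∈ A, a * b = b * a)
    (h1 : ∀ i, a i ∈ A ∧ a i ≠ 1 ∧ x i ∈ L ∧ x i ≠ 1 ∧ a i * x i * (a i)⁻¹ = (x i)⁻¹)
    (hxc : ∀ i j, x i * x j = x j * x i)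
    (h2 : ∀ i j, i ≠ j → a j * x i * (a j)⁻¹ = x i)
    (h3 : Subgroup.closure (Set.range a) = A) :
    ∃ (Ai : Fin d → Subgroup G) (Li : Fin d → Subgroup G) (n : Fin d → ℕ),
      (∀ i, Ai i ≤ A ∧ Nat.card ↥(Ai i) = 2 ∧ Li i ≤ L ∧ Odd (n i) ∧ 3 ≤ n i ∧
        Nonempty (↥(Ai i ⊔ Li i) ≃* DihedralGroup (n i))) ∧
      (⨆ i, Ai i) = A ∧
      ∀ i j, i ≠ j → ∀ x ∈ Ai i ⊔ Li i, ∀ y ∈ Ai j ⊔ Li j, x * y = y * x := by
  have hoddx : ∀ i, Odd (orderOf (x i)) := fun i =>
    Odd.of_dvd_nat hLodd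
      ((Subgroup.orderOf_mk (x i) (h1 i).2.2.1 ▸ orderOf_dvd_natCard (⟨x i, (h1 i).2.2.1⟩ : ↥L)))
  have hoa : ∀ i, orderOf (a i) = 2 := by
    intro i
    haveI : Fact (Nat.Prime 2) := ⟨Nat.prime_two⟩
    exact orderOf_eq_prime (by rw [pow_two]; exact hA2 _ (h1 i).1) (h1 i).2.1
  have hainv : ∀ i, (a i)⁻¹ = a i := fun i => inv_eq_of_mul_eq_one_right (hA2 _ (h1 i).1)
  refine ⟨fun i => zpowers (a i), fun i => zpowers (x i), fun i => orderOf (x i), ?_, ?_, ?_⟩
  · intro i
    have hn3 : 3 ≤ orderOf (x i) := by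
      have h0 : 0 < orderOf (x i) := orderOf_pos (x i)
      have hne1 : orderOf (x i) ≠ 1 := fun h => (h1 i).2.2.2.1 (orderOf_eq_one_iff.mp h)
      have hne2 : orderOf (x i) ≠ 2 := by
        intro h
        have := hoddx i
        rw [h] at this
        exact absurd this (by decide)
      omega
    refine ⟨(Subgroup.zpowers_le).mpr (h1 i).1, by rw [Nat.card_zpowers, hoa i],
      (Subgroup.zpowers_le).mpr (h1 i).2.2.1, hoddx i, hn3, ?_⟩
    haveI : NeZero (orderOf (x i)) := ⟨by omega⟩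
    have hxm : x i ∈ zpowers (a i) ⊔ zpowers (x i) := Subgroup.mem_sup_right (mem_zpowers _)
    have ham : a i ∈ zpowers (a i) ⊔ zpowers (x i) := Subgroup.mem_sup_left (mem_zpowers _)
    refine Cfsg.Agent.Lead.nonempty_mulEquiv_dihedral (orderOf (x i))
      (⟨x i, hxm⟩ : ↥(zpowers (a i) ⊔ zpowers (x i))) ⟨a i, ham⟩ ?_ ?_ ?_ ?_ ?_
    · exact Subgroup.orderOf_mk _ _
    · exact Subtype.ext (hA2 _ (h1 i).1)
    · apply Subtype.ext
      have := (h1 i).2.2.2.2
      rw [hainv i] at this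
      exact this
    · intro hmem
      obtain ⟨k, hk⟩ := Subgroup.mem_zpowers_iff.mp hmem
      have hk' : (x i) ^ k = a i := by
        have := congrArg Subtype.val hk
        simpa using this
      have hcomm : a i * x i = x i * a i := by
        rw [← hk', ← zpow_add_one, ← zpow_one_add, add_comm]
      have hinv := (h1 i).2.2.2.2
      rw [hcomm, mul_inv_cancel_right] at hinv
      -- x = x⁻¹
      have hx2 : x i * x i = 1 := by
        nth_rewrite 2 [hinv]
        exact mul_inv_cancel _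
      have ho : orderOf (x i) ∣ 2 := orderOf_dvd_of_pow_eq_one (by rw [pow_two]; exact hx2)
      have := Nat.le_of_dvd (by norm_num) ho
      omega
    · exact card_sup_zpowers_dihedral (hA2 _ (h1 i).1) (h1 i).2.1 (h1 i).2.2.2.2 (hoddx i)
  · apply le_antisymm
    · exact iSup_le fun i => (Subgroup.zpowers_le).mpr (h1 i).1
    · rw [← h3, Subgroup.closure_le]
      rintro g ⟨i, rfl⟩
      exact (le_iSup (fun i => zpowers (a i)) i) (mem_zpowers _)
  · intro i j hij
    have e1 : a i * x j = x j * a i := by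
      have := h2 j i (Ne.symm hij)
      nth_rewrite 2 [← this]
      group
    have e2 : x i * a j = a j * x i := by
      have := h2 i j hij
      nth_rewrite 1 [← this]
      group
    exact commute_of_mem_sup_zpowers (hAc _ (h1 i).1 _ (h1 j).1) e1 e2 (hxc i j)

end Cfsg.Agent.Helper7
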