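import Mathlib
import Cfsg.Agent.Lib.Helper7.Dihedral4
import Cfsg.Agent.Lib.Helper7.Coprime

set_option autoImplicit false

namespace Cfsg.Agent.Helper7

open Subgroup

variable {G : Type*} [Group G]

/-- If `B` acts coprimely on `Y`, centralizing a normal subgroup `X` of `Y` with `C_Y(X) ≤ X`,
then `B` centralizes `Y`. -/
theorem le_centralizer_of_self_centralizing [Finite G] {X Y B : Subgroup G}
    (hYX : Y ≤ Subgroup.normalizer (X : Set G)) (hBY : B ≤ Subgroup.normalizer (Y : Set G))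
    (hBX : B ≤ Subgroup.centralizer (X : Set G))
    (hself : Y ⊓ Subgroup.centralizer (X : Set G) ≤ X)
    (hcop : (Nat.card B).Coprime (Nat.card Y)) :
    B ≤ Subgroup.centralizer (Y : Set G) := by
  have hXB : ⁅X, B⁆ = ⊥ := by
    rw [Subgroup.commutator_eq_bot_iff_le_centralizer]
    exact (Subgroup.le_centralizer_iff).mp hBX
  have hBX' : ⁅B, X⁆ = ⊥ := by rw [Subgroup.commutator_comm]; exact hXB
  have h1 : ⁅⁅X, Y⁆, B⁆ = ⊥ := by
    apply le_bot_iff.mp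
    rw [← hXB]
    exact Subgroup.commutator_mono (commutator_le_of_le_normalizer hYX) le_rfl
  have h2 : ⁅⁅B, X⁆, Y⁆ = ⊥ := by
    rw [hBX']
    exact Subgroup.commutator_bot_left Y
  have h3 : ⁅⁅Y, B⁆, X⁆ = ⊥ := Subgroup.commutator_commutator_eq_bot_of_rotate h2 h1
  have h4 : ⁅Y, B⁆ ≤ X := by
    refine le_trans (le_inf (commutator_le_of_le_normalizer hBY) ?_) hself
    exact (Subgroup.commutator_eq_bot_iff_le_centralizer).mp h3
  have h5 : ⁅⁅Y, B⁆, B⁆ = ⊥ := by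
    apply le_bot_iff.mp
    rw [← hXB]
    exact Subgroup.commutator_mono h4 le_rfl
  exact (Subgroup.le_centralizer_iff).mp
    (le_centralizer_of_commutator_commutator_eq_bot hcop hBY h5)

/-- The eigen lemma modulo a subgroup `M` normalized by `A` and `N`. -/
theorem exists_eigen_mod [Finite G] (A M N : Subgroup G)
    (hAc : ∀ a ∈ A, ∀ b ∈ A, a * b = b * a) (hA2 : ∀ a ∈ A, a * a = 1)
    (hAM : A ≤ Subgroup.normalizer (M : Set G)) (hNM : N ≤ Subgroup.normalizer (M : Set G))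
    (hAN : ∀ a ∈ A, ∀ y ∈ N, a * y * a⁻¹ ∈ N)
    (hNc : ∀ x ∈ N, ∀ y ∈ N, (x * y)⁻¹ * (y * x) ∈ M)
    (hodd : ∀ y ∈ N, y * y ∈ M → y ∈ M) (hne : ¬ N ≤ M) :
    ∃ y ∈ N, y ∉ M ∧ ∀ b ∈ A, (y⁻¹ * (b * y * b⁻¹) ∈ M ∨ y * (b * y * b⁻¹) ∈ M) := by
  classical
  set H : Subgroup G := Subgroup.normalizer (M : Set G) with hH
  haveI hMn : (M.subgroupOf H).Normal := Subgroup.normal_in_normalizer
  set π := QuotientGroup.mk' (M.subgroupOf H) with hπ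
  have hπ1 : ∀ (g : G) (hg : g ∈ H), π ⟨g, hg⟩ = 1 ↔ g ∈ M := by
    intro g hg
    rw [hπ, QuotientGroup.mk'_apply, QuotientGroup.eq_one_iff, Subgroup.mem_subgroupOf]
  have hπeq : ∀ (g h : G) (hg : g ∈ H) (hh : h ∈ H), π ⟨g, hg⟩ = π ⟨h, hh⟩ ↔ g⁻¹ * h ∈ M := by
    intro g h hg hh
    rw [hπ, QuotientGroup.mk'_apply, QuotientGroup.mk'_apply, QuotientGroup.eq,
      Subgroup.mem_subgroupOf]
    rfl
  set Ab : Subgroup (↥H ⧸ M.subgroupOf H) := (A.subgroupOf H).map π with hAb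
  set Nb : Subgroup (↥H ⧸ M.subgroupOf H) := (N.subgroupOf H).map π with hNb
  have hAb_mem : ∀ q ∈ Ab, ∃ (a : G) (ha : a ∈ A), q = π ⟨a, hAM ha⟩ := by
    rintro q ⟨⟨a, haH⟩, ha, rfl⟩
    exact ⟨a, Subgroup.mem_subgroupOf.mp ha, rfl⟩
  have hNb_mem : ∀ q ∈ Nb, ∃ (y : G) (hy : y ∈ N), q = π ⟨y, hNM hy⟩ := by
    rintro q ⟨⟨y, hyH⟩, hy, rfl⟩
    exact ⟨y, Subgroup.mem_subgroupOf.mp hy, rfl⟩
  have hmemNb : ∀ (y : G) (hy : y ∈ N), π ⟨y, hNM hy⟩ ∈ Nb := fun y hy =>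
    Subgroup.mem_map_of_mem _ (Subgroup.mem_subgroupOf.mpr hy)
  have hmemAb : ∀ (a : G) (ha : a ∈ A), π ⟨a, hAM ha⟩ ∈ Ab := fun a ha =>
    Subgroup.mem_map_of_mem _ (Subgroup.mem_subgroupOf.mpr ha)
  have hex : ∃ q ∈ Nb, q ≠ 1 ∧ ∀ b ∈ Ab, IsEigenFor b q := by
    apply exists_eigen Ab Nb
    · intro a₀ ha₀ b₀ hb₀
      obtain ⟨a, ha, rfl⟩ := hAb_mem a₀ ha₀
      obtain ⟨b, hb, rfl⟩ := hAb_mem b₀ hb₀
      rw [← map_mul, ← map_mul]
      congr 1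
      exact Subtype.ext (hAc a ha b hb)
    · intro a₀ ha₀
      obtain ⟨a, ha, rfl⟩ := hAb_mem a₀ ha₀
      rw [← map_mul, ← map_one π]
      congr 1
      exact Subtype.ext (hA2 a ha)
    · intro a₀ ha₀ y₀ hy₀
      obtain ⟨a, ha, rfl⟩ := hAb_mem a₀ ha₀
      obtain ⟨y, hy, rfl⟩ := hNb_mem y₀ hy₀
      have hbyN : a * y * a⁻¹ ∈ N := hAN a ha y hy
      have e1 : π ⟨a, hAM ha⟩ * π ⟨y, hNM hy⟩ * (π ⟨a, hAM ha⟩)⁻¹ =
          π ⟨a * y * a⁻¹, hNM hbyN⟩ := by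
        rw [← map_inv, ← map_mul, ← map_mul]
        rfl
      rw [e1]
      exact hmemNb _ hbyN
    · intro x₀ hx₀ y₀ hy₀
      obtain ⟨x, hx, rfl⟩ := hNb_mem x₀ hx₀
      obtain ⟨y, hy, rfl⟩ := hNb_mem y₀ hy₀
      rw [← map_mul, ← map_mul]
      exact (hπeq (x * y) (y * x) (H.mul_mem (hNM hx) (hNM hy))
        (H.mul_mem (hNM hy) (hNM hx))).mpr (hNc x hx y hy)
    · intro y₀ hy₀ hyy
      obtain ⟨y, hy, rfl⟩ := hNb_mem y₀ hy₀
      rw [← map_mul] at hyy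
      have := (hπ1 (y * y) (H.mul_mem (hNM hy) (hNM hy))).mp hyy
      exact (hπ1 y _).mpr (hodd y hy this)
    · intro hbot
      apply hne
      intro y hy
      have := hmemNb y hy
      rw [hbot, Subgroup.mem_bot] at this
      exact (hπ1 y _).mp this
  obtain ⟨q, hqN, hq1, hqE⟩ := hex
  obtain ⟨y, hy, rfl⟩ := hNb_mem q hqN
  refine ⟨y, hy, fun hyM => hq1 ((hπ1 y _).mpr hyM), ?_⟩
  intro b hb
  have hb' := hqE _ (hmemAb b hb)
  have hbyN : b * y * b⁻¹ ∈ N := hAN b hb y hy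
  have e1 : π ⟨b, hAM hb⟩ * π ⟨y, hNM hy⟩ * (π ⟨b, hAM hb⟩)⁻¹ = π ⟨b * y * b⁻¹, hNM hbyN⟩ := by
    rw [← map_inv, ← map_mul, ← map_mul]
    rfl
  rcases hb' with h | h
  · left
    rw [e1] at h
    have := (hπeq _ _ _ _).mp h.symm
    exact this
  · right
    rw [e1, ← map_inv] at h
    have := (hπeq _ _ (H.inv_mem (hNM hy)) _).mp h.symm
    rwa [inv_inv] at this

end Cfsg.Agent.Helper7
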