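import Mathlib
import Cfsg.Agent.Lib.Helper7.Dihedral5

set_option autoImplicit false

namespace Cfsg.Agent.Helper7

open Subgroup
open scoped commutatorElement

variable {G : Type*} [Group G]

theorem mem_normalizer_sup_zpowers [Finite G] {g y : G} {M : Subgroup G}
    (hM : ∀ u ∈ M, g * u * g⁻¹ ∈ M) (hy : g * y * g⁻¹ ∈ M ⊔ zpowers y) :
    g ∈ Subgroup.normalizer ((M ⊔ zpowers y : Subgroup G) : Set G) := by
  apply mem_normalizer_of_forall_conj_mem
  have hle : M ⊔ zpowers y ≤ (M ⊔ zpowers y).comap (MulAut.conj g).toMonoidHom := by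
    refine sup_le ?_ ?_
    · intro u hu
      rw [Subgroup.mem_comap]
      exact Subgroup.mem_sup_left (hM u hu)
    · rw [Subgroup.zpowers_le, Subgroup.mem_comap]
      exact hy
  intro u hu
  exact hle hu

theorem sup_zpowers_comm {M : Subgroup G} {y : G}
    (hMc : ∀ x ∈ M, ∀ z ∈ M, x * z = z * x) (hy : y ∈ Subgroup.centralizer (M : Set G)) :
    ∀ x ∈ M ⊔ zpowers y, ∀ z ∈ M ⊔ zpowers y, x * z = z * x := by
  have hZM : zpowers y ≤ Subgroup.centralizer (M : Set G) := (Subgroup.zpowers_le).mpr hy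
  have hMM : M ≤ Subgroup.centralizer (M : Set G) := by
    intro x hx
    rw [Subgroup.mem_centralizer_iff]
    intro z hz
    exact hMc z hz x hx
  have hMZ : M ≤ Subgroup.centralizer (zpowers y : Set G) := (Subgroup.le_centralizer_iff).mp hZM
  have hZZ : zpowers y ≤ Subgroup.centralizer (zpowers y : Set G) := by
    rw [Subgroup.zpowers_le, Subgroup.mem_centralizer_iff]
    intro z hz
    obtain ⟨k, rfl⟩ := Subgroup.mem_zpowers_iff.mp hz
    rw [← zpow_add_one, ← zpow_one_add, add_comm]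
  have h1 : M ⊔ zpowers y ≤ Subgroup.centralizer ((M ⊔ zpowers y : Subgroup G) : Set G) := by
    refine sup_le ?_ ?_
    · exact (Subgroup.le_centralizer_iff).mp (sup_le hMM hZM)
    · exact (Subgroup.le_centralizer_iff).mp (sup_le hMZ hZZ)
  intro x hx z hz
  exact ((Subgroup.mem_centralizer_iff.mp (h1 hz)) x hx)

theorem conj_mem_inf_centralizer {F M : Subgroup G} {g : G}
    (hgF : g ∈ Subgroup.normalizer (F : Set G)) (hgM : g ∈ Subgroup.normalizer (M : Set G)) :
    ∀ c ∈ F ⊓ Subgroup.centralizer (M : Set G), g * c * g⁻¹ ∈ F ⊓ Subgroup.centralizer (M : Set G) := by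
  intro c hc
  refine ⟨(Subgroup.mem_normalizer_iff.mp hgF c).mp hc.1, ?_⟩
  show g * c * g⁻¹ ∈ Subgroup.centralizer (M : Set G)
  rw [Subgroup.mem_centralizer_iff]
  intro m hm
  have hm' : g⁻¹ * m * g ∈ M := by
    have := (Subgroup.mem_normalizer_iff.mp (Subgroup.inv_mem _ hgM) m).mp hm
    rwa [inv_inv] at this
  have hcm := (Subgroup.mem_centralizer_iff.mp hc.2) _ hm'
  calc m * (g * c * g⁻¹) = g * ((g⁻¹ * m * g) * c) * g⁻¹ := by group
    _ = g * (c * (g⁻¹ * m * g)) * g⁻¹ := by rw [hcm]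
    _ = g * c * g⁻¹ * m := by group

/-- iterated commutators with `F` -/
def commSeries (C F : Subgroup G) : ℕ → Subgroup G
  | 0 => C
  | n + 1 => ⁅commSeries C F n, F⁆

/-- a nilpotent group `F` of odd order acted on by an elementary abelian 2-group `A` has an
`A`-invariant self-centralizing normal abelian subgroup. -/
theorem exists_self_centralizing_abelian [Finite G] (F A : Subgroup G)
    (hFnil : Group.IsNilpotent ↥F) (hFodd : Odd (Nat.card ↥F))
    (hAc : ∀ a ∈ A, ∀ b ∈ A, a * b = b * a) (hA2 : ∀ a ∈ A, a * a = 1)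
    (hAF : A ≤ Subgroup.normalizer (F : Set G)) :
    ∃ M : Subgroup G, M ≤ F ∧ (∀ x ∈ M, ∀ y ∈ M, x * y = y * x) ∧
      F ≤ Subgroup.normalizer (M : Set G) ∧ A ≤ Subgroup.normalizer (M : Set G) ∧
      F ⊓ Subgroup.centralizer (M : Set G) ≤ M := by
  classical
  have hbotmem : (⊥ : Subgroup G) ∈ {M : Subgroup G | M ≤ F ∧ (∀ x ∈ M, ∀ y ∈ M, x * y = y * x) ∧
      F ≤ Subgroup.normalizer (M : Set G) ∧ A ≤ Subgroup.normalizer (M : Set G)} := by
    refine ⟨bot_le, ?_, ?_, ?_⟩
    · intro x hx y hy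
      rw [Subgroup.mem_bot] at hx hy
      rw [hx, hy]
    · intro g _
      apply mem_normalizer_of_forall_conj_mem
      intro u hu
      rw [Subgroup.mem_bot] at hu ⊢
      rw [hu]; group
    · intro g _
      apply mem_normalizer_of_forall_conj_mem
      intro u hu
      rw [Subgroup.mem_bot] at hu ⊢
      rw [hu]; group
  obtain ⟨M, hM⟩ := Set.Finite.exists_maximal
    (s := {M : Subgroup G | M ≤ F ∧ (∀ x ∈ M, ∀ y ∈ M, x * y = y * x) ∧
      F ≤ Subgroup.normalizer (M : Set G) ∧ A ≤ Subgroup.normalizer (M : Set G)})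
    (Set.toFinite _) ⟨⊥, hbotmem⟩
  obtain ⟨⟨hMF, hMc, hFM, hAM⟩, hMmax⟩ := hM
  refine ⟨M, hMF, hMc, hFM, hAM, ?_⟩
  by_contra hCM
  set C : Subgroup G := F ⊓ Subgroup.centralizer (M : Set G) with hC
  have hFF : F ≤ Subgroup.normalizer (F : Set G) := Subgroup.le_normalizer
  have hFC : F ≤ Subgroup.normalizer (C : Set G) := fun g hg =>
    mem_normalizer_of_forall_conj_mem (conj_mem_inf_centralizer (hFF hg) (hFM hg))
  have hAC : A ≤ Subgroup.normalizer (C : Set G) := fun g hg =>
    mem_normalizer_of_forall_conj_mem (conj_mem_inf_centralizer (hAF hg) (hAM hg))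
  set Cs : ℕ → Subgroup G := commSeries C F with hCsdef
  have hCs0 : Cs 0 = C := rfl
  have hCsS : ∀ i, Cs (i + 1) = ⁅Cs i, F⁆ := fun i => rfl
  have hCsC : ∀ i, Cs i ≤ C := by
    intro i
    induction i with
    | zero => exact le_rfl
    | succ i ih =>
      rw [hCsS]
      exact (Subgroup.commutator_mono ih le_rfl).trans (commutator_le_of_le_normalizer hFC)
  have hCsF : ∀ i, F ≤ Subgroup.normalizer (Cs i : Set G) := by
    intro i
    induction i with
    | zero => exact hFC
    | succ i ih =>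
      rw [hCsS]
      exact (le_inf ih hFF).trans (normalizer_inf_normalizer_le_normalizer_commutator _ _)
  have hCsA : ∀ i, A ≤ Subgroup.normalizer (Cs i : Set G) := by
    intro i
    induction i with
    | zero => exact hAC
    | succ i ih =>
      rw [hCsS]
      exact (le_inf ih hAF).trans (normalizer_inf_normalizer_le_normalizer_commutator _ _)
  have hCslcs : ∀ i, Cs i ≤ F.lowerCentralSeries i := by
    intro i
    induction i with
    | zero => exact inf_le_left
    | succ i ih =>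
      rw [hCsS, Subgroup.lowerCentralSeries_succ]
      exact Subgroup.commutator_mono ih le_rfl
  obtain ⟨n, hn⟩ := (Subgroup.isNilpotent_iff_lowerCentralSeries F).mp hFnil
  have hex : ∃ k, Cs k ≤ M := ⟨n, by
    have := hCslcs n
    rw [hn] at this
    exact this.trans bot_le⟩
  have hk := Nat.find_spec hex
  have hkmin := fun m => Nat.find_min hex (m := m)
  have hk0 : Nat.find hex ≠ 0 := by
    intro h0
    rw [h0, hCs0] at hk
    exact hCM hk
  obtain ⟨j, hj⟩ := Nat.exists_eq_succ_of_ne_zero hk0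
  have hjM : ¬ Cs j ≤ M := hkmin j (by omega)
  have hjF : ⁅Cs j, F⁆ ≤ M := by
    rw [← hCsS, ← Nat.succ_eq_add_one, ← hj]
    exact hk
  have hCsjF : Cs j ≤ F := (hCsC j).trans inf_le_left
  -- oddness
  obtain ⟨t, ht⟩ := hFodd
  have hoddF : ∀ y ∈ F, y * y ∈ M → y ∈ M := by
    intro y hy hyy
    have h1 : y ^ (2 * t + 1) = 1 := by
      rw [← ht]
      exact orderOf_dvd_iff_pow_eq_one.mp (Subgroup.orderOf_dvd_natCard F hy)
    have h2 : y = (y * y) ^ (t + 1) := by
      have : (y * y) ^ (t + 1) = y ^ (2 * t + 1) * y := by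
        rw [← pow_two, ← pow_mul, ← pow_succ]
        congr 1
      rw [this, h1, one_mul]
    rw [h2]
    exact Subgroup.pow_mem _ hyy _
  have hNc : ∀ x ∈ Cs j, ∀ y ∈ Cs j, (x * y)⁻¹ * (y * x) ∈ M := by
    intro x hx y hy
    have : (x * y)⁻¹ * (y * x) = ⁅y⁻¹, x⁻¹⁆ := by
      simp only [commutatorElement_def]; group
    rw [this]
    exact hjF (Subgroup.commutator_mem_commutator (Subgroup.inv_mem _ hy)
      (F.inv_mem (hCsjF hx)))
  obtain ⟨y, hyN, hyM, hyE⟩ := exists_eigen_mod A M (Cs j) hAc hA2 hAM (hCsjF.trans hFM)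
    (fun a ha y hy => conj_mem_of_mem_normalizer (hCsA j ha) hy) hNc
    (fun y hy hyy => hoddF y (hCsjF hy) hyy) hjM
  -- the bigger subgroup
  have hyC : y ∈ Subgroup.centralizer (M : Set G) := (hCsC j hyN).2
  have hyF : y ∈ F := hCsjF hyN
  have hmem : M ⊔ zpowers y ∈ {M : Subgroup G | M ≤ F ∧ (∀ x ∈ M, ∀ y ∈ M, x * y = y * x) ∧
      F ≤ Subgroup.normalizer (M : Set G) ∧ A ≤ Subgroup.normalizer (M : Set G)} := by
    refine ⟨sup_le hMF ((Subgroup.zpowers_le).mpr hyF), sup_zpowers_comm hMc hyC, ?_, ?_⟩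
    · intro f hf
      apply mem_normalizer_sup_zpowers
      · intro u hu
        exact conj_mem_of_mem_normalizer (hFM hf) hu
      · have h1 : f * y * f⁻¹ * y⁻¹ ∈ M := by
          have : f * y * f⁻¹ * y⁻¹ = (⁅y, f⁆)⁻¹ := by
            simp only [commutatorElement_def]; group
          rw [this]
          exact M.inv_mem (hjF (Subgroup.commutator_mem_commutator hyN hf))
        have h2 : f * y * f⁻¹ = (f * y * f⁻¹ * y⁻¹) * y := by group
        rw [h2]
        exact Subgroup.mul_mem _ (Subgroup.mem_sup_left h1)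
          (Subgroup.mem_sup_right (Subgroup.mem_zpowers y))
    · intro b hb
      apply mem_normalizer_sup_zpowers
      · intro u hu
        exact conj_mem_of_mem_normalizer (hAM hb) hu
      · rcases hyE b hb with h | h
        · have h2 : b * y * b⁻¹ = y * (y⁻¹ * (b * y * b⁻¹)) := by group
          rw [h2]
          exact Subgroup.mul_mem _ (Subgroup.mem_sup_right (Subgroup.mem_zpowers y))
            (Subgroup.mem_sup_left h)
        · have h2 : b * y * b⁻¹ = y⁻¹ * (y * (b * y * b⁻¹)) := by group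
          rw [h2]
          exact Subgroup.mul_mem _
            (Subgroup.mem_sup_right (Subgroup.inv_mem _ (Subgroup.mem_zpowers y)))
            (Subgroup.mem_sup_left h)
  have hle := hMmax hmem le_sup_left
  exact hyM (hle (Subgroup.mem_sup_right (Subgroup.mem_zpowers y)))

end Cfsg.Agent.Helper7
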