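import Mathlib
import Cfsg.Agent.Lib.Helper7.Components2
import Cfsg.Agent.Lib.Helper7.PComp
import Cfsg.Agent.Lib.Helper7.Layer3
import Cfsg.Agent.Lib.Helper7.Cores
import Cfsg.Agent.Lib.Helper7.Coprime
import Cfsg.Agent.Lib.Helper1.CommutatorBasic

set_option autoImplicit false

namespace Cfsg.Agent.Helper7

open Subgroup
open scoped commutatorElement

universe u

variable {G : Type u} [Group G]

/-- **Lemma P**: if `O_{p'}(G) = 1` then every component of `G` has a non-central `p`-element. -/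
theorem exists_pElement_not_centralizing [Finite G] (p : ℕ) [hp : Fact p.Prime]
    (hO : Cfsg.pPrimeCore p G = ⊥) {L : Subgroup G} (hL : Cfsg.IsComponent L) :
    ∃ l ∈ L, (∃ k, orderOf l = p ^ k) ∧ l ∉ Subgroup.centralizer (L : Set G) := by
  by_contra hcon
  push Not at hcon
  have hcop : (Nat.card ↥L).Coprime p := by
    apply coprime_card_of_perfect_of_pElements_central p (quasisimple_commutator_eq_top hL.2)
    rintro ⟨g, hg⟩ ⟨k, hk⟩
    have hk' : orderOf g = p ^ k := by rw [← hk]; exact (Subgroup.orderOf_mk g hg).symm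
    have hgc := hcon g hg ⟨k, hk'⟩
    rw [Subgroup.mem_center_iff]
    rintro ⟨y, hy⟩
    apply Subtype.ext
    exact (Subgroup.mem_centralizer_iff.mp hgc) y hy
  have hle := subnormal_coprime_le_pPrimeCore p L hL.1 hcop
  rw [hO] at hle
  exact component_ne_bot hL (le_bot_iff.mp hle)

/-- **Lemma Q**: if a `p'`-element `w` acts on `L` like the `p`-element `l ∈ L`, then `l`
centralizes `L`. -/
theorem mem_centralizer_of_same_action [Finite G] (p : ℕ) [hp : Fact p.Prime] {L : Subgroup G}
    {w l : G} (hlL : l ∈ L) (hw : (orderOf w).Coprime p) (hl : ∃ k, orderOf l = p ^ k)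
    (hsame : ∀ y ∈ L, w * y * w⁻¹ = l * y * l⁻¹) : l ∈ Subgroup.centralizer (L : Set G) := by
  have hpow : ∀ m : ℕ, ∀ y ∈ L, w ^ m * y * (w ^ m)⁻¹ = l ^ m * y * (l ^ m)⁻¹ := by
    intro m
    induction m with
    | zero => intro y _; simp
    | succ m ih =>
      intro y hy
      have h1 : w ^ (m + 1) * y * (w ^ (m + 1))⁻¹ = w ^ m * (w * y * w⁻¹) * (w ^ m)⁻¹ := by
        rw [pow_succ]; group
      have h2 : l ^ (m + 1) * y * (l ^ (m + 1))⁻¹ = l ^ m * (l * y * l⁻¹) * (l ^ m)⁻¹ := by
        rw [pow_succ]; group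
      rw [h1, h2, hsame y hy]
      exact ih _ (L.mul_mem (L.mul_mem hlL hy) (L.inv_mem hlL))
  obtain ⟨k, hk⟩ := hl
  set m := orderOf w with hm
  have hlm : l ^ m ∈ Subgroup.centralizer (L : Set G) := by
    rw [Subgroup.mem_centralizer_iff]
    intro y hy
    have := hpow m y hy
    rw [hm, pow_orderOf_eq_one] at this
    simp only [one_mul, inv_one, mul_one] at this
    calc y * l ^ orderOf w = (l ^ orderOf w * y * (l ^ orderOf w)⁻¹) * l ^ orderOf w := by
          rw [← this]
      _ = l ^ orderOf w * y := by group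
  have hcop : Nat.Coprime m (orderOf l) := by
    rw [hk]
    exact Nat.Coprime.pow_right k hw
  -- l is a power of l^m
  have hlz : l ∈ Subgroup.zpowers (l ^ m) := by
    have h1 : orderOf (l ^ m) = orderOf l := by
      rw [orderOf_pow' l (by
        intro h0
        rw [h0] at hcop
        rw [Nat.coprime_zero_left] at hcop
        have := orderOf_eq_one_iff.mp hcop
        have hw1 : orderOf w = 0 := h0
        exact (orderOf_pos w).ne' hw1), Nat.Coprime.gcd_eq_one hcop.symm, Nat.div_one]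
    have h2 : Subgroup.zpowers (l ^ m) = Subgroup.zpowers l := by
      apply Subgroup.eq_of_le_of_card_ge
      · exact (Subgroup.zpowers_le).mpr (Subgroup.pow_mem _ (Subgroup.mem_zpowers l) m)
      · rw [Nat.card_zpowers, Nat.card_zpowers, h1]
    rw [h2]
    exact Subgroup.mem_zpowers l
  exact (Subgroup.zpowers_le.mpr hlm) hlz

/-- **Case A**: a subgroup normalizing a component `L` with `⁅L, Z⁆ ≠ L` centralizes `L`. -/
theorem commutator_eq_bot_of_commutator_ne [Finite G] {L : Subgroup G} (hL : Cfsg.IsComponent L)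
    {Z : Subgroup G} (hZL : Z ≤ Subgroup.normalizer (L : Set G)) (hne : ⁅L, Z⁆ ≠ L) :
    ⁅L, Z⁆ = ⊥ := by
  have hVL : ⁅L, Z⁆ ≤ L := commutator_le_of_le_normalizer hZL
  have hLV : L ≤ Subgroup.normalizer ((⁅L, Z⁆ : Subgroup G) : Set G) :=
    Cfsg.Agent.Helper1.le_normalizer_commutator_left L Z
  have hnle : ¬ L ≤ ⁅L, Z⁆ := fun h => hne (le_antisymm hVL h)
  have h1 := component_inf_le_center hL hLV hnle
  rw [inf_eq_right.mpr hVL] at h1
  have h2 : ⁅⁅Z, L⁆, L⁆ = ⊥ := by rw [Subgroup.commutator_comm Z L]; exact h1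
  have h3 : ⁅⁅L, L⁆, Z⁆ = ⊥ := Subgroup.commutator_commutator_eq_bot_of_rotate h1 h2
  rw [component_perfect hL] at h3
  exact h3

theorem mem_centralizer_of_commutator_ne [Finite G] {L : Subgroup G} (hL : Cfsg.IsComponent L)
    {x : G} (hx : x ∈ Subgroup.normalizer (L : Set G)) (hne : ⁅L, Subgroup.zpowers x⁆ ≠ L) :
    x ∈ Subgroup.centralizer (L : Set G) := by
  have h3 := commutator_eq_bot_of_commutator_ne hL ((Subgroup.zpowers_le).mpr hx) hne
  have h4 : L ≤ Subgroup.centralizer (Subgroup.zpowers x : Set G) :=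
    (Subgroup.commutator_eq_bot_iff_le_centralizer).mp h3
  have h5 : Subgroup.zpowers x ≤ Subgroup.centralizer (L : Set G) :=
    (Subgroup.le_centralizer_iff).mp h4
  exact h5 (Subgroup.mem_zpowers x)

end Cfsg.Agent.Helper7
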