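import Mathlib
import Cfsg.Agent.Lib.Helper7.LBalA
import Cfsg.Agent.Lib.Helper7.Layer
import Cfsg.Agent.Lib.Helper7.FStar

set_option autoImplicit false

namespace Cfsg.Agent.Helper7

open Subgroup
open scoped commutatorElement

universe u

variable {G : Type u} [Group G]

/-- the diagonal product `∏_{i<n} x^i l x^{-i}` -/
def diagProd (x l : G) (n : ℕ) : G :=
  ((List.range n).map (fun i => x ^ i * l * (x ^ i)⁻¹)).prod

/-- the tail `∏_{i<n} x^{i+1} l x^{-(i+1)}` -/
def tailProd (x l : G) (n : ℕ) : G :=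
  ((List.range n).map (fun i => x ^ (i + 1) * l * (x ^ (i + 1))⁻¹)).prod

theorem diagProd_succ (x l : G) (n : ℕ) : diagProd x l (n + 1) = l * tailProd x l n := by
  unfold diagProd tailProd
  rw [List.range_succ_eq_map, List.map_cons, List.prod_cons, List.map_map]
  simp only [pow_zero, one_mul, inv_one, mul_one]
  rfl

theorem conj_diagProd {g x : G} (hg : g * x = x * g) (l : G) (n : ℕ) :
    g * diagProd x l n * g⁻¹ = diagProd x (g * l * g⁻¹) n := by
  unfold diagProd
  have h1 : g * ((List.range n).map (fun i => x ^ i * l * (x ^ i)⁻¹)).prod * g⁻¹ =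
      (MulAut.conj g) ((List.range n).map (fun i => x ^ i * l * (x ^ i)⁻¹)).prod := by
    rw [MulAut.conj_apply]
  rw [h1, map_list_prod, List.map_map]
  congr 1
  apply List.map_congr_left
  intro i _
  simp only [Function.comp, MulAut.conj_apply]
  have hc : g * x ^ i = x ^ i * g := by
    have : Commute g x := hg
    exact (this.pow_right i).eq
  calc g * (x ^ i * l * (x ^ i)⁻¹) * g⁻¹ = (g * x ^ i) * l * (g * x ^ i)⁻¹ := by group
    _ = (x ^ i * g) * l * (x ^ i * g)⁻¹ := by rw [hc]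
    _ = x ^ i * (g * l * g⁻¹) * (x ^ i)⁻¹ := by group

theorem conj_self_diagProd (x l : G) (n : ℕ) :
    x * diagProd x l (n + 1) * x⁻¹ = tailProd x l n * (x ^ (n + 1) * l * (x ^ (n + 1))⁻¹) := by
  unfold diagProd tailProd
  have h1 : x * ((List.range (n + 1)).map (fun i => x ^ i * l * (x ^ i)⁻¹)).prod * x⁻¹ =
      (MulAut.conj x) ((List.range (n + 1)).map (fun i => x ^ i * l * (x ^ i)⁻¹)).prod := by
    rw [MulAut.conj_apply]
  rw [h1, map_list_prod, List.map_map, List.range_succ, List.map_append, List.prod_append,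
    List.map_singleton, List.prod_singleton]
  congr 1
  · congr 1
    apply List.map_congr_left
    intro i _
    simp only [Function.comp, MulAut.conj_apply]
    rw [pow_succ']; group
  · simp only [Function.comp, MulAut.conj_apply]
    rw [pow_succ']; group

theorem tailProd_mem {x l : G} {n : ℕ} {S : Subgroup G}
    (h : ∀ i < n, x ^ (i + 1) * l * (x ^ (i + 1))⁻¹ ∈ S) : tailProd x l n ∈ S := by
  unfold tailProd
  apply Subgroup.list_prod_mem
  intro y hy
  obtain ⟨i, hi, rfl⟩ := List.mem_map.mp hy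
  exact h i (List.mem_range.mp hi)

theorem diagProd_mem {x l : G} {n : ℕ} {S : Subgroup G}
    (h : ∀ i < n, x ^ i * l * (x ^ i)⁻¹ ∈ S) : diagProd x l n ∈ S := by
  unfold diagProd
  apply Subgroup.list_prod_mem
  intro y hy
  obtain ⟨i, hi, rfl⟩ := List.mem_map.mp hy
  exact h i (List.mem_range.mp hi)

theorem conj_mem_centralizer_of_not_mem_normalizer [Finite G] {L : Subgroup G}
    (hL : Cfsg.IsComponent L) {g : G} (hg : g ∉ Subgroup.normalizer (L : Set G)) {l : G}
    (hl : l ∈ L) : g * l * g⁻¹ ∈ Subgroup.centralizer (L : Set G) := by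
  have hL' := isComponent_map_mulEquiv (MulAut.conj g) hL
  have hne : L.map (MulAut.conj g).toMonoidHom ≠ L := fun h =>
    hg (Subgroup.mem_normalizer_iff_map_conj_eq.mpr h)
  have h1 := component_commutator_eq_bot_of_ne hL' hL hne
  have h2 := (Subgroup.commutator_eq_bot_iff_le_centralizer).mp h1
  exact h2 ⟨l, hl, rfl⟩

theorem conj_eq_of_centralizer_mul {L : Subgroup G} {t c t' y : G}
    (ht : t ∈ Subgroup.centralizer (L : Set G)) (ht' : t' ∈ Subgroup.centralizer (L : Set G))
    (hc : c ∈ L) (hy : y ∈ L) :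
    (t * c * t') * y * (t * c * t')⁻¹ = c * y * c⁻¹ := by
  have h1 : t' * y = y * t' := ((Subgroup.mem_centralizer_iff.mp ht') y hy).symm
  have hcy : c * y * c⁻¹ ∈ L := L.mul_mem (L.mul_mem hc hy) (L.inv_mem hc)
  have h2 : t * (c * y * c⁻¹) = (c * y * c⁻¹) * t :=
    ((Subgroup.mem_centralizer_iff.mp ht) _ hcy).symm
  calc (t * c * t') * y * (t * c * t')⁻¹ = t * c * (t' * y) * t'⁻¹ * c⁻¹ * t⁻¹ := by group
    _ = t * c * (y * t') * t'⁻¹ * c⁻¹ * t⁻¹ := by rw [h1]
    _ = t * (c * y * c⁻¹) * t⁻¹ := by group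
    _ = (c * y * c⁻¹) * t * t⁻¹ := by rw [h2]
    _ = c * y * c⁻¹ := by group

end Cfsg.Agent.Helper7
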