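import Mathlib
import Cfsg.Agent.Lib.Helper7.LBalB

set_option autoImplicit false

namespace Cfsg.Agent.Helper7

open Subgroup
open scoped commutatorElement

universe u

variable {G : Type u} [Group G]

/-- **Case B** of the balance lemma: `x` of order `p` moves the component `L`; then any normal
`p'`-subgroup `R` of `C_G(x)` centralizes `L` (when `O_{p'}(G) = 1`). -/
theorem commutator_eq_bot_of_not_mem_normalizer [Finite G] (p : ℕ) [hp : Fact p.Prime]
    (hO : Cfsg.pPrimeCore p G = ⊥) {x : G} (hx : orderOf x = p)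
    {L : Subgroup G} (hL : Cfsg.IsComponent L) (hxL : x ∉ Subgroup.normalizer (L : Set G))
    (R : Subgroup G) (hRx : ∀ r ∈ R, r * x = x * r)
    (hRn : ∀ c : G, c * x = x * c → ∀ r ∈ R, c * r * c⁻¹ ∈ R)
    (hRp : ∀ r ∈ R, (orderOf r).Coprime p) : ⁅L, R⁆ = ⊥ := by
  classical
  set Z := Subgroup.centralizer (L : Set G) with hZ
  -- powers of x
  have hpow : ∀ j : ℕ, ¬ p ∣ j → x ^ j ∉ Subgroup.normalizer (L : Set G) := by
    intro j hj hmem
    have hcop : Nat.Coprime j (orderOf x) := by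
      rw [hx]
      exact ((Nat.Prime.coprime_iff_not_dvd hp.out).mpr hj).symm
    obtain ⟨m, hm⟩ := exists_pow_eq_self_of_coprime hcop
    apply hxL
    rw [← hm]
    exact Subgroup.pow_mem _ hmem m
  obtain ⟨l₀, hl₀L, hl₀p, hl₀Z⟩ := exists_pElement_not_centralizing p hO hL
  obtain ⟨m, hm⟩ : ∃ m, p = m + 1 := ⟨p - 1, by have := hp.out.pos; omega⟩
  have hxp : x ^ (m + 1) = 1 := by rw [← hm, ← hx]; exact pow_orderOf_eq_one x
  have htail : ∀ l ∈ L, tailProd x l m ∈ Z := by
    intro l hl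
    apply tailProd_mem
    intro i hi
    apply conj_mem_centralizer_of_not_mem_normalizer hL _ hl
    apply hpow
    intro hdvd
    have := Nat.le_of_dvd (by omega) hdvd
    omega
  have hdiag : ∀ l : G, diagProd x l p = l * tailProd x l m := by
    intro l; rw [hm]; exact diagProd_succ x l m
  have hdC : ∀ l ∈ L, diagProd x l p * x = x * diagProd x l p := by
    intro l hl
    have h1 := conj_self_diagProd x l m
    rw [hxp] at h1
    simp only [one_mul, inv_one, mul_one] at h1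
    have h2 : tailProd x l m * l = l * tailProd x l m :=
      (Subgroup.mem_centralizer_iff.mp (htail l hl)) l hl |>.symm
    rw [h2, ← diagProd_succ, ← hm] at h1
    calc diagProd x l p * x = (x * diagProd x l p * x⁻¹) * x := by rw [h1]
      _ = x * diagProd x l p := by group
  have hdinvC : ∀ l ∈ L, (diagProd x l p)⁻¹ * x = x * (diagProd x l p)⁻¹ := by
    intro l hl
    have := hdC l hl
    calc (diagProd x l p)⁻¹ * x = (diagProd x l p)⁻¹ * (x * diagProd x l p) * (diagProd x l p)⁻¹ := by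
          group
      _ = (diagProd x l p)⁻¹ * (diagProd x l p * x) * (diagProd x l p)⁻¹ := by rw [this]
      _ = x * (diagProd x l p)⁻¹ := by group
  have hwR : ∀ l ∈ L, ∀ r ∈ R, (diagProd x l p)⁻¹ * (r * diagProd x l p * r⁻¹) ∈ R := by
    intro l hl r hr
    have h1 := hRn _ (hdinvC l hl) r hr
    rw [inv_inv] at h1
    have h2 : (diagProd x l p)⁻¹ * (r * diagProd x l p * r⁻¹) =
        ((diagProd x l p)⁻¹ * r * diagProd x l p) * r⁻¹ := by group
    rw [h2]
    exact R.mul_mem h1 (R.inv_mem hr)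
  -- Step 1: R normalizes L
  have hRN : R ≤ Subgroup.normalizer (L : Set G) := by
    intro r hr
    by_contra hrN
    have hall : ∀ i : ℕ, x ^ i * r ∉ Subgroup.normalizer (L : Set G) := by
      intro i hmem
      set n := orderOf r with hn
      have hcomm : Commute (x ^ i) r := by
        have : Commute r x := hRx r hr
        exact (this.pow_right i).symm
      have h1 : (x ^ i * r) ^ n = x ^ (i * n) := by
        rw [hcomm.mul_pow, hn, pow_orderOf_eq_one, mul_one, ← pow_mul]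
      have h2 : x ^ (i * n) ∈ Subgroup.normalizer (L : Set G) := by
        rw [← h1]; exact Subgroup.pow_mem _ hmem n
      have h3 : p ∣ i * n := by
        by_contra hnd
        exact hpow _ hnd h2
      have h4 : p ∣ i := by
        rcases (Nat.Prime.dvd_mul hp.out).mp h3 with h | h
        · exact h
        · exfalso
          have hc := hRp r hr
          rw [← hn] at hc
          have := Nat.Coprime.eq_one_of_dvd hc.symm h
          exact hp.out.one_lt.ne' this
      have h5 : x ^ i = 1 := by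
        obtain ⟨k, rfl⟩ := h4
        rw [pow_mul, ← hx, pow_orderOf_eq_one, one_pow]
      rw [h5, one_mul] at hmem
      exact hrN hmem
    set d := diagProd x l₀ p with hd
    have hc' : r * d * r⁻¹ ∈ Z := by
      rw [hd, conj_diagProd (hRx r hr)]
      apply diagProd_mem
      intro i _
      have : x ^ i * (r * l₀ * r⁻¹) * (x ^ i)⁻¹ = (x ^ i * r) * l₀ * (x ^ i * r)⁻¹ := by group
      rw [this]
      exact conj_mem_centralizer_of_not_mem_normalizer hL (hall i) hl₀L
    have hw : d⁻¹ * (r * d * r⁻¹) ∈ R := hwR l₀ hl₀L r hr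
    have hwform : d⁻¹ * (r * d * r⁻¹) = (tailProd x l₀ m)⁻¹ * l₀⁻¹ * (r * d * r⁻¹) := by
      rw [hd, hdiag l₀, mul_inv_rev]
    have hsame : ∀ y ∈ L, (d⁻¹ * (r * d * r⁻¹)) * y * (d⁻¹ * (r * d * r⁻¹))⁻¹ =
        l₀⁻¹ * y * (l₀⁻¹)⁻¹ := by
      intro y hy
      rw [hwform]
      exact conj_eq_of_centralizer_mul (Z.inv_mem (htail l₀ hl₀L)) hc' (L.inv_mem hl₀L) hy
    have hl₀p' : ∃ k, orderOf l₀⁻¹ = p ^ k := by
      obtain ⟨k, hk⟩ := hl₀p
      exact ⟨k, by rw [orderOf_inv, hk]⟩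
    have := mem_centralizer_of_same_action p (L.inv_mem hl₀L) (hRp _ hw) hl₀p' hsame
    apply hl₀Z
    have h2 := Z.inv_mem this
    rwa [inv_inv] at h2
  -- Step 2
  let T : Subgroup G :=
    { carrier := {g | g ∈ L ∧ ∃ w ∈ R, ∀ y ∈ L, w * y * w⁻¹ = g * y * g⁻¹}
      one_mem' := ⟨L.one_mem, 1, R.one_mem, fun y _ => by simp⟩
      mul_mem' := by
        rintro a b ⟨haL, wa, hwa, ha⟩ ⟨hbL, wb, hwb, hb⟩
        refine ⟨L.mul_mem haL hbL, wa * wb, R.mul_mem hwa hwb, fun y hy => ?_⟩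
        have hby : b * y * b⁻¹ ∈ L := L.mul_mem (L.mul_mem hbL hy) (L.inv_mem hbL)
        calc wa * wb * y * (wa * wb)⁻¹ = wa * (wb * y * wb⁻¹) * wa⁻¹ := by group
          _ = wa * (b * y * b⁻¹) * wa⁻¹ := by rw [hb y hy]
          _ = a * (b * y * b⁻¹) * a⁻¹ := ha _ hby
          _ = a * b * y * (a * b)⁻¹ := by group
      inv_mem' := by
        rintro a ⟨haL, wa, hwa, ha⟩
        refine ⟨L.inv_mem haL, wa⁻¹, R.inv_mem hwa, fun y hy => ?_⟩
        have hay : a⁻¹ * y * a ∈ L := L.mul_mem (L.mul_mem (L.inv_mem haL) hy) haL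
        have h1 := ha _ hay
        have h2 : a * (a⁻¹ * y * a) * a⁻¹ = y := by group
        rw [h2] at h1
        calc wa⁻¹ * y * wa⁻¹⁻¹ = wa⁻¹ * (wa * (a⁻¹ * y * a) * wa⁻¹) * wa := by rw [h1]; group
          _ = a⁻¹ * y * a⁻¹⁻¹ := by group }
  have hVT : ⁅L, R⁆ ≤ T := by
    rw [Subgroup.commutator_le]
    intro l hl r hr
    have hrl : r * l⁻¹ * r⁻¹ ∈ L := (Subgroup.mem_normalizer_iff.mp (hRN hr) _).mp (L.inv_mem hl)
    have hcL : ⁅l, r⁆ ∈ L := by
      have : ⁅l, r⁆ = l * (r * l⁻¹ * r⁻¹) := by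
        simp only [commutatorElement_def]; group
      rw [this]
      exact L.mul_mem hl hrl
    refine ⟨hcL, _, hwR l⁻¹ (L.inv_mem hl) r hr, fun y hy => ?_⟩
    have hform : (diagProd x l⁻¹ p)⁻¹ * (r * diagProd x l⁻¹ p * r⁻¹) =
        (tailProd x l⁻¹ m)⁻¹ * ⁅l, r⁆ * tailProd x (r * l⁻¹ * r⁻¹) m := by
      rw [conj_diagProd (hRx r hr), hdiag, hdiag, mul_inv_rev, inv_inv]
      simp only [commutatorElement_def]
      group
    rw [hform]
    exact conj_eq_of_centralizer_mul (Z.inv_mem (htail _ (L.inv_mem hl))) (htail _ hrl) hcL hy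
  by_cases hV : ⁅L, R⁆ = L
  · exfalso
    have hl₀T : l₀ ∈ T := hVT (by rw [hV]; exact hl₀L)
    obtain ⟨_, w, hwR', hw⟩ := hl₀T
    exact hl₀Z (mem_centralizer_of_same_action p hl₀L (hRp w hwR') hl₀p hw)
  · exact commutator_eq_bot_of_commutator_ne hL hRN hV

end Cfsg.Agent.Helper7
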