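import Mathlib
import Cfsg.Agent.Lib.Helper7.LBalC
import Cfsg.Agent.Lib.Helper7.Dihedral6
import Cfsg.Agent.Lib.Helper15.SubSyl1

set_option autoImplicit false

namespace Cfsg.Agent.Helper7

open Subgroup
open scoped commutatorElement

universe u

variable {G : Type u} [Group G]

theorem commSeries_zero (C F : Subgroup G) : commSeries C F 0 = C := rfl

theorem commSeries_succ (C F : Subgroup G) (n : ℕ) :
    commSeries C F (n + 1) = ⁅commSeries C F n, F⁆ := rfl

theorem commSeries_le {C F : Subgroup G} (hFC : F ≤ Subgroup.normalizer (C : Set G)) (i : ℕ) :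
    commSeries C F i ≤ C := by
  induction i with
  | zero => exact le_rfl
  | succ i ih =>
    rw [commSeries_succ]
    exact (Subgroup.commutator_mono ih le_rfl).trans (commutator_le_of_le_normalizer hFC)

theorem commSeries_le_lowerCentralSeries {C F : Subgroup G} (hCF : C ≤ F) (i : ℕ) :
    commSeries C F i ≤ F.lowerCentralSeries i := by
  induction i with
  | zero => exact hCF
  | succ i ih =>
    rw [commSeries_succ, Subgroup.lowerCentralSeries_succ]
    exact Subgroup.commutator_mono ih le_rfl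

/-- the last term of the commutator series not inside `S₀` -/
theorem exists_commSeries_last {C F S₀ : Subgroup G} (hF : Group.IsNilpotent ↥F) (hCF : C ≤ F)
    (hC : ¬ C ≤ S₀) :
    ∃ j, ¬ commSeries C F j ≤ S₀ ∧ ⁅commSeries C F j, F⁆ ≤ S₀ := by
  classical
  obtain ⟨n, hn⟩ := (Subgroup.isNilpotent_iff_lowerCentralSeries F).mp hF
  have hex : ∃ k, commSeries C F k ≤ S₀ := ⟨n, by
    have := commSeries_le_lowerCentralSeries hCF n
    rw [hn] at this
    exact this.trans bot_le⟩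
  have hk := Nat.find_spec hex
  have hkmin := fun m => Nat.find_min hex (m := m)
  have hk0 : Nat.find hex ≠ 0 := by
    intro h0
    rw [h0, commSeries_zero] at hk
    exact hC hk
  obtain ⟨j, hj⟩ := Nat.exists_eq_succ_of_ne_zero hk0
  refine ⟨j, hkmin j (by omega), ?_⟩
  rw [← commSeries_succ, ← Nat.succ_eq_add_one, ← hj]
  exact hk

/-- a noncentral `p`-element of the component `L` fixed modulo `Z(L)` by the `p`-element `t` -/
theorem exists_pElement_fixed_mod_center [Finite G] (p : ℕ) [hp : Fact p.Prime]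
    (hO : Cfsg.pPrimeCore p G = ⊥) {L : Subgroup G} (hL : Cfsg.IsComponent L) {t : G}
    (ht : ∃ k, orderOf t = p ^ k) (htL : t ∈ Subgroup.normalizer (L : Set G)) :
    ∃ l ∈ L, (∃ k, orderOf l = p ^ k) ∧ l ∉ Subgroup.centralizer (L : Set G) ∧
      t * l * t⁻¹ * l⁻¹ ∈ Subgroup.centralizer (L : Set G) := by
  classical
  -- a Sylow subgroup containing t
  have htp : IsPGroup p ↥(Subgroup.zpowers t) := by
    obtain ⟨k, hk⟩ := ht
    apply IsPGroup.of_card (n := k)
    rw [Nat.card_zpowers, hk]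
  obtain ⟨S, hS⟩ := htp.exists_le_sylow
  have htS : t ∈ (S : Subgroup G) := hS (Subgroup.mem_zpowers t)
  have hS₁ := Cfsg.Agent.Helper15.SubSyl.isSylowIn_inf_of_isSubnormal (p := p) S hL.1
  set S₁ : Subgroup G := L ⊓ (S : Subgroup G) with hS₁def
  have htS₁ : t ∈ Subgroup.normalizer (S₁ : Set G) :=
    Subgroup.inf_normalizer_le_normalizer_inf
      (Subgroup.mem_inf.mpr ⟨htL, Subgroup.le_normalizer htS⟩)
  -- S₁ is not central in L
  obtain ⟨l₀, hl₀L, ⟨k₀, hk₀⟩, hl₀Z⟩ := exists_pElement_not_centralizing p hO hL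
  have hS₁Z : ¬ S₁ ≤ S₁ ⊓ Subgroup.centralizer (L : Set G) := by
    intro hle
    have hz0 : IsPGroup p ↥(Subgroup.zpowers (⟨l₀, hl₀L⟩ : ↥L)) := by
      apply IsPGroup.of_card (n := k₀)
      rw [Nat.card_zpowers, Subgroup.orderOf_mk, hk₀]
    obtain ⟨Q, hQ⟩ := hz0.exists_le_sylow
    obtain ⟨g, hgL, hg⟩ := (Cfsg.Agent.Helper15.isSylowIn_map_subtype Q).exists_conj hS₁
    have h1 : l₀ ∈ (Q : Subgroup ↥L).map L.subtype :=
      ⟨⟨l₀, hl₀L⟩, hQ (Subgroup.mem_zpowers _), rfl⟩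
    have h2 : g * l₀ * g⁻¹ ∈ S₁ := by
      rw [← hg]
      exact ⟨l₀, h1, rfl⟩
    have h3 : g * l₀ * g⁻¹ ∈ Subgroup.centralizer (L : Set G) := (hle h2).2
    apply hl₀Z
    rw [Subgroup.mem_centralizer_iff] at h3 ⊢
    intro y hy
    have hy' : g * y * g⁻¹ ∈ L := L.mul_mem (L.mul_mem hgL hy) (L.inv_mem hgL)
    have := h3 _ hy'
    calc y * l₀ = g⁻¹ * ((g * y * g⁻¹) * (g * l₀ * g⁻¹)) * g := by group
      _ = g⁻¹ * ((g * l₀ * g⁻¹) * (g * y * g⁻¹)) * g := by rw [this]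
      _ = l₀ * y := by group
  -- the p-group P
  set P : Subgroup G := S₁ ⊔ Subgroup.zpowers t with hP
  have hPS : P ≤ (S : Subgroup G) := sup_le inf_le_right hS
  have hPp : IsPGroup p ↥P := S.isPGroup'.to_le hPS
  have hPnil : Group.IsNilpotent ↥P := hPp.isNilpotent
  have hPN : P ≤ Subgroup.normalizer (S₁ : Set G) :=
    sup_le Subgroup.le_normalizer ((Subgroup.zpowers_le).mpr htS₁)
  obtain ⟨j, hj1, hj2⟩ := exists_commSeries_last (C := S₁) (F := P)
    (S₀ := S₁ ⊓ Subgroup.centralizer (L : Set G)) hPnil le_sup_left hS₁Z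
  obtain ⟨l, hlM, hlS₀⟩ := SetLike.not_le_iff_exists.mp hj1
  have hlS₁ : l ∈ S₁ := commSeries_le hPN j hlM
  refine ⟨l, hlS₁.1, ?_, fun h => hlS₀ ⟨hlS₁, h⟩, ?_⟩
  · obtain ⟨k, hk⟩ := (IsPGroup.iff_orderOf.mp S.isPGroup') ⟨l, hlS₁.2⟩
    exact ⟨k, by rw [← hk, Subgroup.orderOf_mk]⟩
  · have h1 : ⁅l, t⁆ ∈ S₁ ⊓ Subgroup.centralizer (L : Set G) :=
      hj2 (Subgroup.commutator_mem_commutator hlM
        (Subgroup.mem_sup_right (Subgroup.mem_zpowers t)))
    have h2 : t * l * t⁻¹ * l⁻¹ = (⁅l, t⁆)⁻¹ := by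
      simp only [commutatorElement_def]; group
    rw [h2]
    exact Subgroup.inv_mem _ h1.2

end Cfsg.Agent.Helper7
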