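import Mathlib
import Cfsg.Prelude.Def_Local
import Cfsg.Agent.Lib.Helper7.LBalD
import Cfsg.Agent.Lib.Helper7.Signalizer
import Cfsg.Agent.Lib.Helper7.Fitting2

set_option autoImplicit false

namespace Cfsg.Agent.Helper7

open Subgroup
open scoped commutatorElement

universe u

variable {G : Type u} [Group G]

/-- the centre `A ∩ C(A)` of a subnormal subgroup lies in the Fitting subgroup -/
theorem subnormal_inf_centralizer_le_fittingSubgroup [Finite G] {A : Subgroup G}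
    (hA : A.IsSubnormal) :
    A ⊓ Subgroup.centralizer (A : Set G) ≤ Cfsg.fittingSubgroup G := by
  set Z : Subgroup G := A ⊓ Subgroup.centralizer (A : Set G) with hZ
  have hAN : A ≤ Subgroup.normalizer (Z : Set G) := by
    intro g hg
    apply mem_normalizer_of_forall_conj_mem
    intro u hu
    exact conj_mem_inf_centralizer (Subgroup.le_normalizer hg) (Subgroup.le_normalizer hg) u hu
  have hsn : Z.IsSubnormal :=
    Subgroup.IsSubnormal.step Z A inf_le_left hA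
      ((Subgroup.normal_subgroupOf_iff_le_normalizer inf_le_left).mpr hAN)
  have : IsMulCommutative ↥Z := ⟨⟨by
    rintro ⟨a, ha⟩ ⟨b, hb⟩
    apply Subtype.ext
    exact ((Subgroup.mem_centralizer_iff.mp ha.2) b hb.1).symm⟩⟩
  exact subnormal_nilpotent_le_fittingSubgroup Z hsn (isNilpotent_of_isMulCommutative ↥Z)

/-- Let `A` be a subnormal subgroup normalized by the `p`-subgroup `R`, with `Z(A) ≤ R`, and
containing a noncentral `p`-element. Then `A ∩ N(R)` contains a noncentral `p`-element of `A`. -/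
theorem exists_pElement_mem_normalizer [Finite G] (p : ℕ) [hp : Fact p.Prime]
    {A R : Subgroup G} (hA : A.IsSubnormal) (hR : IsPGroup p ↥R)
    (hRA : R ≤ Subgroup.normalizer (A : Set G))
    (hZR : A ⊓ Subgroup.centralizer (A : Set G) ≤ R)
    (hex : ∃ l₀ ∈ A, (∃ k, orderOf l₀ = p ^ k) ∧ l₀ ∉ Subgroup.centralizer (A : Set G)) :
    ∃ s ∈ A, (∃ k, orderOf s = p ^ k) ∧ s ∉ Subgroup.centralizer (A : Set G) ∧
      s ∈ Subgroup.normalizer (R : Set G) := by
  classical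
  obtain ⟨S, hS⟩ := hR.exists_le_sylow
  have hS₁ := Cfsg.Agent.Helper15.SubSyl.isSylowIn_inf_of_isSubnormal (p := p) S hA
  set S₁ : Subgroup G := A ⊓ (S : Subgroup G) with hS₁def
  have hRS₁ : R ≤ Subgroup.normalizer (S₁ : Set G) := by
    intro r hr
    exact Subgroup.inf_normalizer_le_normalizer_inf
      (Subgroup.mem_inf.mpr ⟨hRA hr, Subgroup.le_normalizer (hS hr)⟩)
  -- S₁ is not central in A
  obtain ⟨l₀, hl₀A, ⟨k₀, hk₀⟩, hl₀Z⟩ := hex
  have hS₁Z : ¬ S₁ ≤ S₁ ⊓ Subgroup.centralizer (A : Set G) := by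
    intro hle
    have hz0 : IsPGroup p ↥(Subgroup.zpowers (⟨l₀, hl₀A⟩ : ↥A)) := by
      apply IsPGroup.of_card (n := k₀)
      rw [Nat.card_zpowers, Subgroup.orderOf_mk, hk₀]
    obtain ⟨Q, hQ⟩ := hz0.exists_le_sylow
    obtain ⟨g, hgA, hg⟩ := (Cfsg.Agent.Helper15.isSylowIn_map_subtype Q).exists_conj hS₁
    have h1 : l₀ ∈ (Q : Subgroup ↥A).map A.subtype :=
      ⟨⟨l₀, hl₀A⟩, hQ (Subgroup.mem_zpowers _), rfl⟩
    have h2 : g * l₀ * g⁻¹ ∈ S₁ := by
      rw [← hg]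
      exact ⟨l₀, h1, rfl⟩
    have h3 : g * l₀ * g⁻¹ ∈ Subgroup.centralizer (A : Set G) := (hle h2).2
    apply hl₀Z
    rw [Subgroup.mem_centralizer_iff] at h3 ⊢
    intro y hy
    have hy' : g * y * g⁻¹ ∈ A := A.mul_mem (A.mul_mem hgA hy) (A.inv_mem hgA)
    have := h3 _ hy'
    calc y * l₀ = g⁻¹ * ((g * y * g⁻¹) * (g * l₀ * g⁻¹)) * g := by group
      _ = g⁻¹ * ((g * l₀ * g⁻¹) * (g * y * g⁻¹)) * g := by rw [this]
      _ = l₀ * y := by group
  -- the p-group P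
  set P : Subgroup G := S₁ ⊔ R with hP
  have hPS : P ≤ (S : Subgroup G) := sup_le inf_le_right hS
  have hPp : IsPGroup p ↥P := S.isPGroup'.to_le hPS
  have hPnil : Group.IsNilpotent ↥P := hPp.isNilpotent
  have hPN : P ≤ Subgroup.normalizer (S₁ : Set G) := sup_le Subgroup.le_normalizer hRS₁
  obtain ⟨j, hj1, hj2⟩ := exists_commSeries_last (C := S₁) (F := P)
    (S₀ := S₁ ⊓ Subgroup.centralizer (A : Set G)) hPnil le_sup_left hS₁Z
  obtain ⟨s, hsM, hsS₀⟩ := SetLike.not_le_iff_exists.mp hj1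
  have hsS₁ : s ∈ S₁ := commSeries_le hPN j hsM
  refine ⟨s, hsS₁.1, ?_, fun h => hsS₀ ⟨hsS₁, h⟩, ?_⟩
  · obtain ⟨k, hk⟩ := (IsPGroup.iff_orderOf.mp S.isPGroup') ⟨s, hsS₁.2⟩
    exact ⟨k, by rw [← hk, Subgroup.orderOf_mk]⟩
  · apply mem_normalizer_of_forall_conj_mem
    intro r hr
    have h1 : ⁅s, r⁆ ∈ S₁ ⊓ Subgroup.centralizer (A : Set G) :=
      hj2 (Subgroup.commutator_mem_commutator hsM (Subgroup.mem_sup_right hr))
    have h2 : ⁅s, r⁆ ∈ R := hZR ⟨h1.1.1, h1.2⟩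
    have h3 : s * r * s⁻¹ = ⁅s, r⁆ * r := by
      rw [commutatorElement_def]; group
    rw [h3]
    exact R.mul_mem h2 hr

end Cfsg.Agent.Helper7
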