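import Mathlib
import Cfsg.Prelude.Def_Local
import Cfsg.Agent.Lib.Helper7.LpB3
import Cfsg.Agent.Lib.Helper7.Layer3
import Cfsg.Agent.Lib.Helper7.Basic
import Cfsg.Agent.Lib.Helper7.CoprimeGen1

set_option autoImplicit false

namespace Cfsg.Agent.Helper7

open Subgroup
open scoped commutatorElement Pointwise

universe u

variable {G : Type u} [Group G]

theorem conj_smul_conj_smul (g h : G) (K : Subgroup G) :
    MulAut.conj g • MulAut.conj h • K = MulAut.conj (g * h) • K := by
  rw [map_mul, mul_smul]

theorem conj_one_smul (K : Subgroup G) : MulAut.conj (1 : G) • K = K := by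
  rw [map_one, one_smul]

theorem mem_normalizer_of_conj_smul_eq {K : Subgroup G} {g : G} (h : MulAut.conj g • K = K) :
    g ∈ Subgroup.normalizer (K : Set G) := by
  rw [Subgroup.mem_normalizer_iff]
  intro x
  constructor
  · intro hx
    rw [← h]
    exact conj_mem_conj_smul K g x hx
  · intro hx
    rw [← h, mem_conj_smul_iff] at hx
    have : g⁻¹ * (g * x * g⁻¹) * g = x := by group
    rw [this] at hx
    exact hx

theorem conj_smul_eq_of_mem_normalizer {K : Subgroup G} {g : G}
    (h : g ∈ Subgroup.normalizer (K : Set G)) : MulAut.conj g • K = K := by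
  ext x
  rw [mem_conj_smul_iff]
  have h' := Subgroup.inv_mem _ h
  rw [Subgroup.mem_normalizer_iff] at h'
  rw [h' x, inv_inv]

/-- Commuting elements `j`, `r` of coprime orders: if `K^j = K^r` then `K^j = K`. -/
theorem conj_smul_eq_self_of_commute_of_coprime {K : Subgroup G} {j r : G} (hjr : j * r = r * j)
    (hcop : (orderOf j).Coprime (orderOf r))
    (h : MulAut.conj j • K = MulAut.conj r • K) : MulAut.conj j • K = K := by
  have hpow : ∀ i : ℕ, MulAut.conj (j ^ i) • K = MulAut.conj (r ^ i) • K := by
    intro i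
    induction i with
    | zero => simp
    | succ i ih =>
      have hc : j ^ i * r = r * j ^ i := (Commute.pow_left (show Commute j r from hjr) i)
      rw [pow_succ, ← conj_smul_conj_smul, h, conj_smul_conj_smul, hc, ← conj_smul_conj_smul, ih,
        conj_smul_conj_smul, ← pow_succ']
  have h1 := hpow (orderOf j)
  rw [pow_orderOf_eq_one, conj_one_smul] at h1
  obtain ⟨n, hn⟩ := exists_pow_eq_self_of_coprime hcop (x := r)
  have h2 : ∀ n : ℕ, MulAut.conj ((r ^ orderOf j) ^ n) • K = K := by
    intro n
    induction n with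
    | zero => simp
    | succ n ih =>
      rw [pow_succ, ← conj_smul_conj_smul, ← h1, ih]
  have h3 := h2 n
  rw [hn] at h3
  rw [h, h3]

/-- the join of the `R`-conjugates of `K` -/
def orbitJoin (R K : Subgroup G) : Subgroup G := ⨆ r : ↥R, MulAut.conj (r : G) • K

theorem le_orbitJoin (R K : Subgroup G) : K ≤ orbitJoin R K := by
  have h := le_iSup (fun r : ↥R => MulAut.conj (r : G) • K) 1
  simp only [Subgroup.coe_one, conj_one_smul] at h
  exact h

theorem conj_smul_le_orbitJoin (R K : Subgroup G) {r : G} (hr : r ∈ R) :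
    MulAut.conj r • K ≤ orbitJoin R K :=
  le_iSup (fun r : ↥R => MulAut.conj (r : G) • K) ⟨r, hr⟩

theorem conj_smul_orbitJoin (R K : Subgroup G) (g : G) :
    MulAut.conj g • orbitJoin R K = ⨆ r : ↥R, MulAut.conj (g * (r : G)) • K := by
  unfold orbitJoin
  have h1 : ∀ S : Subgroup G, MulAut.conj g • S = S.map (MulAut.conj g).toMonoidHom := fun _ => rfl
  rw [h1, Subgroup.map_iSup]
  congr 1
  funext r
  rw [← h1, conj_smul_conj_smul]

theorem le_normalizer_orbitJoin [Finite G] (R K : Subgroup G) :
    R ≤ Subgroup.normalizer (orbitJoin R K : Set G) := by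
  intro r₀ hr₀
  apply mem_normalizer_of_conj_smul_eq
  apply conj_smul_eq_of_le
  rw [conj_smul_orbitJoin]
  apply iSup_le
  intro r
  exact conj_smul_le_orbitJoin R K (R.mul_mem hr₀ r.2)

end Cfsg.Agent.Helper7
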