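import Mathlib

/-!
# Maximal components of involution centralizers, part 2 (helper7's library)

A perfect subgroup `K ≤ N₁ N₂` (`N₁`, `N₂` commuting) centralized by `a` and centralizing
`C_{N₁}(a)` centralizes `N₁`.
-/

set_option autoImplicit false

namespace Cfsg.Agent.Helper7.MaxComp

open Subgroup
open scoped commutatorElement

variable {Γ : Type*} [Group Γ]

/-- elements of a join of two elementwise commuting subgroups are products -/
theorem exists_mul_of_mem_sup_comm {A B : Subgroup Γ}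
    (hc : ∀ a ∈ A, ∀ b ∈ B, a * b = b * a) {x : Γ} (hx : x ∈ A ⊔ B) :
    ∃ a ∈ A, ∃ b ∈ B, x = a * b := by
  rw [Subgroup.sup_eq_closure] at hx
  induction hx using Subgroup.closure_induction with
  | mem x hx =>
    rcases hx with hx | hx
    · exact ⟨x, hx, 1, B.one_mem, (mul_one x).symm⟩
    · exact ⟨1, A.one_mem, x, hx, (one_mul x).symm⟩
  | one => exact ⟨1, A.one_mem, 1, B.one_mem, (mul_one 1).symm⟩
  | mul x y _ _ hx hy =>
    obtain ⟨a, ha, b, hb, rfl⟩ := hx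
    obtain ⟨a', ha', b', hb', rfl⟩ := hy
    refine ⟨a * a', A.mul_mem ha ha', b * b', B.mul_mem hb hb', ?_⟩
    calc a * b * (a' * b') = a * (b * a') * b' := by group
      _ = a * (a' * b) * b' := by rw [hc a' ha' b hb]
      _ = a * a' * (b * b') := by group
  | inv x _ hx =>
    obtain ⟨a, ha, b, hb, rfl⟩ := hx
    refine ⟨a⁻¹, A.inv_mem ha, b⁻¹, B.inv_mem hb, ?_⟩
    rw [mul_inv_rev]
    exact (hc a⁻¹ (A.inv_mem ha) b⁻¹ (B.inv_mem hb)).symm

/-- a commutator is unchanged by factors commuting with everything in sight -/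
theorem commutatorElement_mul_mul {x x' z z' : Γ} (h1 : z * x' = x' * z) (h2 : z' * x = x * z')
    (h3 : z * z' = z' * z) : ⁅x * z, x' * z'⁆ = ⁅x, x'⁆ := by
  have e1 : ⁅x, x'⁆ * (x' * x) = x * x' := by rw [commutatorElement_def]; group
  have e : x * z * (x' * z') = ⁅x, x'⁆ * ((x' * z') * (x * z)) := by
    calc x * z * (x' * z') = x * (z * x') * z' := by group
      _ = x * (x' * z) * z' := by rw [h1]
      _ = (x * x') * (z * z') := by group
      _ = ⁅x, x'⁆ * (x' * x) * (z' * z) := by rw [e1, h3]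
      _ = ⁅x, x'⁆ * (x' * (x * z') * z) := by group
      _ = ⁅x, x'⁆ * (x' * (z' * x) * z) := by rw [h2]
      _ = ⁅x, x'⁆ * ((x' * z') * (x * z)) := by group
  rw [commutatorElement_def (x * z) (x' * z'), e]
  group

/-- `g` acts on `N` by conjugation like the element `c` of `N` -/
def ActsLike (N : Subgroup Γ) (g c : Γ) : Prop :=
  c ∈ N ∧ ∀ w ∈ N, g * w * g⁻¹ = c * w * c⁻¹

theorem ActsLike.one (N : Subgroup Γ) : ActsLike N 1 1 :=
  ⟨N.one_mem, fun w _ => by group⟩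

theorem ActsLike.mul {N : Subgroup Γ} {g c g' c' : Γ} (h : ActsLike N g c)
    (h' : ActsLike N g' c') : ActsLike N (g * g') (c * c') := by
  refine ⟨N.mul_mem h.1 h'.1, fun w hw => ?_⟩
  have hw' : c' * w * c'⁻¹ ∈ N := N.mul_mem (N.mul_mem h'.1 hw) (N.inv_mem h'.1)
  calc g * g' * w * (g * g')⁻¹ = g * (g' * w * g'⁻¹) * g⁻¹ := by group
    _ = g * (c' * w * c'⁻¹) * g⁻¹ := by rw [h'.2 w hw]
    _ = c * (c' * w * c'⁻¹) * c⁻¹ := h.2 _ hw'
    _ = c * c' * w * (c * c')⁻¹ := by group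

theorem ActsLike.inv {N : Subgroup Γ} {g c : Γ} (h : ActsLike N g c) :
    ActsLike N g⁻¹ c⁻¹ := by
  refine ⟨N.inv_mem h.1, fun w hw => ?_⟩
  have hw' : c⁻¹ * w * c ∈ N := N.mul_mem (N.mul_mem (N.inv_mem h.1) hw) h.1
  have h2 : g * (c⁻¹ * w * c) * g⁻¹ = w := by rw [h.2 _ hw']; group
  calc g⁻¹ * w * g⁻¹⁻¹ = g⁻¹ * (g * (c⁻¹ * w * c) * g⁻¹) * g := by rw [h2, inv_inv]
    _ = c⁻¹ * w * c⁻¹⁻¹ := by group

theorem ActsLike.commutator {N : Subgroup Γ} {g c g' c' : Γ} (h : ActsLike N g c)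
    (h' : ActsLike N g' c') : ActsLike N ⁅g, g'⁆ ⁅c, c'⁆ := by
  rw [commutatorElement_def, commutatorElement_def]
  exact ((h.mul h').mul h.inv).mul h'.inv

/-- the elements acting on `N` like an element of `C_N(a)` -/
def fixedActors (a : Γ) (N : Subgroup Γ) : Subgroup Γ where
  carrier := {g | ∃ c, ActsLike N g c ∧ a * c = c * a}
  one_mem' := ⟨1, ActsLike.one N, by simp⟩
  mul_mem' := by
    rintro g g' ⟨c, hc, hac⟩ ⟨c', hc', hac'⟩
    exact ⟨c * c', hc.mul hc', (Commute.mul_right (show Commute a c from hac) hac').eq⟩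
  inv_mem' := by
    rintro g ⟨c, hc, hac⟩
    exact ⟨c⁻¹, hc.inv, (Commute.inv_right (show Commute a c from hac)).eq⟩

theorem mem_fixedActors {a : Γ} {N : Subgroup Γ} {g : Γ} :
    g ∈ fixedActors a N ↔ ∃ c, ActsLike N g c ∧ a * c = c * a := Iff.rfl

/-- A perfect subgroup `K` of the product of the commuting subgroups `N₁`, `N₂`, all normalized
by `a`, with `K ≤ C(a)` and `K` centralizing `C_{N₁}(a)`, centralizes `N₁`. -/
theorem le_centralizer_of_centralizes_fixed (a : Γ) (N₁ N₂ K : Subgroup Γ)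
    (h12 : ∀ x ∈ N₁, ∀ y ∈ N₂, x * y = y * x)
    (haN₁ : ∀ x ∈ N₁, a * x * a⁻¹ ∈ N₁) (haN₂ : ∀ y ∈ N₂, a * y * a⁻¹ ∈ N₂)
    (hK : ∀ k ∈ K, ∃ x ∈ N₁, ∃ y ∈ N₂, k = x * y)
    (hKa : ∀ k ∈ K, a * k = k * a)
    (hKC : ∀ k ∈ K, ∀ c ∈ N₁, a * c = c * a → k * c = c * k)
    (hperf : ⁅K, K⁆ = K) : K ≤ centralizer (N₁ : Set Γ) := by
  have hact : ∀ k ∈ K, ∃ x ∈ N₁, ActsLike N₁ k x ∧
      ∃ z ∈ N₁, z ∈ N₂ ∧ a * x * a⁻¹ = x * z := by
    intro k hk
    obtain ⟨x, hx, y, hy, rfl⟩ := hK k hk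
    refine ⟨x, hx, ⟨hx, fun w hw => ?_⟩, x⁻¹ * (a * x * a⁻¹), ?_, ?_, by group⟩
    · calc x * y * w * (x * y)⁻¹ = x * (y * w) * y⁻¹ * x⁻¹ := by group
        _ = x * (w * y) * y⁻¹ * x⁻¹ := by rw [h12 w hw y hy]
        _ = x * w * x⁻¹ := by group
    · exact N₁.mul_mem (N₁.inv_mem hx) (haN₁ x hx)
    · have h : a * (x * y) * a⁻¹ = x * y := by rw [hKa _ hk]; group
      have h2 : x⁻¹ * (a * x * a⁻¹) = y * (a * y * a⁻¹)⁻¹ := by
        rw [eq_mul_inv_iff_mul_eq]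
        calc x⁻¹ * (a * x * a⁻¹) * (a * y * a⁻¹) = x⁻¹ * (a * (x * y) * a⁻¹) := by group
          _ = x⁻¹ * (x * y) := by rw [h]
          _ = y := by group
      rw [h2]
      exact N₂.mul_mem hy (N₂.inv_mem (haN₂ y hy))
  have hV : K ≤ fixedActors a N₁ := by
    rw [← hperf, Subgroup.commutator_le]
    intro k hk k' hk'
    obtain ⟨x, hx, hkx, z, hz1, hz2, hax⟩ := hact k hk
    obtain ⟨x', hx', hkx', z', hz1', hz2', hax'⟩ := hact k' hk'
    rw [mem_fixedActors]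
    refine ⟨⁅x, x'⁆, hkx.commutator hkx', ?_⟩
    have h1 : a * ⁅x, x'⁆ * a⁻¹ = ⁅a * x * a⁻¹, a * x' * a⁻¹⁆ := by
      simp only [commutatorElement_def]; group
    have h2 : ⁅a * x * a⁻¹, a * x' * a⁻¹⁆ = ⁅x, x'⁆ := by
      rw [hax, hax']
      exact commutatorElement_mul_mul (h12 x' hx' z hz2).symm (h12 x hx z' hz2').symm
        (h12 z hz1 z' hz2')
    rw [h2] at h1
    exact mul_inv_eq_iff_eq_mul.mp h1
  rw [← hperf, Subgroup.commutator_le]
  intro k hk k' hk'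
  obtain ⟨c, hc, hac⟩ := mem_fixedActors.mp (hV hk)
  obtain ⟨c', hc', hac'⟩ := mem_fixedActors.mp (hV hk')
  have h1 : k' * c * k'⁻¹ = c := by rw [hKC k' hk' c hc.1 hac]; group
  have h2 : c' * c * c'⁻¹ = c := by rw [← hc'.2 c hc.1]; exact h1
  have h3 : ⁅c, c'⁆ = 1 := by
    rw [commutatorElement_eq_one_iff_commute]
    exact (mul_inv_eq_iff_eq_mul.mp h2).symm
  have h4 := hc.commutator hc'
  rw [h3] at h4
  rw [Subgroup.mem_centralizer_iff]
  intro w hw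
  have h5 := h4.2 w hw
  simp only [one_mul, inv_one, mul_one] at h5
  exact (mul_inv_eq_iff_eq_mul.mp h5).symm

end Cfsg.Agent.Helper7.MaxComp
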