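import Mathlib
import Cfsg.Prelude.Def_Local
import Cfsg.Agent.Lib.Helper7.PLocal2
import Cfsg.Agent.Lib.Helper7.FStar2
import Cfsg.Agent.Lib.Helper7.Layer
import Cfsg.Agent.Lib.Helper22.PPrimeCore

set_option autoImplicit false

namespace Cfsg.Agent.Helper7

open Subgroup
open scoped commutatorElement Pointwise

variable {G : Type*} [Group G]

/-- The preimage of `E(G / O_{p'}(G))` centralizes every normal `p`-subgroup of `G`. -/
theorem comap_layer_commutator_eq_bot [Finite G] (p : ℕ) [Fact p.Prime] (T : Subgroup G)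
    [hTn : T.Normal] (hT : IsPGroup p ↥T) :
    ⁅(Cfsg.layer (G ⧸ Cfsg.pPrimeCore p G)).comap (QuotientGroup.mk' (Cfsg.pPrimeCore p G)), T⁆
      = ⊥ := by
  set R := Cfsg.pPrimeCore p G with hR
  set φ := QuotientGroup.mk' R with hφ
  set L := (Cfsg.layer (G ⧸ R)).comap φ with hL
  have hsurj : Function.Surjective φ := QuotientGroup.mk'_surjective R
  have h1 : T.map φ ≤ Cfsg.fittingSubgroup (G ⧸ R) := by
    haveI : (T.map φ).Normal := hTn.map φ hsurj
    exact le_fittingSubgroup (T.map φ) (hT.map φ).isNilpotent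
  have h2 : (⁅L, T⁆).map φ = ⊥ := by
    rw [Subgroup.map_commutator, eq_bot_iff, ← layer_commutator_fittingSubgroup (G := G ⧸ R)]
    exact Subgroup.commutator_mono (Subgroup.map_comap_le _ _) h1
  have h3 : ⁅L, T⁆ ≤ R := by
    rw [Subgroup.map_eq_bot_iff, hφ, QuotientGroup.ker_mk'] at h2
    exact h2
  have h4 : ⁅L, T⁆ ≤ T := Subgroup.commutator_le_right L T
  have h5 : R ⊓ T = ⊥ := by
    apply Subgroup.inf_eq_bot_of_coprime
    obtain ⟨n, hn⟩ := IsPGroup.iff_card.mp hT
    rw [hn]
    exact Nat.Coprime.pow_right n (Cfsg.Agent.Helper22.card_pPrimeCore_coprime p)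
  rw [eq_bot_iff, ← h5]
  exact le_inf h3 h4

/-- For `N = N_G(P)`, `P` a `p`-subgroup: the preimage in `N` of `E(N / O_{p'}(N))` centralizes
`O_p(G)`. -/
theorem comap_layer_normalizer_le_centralizer_pCore [Finite G] (p : ℕ) [Fact p.Prime]
    (P : Subgroup G) (hP : IsPGroup p ↥P) :
    (((Cfsg.layer (↥(Subgroup.normalizer (P : Set G)) ⧸
        Cfsg.pPrimeCore p ↥(Subgroup.normalizer (P : Set G)))).comap
      (QuotientGroup.mk' (Cfsg.pPrimeCore p ↥(Subgroup.normalizer (P : Set G))))).map
      (Subgroup.normalizer (P : Set G)).subtype) ≤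
      Subgroup.centralizer (Cfsg.pCore p G : Set G) := by
  set N := Subgroup.normalizer (P : Set G) with hN
  set R := Cfsg.pPrimeCore p ↥N with hR
  set φ := QuotientGroup.mk' R with hφ
  set L := (Cfsg.layer (↥N ⧸ R)).comap φ with hL
  set Q := Cfsg.pCore p G with hQ
  haveI hTPn : (P.subgroupOf N).Normal := Subgroup.normal_in_normalizer
  have hTP : IsPGroup p ↥(P.subgroupOf N) := hP.comap_subtype
  haveI hTQn : (Q.subgroupOf N).Normal := inferInstance
  have hTQ : IsPGroup p ↥(Q.subgroupOf N) := (pCore_isPGroup p).comap_subtype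
  have hcP := comap_layer_commutator_eq_bot p (P.subgroupOf N) hTP
  have hcQ := comap_layer_commutator_eq_bot p (Q.subgroupOf N) hTQ
  have hQtop : Subgroup.normalizer (Q : Set G) = ⊤ := Subgroup.normalizer_eq_top Q
  have step2 : ∀ x : ↥N, x ∈ L → (orderOf x).Coprime p →
      (x : G) ∈ Subgroup.centralizer (Q : Set G) := by
    intro x hx hcop
    apply thompson_AxB_element p Q P (pCore_isPGroup p) hP _ (x : G) _ _ _ _
    · rw [hQtop]; exact le_top
    · rw [hQtop]; exact Subgroup.mem_top _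
    · rw [Subgroup.orderOf_coe]; exact hcop
    · rw [Subgroup.mem_centralizer_iff]
      intro y hy
      have hyN : y ∈ N := Subgroup.le_normalizer hy
      have hy' : (⟨y, hyN⟩ : ↥N) ∈ P.subgroupOf N := Subgroup.mem_subgroupOf.mpr hy
      have hcomm := (Subgroup.commutator_eq_bot_iff_le_centralizer.mp hcP) hx
      have := Subgroup.mem_centralizer_iff.mp hcomm ⟨y, hyN⟩ hy'
      exact congrArg Subtype.val this
    · rw [Subgroup.mem_centralizer_iff]
      intro y hy
      have hyN : y ∈ N := Subgroup.centralizer_le_normalizer _ hy.2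
      have hy' : (⟨y, hyN⟩ : ↥N) ∈ Q.subgroupOf N := Subgroup.mem_subgroupOf.mpr hy.1
      have hcomm := (Subgroup.commutator_eq_bot_iff_le_centralizer.mp hcQ) hx
      have := Subgroup.mem_centralizer_iff.mp hcomm ⟨y, hyN⟩ hy'
      exact congrArg Subtype.val this
  set C' := (Subgroup.centralizer (Q : Set G)).subgroupOf N with hC'
  haveI : C'.Normal := inferInstance
  have hsurj : Function.Surjective φ := QuotientGroup.mk'_surjective R
  haveI : (C'.map φ).Normal := Subgroup.Normal.map inferInstance φ hsurj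
  have hE : Cfsg.layer (↥N ⧸ R) ≤ C'.map φ := by
    apply le_of_perfect_of_pow_mem p _ _ layer_perfect
    intro e he
    obtain ⟨x, rfl⟩ := hsurj e
    obtain ⟨k, hk⟩ := exists_pow_coprime p x
    refine ⟨k, ?_⟩
    rw [← map_pow]
    apply Subgroup.mem_map_of_mem
    rw [hC', Subgroup.mem_subgroupOf]
    exact step2 (x ^ p ^ k) (L.pow_mem he _) hk
  have hRC : R ≤ C' := by
    intro r hr
    rw [hC', Subgroup.mem_subgroupOf]
    apply step2 r
    · rw [hL, Subgroup.mem_comap]
      have : φ r = 1 := (QuotientGroup.eq_one_iff r).mpr hr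
      rw [this]; exact one_mem _
    · exact Nat.Coprime.coprime_dvd_left (Subgroup.orderOf_dvd_natCard R hr)
        (Cfsg.Agent.Helper22.card_pPrimeCore_coprime p)
  rintro y ⟨x, hx, rfl⟩
  have hx1 : φ x ∈ C'.map φ := hE hx
  obtain ⟨c, hc, hcx⟩ := hx1
  have hcR : c⁻¹ * x ∈ R := by
    rw [← QuotientGroup.eq]; exact hcx
  have hx' : x ∈ C' := by
    have := C'.mul_mem hc (hRC hcR)
    simpa using this
  exact Subgroup.mem_subgroupOf.mp hx'

end Cfsg.Agent.Helper7
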