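import Mathlib
import Cfsg.Prelude.Def_Local
import Cfsg.Agent.Lib.Helper7.PLocal5
import Cfsg.Agent.Lib.Helper7.PLocal6
import Cfsg.Agent.Lib.Helper7.PLocal3
import Cfsg.Agent.Lib.Helper10.PTerminal

set_option autoImplicit false

namespace Cfsg.Agent.Helper7

open Subgroup
open scoped commutatorElement

section transport

variable {A B : Type*} [Group A] [Group B] [Finite A] (p : ℕ) [hp : Fact p.Prime]

/-- `p`-constraint is invariant under isomorphism. -/
theorem isPConstrained_of_mulEquiv (e : A ≃* B) (h : Cfsg.IsPConstrained p A) :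
    Cfsg.IsPConstrained p B := by
  haveI : Finite B := Finite.of_equiv A e.toEquiv
  rw [isPConstrained_iff_centralizer_le] at h ⊢
  have hmap : (Cfsg.pPrimeCore p A).map (e : A →* B) = Cfsg.pPrimeCore p B :=
    Cfsg.Agent.Helper10.pPrimeCore_map_mulEquiv p e
  haveI : (Cfsg.pPrimeCore p A).Normal := Cfsg.Agent.Helper22.pPrimeCore_normal p
  haveI : (Cfsg.pPrimeCore p B).Normal := Cfsg.Agent.Helper22.pPrimeCore_normal p
  exact centralizer_pCore_le_of_mulEquiv p
    (QuotientGroup.congr (Cfsg.pPrimeCore p A) (Cfsg.pPrimeCore p B) e hmap) h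

/-- transfer of "quotient by the `p'`-core is quasisimple" along an isomorphism -/
theorem isQuasisimple_quotient_pPrimeCore_of_mulEquiv (e : A ≃* B)
    (h : Cfsg.IsQuasisimple (A ⧸ Cfsg.pPrimeCore p A)) :
    Cfsg.IsQuasisimple (B ⧸ Cfsg.pPrimeCore p B) := by
  haveI : Finite B := Finite.of_equiv A e.toEquiv
  have hmap : (Cfsg.pPrimeCore p A).map (e : A →* B) = Cfsg.pPrimeCore p B :=
    Cfsg.Agent.Helper10.pPrimeCore_map_mulEquiv p e
  haveI : (Cfsg.pPrimeCore p A).Normal := Cfsg.Agent.Helper22.pPrimeCore_normal p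
  haveI : (Cfsg.pPrimeCore p B).Normal := Cfsg.Agent.Helper22.pPrimeCore_normal p
  exact isQuasisimple_of_mulEquiv
    (QuotientGroup.congr (Cfsg.pPrimeCore p A) (Cfsg.pPrimeCore p B) e hmap) h

end transport

section main

variable {X : Type*} [Group X] [Finite X] (p : ℕ) [hp : Fact p.Prime]

/-- A subnormal subgroup `K` with `K / O_{p'}(K)` quasisimple forces `L_{p'}(X) ≠ 1`. -/
theorem pLayer_ne_bot_of_isSubnormal_of_isQuasisimple {K : Subgroup X} (hK : K.IsSubnormal)
    (hq : Cfsg.IsQuasisimple (↥K ⧸ Cfsg.pPrimeCore p ↥K)) : Cfsg.pLayer p X ≠ ⊥ := by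
  intro hbot
  have hc : Cfsg.IsComponent (K.map (QuotientGroup.mk' (Cfsg.pPrimeCore p X))) :=
    ⟨hK.map (QuotientGroup.mk'_surjective _),
      isQuasisimple_of_mulEquiv (quotientPPrimeCoreEquiv p hK) hq⟩
  have h1 := component_le_layer hc
  rw [← map_pLayer_eq_layer p, hbot, Subgroup.map_bot, le_bot_iff] at h1
  exact component_ne_bot hc h1

variable {G : Type*} [Group G] [Finite G]

/-- `p`-locals of `p`-constrained subgroups are `p`-constrained. -/
theorem isPConstrained_normalizer_inf (H : Subgroup G) (hH : Cfsg.IsPConstrained p ↥H)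
    (T : Subgroup G) (hTH : T ≤ H) (hT : IsPGroup p ↥T) :
    Cfsg.IsPConstrained p ↥(Subgroup.normalizer (T : Set G) ⊓ H) := by
  have h1 : Cfsg.pLayer p ↥H = ⊥ := (isPConstrained_iff_pLayer_eq_bot p).mp hH
  have h2 := (pLayer_normalizer_eq_bot p h1 (T.subgroupOf H) hT.comap_subtype).1
  have h3 : Cfsg.IsPConstrained p ↥(Subgroup.normalizer ((T.subgroupOf H : Subgroup ↥H) : Set ↥H)) :=
    (isPConstrained_iff_pLayer_eq_bot p).mpr h2
  have h4 : Subgroup.normalizer ((T.subgroupOf H : Subgroup ↥H) : Set ↥H) =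
      (Subgroup.normalizer (T : Set G) ⊓ H).subgroupOf H := by
    rw [← Subgroup.subgroupOf_normalizer_eq hTH, Subgroup.inf_subgroupOf_right]
  rw [h4] at h3
  exact isPConstrained_of_mulEquiv p (Subgroup.subgroupOfEquivOfLe inf_le_right) h3

/-- An element of order `p` in the centre of a nontrivial `p`-subgroup. -/
theorem exists_orderOf_eq_prime_centralizing {T : Subgroup G} (hT : IsPGroup p ↥T) (hT1 : T ≠ ⊥) :
    ∃ x ∈ T, orderOf x = p ∧ ∀ t ∈ T, t * x = x * t := by
  haveI : Nontrivial ↥T := (Subgroup.nontrivial_iff_ne_bot T).mpr hT1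
  haveI := hT.center_nontrivial
  have hZ : IsPGroup p ↥(Subgroup.center ↥T) := hT.to_subgroup _
  obtain ⟨n, hn⟩ := IsPGroup.iff_card.mp hZ
  have hn0 : n ≠ 0 := by
    rintro rfl
    rw [pow_zero] at hn
    have := (Nat.card_eq_one_iff_unique.mp hn).1
    exact not_subsingleton _ this
  have hdvd : p ∣ Nat.card ↥(Subgroup.center ↥T) := by
    rw [hn]; exact dvd_pow_self p hn0
  haveI : Fintype ↥(Subgroup.center ↥T) := Fintype.ofFinite _
  rw [Nat.card_eq_fintype_card] at hdvd
  obtain ⟨x, hx⟩ := exists_prime_orderOf_dvd_card p hdvd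
  refine ⟨((x : ↥T) : G), (x : ↥T).2, ?_, ?_⟩
  · rw [Subgroup.orderOf_coe, Subgroup.orderOf_coe, hx]
  · intro t ht
    have := Subgroup.mem_center_iff.mp x.2 ⟨t, ht⟩
    exact congrArg Subtype.val this

/-- If the centralizer of every element of order `p` is `p`-constrained, so is every `p`-local. -/
theorem isPConstrained_normalizer_of_centralizers
    (h : ∀ x : G, orderOf x = p → Cfsg.IsPConstrained p ↥(Subgroup.centralizer ({x} : Set G)))
    (T : Subgroup G) (hT : IsPGroup p ↥T) (hT1 : T ≠ ⊥) :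
    Cfsg.IsPConstrained p ↥(Subgroup.normalizer (T : Set G)) := by
  obtain ⟨x, hxT, hxo, hxc⟩ := exists_orderOf_eq_prime_centralizing p hT hT1
  set N := Subgroup.normalizer (T : Set G) with hN
  set C := Subgroup.centralizer ({x} : Set G) with hC
  have hTC : T ≤ C := by
    intro t ht
    rw [hC, Subgroup.mem_centralizer_iff]
    intro y hy
    rw [Set.mem_singleton_iff] at hy
    rw [hy]; exact (hxc t ht).symm
  have hNC : Cfsg.IsPConstrained p ↥(N ⊓ C) := isPConstrained_normalizer_inf p C (h x hxo) T hTC hT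
  rw [isPConstrained_iff_pLayer_eq_bot]
  by_contra hne
  have hex : ∃ K₀ : Subgroup ↥N, Cfsg.IsPComponent p K₀ := by
    by_contra hno
    push_neg at hno
    apply hne
    unfold Cfsg.pLayer
    rw [sSup_eq_bot]
    intro K hK
    exact absurd hK (hno K)
  obtain ⟨K₀, hK₀⟩ := hex
  set KG := K₀.map N.subtype with hKG
  have hTN : T ≤ N := Subgroup.le_normalizer
  haveI hTn : (T.subgroupOf N).Normal := Subgroup.normal_in_normalizer
  have hcomm := comap_layer_commutator_eq_bot p (T.subgroupOf N) hT.comap_subtype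
  have hK₀le : K₀ ≤ (Cfsg.layer (↥N ⧸ Cfsg.pPrimeCore p ↥N)).comap
      (QuotientGroup.mk' (Cfsg.pPrimeCore p ↥N)) := by
    rw [← Subgroup.map_le_iff_le_comap]
    exact (Subgroup.map_mono (IsPComponent.le_pLayer p hK₀)).trans (map_pLayer_le_layer p)
  have hKGC : KG ≤ C := by
    rintro _ ⟨k, hk, rfl⟩
    rw [hC, Subgroup.mem_centralizer_iff]
    intro y hy
    rw [Set.mem_singleton_iff] at hy
    subst hy
    have h1 := Subgroup.commutator_eq_bot_iff_le_centralizer.mp hcomm (hK₀le hk)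
    have h2 := Subgroup.mem_centralizer_iff.mp h1 ⟨y, hTN hxT⟩
      (Subgroup.mem_subgroupOf.mpr hxT)
    exact congrArg Subtype.val h2
  have hKGN : KG ≤ N := Subgroup.map_subtype_le _
  have hKGle : KG ≤ N ⊓ C := le_inf hKGN hKGC
  have hsub0 : (KG.subgroupOf N).IsSubnormal := by
    have : KG.subgroupOf N = K₀ :=
      Subgroup.comap_map_eq_self_of_injective N.subtype_injective K₀
    rw [this]; exact hK₀.1
  have hsub : (KG.subgroupOf (N ⊓ C)).IsSubnormal :=
    isSubnormal_subgroupOf_of_le inf_le_left hsub0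
  have e : ↥K₀ ≃* ↥(KG.subgroupOf (N ⊓ C)) :=
    (K₀.equivMapOfInjective N.subtype N.subtype_injective).trans
      (Subgroup.subgroupOfEquivOfLe hKGle).symm
  have hq := isQuasisimple_quotient_pPrimeCore_of_mulEquiv p e
    (IsPComponent.isQuasisimple_quotient p hK₀)
  exact pLayer_ne_bot_of_isSubnormal_of_isQuasisimple p hsub hq
    ((isPConstrained_iff_pLayer_eq_bot p).mp hNC)

end main

end Cfsg.Agent.Helper7
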