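import Mathlib
import Cfsg.Prelude.Def_Local
import Cfsg.Prelude.Def_Amalgam
import Cfsg.Agent.Lib.Helper7.PComp4
import Cfsg.Agent.Lib.Helper7.PCons1
import Cfsg.Agent.Lib.Helper7.Bender

set_option autoImplicit false

namespace Cfsg.Agent.Helper7

open Subgroup
open scoped commutatorElement

section intrinsic

variable {X : Type*} [Group X] [Finite X] (p : ℕ) [hp : Fact p.Prime]

/-- `K / O_{p'}(K)` quasisimple forces `p ∣ |K|`. -/
theorem dvd_card_of_isQuasisimple_quotient {K : Subgroup X}
    (hq : Cfsg.IsQuasisimple (↥K ⧸ Cfsg.pPrimeCore p ↥K)) : p ∣ Nat.card ↥K := by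
  by_contra hnd
  have hcop : (Nat.card ↥K).Coprime p :=
    ((Nat.Prime.coprime_iff_not_dvd hp.out).mpr hnd).symm
  have htop : Cfsg.pPrimeCore p ↥K = ⊤ := by
    apply le_antisymm le_top
    apply Cfsg.Agent.Helper22.le_pPrimeCore
    · infer_instance
    · rw [Subgroup.card_top]; exact hcop
  haveI := quasisimple_nontrivial hq
  have : Subsingleton (↥K ⧸ Cfsg.pPrimeCore p ↥K) := by
    rw [htop]
    exact QuotientGroup.subsingleton_quotient_top
  exact not_subsingleton _ this

/-- intrinsic characterization of `p`-components: a subnormal perfect subgroup generated by its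
`p`-elements whose quotient by its `p'`-core is quasisimple is a `p`-component. -/
theorem isPComponent_of_intrinsic {K : Subgroup X} (hK : K.IsSubnormal) (hperf : ⁅K, K⁆ = K)
    (hgen : Cfsg.pElementClosure p K = K)
    (hq : Cfsg.IsQuasisimple (↥K ⧸ Cfsg.pPrimeCore p ↥K)) : Cfsg.IsPComponent p K := by
  have hc : Cfsg.IsComponent (K.map (QuotientGroup.mk' (Cfsg.pPrimeCore p X))) :=
    ⟨hK.map (QuotientGroup.mk'_surjective _),
      isQuasisimple_of_mulEquiv (quotientPPrimeCoreEquiv p hK) hq⟩
  have hP := isPComponent_pElementClosure_comap p hc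
  have hle : K ≤ Cfsg.pElementClosure p ((K.map (QuotientGroup.mk' (Cfsg.pPrimeCore p X))).comap
      (QuotientGroup.mk' (Cfsg.pPrimeCore p X))) := by
    conv_lhs => rw [← hgen]
    exact pElementClosure_mono p (Subgroup.le_comap_map _ _)
  have := IsPComponent.eq_of_perfect p hP hle hK hperf (dvd_card_of_isQuasisimple_quotient p hq)
  rw [this]
  exact hP

end intrinsic

section surj

variable {A B : Type*} [Group A] [Group B] [Finite A] (p : ℕ) [hp : Fact p.Prime]

/-- a finite group with no element of order `p` has order prime to `p` -/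
theorem coprime_card_of_forall_orderOf_ne {H : Type*} [Group H] [Finite H]
    (h : ∀ x : H, orderOf x ≠ p) : (Nat.card H).Coprime p := by
  apply Nat.Coprime.symm
  rw [Nat.Prime.coprime_iff_not_dvd hp.out]
  intro hdvd
  obtain ⟨x, hx⟩ := exists_prime_orderOf_dvd_card' p hdvd
  exact h x hx

/-- the preimage of the `p'`-core under a surjection with `p'`-kernel is the `p'`-core -/
theorem comap_pPrimeCore_of_surjective (f : A →* B) (hf : Function.Surjective f)
    (hker : (Nat.card ↥f.ker).Coprime p) :
    (Cfsg.pPrimeCore p B).comap f = Cfsg.pPrimeCore p A := by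
  haveI : Finite B := Finite.of_surjective f hf
  haveI hBn : (Cfsg.pPrimeCore p B).Normal := Cfsg.Agent.Helper22.pPrimeCore_normal p
  haveI hAn : (Cfsg.pPrimeCore p A).Normal := Cfsg.Agent.Helper22.pPrimeCore_normal p
  apply le_antisymm
  · apply Cfsg.Agent.Helper22.le_pPrimeCore
    · infer_instance
    · apply coprime_card_of_forall_orderOf_ne
      rintro ⟨x, hx⟩ hxo
      rw [Subgroup.orderOf_mk] at hxo
      have h1 : f x = 1 := by
        have hx' : f x ∈ Cfsg.pPrimeCore p B := hx
        have h2 : (orderOf (f x)).Coprime p := by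
          have h3 : orderOf (⟨f x, hx'⟩ : ↥(Cfsg.pPrimeCore p B)) ∣ Nat.card ↥(Cfsg.pPrimeCore p B) :=
            orderOf_dvd_natCard _
          rw [Subgroup.orderOf_mk] at h3
          exact Nat.Coprime.coprime_dvd_left h3 (Cfsg.Agent.Helper22.card_pPrimeCore_coprime p)
        have h4 : orderOf (f x) ∣ p := by
          rw [← hxo]; exact orderOf_map_dvd f x
        have h5 : orderOf (f x) = 1 := Nat.eq_one_of_dvd_coprimes h2 dvd_rfl h4 |>.symm ▸ rfl
        exact orderOf_eq_one_iff.mp h5
      have h6 : x ∈ f.ker := h1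
      have h7 : orderOf (⟨x, h6⟩ : ↥f.ker) ∣ Nat.card ↥f.ker := orderOf_dvd_natCard _
      rw [Subgroup.orderOf_mk, hxo] at h7
      have := Nat.Coprime.coprime_dvd_left h7 hker
      exact hp.out.one_lt.ne' ((Nat.coprime_self p).mp this)
  · rw [← Subgroup.map_le_iff_le_comap]
    apply Cfsg.Agent.Helper22.le_pPrimeCore
    · exact hAn.map f hf
    · exact Nat.Coprime.coprime_dvd_left (Subgroup.card_map_dvd _ _)
        (Cfsg.Agent.Helper22.card_pPrimeCore_coprime p)



theorem no_orderOf_eq_of_coprime_card {H : Type*} [Group H] [Finite H]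
    (h : (Nat.card H).Coprime p) (x : H) : orderOf x ≠ p := by
  intro hx
  have h7 : orderOf x ∣ Nat.card H := orderOf_dvd_natCard _
  rw [hx] at h7
  have := Nat.Coprime.coprime_dvd_left h7 h
  exact hp.out.one_lt.ne' ((Nat.coprime_self p).mp this)

/-- `A / O_{p'}(A) ≃ B / O_{p'}(B)` for a surjection `A → B` with `p'`-kernel -/
noncomputable def quotientPPrimeCoreEquivOfSurjective (f : A →* B) (hf : Function.Surjective f)
    (hker : (Nat.card ↥f.ker).Coprime p) :
    A ⧸ Cfsg.pPrimeCore p A ≃* B ⧸ Cfsg.pPrimeCore p B :=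
  haveI : (Cfsg.pPrimeCore p B).Normal := Cfsg.Agent.Helper22.pPrimeCore_normal p
  haveI : (Cfsg.pPrimeCore p A).Normal := Cfsg.Agent.Helper22.pPrimeCore_normal p
  (QuotientGroup.quotientMulEquivOfEq (by
    rw [← MonoidHom.comap_ker, QuotientGroup.ker_mk']
    exact (comap_pPrimeCore_of_surjective p f hf hker).symm)).trans
  (QuotientGroup.quotientKerEquivOfSurjective ((QuotientGroup.mk' (Cfsg.pPrimeCore p B)).comp f)
    ((QuotientGroup.mk'_surjective _).comp hf))

theorem isQuasisimple_quotient_pPrimeCore_of_surjective (f : A →* B) (hf : Function.Surjective f)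
    (hker : (Nat.card ↥f.ker).Coprime p)
    (h : Cfsg.IsQuasisimple (A ⧸ Cfsg.pPrimeCore p A)) :
    Cfsg.IsQuasisimple (B ⧸ Cfsg.pPrimeCore p B) :=
  isQuasisimple_of_mulEquiv (quotientPPrimeCoreEquivOfSurjective p f hf hker) h

/-- the image of a `p`-component under a surjection with `p'`-kernel is a `p`-component -/
theorem IsPComponent.map_of_surjective {K : Subgroup A} (hK : Cfsg.IsPComponent p K)
    (f : A →* B) (hf : Function.Surjective f) (hker : (Nat.card ↥f.ker).Coprime p) :
    Cfsg.IsPComponent p (K.map f) := by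
  haveI : Finite B := Finite.of_surjective f hf
  apply isPComponent_of_intrinsic p (hK.1.map hf)
  · rw [← Subgroup.map_commutator, IsPComponent.perfect p hK]
  · apply le_antisymm (pElementClosure_le' p _)
    conv_lhs => rw [← IsPComponent.pElementClosure_eq p hK]
    rw [Subgroup.map_le_iff_le_comap]
    apply pElementClosure_le_of_forall
    rintro x hx ⟨k, hk⟩
    rw [Subgroup.mem_comap]
    apply mem_pElementClosure (Subgroup.mem_map_of_mem f hx)
    have h1 : orderOf (f x) ∣ p ^ k := by rw [← hk]; exact orderOf_map_dvd f x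
    obtain ⟨j, _, hj⟩ := (Nat.dvd_prime_pow hp.out).mp h1
    exact ⟨j, hj⟩
  · apply isQuasisimple_quotient_pPrimeCore_of_surjective p (f.subgroupMap K)
      (f.subgroupMap_surjective K) _ (IsPComponent.isQuasisimple_quotient p hK)
    apply coprime_card_of_forall_orderOf_ne
    rintro ⟨x, hx⟩ hxo
    rw [Subgroup.orderOf_mk] at hxo
    have h1 : (x : A) ∈ f.ker := by
      have := congrArg Subtype.val (MonoidHom.mem_ker.mp hx)
      simpa using this
    apply no_orderOf_eq_of_coprime_card p hker ⟨(x : A), h1⟩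
    rw [Subgroup.orderOf_mk, Subgroup.orderOf_coe, hxo]

end surj

section dichotomy

variable {X : Type*} [Group X] [Finite X] (p : ℕ) [hp : Fact p.Prime]

/-- a `p`-component lies in a normal subgroup or commutes with it modulo the `p'`-core -/
theorem IsPComponent.le_or_commutator_le {K : Subgroup X} (hK : Cfsg.IsPComponent p K)
    (U : Subgroup X) [hU : U.Normal] : K ≤ U ∨ ⁅K, U⁆ ≤ Cfsg.pPrimeCore p X := by
  haveI : (Cfsg.pPrimeCore p X).Normal := Cfsg.Agent.Helper22.pPrimeCore_normal p
  have hUn : (U.map (QuotientGroup.mk' (Cfsg.pPrimeCore p X))).Normal :=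
    hU.map _ (QuotientGroup.mk'_surjective _)
  rcases component_le_or_commutator_eq_bot' _ _ hK.2.1 hUn.isSubnormal with h | h
  · left
    exact IsPComponent.le_of_map_le p hK hU.isSubnormal h
  · right
    rw [← Subgroup.map_commutator, Subgroup.map_eq_bot_iff, QuotientGroup.ker_mk'] at h
    exact h

/-- A perfect subgroup all of whose `p'`-elements lie in `M` lies in `M`. -/
theorem perfect_le_of_coprime {G : Type*} [Group G] [Finite G] (p : ℕ) [Fact p.Prime]
    (L M : Subgroup G) (hperf : ⁅L, L⁆ = L)
    (h : ∀ u ∈ L, (orderOf u).Coprime p → u ∈ M) : L ≤ M := by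
  have hperf' : ⁅(⊤ : Subgroup L), (⊤ : Subgroup L)⁆ = ⊤ := by
    apply Subgroup.map_injective (Subgroup.subtype_injective L)
    rw [Subgroup.map_commutator, ← MonoidHom.range_eq_map, Subgroup.range_subtype, hperf]
  have hcl := closure_coprime_eq_top_of_perfect p hperf'
  intro l hl
  have hmem : (⟨l, hl⟩ : L) ∈ Subgroup.closure {g : L | (orderOf g).Coprime p} := by
    rw [hcl]; exact Subgroup.mem_top _
  have key : ∀ g : L, g ∈ Subgroup.closure {g : L | (orderOf g).Coprime p} →
      (g : G) ∈ M := by
    intro g hg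
    induction hg using Subgroup.closure_induction with
    | mem x hx =>
      apply h _ x.2
      rw [Subgroup.orderOf_coe]
      exact hx
    | one => exact Subgroup.one_mem _
    | mul x y _ _ hx hy => exact Subgroup.mul_mem _ hx hy
    | inv x _ hx => exact Subgroup.inv_mem _ hx
  exact key _ hmem

end dichotomy

end Cfsg.Agent.Helper7
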