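import Mathlib
import Cfsg.Agent.Lib.Helper7.LBalD

set_option autoImplicit false

namespace Cfsg.Agent.Helper7

open Subgroup
open scoped commutatorElement

universe u

variable {G : Type u} [Group G]

/-- **Claim 2**: if `O(G) = 1`, `t` is a 2-element normalizing the component `L`, and `R` is a
normal subgroup of odd order of `C_G(t)` centralizing `Z(L)`, then `R` normalizes `L`. -/
theorem le_normalizer_component_of_odd [Finite G] (hO : Cfsg.pPrimeCore 2 G = ⊥) {t : G}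
    (ht2 : ∃ k, orderOf t = 2 ^ k) {L : Subgroup G} (hL : Cfsg.IsComponent L)
    (htL : t ∈ Subgroup.normalizer (L : Set G))
    (R : Subgroup G) (hRx : ∀ r ∈ R, r * t = t * r)
    (hRn : ∀ c : G, c * t = t * c → ∀ r ∈ R, c * r * c⁻¹ ∈ R)
    (hRp : ∀ r ∈ R, Odd (orderOf r))
    (hRZ : R ≤ Subgroup.centralizer ((L ⊓ Subgroup.centralizer (L : Set G) : Subgroup G) : Set G)) :
    R ≤ Subgroup.normalizer (L : Set G) := by
  haveI : Fact (Nat.Prime 2) := ⟨Nat.prime_two⟩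
  intro r hr
  by_contra hrN
  have hr2N : r ^ 2 ∉ Subgroup.normalizer (L : Set G) := by
    intro h
    obtain ⟨m, hm⟩ := hRp r hr
    apply hrN
    have h1 : r = (r ^ 2) ^ (m + 1) := by
      rw [← pow_mul]
      have : 2 * (m + 1) = orderOf r + 1 := by omega
      rw [this, pow_succ, pow_orderOf_eq_one, one_mul]
    rw [h1]
    exact Subgroup.pow_mem _ h _
  obtain ⟨l, hlL, hlp, hlZ, hlt⟩ := exists_pElement_fixed_mod_center 2 hO hL ht2 htL
  set z := t * l * t⁻¹ * l⁻¹ with hz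
  have htl : t * l * t⁻¹ ∈ L := (Subgroup.mem_normalizer_iff.mp htL l).mp hlL
  have hzL : z ∈ L := L.mul_mem htl (L.inv_mem hlL)
  have hrz : r * z = z * r := by
    have := (Subgroup.mem_centralizer_iff.mp (hRZ hr)) z ⟨hzL, hlt⟩
    exact this.symm
  have htl' : t * l * t⁻¹ = z * l := by rw [hz]; group
  set v := l⁻¹ * (r * l * r⁻¹) with hv
  have hvt : v * t = t * v := by
    have hrt := hRx r hr
    have h1 : t * v * t⁻¹ = (t * l * t⁻¹)⁻¹ * (r * (t * l * t⁻¹) * r⁻¹) := by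
      have e1 : t * v * t⁻¹ = (t * l * t⁻¹)⁻¹ * ((t * r) * l * (t * r)⁻¹) := by
        rw [hv]; group
      have e2 : r * (t * l * t⁻¹) * r⁻¹ = (r * t) * l * (r * t)⁻¹ := by group
      rw [e1, e2, hrt]
    have h2 : (t * l * t⁻¹)⁻¹ * (r * (t * l * t⁻¹) * r⁻¹) = v := by
      rw [htl']
      calc (z * l)⁻¹ * (r * (z * l) * r⁻¹) = l⁻¹ * z⁻¹ * ((r * z) * l * r⁻¹) := by group
        _ = l⁻¹ * z⁻¹ * ((z * r) * l * r⁻¹) := by rw [hrz]
        _ = v := by rw [hv]; group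
    rw [h2] at h1
    calc v * t = (t * v * t⁻¹) * t := by rw [h1]
      _ = t * v := by group
  have hvinvt : v⁻¹ * t = t * v⁻¹ := by
    calc v⁻¹ * t = v⁻¹ * (t * v) * v⁻¹ := by group
      _ = v⁻¹ * (v * t) * v⁻¹ := by rw [hvt]
      _ = t * v⁻¹ := by group
  have hwR : v⁻¹ * (r * v * r⁻¹) ∈ R := by
    have h1 := hRn v⁻¹ hvinvt r hr
    rw [inv_inv] at h1
    have h2 : v⁻¹ * (r * v * r⁻¹) = (v⁻¹ * r * v) * r⁻¹ := by group
    rw [h2]
    exact R.mul_mem h1 (R.inv_mem hr)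
  have hu : r * l⁻¹ * r⁻¹ ∈ Subgroup.centralizer (L : Set G) :=
    conj_mem_centralizer_of_not_mem_normalizer hL hrN (L.inv_mem hlL)
  have hu' : r ^ 2 * l * (r ^ 2)⁻¹ ∈ Subgroup.centralizer (L : Set G) :=
    conj_mem_centralizer_of_not_mem_normalizer hL hr2N hlL
  have hwform : v⁻¹ * (r * v * r⁻¹) =
      (r * l⁻¹ * r⁻¹) * l * ((r * l⁻¹ * r⁻¹) * (r ^ 2 * l * (r ^ 2)⁻¹)) := by
    rw [hv, pow_two]; group
  have hsame : ∀ y ∈ L, (v⁻¹ * (r * v * r⁻¹)) * y * (v⁻¹ * (r * v * r⁻¹))⁻¹ = l * y * l⁻¹ := by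
    intro y hy
    rw [hwform]
    exact conj_eq_of_centralizer_mul hu (Subgroup.mul_mem _ hu hu') hlL hy
  have hwodd : (orderOf (v⁻¹ * (r * v * r⁻¹))).Coprime 2 :=
    (Nat.coprime_two_right).mpr (hRp _ hwR)
  exact hlZ (mem_centralizer_of_same_action 2 hlL hwodd hlp hsame)

end Cfsg.Agent.Helper7
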