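import Mathlib
import Cfsg.Agent.Lib.Helper7.LBalE
import Cfsg.Agent.Lib.Helper7.PLocal
import Cfsg.Agent.Lib.Helper7.Fitting2
import Cfsg.Agent.Lib.Helper1.FittingSolvable
import Cfsg.Agent.S0028

set_option autoImplicit false

namespace Cfsg.Agent.Helper7

open Subgroup
open scoped commutatorElement

universe u

variable {G : Type u} [Group G]

/-- the centre `L ∩ C(L)` of a component lies in the Fitting subgroup -/
theorem component_inf_centralizer_le_fittingSubgroup [Finite G] {L : Subgroup G}
    (hL : Cfsg.IsComponent L) :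
    L ⊓ Subgroup.centralizer (L : Set G) ≤ Cfsg.fittingSubgroup G := by
  set Z : Subgroup G := L ⊓ Subgroup.centralizer (L : Set G) with hZ
  have hLN : L ≤ Subgroup.normalizer (Z : Set G) := by
    intro g hg
    apply mem_normalizer_of_forall_conj_mem
    intro u hu
    exact conj_mem_inf_centralizer (Subgroup.le_normalizer hg) (Subgroup.le_normalizer hg) u hu
  have hsn : Z.IsSubnormal :=
    Subgroup.IsSubnormal.step Z L inf_le_left hL.1
      ((Subgroup.normal_subgroupOf_iff_le_normalizer inf_le_left).mpr hLN)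
  have : IsMulCommutative ↥Z := ⟨⟨by
    rintro ⟨a, ha⟩ ⟨b, hb⟩
    apply Subtype.ext
    exact ((Subgroup.mem_centralizer_iff.mp ha.2) b hb.1).symm⟩⟩
  exact subnormal_nilpotent_le_fittingSubgroup Z hsn (isNilpotent_of_isMulCommutative ↥Z)

/-- a component normalizing a subgroup `R` not containing it commutes with `R` -/
theorem component_commutator_eq_bot_of_not_le [Finite G] {L R : Subgroup G}
    (hL : Cfsg.IsComponent L) (hinv : L ≤ Subgroup.normalizer (R : Set G)) (hLR : ¬ L ≤ R) :
    ⁅L, R⁆ = ⊥ := by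
  set K : Subgroup G := L ⊔ R with hK
  have hLK : L ≤ K := le_sup_left
  have hRK : R ≤ K := le_sup_right
  have hKN : K ≤ Subgroup.normalizer (R : Set G) := sup_le hinv Subgroup.le_normalizer
  have hRn : (R.subgroupOf K).Normal := (Subgroup.normal_subgroupOf_iff_le_normalizer hRK).mpr hKN
  have hL' : Cfsg.IsComponent (L.subgroupOf K) := isComponent_subgroupOf hLK hL
  rcases component_le_or_commutator_eq_bot' _ _ hL' hRn.isSubnormal with h | h
  · exact absurd ((subgroupOf_le_subgroupOf_iff hLK).mp h) hLR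
  · exact (commutator_subgroupOf_eq_bot_iff hLK hRK).mp h

/-- **Theorem X**: in a group with `O(G) = 1`, a nontrivial subgroup `Y` of a normal subgroup `R`
of odd order of `C_G(t)`, `t` an involution, acts nontrivially on some component `L` normalized
but not centralized by `t`. -/
theorem exists_component_of_odd [Finite G] (hO : Cfsg.pPrimeCore 2 G = ⊥) (t : G)
    (ht : orderOf t = 2) (R : Subgroup G) (hRx : ∀ r ∈ R, r * t = t * r)
    (hRn : ∀ c : G, c * t = t * c → ∀ r ∈ R, c * r * c⁻¹ ∈ R)
    (hRc : (Nat.card ↥R).Coprime 2) (Y : Subgroup G) (hY1 : Y ≠ ⊥) (hYR : Y ≤ R) :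
    ∃ L : Subgroup G, Cfsg.IsComponent L ∧ t ∈ Subgroup.normalizer (L : Set G) ∧
      Y ≤ Subgroup.normalizer (L : Set G) ∧ t ∉ Subgroup.centralizer (L : Set G) ∧
      ¬ Y ≤ Subgroup.centralizer (L : Set G) := by
  classical
  haveI : Fact (Nat.Prime 2) := ⟨Nat.prime_two⟩
  have hRp : ∀ r ∈ R, (orderOf r).Coprime 2 := fun r hr =>
    Nat.Coprime.coprime_dvd_left (Subgroup.orderOf_dvd_natCard R hr) hRc
  have hRodd : ∀ r ∈ R, Odd (orderOf r) := fun r hr => (Nat.coprime_two_right).mp (hRp r hr)
  set Q : Subgroup G := Cfsg.pCore 2 G with hQ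
  have hQp : IsPGroup 2 ↥Q := pCore_isPGroup 2
  have hQn : Q.Normal := Cfsg.pCore_normal 2 G
  have hQR : Q ⊓ R = ⊥ := by
    apply disjoint_iff.mp
    apply Subgroup.disjoint_of_coprime_natCard
    obtain ⟨k, hk⟩ := hQp.exists_card_eq
    rw [hk]
    exact Nat.Coprime.pow_left k hRc.symm
  -- R centralizes O_2(G)
  have hRQ : R ≤ Subgroup.centralizer (Q : Set G) := by
    apply Cfsg.Agent.S0028.result 2 (Subgroup.zpowers t) R Q
    · apply IsPGroup.of_card (n := 1)
      rw [Nat.card_zpowers, ht, pow_one]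
    · exact hRc
    · exact hQp
    · rw [Subgroup.zpowers_le, Subgroup.mem_centralizer_iff]
      intro r hr
      exact hRx r hr
    · rw [Subgroup.normalizer_eq_top_iff.mpr hQn]; exact le_top
    · rw [Subgroup.normalizer_eq_top_iff.mpr hQn]; exact le_top
    · rintro u ⟨huQ, huC⟩
      have hut : u * t = t * u := by
        have h := (Subgroup.mem_centralizer_iff.mp huC) t (Subgroup.mem_zpowers t)
        exact h.symm
      rw [Subgroup.mem_centralizer_iff]
      intro r hr
      have hc1 : u * r * u⁻¹ * r⁻¹ ∈ R := R.mul_mem (hRn u hut r hr) (R.inv_mem hr)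
      have hc2 : u * r * u⁻¹ * r⁻¹ ∈ Q := by
        have : u * r * u⁻¹ * r⁻¹ = u * (r * u⁻¹ * r⁻¹) := by group
        rw [this]
        exact Q.mul_mem huQ (hQn.conj_mem _ (Q.inv_mem huQ) r)
      have hc : u * r * u⁻¹ * r⁻¹ ∈ Q ⊓ R := ⟨hc2, hc1⟩
      rw [hQR, Subgroup.mem_bot] at hc
      calc r * u = (u * r * u⁻¹ * r⁻¹)⁻¹ * (u * r) := by group
        _ = u * r := by rw [hc]; group
  have hFQ : Cfsg.fittingSubgroup G = Q := Cfsg.Agent.Helper1.fittingSubgroup_eq_pCore 2 hO
  -- a component not centralized by Y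
  have hexL : ∃ L : Subgroup G, Cfsg.IsComponent L ∧ ¬ Y ≤ Subgroup.centralizer (L : Set G) := by
    by_contra hcon
    push Not at hcon
    have h1 : Cfsg.layer G ≤ Subgroup.centralizer (Y : Set G) := by
      unfold Cfsg.layer
      apply sSup_le
      intro L hL
      exact (Subgroup.le_centralizer_iff).mp (hcon L hL)
    have h2 : Cfsg.fittingSubgroup G ≤ Subgroup.centralizer (Y : Set G) := by
      rw [hFQ]
      exact (Subgroup.le_centralizer_iff).mp (hYR.trans hRQ)
    have h3 : Cfsg.generalizedFittingSubgroup G ≤ Subgroup.centralizer (Y : Set G) :=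
      sup_le h1 h2
    have h4 : Y ≤ Subgroup.centralizer (Cfsg.generalizedFittingSubgroup G : Set G) :=
      (Subgroup.le_centralizer_iff).mp h3
    set C := Subgroup.centralizer (Cfsg.generalizedFittingSubgroup G : Set G) with hC
    have hCle : C ≤ Cfsg.generalizedFittingSubgroup G := centralizer_generalizedFittingSubgroup_le
    have : IsMulCommutative ↥C := ⟨⟨by
      rintro ⟨a, ha⟩ ⟨b, hb⟩
      apply Subtype.ext
      exact ((Subgroup.mem_centralizer_iff.mp ha) b (hCle hb)).symm⟩⟩
    have : C.Normal := by rw [hC]; infer_instance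
    have h5 : C ≤ Cfsg.fittingSubgroup G :=
      le_fittingSubgroup C (isNilpotent_of_isMulCommutative ↥C)
    have h6 : Y ≤ Q ⊓ R := le_inf (hFQ ▸ (h4.trans h5)) hYR
    rw [hQR] at h6
    exact hY1 (le_bot_iff.mp h6)
  obtain ⟨L, hL, hYL⟩ := hexL
  have hnR : ¬ ⁅L, R⁆ = ⊥ := by
    intro h
    apply hYL
    have : R ≤ Subgroup.centralizer (L : Set G) :=
      (Subgroup.le_centralizer_iff).mp ((Subgroup.commutator_eq_bot_iff_le_centralizer).mp h)
    exact hYR.trans this
  have htN : t ∈ Subgroup.normalizer (L : Set G) := by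
    by_contra htN
    exact hnR (commutator_eq_bot_of_not_mem_normalizer 2 hO ht hL htN R hRx hRn hRp)
  have hRZ : R ≤ Subgroup.centralizer
      ((L ⊓ Subgroup.centralizer (L : Set G) : Subgroup G) : Set G) := by
    refine hRQ.trans (Subgroup.centralizer_le ?_)
    have := component_inf_centralizer_le_fittingSubgroup hL
    rw [hFQ] at this
    exact this
  have hRN : R ≤ Subgroup.normalizer (L : Set G) :=
    le_normalizer_component_of_odd hO ⟨1, by rw [ht, pow_one]⟩ hL htN R hRx hRn hRodd hRZ
  refine ⟨L, hL, htN, hYR.trans hRN, ?_, hYL⟩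
  intro htC
  apply hnR
  -- L ≤ C(t) normalizes R
  have hLR : L ≤ Subgroup.normalizer (R : Set G) := by
    intro l hl
    apply mem_normalizer_of_forall_conj_mem
    intro r hr
    have hlt : l * t = t * l := (Subgroup.mem_centralizer_iff.mp htC) l hl
    exact hRn l hlt r hr
  apply component_commutator_eq_bot_of_not_le hL hLR
  intro hle
  have hcop : (Nat.card ↥L).Coprime 2 :=
    Nat.Coprime.coprime_dvd_left (Subgroup.card_dvd_of_le hle) hRc
  exact component_not_coprime 2 hO hL hcop

end Cfsg.Agent.Helper7
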