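import Mathlib
import Cfsg.Agent.Lib.Helper7.LBalF

set_option autoImplicit false

namespace Cfsg.Agent.Helper7

open Subgroup
open scoped commutatorElement

universe u

variable {G : Type u} [Group G]

/-- **Claim 2 for a general prime**: if `O_{p'}(G) = 1`, `t` is a `p`-element normalizing the
component `L`, and `R` is a normal `p'`-subgroup of `C_G(t)` centralizing `Z(L)`, then `R`
normalizes `L`. -/
theorem le_normalizer_component_of_coprime [Finite G] (p : ℕ) [hp : Fact p.Prime]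
    (hO : Cfsg.pPrimeCore p G = ⊥) {t : G}
    (ht2 : ∃ k, orderOf t = p ^ k) {L : Subgroup G} (hL : Cfsg.IsComponent L)
    (htL : t ∈ Subgroup.normalizer (L : Set G))
    (R : Subgroup G) (hRx : ∀ r ∈ R, r * t = t * r)
    (hRn : ∀ c : G, c * t = t * c → ∀ r ∈ R, c * r * c⁻¹ ∈ R)
    (hRp : ∀ r ∈ R, (orderOf r).Coprime p)
    (hRZ : R ≤ Subgroup.centralizer ((L ⊓ Subgroup.centralizer (L : Set G) : Subgroup G) : Set G)) :
    R ≤ Subgroup.normalizer (L : Set G) := by
  have hpp := hp.out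
  intro r hr
  by_contra hrN
  obtain ⟨l, hlL, hlp, hlZ, hlt⟩ := exists_pElement_fixed_mod_center p hO hL ht2 htL
  set z := t * l * t⁻¹ * l⁻¹ with hz
  have htl : t * l * t⁻¹ ∈ L := (Subgroup.mem_normalizer_iff.mp htL l).mp hlL
  have hzL : z ∈ L := L.mul_mem htl (L.inv_mem hlL)
  have hrz : r * z = z * r := by
    have := (Subgroup.mem_centralizer_iff.mp (hRZ hr)) z ⟨hzL, hlt⟩
    exact this.symm
  have htl' : t * l * t⁻¹ = z * l := by rw [hz]; group
  set v := l⁻¹ * (r * l * r⁻¹) with hv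
  have hvt : v * t = t * v := by
    have hrt := hRx r hr
    have h1 : t * v * t⁻¹ = (t * l * t⁻¹)⁻¹ * (r * (t * l * t⁻¹) * r⁻¹) := by
      have e1 : t * v * t⁻¹ = (t * l * t⁻¹)⁻¹ * ((t * r) * l * (t * r)⁻¹) := by
        rw [hv]; group
      have e2 : r * (t * l * t⁻¹) * r⁻¹ = (r * t) * l * (r * t)⁻¹ := by group
      rw [e1, e2, hrt]
    have h2 : (t * l * t⁻¹)⁻¹ * (r * (t * l * t⁻¹) * r⁻¹) = v := by
      rw [htl']
      calc (z * l)⁻¹ * (r * (z * l) * r⁻¹) = l⁻¹ * z⁻¹ * ((r * z) * l * r⁻¹) := by group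
        _ = l⁻¹ * z⁻¹ * ((z * r) * l * r⁻¹) := by rw [hrz]
        _ = v := by rw [hv]; group
    rw [h2] at h1
    calc v * t = (t * v * t⁻¹) * t := by rw [h1]
      _ = t * v := by group
  have hvinvt : v⁻¹ * t = t * v⁻¹ := by
    calc v⁻¹ * t = v⁻¹ * (t * v) * v⁻¹ := by group
      _ = v⁻¹ * (v * t) * v⁻¹ := by rw [hvt]
      _ = t * v⁻¹ := by group
  have hwR : v⁻¹ * (r * v * r⁻¹) ∈ R := by
    have h1 := hRn v⁻¹ hvinvt r hr
    rw [inv_inv] at h1
    have h2 : v⁻¹ * (r * v * r⁻¹) = (v⁻¹ * r * v) * r⁻¹ := by group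
    rw [h2]
    exact R.mul_mem h1 (R.inv_mem hr)
  have hu : r * l⁻¹ * r⁻¹ ∈ Subgroup.centralizer (L : Set G) :=
    conj_mem_centralizer_of_not_mem_normalizer hL hrN (L.inv_mem hlL)
  have hwform : v⁻¹ * (r * v * r⁻¹) =
      (r * l⁻¹ * r⁻¹) * l * ((r * l⁻¹ * r⁻¹) * (r ^ 2 * l * (r ^ 2)⁻¹)) := by
    rw [hv, pow_two]; group
  have hwcop : (orderOf (v⁻¹ * (r * v * r⁻¹))).Coprime p := hRp _ hwR
  by_cases hr2N : r ^ 2 ∈ Subgroup.normalizer (L : Set G)
  · -- the orbit of `L` under `r` has length two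
    have hl'' : r ^ 2 * l * (r ^ 2)⁻¹ ∈ L := (Subgroup.mem_normalizer_iff.mp hr2N l).mp hlL
    -- conjugate back by r
    set w' := r⁻¹ * (v⁻¹ * (r * v * r⁻¹)) * r with hw'
    have hw'cop : (orderOf w').Coprime p := by
      have : w' = MulAut.conj r⁻¹ (v⁻¹ * (r * v * r⁻¹)) := by
        rw [MulAut.conj_apply, hw', inv_inv]
      rw [this, MulEquiv.orderOf_eq]
      exact hwcop
    have hrinvN : r⁻¹ ∉ Subgroup.normalizer (L : Set G) := fun h =>
      hrN (by simpa using Subgroup.inv_mem _ h)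
    -- r⁻¹ l r and r⁻¹ l'' r ... centralize L
    have hc1 : r⁻¹ * l * r⁻¹⁻¹ ∈ Subgroup.centralizer (L : Set G) :=
      conj_mem_centralizer_of_not_mem_normalizer hL hrinvN hlL
    have hc2 : r⁻¹ * (r ^ 2 * l * (r ^ 2)⁻¹) * r⁻¹⁻¹ ∈ Subgroup.centralizer (L : Set G) :=
      conj_mem_centralizer_of_not_mem_normalizer hL hrinvN hl''
    have hw'form : w' = (l⁻¹ * (r⁻¹ * l * r⁻¹⁻¹)) * l⁻¹ *
        (r⁻¹ * (r ^ 2 * l * (r ^ 2)⁻¹) * r⁻¹⁻¹) := by
      rw [hw', hwform]; group
    -- l⁻¹ commutes with r⁻¹ l r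
    have hcomm : l⁻¹ * (r⁻¹ * l * r⁻¹⁻¹) = (r⁻¹ * l * r⁻¹⁻¹) * l⁻¹ :=
      ((Subgroup.mem_centralizer_iff.mp hc1) l⁻¹ (L.inv_mem hlL))
    have hw'form2 : w' = (r⁻¹ * l * r⁻¹⁻¹) * (l⁻¹ * l⁻¹) *
        (r⁻¹ * (r ^ 2 * l * (r ^ 2)⁻¹) * r⁻¹⁻¹) := by
      rw [hw'form, hcomm]; group
    have hsame : ∀ y ∈ L, w' * y * w'⁻¹ = (l⁻¹ * l⁻¹) * y * (l⁻¹ * l⁻¹)⁻¹ := by
      intro y hy
      rw [hw'form2]
      exact conj_eq_of_centralizer_mul hc1 hc2 (L.mul_mem (L.inv_mem hlL) (L.inv_mem hlL)) hy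
    have hl2p : ∃ k, orderOf (l⁻¹ * l⁻¹) = p ^ k := by
      obtain ⟨k, hk⟩ := hlp
      have h1 : l⁻¹ * l⁻¹ = (l⁻¹) ^ 2 := (pow_two _).symm
      have h2 : orderOf ((l⁻¹) ^ 2) ∣ p ^ k := by
        rw [← hk, ← orderOf_inv l]
        exact orderOf_pow_dvd 2
      obtain ⟨j, -, hj⟩ := (Nat.dvd_prime_pow hpp).mp h2
      exact ⟨j, by rw [h1, hj]⟩
    have hl2 := mem_centralizer_of_same_action p (L.mul_mem (L.inv_mem hlL) (L.inv_mem hlL))
      hw'cop hl2p hsame
    have hl2' : l ^ 2 ∈ Subgroup.centralizer (L : Set G) := by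
      have := Subgroup.inv_mem _ hl2
      have e : (l⁻¹ * l⁻¹)⁻¹ = l ^ 2 := by group
      rwa [e] at this
    -- now distinguish p = 2 / p odd
    by_cases hp2 : p = 2
    · -- r has odd order, so r ∈ N(L)
      have hodd : Odd (orderOf r) := by
        have := hRp r hr
        rw [hp2] at this
        exact (Nat.coprime_two_right).mp this
      obtain ⟨m, hm⟩ := hodd
      apply hrN
      have h1 : r = (r ^ 2) ^ (m + 1) := by
        rw [← pow_mul]
        have : 2 * (m + 1) = orderOf r + 1 := by omega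
        rw [this, pow_succ, pow_orderOf_eq_one, one_mul]
      rw [h1]
      exact Subgroup.pow_mem _ hr2N _
    · -- p odd: l ∈ ⟨l²⟩
      obtain ⟨k, hk⟩ := hlp
      have hcop : Nat.Coprime 2 (orderOf l) := by
        rw [hk]
        apply Nat.Coprime.pow_right
        rw [Nat.coprime_primes Nat.prime_two hpp]
        exact fun h => hp2 h.symm
      obtain ⟨m, hm⟩ := exists_pow_eq_self_of_coprime hcop
      apply hlZ
      rw [← hm]
      exact Subgroup.pow_mem _ hl2' m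
  · have hu' : r ^ 2 * l * (r ^ 2)⁻¹ ∈ Subgroup.centralizer (L : Set G) :=
      conj_mem_centralizer_of_not_mem_normalizer hL hr2N hlL
    have hsame : ∀ y ∈ L, (v⁻¹ * (r * v * r⁻¹)) * y * (v⁻¹ * (r * v * r⁻¹))⁻¹ = l * y * l⁻¹ := by
      intro y hy
      rw [hwform]
      exact conj_eq_of_centralizer_mul hu (Subgroup.mul_mem _ hu hu') hlL hy
    exact hlZ (mem_centralizer_of_same_action p hlL hwcop hlp hsame)

/-- a normal `p'`-subgroup of `C_G(t)`, `t` of order `p`, centralizes `O_p(G)`. -/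
theorem le_centralizer_pCore_of_coprime [Finite G] (p : ℕ) [hp : Fact p.Prime] (t : G)
    (ht : orderOf t = p) (R : Subgroup G) (hRx : ∀ r ∈ R, r * t = t * r)
    (hRn : ∀ c : G, c * t = t * c → ∀ r ∈ R, c * r * c⁻¹ ∈ R)
    (hRc : (Nat.card ↥R).Coprime p) : R ≤ Subgroup.centralizer (Cfsg.pCore p G : Set G) := by
  set Q : Subgroup G := Cfsg.pCore p G with hQ
  have hQp : IsPGroup p ↥Q := pCore_isPGroup p
  have hQn : Q.Normal := Cfsg.pCore_normal p G
  have hQR : Q ⊓ R = ⊥ := by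
    apply disjoint_iff.mp
    apply Subgroup.disjoint_of_coprime_natCard
    obtain ⟨k, hk⟩ := hQp.exists_card_eq
    rw [hk]
    exact Nat.Coprime.pow_left k hRc.symm
  apply Cfsg.Agent.S0028.result p (Subgroup.zpowers t) R Q
  · apply IsPGroup.of_card (n := 1)
    rw [Nat.card_zpowers, ht, pow_one]
  · exact hRc
  · exact hQp
  · rw [Subgroup.zpowers_le, Subgroup.mem_centralizer_iff]
    intro r hr
    exact hRx r hr
  · rw [Subgroup.normalizer_eq_top_iff.mpr hQn]; exact le_top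
  · rw [Subgroup.normalizer_eq_top_iff.mpr hQn]; exact le_top
  · rintro u ⟨huQ, huC⟩
    have hut : u * t = t * u := by
      have h := (Subgroup.mem_centralizer_iff.mp huC) t (Subgroup.mem_zpowers t)
      exact h.symm
    rw [Subgroup.mem_centralizer_iff]
    intro r hr
    have hc1 : u * r * u⁻¹ * r⁻¹ ∈ R := R.mul_mem (hRn u hut r hr) (R.inv_mem hr)
    have hc2 : u * r * u⁻¹ * r⁻¹ ∈ Q := by
      have : u * r * u⁻¹ * r⁻¹ = u * (r * u⁻¹ * r⁻¹) := by group
      rw [this]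
      exact Q.mul_mem huQ (hQn.conj_mem _ (Q.inv_mem huQ) r)
    have hc : u * r * u⁻¹ * r⁻¹ ∈ Q ⊓ R := ⟨hc2, hc1⟩
    rw [hQR, Subgroup.mem_bot] at hc
    calc r * u = (u * r * u⁻¹ * r⁻¹)⁻¹ * (u * r) := by group
      _ = u * r := by rw [hc]; group

/-- with `O_{p'}(G) = 1`: a normal `p'`-subgroup of `C_G(t)` centralizes `Z(L)` for every
component `L`. -/
theorem le_centralizer_component_center_of_coprime [Finite G] (p : ℕ) [hp : Fact p.Prime]
    (hO : Cfsg.pPrimeCore p G = ⊥) (t : G)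
    (ht : orderOf t = p) (R : Subgroup G) (hRx : ∀ r ∈ R, r * t = t * r)
    (hRn : ∀ c : G, c * t = t * c → ∀ r ∈ R, c * r * c⁻¹ ∈ R)
    (hRc : (Nat.card ↥R).Coprime p) {L : Subgroup G} (hL : Cfsg.IsComponent L) :
    R ≤ Subgroup.centralizer
      ((L ⊓ Subgroup.centralizer (L : Set G) : Subgroup G) : Set G) := by
  have hFQ : Cfsg.fittingSubgroup G = Cfsg.pCore p G :=
    Cfsg.Agent.Helper1.fittingSubgroup_eq_pCore p hO
  refine (le_centralizer_pCore_of_coprime p t ht R hRx hRn hRc).trans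
    (Subgroup.centralizer_le ?_)
  have := component_inf_centralizer_le_fittingSubgroup hL
  rw [hFQ] at this
  exact this

/-- with `O_{p'}(G) = 1`: a normal `p'`-subgroup `R` of `C_G(t)`, `t` of order `p`, normalizes every
component, and centralizes those that `t` moves or centralizes. -/
theorem component_cases_of_coprime [Finite G] (p : ℕ) [hp : Fact p.Prime]
    (hO : Cfsg.pPrimeCore p G = ⊥) (t : G)
    (ht : orderOf t = p) (R : Subgroup G) (hRx : ∀ r ∈ R, r * t = t * r)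
    (hRn : ∀ c : G, c * t = t * c → ∀ r ∈ R, c * r * c⁻¹ ∈ R)
    (hRc : (Nat.card ↥R).Coprime p) {L : Subgroup G} (hL : Cfsg.IsComponent L) :
    ⁅L, R⁆ = ⊥ ∨ (t ∈ Subgroup.normalizer (L : Set G) ∧ R ≤ Subgroup.normalizer (L : Set G) ∧
      t ∉ Subgroup.centralizer (L : Set G)) := by
  have hRp : ∀ r ∈ R, (orderOf r).Coprime p := fun r hr =>
    Nat.Coprime.coprime_dvd_left (Subgroup.orderOf_dvd_natCard R hr) hRc
  by_cases htN : t ∈ Subgroup.normalizer (L : Set G)
  · by_cases htC : t ∈ Subgroup.centralizer (L : Set G)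
    · left
      have hLR : L ≤ Subgroup.normalizer (R : Set G) := by
        intro l hl
        apply mem_normalizer_of_forall_conj_mem
        intro r hr
        have hlt : l * t = t * l := (Subgroup.mem_centralizer_iff.mp htC) l hl
        exact hRn l hlt r hr
      apply component_commutator_eq_bot_of_not_le hL hLR
      intro hle
      have hcop : (Nat.card ↥L).Coprime p :=
        Nat.Coprime.coprime_dvd_left (Subgroup.card_dvd_of_le hle) hRc
      exact component_not_coprime p hO hL hcop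
    · right
      refine ⟨htN, ?_, htC⟩
      exact le_normalizer_component_of_coprime p hO ⟨1, by rw [ht, pow_one]⟩ hL htN R hRx hRn hRp
        (le_centralizer_component_center_of_coprime p hO t ht R hRx hRn hRc hL)
  · left
    exact commutator_eq_bot_of_not_mem_normalizer p hO ht hL htN R hRx hRn hRp

/-- **Theorem X for a general prime**. -/
theorem exists_component_of_coprime [Finite G] (p : ℕ) [hp : Fact p.Prime]
    (hO : Cfsg.pPrimeCore p G = ⊥) (t : G)
    (ht : orderOf t = p) (R : Subgroup G) (hRx : ∀ r ∈ R, r * t = t * r)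
    (hRn : ∀ c : G, c * t = t * c → ∀ r ∈ R, c * r * c⁻¹ ∈ R)
    (hRc : (Nat.card ↥R).Coprime p) (Y : Subgroup G) (hY1 : Y ≠ ⊥) (hYR : Y ≤ R) :
    ∃ L : Subgroup G, Cfsg.IsComponent L ∧ t ∈ Subgroup.normalizer (L : Set G) ∧
      R ≤ Subgroup.normalizer (L : Set G) ∧ t ∉ Subgroup.centralizer (L : Set G) ∧
      ¬ Y ≤ Subgroup.centralizer (L : Set G) := by
  classical
  set Q : Subgroup G := Cfsg.pCore p G with hQ
  have hQp : IsPGroup p ↥Q := pCore_isPGroup p
  have hQR : Q ⊓ R = ⊥ := by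
    apply disjoint_iff.mp
    apply Subgroup.disjoint_of_coprime_natCard
    obtain ⟨k, hk⟩ := hQp.exists_card_eq
    rw [hk]
    exact Nat.Coprime.pow_left k hRc.symm
  have hRQ : R ≤ Subgroup.centralizer (Q : Set G) :=
    le_centralizer_pCore_of_coprime p t ht R hRx hRn hRc
  have hFQ : Cfsg.fittingSubgroup G = Q := Cfsg.Agent.Helper1.fittingSubgroup_eq_pCore p hO
  have hexL : ∃ L : Subgroup G, Cfsg.IsComponent L ∧ ¬ Y ≤ Subgroup.centralizer (L : Set G) := by
    by_contra hcon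
    push Not at hcon
    have h1 : Cfsg.layer G ≤ Subgroup.centralizer (Y : Set G) := by
      unfold Cfsg.layer
      apply sSup_le
      intro L hL
      exact (Subgroup.le_centralizer_iff).mp (hcon L hL)
    have h2 : Cfsg.fittingSubgroup G ≤ Subgroup.centralizer (Y : Set G) := by
      rw [hFQ]
      exact (Subgroup.le_centralizer_iff).mp (hYR.trans hRQ)
    have h3 : Cfsg.generalizedFittingSubgroup G ≤ Subgroup.centralizer (Y : Set G) :=
      sup_le h1 h2
    have h4 : Y ≤ Subgroup.centralizer (Cfsg.generalizedFittingSubgroup G : Set G) :=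
      (Subgroup.le_centralizer_iff).mp h3
    set C := Subgroup.centralizer (Cfsg.generalizedFittingSubgroup G : Set G) with hC
    have hCle : C ≤ Cfsg.generalizedFittingSubgroup G := centralizer_generalizedFittingSubgroup_le
    have : IsMulCommutative ↥C := ⟨⟨by
      rintro ⟨a, ha⟩ ⟨b, hb⟩
      apply Subtype.ext
      exact ((Subgroup.mem_centralizer_iff.mp ha) b (hCle hb)).symm⟩⟩
    have : C.Normal := by rw [hC]; infer_instance
    have h5 : C ≤ Cfsg.fittingSubgroup G :=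
      le_fittingSubgroup C (isNilpotent_of_isMulCommutative ↥C)
    have h6 : Y ≤ Q ⊓ R := le_inf (hFQ ▸ (h4.trans h5)) hYR
    rw [hQR] at h6
    exact hY1 (le_bot_iff.mp h6)
  obtain ⟨L, hL, hYL⟩ := hexL
  have hnR : ¬ ⁅L, R⁆ = ⊥ := by
    intro h
    apply hYL
    have : R ≤ Subgroup.centralizer (L : Set G) :=
      (Subgroup.le_centralizer_iff).mp ((Subgroup.commutator_eq_bot_iff_le_centralizer).mp h)
    exact hYR.trans this
  rcases component_cases_of_coprime p hO t ht R hRx hRn hRc hL with h | ⟨h1, h2, h3⟩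
  · exact absurd h hnR
  · exact ⟨L, hL, h1, h2, h3, hYL⟩

end Cfsg.Agent.Helper7
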