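import Mathlib
import Cfsg.Agent.Lib.Helper7.LBalH

set_option autoImplicit false

namespace Cfsg.Agent.Helper7

open Subgroup
open scoped commutatorElement

universe u v

variable {H : Type u} [Group H]

/-- upstairs part of the trick: an element `h = s r` with `[s, a] ∈ Z(L)` normalizes
`C_L(a) V`. -/
theorem conj_mem_inf_centralizer_sup_of_trick [Finite H] (L : Subgroup H) [hLn : L.Normal] (a : H)
    (V : Subgroup H)
    (hVa : ∀ v ∈ V, v * a = a * v)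
    (hVZ : ∀ v ∈ V, ∀ z ∈ L ⊓ Subgroup.centralizer (L : Set H), v * z = z * v)
    (hCV : ∀ c ∈ L, c * a = a * c → ∀ v ∈ V, c * v * c⁻¹ ∈ V)
    {s r : H} (hs : s ∈ L) (hra : r * a = a * r) (hrV : ∀ v ∈ V, r * v * r⁻¹ ∈ V)
    (hsz : s * a * s⁻¹ * a⁻¹ ∈ Subgroup.centralizer (L : Set H)) {n : H}
    (hn : n ∈ (L ⊓ Subgroup.centralizer ({a} : Set H)) ⊔ V) :
    (s * r) * n * (s * r)⁻¹ ∈ (L ⊓ Subgroup.centralizer ({a} : Set H)) ⊔ V := by
  set I₀ : Subgroup H := L ⊓ Subgroup.centralizer ({a} : Set H) with hI₀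
  have hmemI₀ : ∀ {c : H}, c ∈ I₀ ↔ c ∈ L ∧ c * a = a * c := by
    intro c
    rw [hI₀, Subgroup.mem_inf, Subgroup.mem_centralizer_singleton_iff]
  -- z₀ := s a s⁻¹ a⁻¹ ∈ Z(L)
  set z₀ := s * a * s⁻¹ * a⁻¹ with hz₀
  have hz₀L : z₀ ∈ L := by
    have : z₀ = s * (a * s⁻¹ * a⁻¹) := by rw [hz₀]; group
    rw [this]
    exact L.mul_mem hs (hLn.conj_mem _ (L.inv_mem hs) a)
  have hz₀Z : z₀ ∈ L ⊓ Subgroup.centralizer (L : Set H) := ⟨hz₀L, hsz⟩
  have hz₀c : ∀ y ∈ L, z₀ * y = y * z₀ := fun y hy =>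
    ((Subgroup.mem_centralizer_iff.mp hsz) y hy).symm
  -- a s a⁻¹ = z₀⁻¹ s
  have has : a * s * a⁻¹ = z₀⁻¹ * s := by rw [hz₀]; group
  have hasinv : a * s⁻¹ * a⁻¹ = s⁻¹ * z₀ := by rw [hz₀]; group
  -- s normalizes I₀
  have hsI₀ : ∀ c ∈ I₀, s * c * s⁻¹ ∈ I₀ := by
    intro c hc
    obtain ⟨hcL, hca⟩ := hmemI₀.mp hc
    rw [hmemI₀]
    refine ⟨L.mul_mem (L.mul_mem hs hcL) (L.inv_mem hs), ?_⟩
    have h1 : a * (s * c * s⁻¹) * a⁻¹ = (a * s * a⁻¹) * (a * c * a⁻¹) * (a * s⁻¹ * a⁻¹) := by group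
    have h2 : a * c * a⁻¹ = c := by rw [← hca]; group
    have h3 : a * (s * c * s⁻¹) * a⁻¹ = s * c * s⁻¹ := by
      rw [h1, has, hasinv, h2]
      have hsc : s * c * s⁻¹ ∈ L := L.mul_mem (L.mul_mem hs hcL) (L.inv_mem hs)
      calc z₀⁻¹ * s * c * (s⁻¹ * z₀) = z₀⁻¹ * ((s * c * s⁻¹) * z₀) := by group
        _ = z₀⁻¹ * (z₀ * (s * c * s⁻¹)) := by rw [hz₀c _ hsc]
        _ = s * c * s⁻¹ := by group
    calc s * c * s⁻¹ * a = (a * (s * c * s⁻¹) * a⁻¹) * a := by rw [h3]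
      _ = a * (s * c * s⁻¹) := by group
  -- r normalizes I₀
  have hrI₀ : ∀ c ∈ I₀, r * c * r⁻¹ ∈ I₀ := by
    intro c hc
    obtain ⟨hcL, hca⟩ := hmemI₀.mp hc
    rw [hmemI₀]
    refine ⟨hLn.conj_mem _ hcL r, ?_⟩
    have hra' : r⁻¹ * a = a * r⁻¹ := by
      calc r⁻¹ * a = r⁻¹ * (a * r) * r⁻¹ := by group
        _ = r⁻¹ * (r * a) * r⁻¹ := by rw [hra]
        _ = a * r⁻¹ := by group
    calc r * c * r⁻¹ * a = r * c * (r⁻¹ * a) := by group
      _ = r * c * (a * r⁻¹) := by rw [hra']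
      _ = r * (c * a) * r⁻¹ := by group
      _ = r * (a * c) * r⁻¹ := by rw [hca]
      _ = (r * a) * c * r⁻¹ := by group
      _ = (a * r) * c * r⁻¹ := by rw [hra]
      _ = a * (r * c * r⁻¹) := by group
  -- s conjugates V into V I₀
  have hsV : ∀ v ∈ V, s * v * s⁻¹ ∈ I₀ ⊔ V := by
    intro v hv
    have hva := hVa v hv
    have hva' : v⁻¹ * a = a * v⁻¹ := by
      calc v⁻¹ * a = v⁻¹ * (a * v) * v⁻¹ := by group
        _ = v⁻¹ * (v * a) * v⁻¹ := by rw [hva]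
        _ = a * v⁻¹ := by group
    have hvz : v * z₀ = z₀ * v := hVZ v hv z₀ hz₀Z
    have hvz' : v * z₀⁻¹ = z₀⁻¹ * v := by
      calc v * z₀⁻¹ = z₀⁻¹ * (z₀ * v) * z₀⁻¹ := by group
        _ = z₀⁻¹ * (v * z₀) * z₀⁻¹ := by rw [hvz]
        _ = z₀⁻¹ * v := by group
    -- s v s⁻¹ = (s v s⁻¹ v⁻¹) v
    have hk : s * v * s⁻¹ * v⁻¹ ∈ I₀ := by
      rw [hmemI₀]
      have hkL : s * v * s⁻¹ * v⁻¹ ∈ L := by
        have : s * v * s⁻¹ * v⁻¹ = s * (v * s⁻¹ * v⁻¹) := by group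
        rw [this]
        exact L.mul_mem hs (hLn.conj_mem _ (L.inv_mem hs) v)
      refine ⟨hkL, ?_⟩
      have h1 : a * (s * v * s⁻¹ * v⁻¹) * a⁻¹ =
          (a * s * a⁻¹) * (a * v * a⁻¹) * (a * s⁻¹ * a⁻¹) * (a * v⁻¹ * a⁻¹) := by group
      have h2 : a * v * a⁻¹ = v := by rw [← hva]; group
      have h2' : a * v⁻¹ * a⁻¹ = v⁻¹ := by rw [← hva']; group
      have h3 : a * (s * v * s⁻¹ * v⁻¹) * a⁻¹ = s * v * s⁻¹ * v⁻¹ := by
        rw [h1, has, hasinv, h2, h2']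
        calc z₀⁻¹ * s * v * (s⁻¹ * z₀) * v⁻¹ = z₀⁻¹ * s * v * s⁻¹ * (z₀ * v⁻¹) := by group
          _ = z₀⁻¹ * s * v * s⁻¹ * (v⁻¹ * z₀) := by
              have : z₀ * v⁻¹ = v⁻¹ * z₀ := by
                calc z₀ * v⁻¹ = v⁻¹ * (v * z₀) * v⁻¹ := by group
                  _ = v⁻¹ * (z₀ * v) * v⁻¹ := by rw [hvz]
                  _ = v⁻¹ * z₀ := by group
              rw [this]
          _ = z₀⁻¹ * ((s * v * s⁻¹ * v⁻¹) * z₀) := by group
          _ = z₀⁻¹ * (z₀ * (s * v * s⁻¹ * v⁻¹)) := by rw [hz₀c _ hkL]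
          _ = s * v * s⁻¹ * v⁻¹ := by group
      calc s * v * s⁻¹ * v⁻¹ * a = (a * (s * v * s⁻¹ * v⁻¹) * a⁻¹) * a := by rw [h3]
        _ = a * (s * v * s⁻¹ * v⁻¹) := by group
    have : s * v * s⁻¹ = (s * v * s⁻¹ * v⁻¹) * v := by group
    rw [this]
    exact Subgroup.mul_mem _ (Subgroup.mem_sup_left hk) (Subgroup.mem_sup_right hv)
  -- I₀ normalizes V
  have hI₀V : V ≤ Subgroup.normalizer (I₀ : Set H) := by
    intro v hv
    apply mem_normalizer_of_forall_conj_mem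
    intro c hc
    obtain ⟨hcL, hca⟩ := hmemI₀.mp hc
    rw [hmemI₀]
    refine ⟨hLn.conj_mem _ hcL v, ?_⟩
    have hva := hVa v hv
    have hva' : v⁻¹ * a = a * v⁻¹ := by
      calc v⁻¹ * a = v⁻¹ * (a * v) * v⁻¹ := by group
        _ = v⁻¹ * (v * a) * v⁻¹ := by rw [hva]
        _ = a * v⁻¹ := by group
    calc v * c * v⁻¹ * a = v * c * (v⁻¹ * a) := by group
      _ = v * c * (a * v⁻¹) := by rw [hva']
      _ = v * (c * a) * v⁻¹ := by group
      _ = v * (a * c) * v⁻¹ := by rw [hca]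
      _ = (v * a) * c * v⁻¹ := by group
      _ = (a * v) * c * v⁻¹ := by rw [hva]
      _ = a * (v * c * v⁻¹) := by group
  obtain ⟨c, hc, v, hv, rfl⟩ := Cfsg.Agent.Helper1.exists_mul_of_mem_sup hI₀V hn
  have e : s * r * (c * v) * (s * r)⁻¹ =
      (s * (r * c * r⁻¹) * s⁻¹) * (s * (r * v * r⁻¹) * s⁻¹) := by group
  rw [e]
  exact Subgroup.mul_mem _ (Subgroup.mem_sup_left (hsI₀ _ (hrI₀ c hc))) (hsV _ (hrV v hv))

/-- **The trick theorem**: `H = L R` with `L` normal, `R ≤ C(a)` normalizing the `p'`-group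
`V ≤ R`, `V` centralizing `a` and `Z(L)` and normalized by `C_L(a)`. If `φ` is surjective with
kernel `C_H(L)` then `φ(V) ≤ O_{p'}(C(φ a))`. -/
theorem map_le_centralizerPPrimeCore_of_trick [Finite H] (p : ℕ) [hp : Fact p.Prime]
    (L : Subgroup H) [hLn : L.Normal] (a : H) (V R : Subgroup H)
    (hVc : (Nat.card ↥V).Coprime p)
    (hVa : ∀ v ∈ V, v * a = a * v)
    (hVZ : ∀ v ∈ V, ∀ z ∈ L ⊓ Subgroup.centralizer (L : Set H), v * z = z * v)
    (hCV : ∀ c ∈ L, c * a = a * c → ∀ v ∈ V, c * v * c⁻¹ ∈ V)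
    (hRa : ∀ r ∈ R, r * a = a * r) (hRV : ∀ r ∈ R, ∀ v ∈ V, r * v * r⁻¹ ∈ V)
    (hLR : L ⊔ R = ⊤) {T : Type v} [Group T] (φ : H →* T) (hφ : Function.Surjective φ)
    (hker : φ.ker = Subgroup.centralizer (L : Set H)) :
    V.map φ ≤ Cfsg.centralizerPPrimeCore p (φ a) := by
  haveI : Finite T := Finite.of_surjective φ hφ
  set I₀ : Subgroup H := L ⊓ Subgroup.centralizer ({a} : Set H) with hI₀
  set N : Subgroup H := I₀ ⊔ V with hN
  set Cφ : Subgroup T := Subgroup.centralizer ({φ a} : Set T) with hCφ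
  have hM : Cφ.comap φ ≤ Subgroup.normalizer (N : Set H) := by
    intro h hh
    have hh' : φ h * φ a = φ a * φ h := by
      have := Subgroup.mem_centralizer_singleton_iff.mp (Subgroup.mem_comap.mp hh)
      exact this
    have hRL : R ≤ Subgroup.normalizer (L : Set H) := by
      rw [Subgroup.normalizer_eq_top_iff.mpr hLn]; exact le_top
    have hh2 : h ∈ L ⊔ R := by rw [hLR]; exact Subgroup.mem_top h
    obtain ⟨s, hs, r, hr, rfl⟩ := Cfsg.Agent.Helper1.exists_mul_of_mem_sup hRL hh2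
    have hra := hRa r hr
    have hsz : s * a * s⁻¹ * a⁻¹ ∈ Subgroup.centralizer (L : Set H) := by
      rw [← hker, MonoidHom.mem_ker]
      have e : s * a * s⁻¹ * a⁻¹ = (s * r) * a * (s * r)⁻¹ * a⁻¹ := by
        have : (s * r) * a * (s * r)⁻¹ * a⁻¹ = s * (r * a) * r⁻¹ * s⁻¹ * a⁻¹ := by group
        rw [this, hra]; group
      have e2 : φ ((s * r) * a * (s * r)⁻¹ * a⁻¹) = (φ (s * r) * φ a) * (φ (s * r))⁻¹ * (φ a)⁻¹ := by
        simp only [map_mul, map_inv]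
      rw [e, e2, hh']
      group
    apply mem_normalizer_of_forall_conj_mem
    intro n hn
    exact conj_mem_inf_centralizer_sup_of_trick L a V hVa hVZ hCV hs hra (hRV r hr) hsz hn
  have hCN : Cφ ≤ Subgroup.normalizer ((N.map φ : Subgroup T) : Set T) := by
    calc Cφ = (Cφ.comap φ).map φ := (Subgroup.map_comap_eq_self_of_surjective hφ _).symm
      _ ≤ (Subgroup.normalizer (N : Set H)).map φ := Subgroup.map_mono hM
      _ ≤ Subgroup.normalizer ((N.map φ : Subgroup T) : Set T) := Subgroup.le_normalizer_map φ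
  have hNC : N.map φ ≤ Cφ := by
    rw [Subgroup.map_le_iff_le_comap]
    refine sup_le ?_ ?_
    · intro c hc
      rw [Subgroup.mem_comap, hCφ, Subgroup.mem_centralizer_singleton_iff]
      have := Subgroup.mem_centralizer_singleton_iff.mp hc.2
      rw [← map_mul, ← map_mul, this]
    · intro v hv
      rw [Subgroup.mem_comap, hCφ, Subgroup.mem_centralizer_singleton_iff]
      rw [← map_mul, ← map_mul, hVa v hv]
  have hVN : V.map φ ≤ N.map φ := Subgroup.map_mono le_sup_right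
  have hNV : N.map φ ≤ Subgroup.normalizer ((V.map φ : Subgroup T) : Set T) := by
    have h1 : N ≤ Subgroup.normalizer (V : Set H) := by
      refine sup_le ?_ Subgroup.le_normalizer
      intro c hc
      apply mem_normalizer_of_forall_conj_mem
      intro v hv
      have hca : c * a = a * c := Subgroup.mem_centralizer_singleton_iff.mp hc.2
      exact hCV c hc.1 hca v hv
    exact (Subgroup.map_mono h1).trans (Subgroup.le_normalizer_map φ)
  -- subnormality inside `Cφ`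
  have hN'n : ((N.map φ).subgroupOf Cφ).Normal :=
    (Subgroup.normal_subgroupOf_iff_le_normalizer hNC).mpr hCN
  have hV'N' : (V.map φ).subgroupOf Cφ ≤ (N.map φ).subgroupOf Cφ := by
    intro x hx
    exact hVN hx
  have hN'V' : (N.map φ).subgroupOf Cφ ≤
      Subgroup.normalizer (((V.map φ).subgroupOf Cφ : Subgroup ↥Cφ) : Set ↥Cφ) := by
    intro x hx
    have hx' : (x : T) ∈ Subgroup.normalizer ((V.map φ : Subgroup T) : Set T) := hNV hx
    rw [Subgroup.mem_normalizer_iff]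
    intro y
    rw [Subgroup.mem_subgroupOf, Subgroup.mem_subgroupOf]
    exact (Subgroup.mem_normalizer_iff.mp hx') y
  have hV'sub : ((V.map φ).subgroupOf Cφ).IsSubnormal :=
    isSubnormal_of_le_of_le_normalizer hV'N' hN'V' hN'n.isSubnormal
  have hV'cop : (Nat.card ↥((V.map φ).subgroupOf Cφ)).Coprime p := by
    rw [card_subgroupOf_of_le (hVN.trans hNC)]
    exact Nat.Coprime.coprime_dvd_left (Subgroup.card_map_dvd V φ) hVc
  have hV'le := subnormal_coprime_le_pPrimeCore p _ hV'sub hV'cop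
  intro y hy
  exact ⟨⟨y, hNC (hVN hy)⟩, hV'le (Subgroup.mem_subgroupOf.mpr hy), rfl⟩

end Cfsg.Agent.Helper7
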