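import Mathlib
import Cfsg.Agent.Lib.Helper7.LBalI

set_option autoImplicit false

namespace Cfsg.Agent.Helper7

open Subgroup
open scoped commutatorElement

universe u v

variable {Y : Type u} [Group Y]

theorem centralizer_subgroupOf_eq {L Hs : Subgroup Y} (hLHs : L ≤ Hs) :
    (Subgroup.centralizer (L : Set Y)).subgroupOf Hs =
      Subgroup.centralizer ((L.subgroupOf Hs : Subgroup ↥Hs) : Set ↥Hs) := by
  ext g
  rw [Subgroup.mem_subgroupOf, Subgroup.mem_centralizer_iff, Subgroup.mem_centralizer_iff]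
  constructor
  · intro h y hy
    apply Subtype.ext
    exact h (y : Y) (Subgroup.mem_subgroupOf.mp hy)
  · intro h y hy
    have := h ⟨y, hLHs hy⟩ (Subgroup.mem_subgroupOf.mpr hy)
    exact congrArg Subtype.val this

/-- the trick theorem inside a subgroup `Hs = L R` of an ambient group -/
theorem map_le_centralizerPPrimeCore_of_trick_ambient [Finite Y] (p : ℕ) [hp : Fact p.Prime]
    (L : Subgroup Y) (a : Y) (V R Hs : Subgroup Y) (hHs : L ⊔ R = Hs)
    (hRL : R ≤ Subgroup.normalizer (L : Set Y)) (ha : a ∈ Hs) (hVR : V ≤ R)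
    (hVc : (Nat.card ↥V).Coprime p)
    (hVa : ∀ v ∈ V, v * a = a * v)
    (hVZ : V ≤ Subgroup.centralizer
      ((L ⊓ Subgroup.centralizer (L : Set Y) : Subgroup Y) : Set Y))
    (hCV : ∀ c ∈ L, c * a = a * c → ∀ v ∈ V, c * v * c⁻¹ ∈ V)
    (hRa : ∀ r ∈ R, r * a = a * r) (hRV : ∀ r ∈ R, ∀ v ∈ V, r * v * r⁻¹ ∈ V)
    {T : Type v} [Group T] (φ : ↥Hs →* T) (hφ : Function.Surjective φ)
    (hker : φ.ker = (Subgroup.centralizer (L : Set Y)).subgroupOf Hs) :
    (V.subgroupOf Hs).map φ ≤ Cfsg.centralizerPPrimeCore p (φ ⟨a, ha⟩) := by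
  have hLHs : L ≤ Hs := hHs ▸ le_sup_left
  have hRHs : R ≤ Hs := hHs ▸ le_sup_right
  have hVHs : V ≤ Hs := hVR.trans hRHs
  have hHsN : Hs ≤ Subgroup.normalizer (L : Set Y) := by
    rw [← hHs]; exact sup_le Subgroup.le_normalizer hRL
  haveI hLn : (L.subgroupOf Hs).Normal :=
    (Subgroup.normal_subgroupOf_iff_le_normalizer hLHs).mpr hHsN
  apply map_le_centralizerPPrimeCore_of_trick p (L.subgroupOf Hs) ⟨a, ha⟩ (V.subgroupOf Hs)
    (R.subgroupOf Hs)
  · rw [card_subgroupOf_of_le hVHs]; exact hVc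
  · intro v hv
    apply Subtype.ext
    exact hVa (v : Y) (Subgroup.mem_subgroupOf.mp hv)
  · intro v hv z hz
    apply Subtype.ext
    have hz1 : (z : Y) ∈ L := Subgroup.mem_subgroupOf.mp hz.1
    have hz2 : (z : Y) ∈ Subgroup.centralizer (L : Set Y) := by
      have := hz.2
      rw [← centralizer_subgroupOf_eq hLHs] at this
      exact Subgroup.mem_subgroupOf.mp this
    have := (Subgroup.mem_centralizer_iff.mp (hVZ (Subgroup.mem_subgroupOf.mp hv))) (z : Y)
      ⟨hz1, hz2⟩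
    exact this.symm
  · intro c hc hca v hv
    rw [Subgroup.mem_subgroupOf]
    have hca' : (c : Y) * a = a * (c : Y) := congrArg Subtype.val hca
    exact hCV (c : Y) (Subgroup.mem_subgroupOf.mp hc) hca' (v : Y) (Subgroup.mem_subgroupOf.mp hv)
  · intro r hr
    apply Subtype.ext
    exact hRa (r : Y) (Subgroup.mem_subgroupOf.mp hr)
  · intro r hr v hv
    rw [Subgroup.mem_subgroupOf]
    exact hRV (r : Y) (Subgroup.mem_subgroupOf.mp hr) (v : Y) (Subgroup.mem_subgroupOf.mp hv)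
  · rw [← Subgroup.subgroupOf_sup hLHs hRHs, hHs, Subgroup.subgroupOf_self]
  · exact hφ
  · rw [hker, centralizer_subgroupOf_eq hLHs]

end Cfsg.Agent.Helper7
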