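import Mathlib
import Cfsg.Agent.Lib.Helper7.LBalJ
import Cfsg.Agent.Lib.Helper7.Signalizer2

set_option autoImplicit false

namespace Cfsg.Agent.Helper7

open Subgroup
open scoped commutatorElement

universe u v

variable {G : Type u} [Group G]

/-- `O_{p'}(H / C_H(L)) = 1` for a component `L` normal in `H`, when `O_{p'}(G) = 1`. -/
theorem pPrimeCore_quotient_centralizer_eq_bot [Finite G] (p : ℕ) [hp : Fact p.Prime]
    (hO : Cfsg.pPrimeCore p G = ⊥) {L Hs : Subgroup G} (hL : Cfsg.IsComponent L) (hLHs : L ≤ Hs)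
    [hCn : ((Subgroup.centralizer (L : Set G)).subgroupOf Hs).Normal] :
    Cfsg.pPrimeCore p (↥Hs ⧸ (Subgroup.centralizer (L : Set G)).subgroupOf Hs) = ⊥ := by
  have hpp := hp.out
  set C' := (Subgroup.centralizer (L : Set G)).subgroupOf Hs with hC'
  set φ := QuotientGroup.mk' C' with hφ
  have hφs : Function.Surjective φ := QuotientGroup.mk'_surjective C'
  have hker : φ.ker = C' := QuotientGroup.ker_mk' C'
  set P := Cfsg.pPrimeCore p (↥Hs ⧸ C') with hP
  haveI hPn : P.Normal := Cfsg.Agent.Helper22.pPrimeCore_normal p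
  have hPc : (Nat.card ↥P).Coprime p := Cfsg.Agent.Helper22.card_pPrimeCore_coprime p
  set P' := P.comap φ with hP'
  haveI hP'n : P'.Normal := hPn.comap φ
  have hL' : Cfsg.IsComponent (L.subgroupOf Hs) := isComponent_subgroupOf hLHs hL
  have hnle : ¬ L.subgroupOf Hs ≤ P' := by
    intro hle
    obtain ⟨l, hlL, ⟨k, hk⟩, hlZ⟩ := exists_pElement_not_centralizing p hO hL
    have hlP : φ ⟨l, hLHs hlL⟩ ∈ P := hle (Subgroup.mem_subgroupOf.mpr hlL)
    have h1 : orderOf (φ ⟨l, hLHs hlL⟩) ∣ p ^ k := by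
      rw [← hk, ← Subgroup.orderOf_mk l (hLHs hlL)]
      exact orderOf_map_dvd φ _
    have h2 : orderOf (φ ⟨l, hLHs hlL⟩) ∣ Nat.card ↥P := Subgroup.orderOf_dvd_natCard P hlP
    have h3 : orderOf (φ ⟨l, hLHs hlL⟩) = 1 :=
      Nat.eq_one_of_dvd_coprimes (Nat.Coprime.pow_left k hPc.symm) h1 h2
    rw [orderOf_eq_one_iff, ← MonoidHom.mem_ker, hker, hC', Subgroup.mem_subgroupOf] at h3
    exact hlZ h3
  have hcomm : ⁅L.subgroupOf Hs, P'⁆ = ⊥ := by
    apply component_commutator_eq_bot_of_not_le hL' _ hnle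
    rw [Subgroup.normalizer_eq_top_iff.mpr hP'n]; exact le_top
  have hP'C : P' ≤ C' := by
    rw [hC', centralizer_subgroupOf_eq hLHs]
    exact (Subgroup.le_centralizer_iff).mp
      ((Subgroup.commutator_eq_bot_iff_le_centralizer).mp hcomm)
  have : P = P'.map φ := (Subgroup.map_comap_eq_self_of_surjective hφs P).symm
  rw [this, ← le_bot_iff]
  rintro _ ⟨y, hy, rfl⟩
  rw [Subgroup.mem_bot, ← MonoidHom.mem_ker, hker]
  exact hP'C hy

/-- **S1271.** -/
theorem isBalancedFor_of_component_quotients [Finite G] (p : ℕ) [hp : Fact p.Prime]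
    (hO : Cfsg.pPrimeCore p G = ⊥)
    (h : ∀ L : Subgroup G, Cfsg.IsComponent L → ∀ H : Subgroup G, L ≤ H →
      (L.subgroupOf H).Normal → ∀ [((Subgroup.centralizer (L : Set G)).subgroupOf H).Normal],
      Cfsg.IsBalancedFor p (↥H ⧸ (Subgroup.centralizer (L : Set G)).subgroupOf H)) :
    Cfsg.IsBalancedFor p G := by
  have hpp := hp.out
  intro x hx
  rw [hO]
  by_contra hW
  set W := Cfsg.centralizerPPrimeCore p x with hWdef
  have hW1 : W ≠ ⊥ := fun h => hW (h ▸ le_rfl)
  have hWC : W ≤ Subgroup.centralizer ({x} : Set G) := Subgroup.map_subtype_le _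
  have hWx : ∀ r ∈ W, r * x = x * r := fun r hr =>
    Subgroup.mem_centralizer_singleton_iff.mp (hWC hr)
  have hWn : ∀ c : G, c * x = x * c → ∀ r ∈ W, c * r * c⁻¹ ∈ W := fun c hc r hr =>
    conj_mem_centralizerPPrimeCore p (Subgroup.mem_centralizer_singleton_iff.mpr hc) hr
  have hWc : (Nat.card ↥W).Coprime p := card_centralizerPPrimeCore_coprime p x
  obtain ⟨L, hL, hxN, hWN, hxC, hWL⟩ :=
    exists_component_of_coprime p hO x hx W hWx hWn hWc W hW1 le_rfl
  set R : Subgroup G := W ⊔ Subgroup.zpowers x with hR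
  set Hs : Subgroup G := L ⊔ R with hHs
  have hRN : R ≤ Subgroup.normalizer (L : Set G) := sup_le hWN ((Subgroup.zpowers_le).mpr hxN)
  have hLHs : L ≤ Hs := le_sup_left
  have hRHs : R ≤ Hs := le_sup_right
  have hxR : x ∈ R := Subgroup.mem_sup_right (Subgroup.mem_zpowers x)
  have hxHs : x ∈ Hs := hRHs hxR
  have hHsN : Hs ≤ Subgroup.normalizer (L : Set G) := sup_le Subgroup.le_normalizer hRN
  have hLn : (L.subgroupOf Hs).Normal :=
    (Subgroup.normal_subgroupOf_iff_le_normalizer hLHs).mpr hHsN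
  haveI hCn : ((Subgroup.centralizer (L : Set G)).subgroupOf Hs).Normal := by
    rw [centralizer_subgroupOf_eq hLHs]
    infer_instance
  have hbal := h L hL Hs hLHs hLn
  set C' := (Subgroup.centralizer (L : Set G)).subgroupOf Hs with hC'
  set φ := QuotientGroup.mk' C' with hφ
  have hφs : Function.Surjective φ := QuotientGroup.mk'_surjective C'
  have hker : φ.ker = C' := QuotientGroup.ker_mk' C'
  have hRC : R ≤ Subgroup.centralizer ({x} : Set G) :=
    sup_le hWC ((Subgroup.zpowers_le).mpr (Subgroup.mem_centralizer_singleton_iff.mpr rfl))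
  have htrick := map_le_centralizerPPrimeCore_of_trick_ambient p L x W R Hs rfl hRN hxHs
    le_sup_left hWc hWx
    (le_centralizer_component_center_of_coprime p hO x hx W hWx hWn hWc hL)
    (fun c _ hca v hv => hWn c hca v hv)
    (fun r hr => Subgroup.mem_centralizer_singleton_iff.mp (hRC hr))
    (fun r hr v hv => hWn r (Subgroup.mem_centralizer_singleton_iff.mp (hRC hr)) v hv)
    φ hφs hker
  -- the image of x has order p
  have hxφ : orderOf (φ ⟨x, hxHs⟩) = p := by
    apply orderOf_eq_prime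
    · rw [← map_pow]
      have : (⟨x, hxHs⟩ : ↥Hs) ^ p = 1 := by
        apply Subtype.ext
        simp only [Subgroup.coe_pow, Subgroup.coe_one]
        rw [← hx]; exact pow_orderOf_eq_one x
      rw [this, map_one]
    · intro h1
      rw [← MonoidHom.mem_ker, hker, hC', Subgroup.mem_subgroupOf] at h1
      exact hxC h1
  have h2 := hbal (φ ⟨x, hxHs⟩) hxφ
  rw [pPrimeCore_quotient_centralizer_eq_bot p hO hL hLHs] at h2
  have h3 := htrick.trans h2
  apply hWL
  intro w hw
  have hwHs : w ∈ Hs := hRHs (Subgroup.mem_sup_left hw)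
  have h4 : φ ⟨w, hwHs⟩ ∈ (⊥ : Subgroup (↥Hs ⧸ C')) :=
    h3 ⟨⟨w, hwHs⟩, Subgroup.mem_subgroupOf.mpr hw, rfl⟩
  rw [Subgroup.mem_bot, ← MonoidHom.mem_ker, hker, hC', Subgroup.mem_subgroupOf] at h4
  exact h4

end Cfsg.Agent.Helper7
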