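import Mathlib
import Cfsg.Agent.Lib.Helper7.LBalK

set_option autoImplicit false

namespace Cfsg.Agent.Helper7

open Subgroup
open scoped commutatorElement

universe u v

variable {Y : Type u} [Group Y]

/-- conjugation action of the normalizer of `K` on `K` -/
def conjNorm (K : Subgroup Y) : ↥(Subgroup.normalizer (K : Set Y)) →* MulAut ↥K where
  toFun n :=
    { toFun := fun k => ⟨(n : Y) * k * (n : Y)⁻¹, (Subgroup.mem_normalizer_iff.mp n.2 k).mp k.2⟩
      invFun := fun k => ⟨(n : Y)⁻¹ * k * (n : Y), by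
        have := (Subgroup.mem_normalizer_iff.mp (Subgroup.inv_mem _ n.2) k).mp k.2
        simpa using this⟩
      left_inv := fun k => by
        apply Subtype.ext
        show (n : Y)⁻¹ * ((n : Y) * k * (n : Y)⁻¹) * (n : Y) = k
        group
      right_inv := fun k => by
        apply Subtype.ext
        show (n : Y) * ((n : Y)⁻¹ * k * (n : Y)) * (n : Y)⁻¹ = k
        group
      map_mul' := fun k k' => by
        apply Subtype.ext
        show (n : Y) * ((k : Y) * (k' : Y)) * (n : Y)⁻¹ =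
          ((n : Y) * k * (n : Y)⁻¹) * ((n : Y) * k' * (n : Y)⁻¹)
        group }
  map_one' := by
    ext k
    show ((1 : ↥(Subgroup.normalizer (K : Set Y))) : Y) * k *
      ((1 : ↥(Subgroup.normalizer (K : Set Y))) : Y)⁻¹ = k
    simp
  map_mul' := fun n n' => by
    ext k
    show ((n * n' : ↥(Subgroup.normalizer (K : Set Y))) : Y) * k *
      ((n * n' : ↥(Subgroup.normalizer (K : Set Y))) : Y)⁻¹ =
      (n : Y) * ((n' : Y) * k * (n' : Y)⁻¹) * (n : Y)⁻¹
    simp only [Subgroup.coe_mul]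
    group

theorem conjNorm_apply_coe (K : Subgroup Y) (n : ↥(Subgroup.normalizer (K : Set Y))) (k : ↥K) :
    ((conjNorm K n k : ↥K) : Y) = (n : Y) * k * (n : Y)⁻¹ := rfl

/-- automorphisms act on the quotient by the centre -/
def autQuotCenter (K : Type v) [Group K] : MulAut K →* MulAut (K ⧸ Subgroup.center K) where
  toFun e := QuotientGroup.congr (Subgroup.center K) (Subgroup.center K) e (map_center_mulEquiv e)
  map_one' := by
    ext x
    induction x using QuotientGroup.induction_on with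
    | H x => rfl
  map_mul' := fun e e' => by
    ext x
    induction x using QuotientGroup.induction_on with
    | H x => rfl

theorem autQuotCenter_apply_mk (K : Type v) [Group K] (e : MulAut K) (x : K) :
    autQuotCenter K e (QuotientGroup.mk x) = QuotientGroup.mk (e x) := rfl

/-- the action of `N(K)` on `K / Z(K)` -/
def autHom (K : Subgroup Y) :
    ↥(Subgroup.normalizer (K : Set Y)) →* MulAut (↥K ⧸ Subgroup.center ↥K) :=
  (autQuotCenter ↥K).comp (conjNorm K)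

theorem autHom_apply_mk (K : Subgroup Y) (n : ↥(Subgroup.normalizer (K : Set Y))) (k : ↥K) :
    autHom K n (QuotientGroup.mk k) = QuotientGroup.mk (conjNorm K n k) := rfl

/-- elements of `K` act by inner automorphisms -/
theorem autHom_of_mem (K : Subgroup Y) (k₀ : ↥K) :
    autHom K ⟨(k₀ : Y), Subgroup.le_normalizer k₀.2⟩ =
      MulAut.conj (QuotientGroup.mk k₀ : ↥K ⧸ Subgroup.center ↥K) := by
  ext x
  induction x using QuotientGroup.induction_on with
  | H x =>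
    rw [autHom_apply_mk, MulAut.conj_apply, ← QuotientGroup.mk_inv, ← QuotientGroup.mk_mul,
      ← QuotientGroup.mk_mul]
    congr 1

/-- the kernel of the action on `K / Z(K)` is `C(K)` when `K` is perfect -/
theorem mem_ker_autHom_iff {K : Subgroup Y} (hperf : ⁅K, K⁆ = K)
    (n : ↥(Subgroup.normalizer (K : Set Y))) :
    n ∈ (autHom K).ker ↔ (n : Y) ∈ Subgroup.centralizer (K : Set Y) := by
  constructor
  · intro hn
    rw [MonoidHom.mem_ker] at hn
    -- n k n⁻¹ k⁻¹ is central in K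
    have hz : ∀ k ∈ K, ∀ y ∈ K, ((n : Y) * k * (n : Y)⁻¹ * k⁻¹) * y = y * ((n : Y) * k * (n : Y)⁻¹ * k⁻¹) := by
      intro k hk
      have h1 := congrArg (fun e => e (QuotientGroup.mk (⟨k, hk⟩ : ↥K))) hn
      simp only [MulAut.one_apply] at h1
      rw [autHom_apply_mk, QuotientGroup.eq] at h1
      -- h1 : (conjNorm K n ⟨k,hk⟩)⁻¹ * ⟨k,hk⟩ ∈ center K
      set a := (n : Y) * k * (n : Y)⁻¹ with ha
      have haK : a ∈ K := (Subgroup.mem_normalizer_iff.mp n.2 k).mp hk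
      have hcent : ∀ y ∈ K, y * (a⁻¹ * k) = (a⁻¹ * k) * y := by
        intro y hy
        have h2 := Subgroup.mem_center_iff.mp h1 ⟨y, hy⟩
        have h3 := congrArg Subtype.val h2
        simp only [Subgroup.coe_mul, Subgroup.coe_inv, conjNorm_apply_coe] at h3
        exact h3
      have e1 : a * k⁻¹ = (a⁻¹ * k)⁻¹ := by
        have h4 := hcent a haK
        have h6 : k = a⁻¹ * k * a := by
          calc k = a * (a⁻¹ * k) := by group
            _ = a⁻¹ * k * a := h4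
        calc a * k⁻¹ = a * (a⁻¹ * k * a)⁻¹ := by rw [← h6]
          _ = (a⁻¹ * k)⁻¹ := by group
      intro y hy
      rw [e1]
      have h5 := hcent y hy
      calc (a⁻¹ * k)⁻¹ * y = (a⁻¹ * k)⁻¹ * (y * (a⁻¹ * k)) * (a⁻¹ * k)⁻¹ := by group
        _ = (a⁻¹ * k)⁻¹ * ((a⁻¹ * k) * y) * (a⁻¹ * k)⁻¹ := by rw [h5]
        _ = y * (a⁻¹ * k)⁻¹ := by group
    -- hence n centralizes commutators
    have hK' : ⁅K, K⁆ ≤ Subgroup.centralizer ({(n : Y)} : Set Y) := by
      rw [Subgroup.commutator_le]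
      intro k₁ hk₁ k₂ hk₂
      rw [Subgroup.mem_centralizer_singleton_iff]
      set z₁ := (n : Y) * k₁ * (n : Y)⁻¹ * k₁⁻¹ with hz₁
      set z₂ := (n : Y) * k₂ * (n : Y)⁻¹ * k₂⁻¹ with hz₂
      have c1 : (n : Y) * k₁ * (n : Y)⁻¹ = z₁ * k₁ := by rw [hz₁]; group
      have c2 : (n : Y) * k₂ * (n : Y)⁻¹ = z₂ * k₂ := by rw [hz₂]; group
      have hz₁c := hz k₁ hk₁
      have hz₂c := hz k₂ hk₂
      have key : (n : Y) * ⁅k₁, k₂⁆ * (n : Y)⁻¹ = ⁅k₁, k₂⁆ := by
        have e : (n : Y) * ⁅k₁, k₂⁆ * (n : Y)⁻¹ =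
            ((n : Y) * k₁ * (n : Y)⁻¹) * ((n : Y) * k₂ * (n : Y)⁻¹) *
              ((n : Y) * k₁ * (n : Y)⁻¹)⁻¹ * ((n : Y) * k₂ * (n : Y)⁻¹)⁻¹ := by
          rw [commutatorElement_def]; group
        rw [e, c1, c2, commutatorElement_def]
        have hk₁' : k₁⁻¹ ∈ K := K.inv_mem hk₁
        have hk₂' : k₂⁻¹ ∈ K := K.inv_mem hk₂
        calc z₁ * k₁ * (z₂ * k₂) * (z₁ * k₁)⁻¹ * (z₂ * k₂)⁻¹
            = z₁ * (k₁ * z₂) * k₂ * k₁⁻¹ * (z₁⁻¹ * k₂⁻¹) * z₂⁻¹ := by group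
          _ = z₁ * (z₂ * k₁) * k₂ * k₁⁻¹ * (z₁⁻¹ * k₂⁻¹) * z₂⁻¹ := by rw [hz₂c k₁ hk₁]
          _ = z₁ * z₂ * (k₁ * k₂ * k₁⁻¹) * (z₁⁻¹ * k₂⁻¹) * z₂⁻¹ := by group
          _ = z₁ * z₂ * (k₁ * k₂ * k₁⁻¹) * (k₂⁻¹ * z₁⁻¹) * z₂⁻¹ := by
              have : z₁⁻¹ * k₂⁻¹ = k₂⁻¹ * z₁⁻¹ := by
                have := hz₁c k₂ hk₂
                calc z₁⁻¹ * k₂⁻¹ = (k₂ * z₁)⁻¹ := by group
                  _ = (z₁ * k₂)⁻¹ := by rw [this]
                  _ = k₂⁻¹ * z₁⁻¹ := by group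
              rw [this]
          _ = z₁ * (z₂ * (k₁ * k₂ * k₁⁻¹ * k₂⁻¹)) * z₁⁻¹ * z₂⁻¹ := by group
          _ = z₁ * ((k₁ * k₂ * k₁⁻¹ * k₂⁻¹) * z₂) * z₁⁻¹ * z₂⁻¹ := by
              rw [hz₂c _ (K.mul_mem (K.mul_mem (K.mul_mem hk₁ hk₂) hk₁') hk₂')]
          _ = (z₁ * (k₁ * k₂ * k₁⁻¹ * k₂⁻¹)) * z₂ * z₁⁻¹ * z₂⁻¹ := by group
          _ = ((k₁ * k₂ * k₁⁻¹ * k₂⁻¹) * z₁) * z₂ * z₁⁻¹ * z₂⁻¹ := by
              rw [hz₁c _ (K.mul_mem (K.mul_mem (K.mul_mem hk₁ hk₂) hk₁') hk₂')]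
          _ = (k₁ * k₂ * k₁⁻¹ * k₂⁻¹) * (z₁ * z₂ * z₁⁻¹ * z₂⁻¹) := by group
          _ = k₁ * k₂ * k₁⁻¹ * k₂⁻¹ := by
              have hz₂K : z₂ ∈ K := by
                rw [hz₂]
                exact K.mul_mem ((Subgroup.mem_normalizer_iff.mp n.2 k₂).mp hk₂) hk₂'
              have : z₁ * z₂ = z₂ * z₁ := hz₁c z₂ hz₂K
              rw [this]; group
      calc ⁅k₁, k₂⁆ * (n : Y) = ((n : Y) * ⁅k₁, k₂⁆ * (n : Y)⁻¹) * (n : Y) := by rw [key]
        _ = (n : Y) * ⁅k₁, k₂⁆ := by group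
    have hK : K ≤ Subgroup.centralizer ({(n : Y)} : Set Y) := by
      intro k hk
      apply hK'
      rw [hperf]
      exact hk
    rw [Subgroup.mem_centralizer_iff]
    intro k hk
    exact (Subgroup.mem_centralizer_singleton_iff.mp (hK hk))
  · intro hn
    rw [MonoidHom.mem_ker]
    ext x
    induction x using QuotientGroup.induction_on with
    | H x =>
      rw [autHom_apply_mk, MulAut.one_apply]
      congr 1
      apply Subtype.ext
      rw [conjNorm_apply_coe]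
      have := (Subgroup.mem_centralizer_iff.mp hn) (x : Y) x.2
      rw [← this]; group

end Cfsg.Agent.Helper7
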