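import Mathlib
import Cfsg.Prelude.Def_Local
import Cfsg.Prelude.Def_KGroupFacts
import Cfsg.Agent.Lib.Helper7.LBalL
import Cfsg.Agent.Lib.Helper7.Layer5
import Cfsg.Agent.Lib.Helper7.FStar2
import Cfsg.Agent.Lib.Helper1.FittingSolvable

set_option autoImplicit false

namespace Cfsg.Agent.Helper7

open Subgroup
open scoped commutatorElement

section schreier

/-- a homomorphism from a perfect group to a solvable group is trivial -/
theorem map_eq_one_of_perfect_of_isSolvable {P S : Type*} [Group P] [Group S]
    (hP : commutator P = ⊤) (hS : Group.IsSolvable S) (f : P →* S) (x : P) : f x = 1 := by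
  have hd : ∀ n, derivedSeries P n = ⊤ := by
    intro n
    induction n with
    | zero => exact derivedSeries_zero P
    | succ n ih =>
      rw [derivedSeries_succ, ih]
      exact hP
  obtain ⟨n, hn⟩ := hS.solvable
  have h1 := map_derivedSeries_le_derivedSeries f n
  rw [hd n, hn, le_bot_iff] at h1
  have h2 : f x ∈ (⊤ : Subgroup P).map f := Subgroup.mem_map_of_mem f (Subgroup.mem_top x)
  rw [h1, Subgroup.mem_bot] at h2
  exact h2

variable {G : Type*} [Group G]

/-- Schreier property: a perfect subgroup `J` normalizing the perfect subgroup `K` with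
`Out(K/Z(K))` solvable induces inner automorphisms on `K`, so `J ≤ K C(K)`. -/
theorem exists_mem_mul_centralizer_of_isSolvable_out {K J : Subgroup G} (hK : ⁅K, K⁆ = K)
    (hJ : ⁅J, J⁆ = J) (hJK : J ≤ Subgroup.normalizer (K : Set G))
    (hS : Group.IsSolvable (Cfsg.Out (↥K ⧸ Subgroup.center ↥K))) :
    ∀ j ∈ J, ∃ k ∈ K, k⁻¹ * j ∈ Subgroup.centralizer (K : Set G) := by
  intro j hj
  have hperf' : commutator ↥J = ⊤ := by
    apply Subgroup.map_injective (Subgroup.subtype_injective J)
    rw [commutator_def, Subgroup.map_commutator, ← MonoidHom.range_eq_map,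
      Subgroup.range_subtype, hJ]
  set ψ : ↥J →* Cfsg.Out (↥K ⧸ Subgroup.center ↥K) :=
    (QuotientGroup.mk' (Cfsg.Inn (↥K ⧸ Subgroup.center ↥K))).comp
      ((autHom K).comp (Subgroup.inclusion hJK)) with hψ
  have h1 := map_eq_one_of_perfect_of_isSolvable hperf' hS ψ ⟨j, hj⟩
  have h2 : autHom K ⟨j, hJK hj⟩ ∈ Cfsg.Inn (↥K ⧸ Subgroup.center ↥K) := by
    rw [hψ] at h1
    simp only [MonoidHom.comp_apply] at h1
    rw [QuotientGroup.mk'_apply, QuotientGroup.eq_one_iff] at h1
    exact h1
  obtain ⟨x, hx⟩ := h2
  induction x using QuotientGroup.induction_on with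
  | H k₀ =>
    refine ⟨(k₀ : G), k₀.2, ?_⟩
    have h3 := autHom_of_mem K k₀
    set n₀ : ↥(Subgroup.normalizer (K : Set G)) := ⟨(k₀ : G), Subgroup.le_normalizer k₀.2⟩ with hn₀
    set n₁ : ↥(Subgroup.normalizer (K : Set G)) := ⟨j, hJK hj⟩ with hn₁
    have h4 : n₀⁻¹ * n₁ ∈ (autHom K).ker := by
      rw [MonoidHom.mem_ker, map_mul, map_inv, h3, ← hx]
      exact inv_mul_cancel _
    have h5 := (mem_ker_autHom_iff hK _).mp h4
    simpa [hn₀, hn₁] using h5

end schreier

section assemble

variable {G : Type*} [Group G] [Finite G]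

/-- an element inducing inner automorphisms on every component lies in `E(G) C(E(G))` -/
theorem exists_mem_layer_mul_centralizer {x : G}
    (hx : ∀ K : Subgroup G, Cfsg.IsComponent K →
      ∃ k ∈ K, k⁻¹ * x ∈ Subgroup.centralizer (K : Set G)) :
    ∃ e ∈ Cfsg.layer G, e⁻¹ * x ∈ Subgroup.centralizer (Cfsg.layer G : Set G) := by
  classical
  have key : ∀ S : Finset (Subgroup G), (∀ L ∈ S, Cfsg.IsComponent L) →
      ∃ e ∈ (⨆ L ∈ S, L : Subgroup G), ∀ L ∈ S, e⁻¹ * x ∈ Subgroup.centralizer (L : Set G) := by
    intro S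
    induction S using Finset.induction_on with
    | empty => intro _; exact ⟨1, one_mem _, by simp⟩
    | insert K S hKS ih =>
      intro hall
      obtain ⟨e, he, hec⟩ := ih (fun L hL => hall L (Finset.mem_insert_of_mem hL))
      have hKc : Cfsg.IsComponent K := hall K (Finset.mem_insert_self K S)
      obtain ⟨k, hk, hkc⟩ := hx K hKc
      have hcomm : ∀ L ∈ S, ⁅L, K⁆ = ⊥ := by
        intro L hL
        have hne : L ≠ K := by rintro rfl; exact hKS hL
        exact component_commutator_eq_bot_of_ne (hall L (Finset.mem_insert_of_mem hL)) hKc hne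
      have heK : e ∈ Subgroup.centralizer (K : Set G) := by
        have : (⨆ L ∈ S, L : Subgroup G) ≤ Subgroup.centralizer (K : Set G) := by
          apply iSup₂_le
          intro L hL
          exact Subgroup.commutator_eq_bot_iff_le_centralizer.mp (hcomm L hL)
        exact this he
      have hek : k * e = e * k := (Subgroup.mem_centralizer_iff.mp heK) k hk
      refine ⟨e * k, ?_, ?_⟩
      · rw [Finset.iSup_insert]
        exact mul_mem (Subgroup.mem_sup_right he) (Subgroup.mem_sup_left hk)
      · intro L hL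
        rw [Finset.mem_insert] at hL
        rcases hL with rfl | hL
        · have h1 : (e * k)⁻¹ * x = e⁻¹ * (k⁻¹ * x) := by
            rw [← hek]; group
          rw [h1]
          exact mul_mem (inv_mem heK) hkc
        · have h1 : (e * k)⁻¹ * x = k⁻¹ * (e⁻¹ * x) := by group
          rw [h1]
          have hkL : k ∈ Subgroup.centralizer (L : Set G) := by
            have h2 : ⁅K, L⁆ = ⊥ := by rw [Subgroup.commutator_comm]; exact hcomm L hL
            exact Subgroup.commutator_eq_bot_iff_le_centralizer.mp h2 hk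
          exact mul_mem (inv_mem hkL) (hec L hL)
  haveI : Fintype (Subgroup G) := Fintype.ofFinite _
  obtain ⟨e, he, hec⟩ := key (Finset.univ.filter (fun L : Subgroup G => Cfsg.IsComponent L))
    (fun L hL => (Finset.mem_filter.mp hL).2)
  refine ⟨e, ?_, ?_⟩
  · have : (⨆ L ∈ (Finset.univ.filter (fun L : Subgroup G => Cfsg.IsComponent L)), L : Subgroup G)
        ≤ Cfsg.layer G := by
      apply iSup₂_le
      intro L hL
      exact component_le_layer (Finset.mem_filter.mp hL).2
    exact this he
  · have h1 : Cfsg.layer G ≤ Subgroup.centralizer ({e⁻¹ * x} : Set G) := by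
      unfold Cfsg.layer
      apply sSup_le
      intro L hL
      have hL' : Cfsg.IsComponent L := hL
      intro l hl
      rw [Subgroup.mem_centralizer_singleton_iff]
      have := hec L (Finset.mem_filter.mpr ⟨Finset.mem_univ _, hL'⟩)
      exact ((Subgroup.mem_centralizer_iff.mp this) l hl)
    rw [Subgroup.mem_centralizer_iff]
    intro y hy
    exact (Subgroup.mem_centralizer_singleton_iff.mp (h1 hy))

/-- a perfect subgroup of `F*(G)` lies in `E(G)` -/
theorem le_layer_of_perfect_of_le_generalizedFittingSubgroup {J : Subgroup G} (hJ : ⁅J, J⁆ = J)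
    (hle : J ≤ Cfsg.generalizedFittingSubgroup G) : J ≤ Cfsg.layer G := by
  have h : ∀ n, J ≤ dser (Cfsg.generalizedFittingSubgroup G) n := by
    intro n
    induction n with
    | zero => exact hle
    | succ n ih =>
      show J ≤ ⁅dser (Cfsg.generalizedFittingSubgroup G) n, dser (Cfsg.generalizedFittingSubgroup G) n⁆
      conv_lhs => rw [← hJ]
      exact Subgroup.commutator_mono ih ih
  rw [← iInf_derivedSeries_generalizedFittingSubgroup]
  apply le_iInf
  intro n
  rw [map_subtype_derivedSeries]
  exact h n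

/-- Step D: a perfect subgroup centralizing `O_p(G)` and normalizing every component lies in
`E(G)`, when `O_{p'}(G) = 1` and the components have the Schreier property. -/
theorem le_layer_of_forall_le_normalizer (p : ℕ) [Fact p.Prime] (hO : Cfsg.pPrimeCore p G = ⊥)
    (hS : ∀ K : Subgroup G, Cfsg.IsComponent K →
      Group.IsSolvable (Cfsg.Out (↥K ⧸ Subgroup.center ↥K)))
    (J : Subgroup G) (hJ : ⁅J, J⁆ = J)
    (hJQ : J ≤ Subgroup.centralizer (Cfsg.pCore p G : Set G))
    (hJN : ∀ K : Subgroup G, Cfsg.IsComponent K → J ≤ Subgroup.normalizer (K : Set G)) :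
    J ≤ Cfsg.layer G := by
  apply le_layer_of_perfect_of_le_generalizedFittingSubgroup hJ
  intro x hx
  obtain ⟨e, he, hec⟩ := exists_mem_layer_mul_centralizer (x := x) (fun K hK =>
    exists_mem_mul_centralizer_of_isSolvable_out (component_perfect hK) hJ (hJN K hK)
      (hS K hK) x hx)
  have hF : Cfsg.fittingSubgroup G = Cfsg.pCore p G :=
    Cfsg.Agent.Helper1.fittingSubgroup_eq_pCore p hO
  have heF : e ∈ Subgroup.centralizer (Cfsg.fittingSubgroup G : Set G) :=
    Subgroup.commutator_eq_bot_iff_le_centralizer.mp layer_commutator_fittingSubgroup he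
  have hxF : x ∈ Subgroup.centralizer (Cfsg.fittingSubgroup G : Set G) := by
    rw [hF]; exact hJQ hx
  have hcF : e⁻¹ * x ∈ Subgroup.centralizer (Cfsg.fittingSubgroup G : Set G) :=
    mul_mem (inv_mem heF) hxF
  have hc : e⁻¹ * x ∈ Subgroup.centralizer (Cfsg.generalizedFittingSubgroup G : Set G) := by
    have h1 : Cfsg.generalizedFittingSubgroup G ≤ Subgroup.centralizer ({e⁻¹ * x} : Set G) := by
      unfold Cfsg.generalizedFittingSubgroup
      apply sup_le
      · intro y hy
        rw [Subgroup.mem_centralizer_singleton_iff]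
        exact (Subgroup.mem_centralizer_iff.mp hec) y hy
      · intro y hy
        rw [Subgroup.mem_centralizer_singleton_iff]
        exact (Subgroup.mem_centralizer_iff.mp hcF) y hy
    rw [Subgroup.mem_centralizer_iff]
    intro y hy
    exact (Subgroup.mem_centralizer_singleton_iff.mp (h1 hy))
  have h2 := centralizer_generalizedFittingSubgroup_le hc
  have h3 : x = e * (e⁻¹ * x) := by group
  rw [h3]
  exact mul_mem (layer_le_generalizedFittingSubgroup he) h2

end assemble

end Cfsg.Agent.Helper7
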