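import Mathlib
import Cfsg.Prelude.Def_Local
import Cfsg.Agent.Lib.Helper7.LpB4
import Cfsg.Agent.Lib.Helper7.LBalA
import Cfsg.Agent.Lib.Helper7.Quasisimple
import Cfsg.Agent.Lib.Helper1.FittingSolvable

set_option autoImplicit false

namespace Cfsg.Agent.Helper7

open Subgroup
open scoped commutatorElement Pointwise

universe u

variable {G : Type u} [Group G] [Finite G]

theorem orbitJoin_le_layer {R K : Subgroup G} (hK : Cfsg.IsComponent K) :
    orbitJoin R K ≤ Cfsg.layer G := by
  unfold orbitJoin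
  apply iSup_le
  intro r
  exact component_le_layer (isComponent_conj_smul hK _)

theorem layer_le_normalizer_orbitJoin {R K : Subgroup G} (hK : Cfsg.IsComponent K) :
    Cfsg.layer G ≤ Subgroup.normalizer (orbitJoin R K : Set G) := by
  intro e he
  unfold orbitJoin
  apply mem_normalizer_iSup
  intro r
  exact layer_le_normalizer_component (isComponent_conj_smul hK _) he

theorem orbitJoin_isSubnormal {R K : Subgroup G} (hK : Cfsg.IsComponent K) :
    (orbitJoin R K).IsSubnormal := by
  apply Subgroup.IsSubnormal.trans (orbitJoin_le_layer hK) _ (layer_normal.isSubnormal)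
  apply Subgroup.Normal.isSubnormal
  exact (Subgroup.normal_subgroupOf_iff_le_normalizer (orbitJoin_le_layer hK)).mpr
    (layer_le_normalizer_orbitJoin hK)

/-- if `K^j` is not an `R`-conjugate of `K` and `j` centralizes `R`, then the join of the
`R`-conjugates of `K` commutes with its `j`-conjugate -/
theorem commutator_orbitJoin_conj_eq_bot {R K : Subgroup G} (hK : Cfsg.IsComponent K) {j : G}
    (hjR : j ∈ Subgroup.centralizer (R : Set G))
    (hne : ∀ r ∈ R, MulAut.conj j • K ≠ MulAut.conj r • K) :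
    ⁅orbitJoin R K, MulAut.conj j • orbitJoin R K⁆ = ⊥ := by
  rw [conj_smul_orbitJoin, eq_bot_iff]
  unfold orbitJoin
  apply commutator_iSup_le
  intro r
  apply commutator_iSup_le'
  intro r'
  rw [le_bot_iff]
  apply component_commutator_eq_bot_of_ne (isComponent_conj_smul hK _) (isComponent_conj_smul hK _)
  intro heq
  have hc : j * (r' : G) = (r' : G) * j := ((Subgroup.mem_centralizer_iff.mp hjR) _ r'.2).symm
  rw [hc, ← conj_smul_conj_smul] at heq
  apply hne ((r' : G)⁻¹ * (r : G)) (R.mul_mem (R.inv_mem r'.2) r.2)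
  rw [← conj_smul_conj_smul, heq, conj_smul_conj_smul, inv_mul_cancel, conj_one_smul]

/-- the key step: a `p'`-element `j` centralizing the `p`-group `R ≥ O_p(G)` whose commutators with
`E(G) ∩ N(R)` are `p'`-elements normalizes every component (`O_{p'}(G) = 1`). -/
theorem mem_normalizer_component_of_commutator_coprime (p : ℕ) [hp : Fact p.Prime]
    (hO : Cfsg.pPrimeCore p G = ⊥) {R : Subgroup G} (hR : IsPGroup p ↥R)
    (hQR : Cfsg.pCore p G ≤ R) {K : Subgroup G} (hK : Cfsg.IsComponent K) {j : G}
    (hjR : j ∈ Subgroup.centralizer (R : Set G)) (hjp : (orderOf j).Coprime p)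
    (hc : ∀ s ∈ Cfsg.layer G ⊓ Subgroup.normalizer (R : Set G), (orderOf ⁅j, s⁆).Coprime p) :
    j ∈ Subgroup.normalizer (K : Set G) := by
  by_contra hjK
  have hjK' : MulAut.conj j • K ≠ K := fun h => hjK (mem_normalizer_of_conj_smul_eq h)
  by_cases hcase : ∃ r ∈ R, MulAut.conj j • K = MulAut.conj r • K
  · obtain ⟨r, hr, hjr⟩ := hcase
    apply hjK'
    apply conj_smul_eq_self_of_commute_of_coprime
      (((Subgroup.mem_centralizer_iff.mp hjR) r hr).symm) _ hjr
    obtain ⟨k, hk⟩ := (IsPGroup.iff_orderOf.mp hR) ⟨r, hr⟩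
    rw [Subgroup.orderOf_mk] at hk
    rw [hk]
    exact Nat.Coprime.pow_right k hjp
  · push_neg at hcase
    set A : Subgroup G := orbitJoin R K with hA
    have hcomm := commutator_orbitJoin_conj_eq_bot hK hjR hcase
    have hAsn : A.IsSubnormal := orbitJoin_isSubnormal hK
    have hZR : A ⊓ Subgroup.centralizer (A : Set G) ≤ R := by
      refine le_trans (subnormal_inf_centralizer_le_fittingSubgroup hAsn) ?_
      rw [Cfsg.Agent.Helper1.fittingSubgroup_eq_pCore p hO]
      exact hQR
    have hex : ∃ l₀ ∈ A, (∃ k, orderOf l₀ = p ^ k) ∧ l₀ ∉ Subgroup.centralizer (A : Set G) := by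
      obtain ⟨l₀, hl₀, hl₀p, hl₀c⟩ := exists_pElement_not_centralizing p hO hK
      refine ⟨l₀, le_orbitJoin R K hl₀, hl₀p, fun h => hl₀c ?_⟩
      exact Subgroup.centralizer_le (le_orbitJoin R K) h
    obtain ⟨s, hsA, ⟨a, hsa⟩, hsc, hsN⟩ := exists_pElement_mem_normalizer p hAsn hR
      (le_normalizer_orbitJoin R K) hZR hex
    have hcs := hc s (Subgroup.mem_inf.mpr ⟨orbitJoin_le_layer hK hsA, hsN⟩)
    set t := j * s * j⁻¹ with ht
    have htA : t ∈ MulAut.conj j • A := conj_mem_conj_smul A j s hsA
    have hst : s * t = t * s := by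
      have := Subgroup.commutator_eq_bot_iff_le_centralizer.mp hcomm hsA
      exact ((Subgroup.mem_centralizer_iff.mp this) t htA).symm
    have hto : t ^ (p ^ a) = 1 := by
      rw [ht, conj_pow, ← hsa, pow_orderOf_eq_one]; group
    have hso : s ^ (p ^ a) = 1 := by rw [← hsa, pow_orderOf_eq_one]
    have hjs : ⁅j, s⁆ = t * s⁻¹ := by rw [commutatorElement_def]
    have hpow : (t * s⁻¹) ^ (p ^ a) = 1 := by
      have hcm : Commute t s⁻¹ := (Commute.inv_right (show Commute t s from hst.symm))
      rw [hcm.mul_pow, hto, inv_pow, hso]; simp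
    have h1 : orderOf (t * s⁻¹) ∣ p ^ a := orderOf_dvd_of_pow_eq_one hpow
    rw [hjs] at hcs
    have h2 : orderOf (t * s⁻¹) = 1 :=
      Nat.Coprime.eq_one_of_dvd (Nat.Coprime.pow_right a hcs) h1
    have h3 : t = s := by
      have := orderOf_eq_one_iff.mp h2
      calc t = (t * s⁻¹) * s := by group
        _ = s := by rw [this, one_mul]
    apply hsc
    have h4 : MulAut.conj j • A ≤ Subgroup.centralizer (A : Set G) := by
      rw [Subgroup.commutator_comm] at hcomm
      exact Subgroup.commutator_eq_bot_iff_le_centralizer.mp hcomm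
    rw [← h3]
    exact h4 htA

end Cfsg.Agent.Helper7
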