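import Mathlib
import Cfsg.Prelude.Def_Local
import Cfsg.Agent.Lib.Helper7.LpB1
import Cfsg.Agent.Lib.Helper7.LpB2
import Cfsg.Agent.Lib.Helper7.LpB5

set_option autoImplicit false

namespace Cfsg.Agent.Helper7

open Subgroup
open scoped commutatorElement Pointwise

universe u

variable {G : Type u} [Group G] [Finite G]

/-- perfectness transfers from `J.subgroupOf N` to `J` -/
theorem perfect_of_subgroupOf_perfect {J N : Subgroup G} (hJN : J ≤ N)
    (h : ⁅J.subgroupOf N, J.subgroupOf N⁆ = J.subgroupOf N) : ⁅J, J⁆ = J := by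
  have := congrArg (Subgroup.map N.subtype) h
  rw [Subgroup.map_commutator, Subgroup.map_subgroupOf_eq_of_le hJN] at this
  exact this

/-- **Theorem T**: with `O_{p'}(G) = 1` and `O_p(G) ≤ R`, a `p`-component `J` of `N_G(R)` lies in
`E(G)` or normalizes every component of `G`. -/
theorem le_layer_or_forall_le_normalizer (p : ℕ) [hp : Fact p.Prime]
    (hO : Cfsg.pPrimeCore p G = ⊥) {R : Subgroup G} (hR : IsPGroup p ↥R)
    (hQR : Cfsg.pCore p G ≤ R) {J : Subgroup G}
    (hJN : J ≤ Subgroup.normalizer (R : Set G))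
    (hJ : Cfsg.IsPComponent p (J.subgroupOf (Subgroup.normalizer (R : Set G))))
    (hJR : J ≤ Subgroup.centralizer (R : Set G)) :
    J ≤ Cfsg.layer G ∨
      ∀ K : Subgroup G, Cfsg.IsComponent K → J ≤ Subgroup.normalizer (K : Set G) := by
  set N : Subgroup G := Subgroup.normalizer (R : Set G) with hN
  set V : Subgroup G := Cfsg.layer G ⊓ N with hV
  have hVN : V ≤ N := inf_le_right
  haveI hVn : (V.subgroupOf N).Normal := by
    rw [Subgroup.normal_subgroupOf_iff_le_normalizer hVN]
    refine le_trans ?_ Subgroup.inf_normalizer_le_normalizer_inf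
    apply le_inf
    · rw [Subgroup.normalizer_eq_top_iff.mpr layer_normal]; exact le_top
    · exact Subgroup.le_normalizer
  have hperf : ⁅J, J⁆ = J := perfect_of_subgroupOf_perfect hJN (IsPComponent.perfect p hJ)
  rcases IsPComponent.le_or_commutator_le p hJ (V.subgroupOf N) with h | h
  · left
    exact ((subgroupOf_le_subgroupOf_iff hJN).mp h).trans inf_le_left
  · right
    intro K hK
    apply perfect_le_of_coprime p J _ hperf
    intro j hj hjp
    apply mem_normalizer_component_of_commutator_coprime p hO hR hQR hK (hJR hj) hjp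
    intro s hs
    have h1 : ⁅(⟨j, hJN hj⟩ : ↥N), (⟨s, hs.2⟩ : ↥N)⁆ ∈ Cfsg.pPrimeCore p ↥N := by
      apply h
      apply Subgroup.commutator_mem_commutator
      · exact Subgroup.mem_subgroupOf.mpr hj
      · exact Subgroup.mem_subgroupOf.mpr hs
    have h2 : (orderOf (⁅(⟨j, hJN hj⟩ : ↥N), (⟨s, hs.2⟩ : ↥N)⁆)).Coprime p := by
      have h3 : orderOf (⟨_, h1⟩ : ↥(Cfsg.pPrimeCore p ↥N)) ∣ Nat.card ↥(Cfsg.pPrimeCore p ↥N) :=
        orderOf_dvd_natCard _
      rw [Subgroup.orderOf_mk] at h3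
      exact Nat.Coprime.coprime_dvd_left h3 (Cfsg.Agent.Helper22.card_pPrimeCore_coprime p)
    have h4 : N.subtype ⁅(⟨j, hJN hj⟩ : ↥N), (⟨s, hs.2⟩ : ↥N)⁆ = ⁅j, s⁆ :=
      map_commutatorElement N.subtype _ _
    rw [← h4, Subgroup.coe_subtype, Subgroup.orderOf_coe]
    exact h2

end Cfsg.Agent.Helper7
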