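import Mathlib
import Cfsg.Prelude.Def_Local
import Cfsg.Prelude.Def_Balance
import Cfsg.Agent.Lib.Helper7.PLocal7

set_option autoImplicit false

namespace Cfsg.Agent.Helper7

open Subgroup
open scoped commutatorElement
open Cfsg.Agent.Helper15 (IsSylowIn)

section general

variable {G : Type*} [Group G]

theorem mem_map_conj_iff' {H : Subgroup G} {g x : G} :
    x ∈ H.map (MulAut.conj g).toMonoidHom ↔ g⁻¹ * x * g ∈ H :=
  Cfsg.Agent.Helper15.mem_map_conj_iff

/-- the join of a conjugation-closed family of subgroups is normal -/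
theorem normal_sSup_of_conj_le (S : Set (Subgroup G))
    (h : ∀ K ∈ S, ∀ g : G, K.map (MulAut.conj g).toMonoidHom ≤ sSup S) : (sSup S).Normal := by
  constructor
  intro n hn g
  have h1 : sSup S ≤ (sSup S).comap (MulAut.conj g).toMonoidHom := by
    apply sSup_le
    intro K hK
    rw [← Subgroup.map_le_iff_le_comap]
    exact h K hK g
  have := h1 hn
  simpa [Subgroup.mem_comap, MulAut.conj_apply] using this

theorem normal_sSup_of_conj_closed (S : Set (Subgroup G))
    (h : ∀ K ∈ S, ∀ g : G, K.map (MulAut.conj g).toMonoidHom ∈ S) : (sSup S).Normal :=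
  normal_sSup_of_conj_le S (fun K hK g => le_sSup (h K hK g))

theorem comap_map_conj {G' : Type*} [Group G'] (φ : G →* G') (H : Subgroup G') (g : G) :
    (H.comap φ).map (MulAut.conj g).toMonoidHom =
      (H.map (MulAut.conj (φ g)).toMonoidHom).comap φ := by
  ext x
  rw [mem_map_conj_iff', Subgroup.mem_comap, Subgroup.mem_comap, mem_map_conj_iff']
  simp [map_mul, map_inv]

theorem map_map_conj {G' : Type*} [Group G'] (φ : G →* G') (H : Subgroup G) (g : G) :
    (H.map (MulAut.conj g).toMonoidHom).map φ =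
      (H.map φ).map (MulAut.conj (φ g)).toMonoidHom := by
  rw [Subgroup.map_map, Subgroup.map_map]
  congr 1
  ext x
  simp [MulAut.conj_apply]

end general

section pcomp

variable {X : Type*} [Group X] [Finite X] (p : ℕ) [Fact p.Prime]

theorem IsPComponent.map_conj {K : Subgroup X} (hK : Cfsg.IsPComponent p K) (g : X) :
    Cfsg.IsPComponent p (K.map (MulAut.conj g).toMonoidHom) := by
  set φ := QuotientGroup.mk' (Cfsg.pPrimeCore p X) with hφ
  have h1 : K.map (MulAut.conj g).toMonoidHom = Cfsg.pElementClosure p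
      (((K.map φ).map (MulAut.conj (φ g)).toMonoidHom).comap φ) := by
    conv_lhs => rw [IsPComponent.eq_pElementClosure p hK]
    rw [map_pElementClosure_of_injective p _ (MulAut.conj g).injective, comap_map_conj]
  rw [h1]
  exact isPComponent_pElementClosure_comap p (isComponent_map_mulEquiv (MulAut.conj (φ g)) hK.2.1)

instance pLayer_normal : (Cfsg.pLayer p X).Normal :=
  normal_sSup_of_conj_closed _ (fun _ hK g => IsPComponent.map_conj p hK g)

instance pPrimePCore_normal_ext : (Cfsg.pPrimePCore p X).Normal := by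
  unfold Cfsg.pPrimePCore
  exact Subgroup.Normal.comap inferInstance _

end pcomp

section coreOf

variable {G : Type*} [Group G] [Finite G] (p : ℕ)

/-- a `p'`-subgroup of `C` normalized by `C` lies in `O_{p'}(C)` -/
theorem le_map_pPrimeCore {C R : Subgroup G} (hRC : R ≤ C)
    (hn : C ≤ Subgroup.normalizer (R : Set G)) (hcop : (Nat.card ↥R).Coprime p) :
    R ≤ (Cfsg.pPrimeCore p ↥C).map C.subtype := by
  have h1 : R.subgroupOf C ≤ Cfsg.pPrimeCore p ↥C := by
    apply Cfsg.Agent.Helper22.le_pPrimeCore p _ (Subgroup.normal_subgroupOf_of_le_normalizer hn)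
    rw [card_subgroupOf_of_le hRC]; exact hcop
  rw [← Subgroup.map_subgroupOf_eq_of_le hRC]
  exact Subgroup.map_mono h1

theorem le_normalizer_map_conj {C R : Subgroup G} (hn : C ≤ Subgroup.normalizer (R : Set G))
    (g : G) : C.map (MulAut.conj g).toMonoidHom ≤
      Subgroup.normalizer ((R.map (MulAut.conj g).toMonoidHom : Subgroup G) : Set G) := by
  apply le_normalizer_of_forall_conj_mem
  intro c hc z hz
  rw [mem_map_conj_iff'] at hc hz ⊢
  have h1 := (Subgroup.mem_normalizer_iff.mp (hn hc) _).mp hz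
  have h2 : g⁻¹ * c * g * (g⁻¹ * z * g) * (g⁻¹ * c * g)⁻¹ = g⁻¹ * (c * z * c⁻¹) * g := by group
  rwa [h2] at h1

/-- conjugation carries `O_{p'}(C)` into `O_{p'}(gCg⁻¹)` -/
theorem map_conj_map_pPrimeCore_le (C C' : Subgroup G) (g : G)
    (hC' : C' = C.map (MulAut.conj g).toMonoidHom) :
    ((Cfsg.pPrimeCore p ↥C).map C.subtype).map (MulAut.conj g).toMonoidHom ≤
      (Cfsg.pPrimeCore p ↥C').map C'.subtype := by
  subst hC'
  apply le_map_pPrimeCore
  · exact Subgroup.map_mono (Subgroup.map_subtype_le _)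
  · exact le_normalizer_map_conj (le_normalizer_map_subtype_of_normal (Cfsg.pPrimeCore p ↥C)) g
  · rw [Subgroup.card_map_of_injective (MulAut.conj g).injective, card_map_subtype]
    exact Cfsg.Agent.Helper22.card_pPrimeCore_coprime p

theorem centralizer_map_conj (T : Subgroup G) (g : G) :
    Subgroup.centralizer ((T.map (MulAut.conj g).toMonoidHom : Subgroup G) : Set G) =
      (Subgroup.centralizer (T : Set G)).map (MulAut.conj g).toMonoidHom := by
  ext x
  rw [mem_map_conj_iff', Subgroup.mem_centralizer_iff, Subgroup.mem_centralizer_iff]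
  constructor
  · intro h t ht
    have h1 := h (g * t * g⁻¹) (mem_map_conj_iff'.mpr (by
      have : g⁻¹ * (g * t * g⁻¹) * g = t := by group
      rw [this]; exact ht))
    calc t * (g⁻¹ * x * g) = g⁻¹ * ((g * t * g⁻¹) * x) * g := by group
      _ = g⁻¹ * (x * (g * t * g⁻¹)) * g := by rw [h1]
      _ = g⁻¹ * x * g * t := by group
  · intro h y hy
    rw [SetLike.mem_coe, mem_map_conj_iff'] at hy
    have h1 := h _ hy
    calc y * x = g * ((g⁻¹ * y * g) * (g⁻¹ * x * g)) * g⁻¹ := by group
      _ = g * ((g⁻¹ * x * g) * (g⁻¹ * y * g)) * g⁻¹ := by rw [h1]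
      _ = x * y := by group

end coreOf

section ext

variable {X : Type*} [Group X] [Finite X]

/-- `O(C_X(T))` as a subgroup of `X` -/
def coreCent (T : Subgroup X) : Subgroup X :=
  (Cfsg.oddCore ↥(Subgroup.centralizer (T : Set X))).map (Subgroup.centralizer (T : Set X)).subtype

theorem extendedTwoLayer_eq :
    Cfsg.extendedTwoLayer X = Cfsg.pLayer 2 X ⊔ Cfsg.oddCore X ⊔
      ⨆ T : Sylow 2 ↥(Cfsg.pLayer 2 X ⊔ Cfsg.pPrimePCore 2 X),
        coreCent ((T : Subgroup ↥(Cfsg.pLayer 2 X ⊔ Cfsg.pPrimePCore 2 X)).map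
          (Cfsg.pLayer 2 X ⊔ Cfsg.pPrimePCore 2 X).subtype) := rfl

theorem map_conj_coreCent_le (T : Subgroup X) (g : X) :
    (coreCent T).map (MulAut.conj g).toMonoidHom ≤
      coreCent (T.map (MulAut.conj g).toMonoidHom) :=
  map_conj_map_pPrimeCore_le 2 _ _ g (centralizer_map_conj T g)

/-- conjugating a Sylow subgroup of a normal subgroup `M` -/
theorem exists_sylow_map_conj {p : ℕ} [Fact p.Prime] (M : Subgroup X) [hM : M.Normal]
    (T : Sylow p ↥M) (g : X) :
    ∃ T' : Sylow p ↥M, (T' : Subgroup ↥M).map M.subtype =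
      ((T : Subgroup ↥M).map M.subtype).map (MulAut.conj g).toMonoidHom := by
  have h1 := Cfsg.Agent.Helper15.isSylowIn_map_subtype T
  have hg : g ∈ Subgroup.normalizer (M : Set X) := by
    rw [Subgroup.normalizer_eq_top M]; exact Subgroup.mem_top g
  have h2 := h1.map_conj_of_mem_normalizer hg
  exact ⟨h2.toSylow, h2.map_toSylow⟩

instance extendedTwoLayer_normal : (Cfsg.extendedTwoLayer X).Normal := by
  rw [extendedTwoLayer_eq]
  haveI : (⨆ T : Sylow 2 ↥(Cfsg.pLayer 2 X ⊔ Cfsg.pPrimePCore 2 X),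
        coreCent ((T : Subgroup ↥(Cfsg.pLayer 2 X ⊔ Cfsg.pPrimePCore 2 X)).map
          (Cfsg.pLayer 2 X ⊔ Cfsg.pPrimePCore 2 X).subtype)).Normal := by
    rw [iSup]
    apply normal_sSup_of_conj_le
    rintro K ⟨T, rfl⟩ g
    obtain ⟨T', hT'⟩ := exists_sylow_map_conj (Cfsg.pLayer 2 X ⊔ Cfsg.pPrimePCore 2 X) T g
    refine (map_conj_coreCent_le _ g).trans ?_
    rw [← hT']
    exact le_sSup ⟨T', rfl⟩
  infer_instance

end ext

end Cfsg.Agent.Helper7
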