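import Mathlib
import Cfsg.Agent.Lib.Helper7.LpB1
import Cfsg.Agent.Lib.Helper7.Frattini
import Cfsg.Agent.Lib.Helper7.Cores
import Cfsg.Agent.Lib.Helper15.SylowIn

/-!
# Perfect groups generated by `2`-elements (helper7's library, towards `L`-balance)
-/

set_option autoImplicit false

namespace Cfsg.Agent.Helper7.Glaub

open Subgroup
open scoped commutatorElement

universe u

variable {Γ : Type u} [Group Γ]

/-- `B` is perfect and generated by its `2`-elements. -/
def Good (B : Subgroup Γ) : Prop := ⁅B, B⁆ = B ∧ Cfsg.pElementClosure 2 B = B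

theorem Good.perfect {B : Subgroup Γ} (h : Good B) : ⁅B, B⁆ = B := h.1

theorem Good.map {Γ' : Type*} [Group Γ'] {B : Subgroup Γ} (h : Good B) (f : Γ →* Γ') :
    Good (B.map f) := by
  constructor
  · rw [← Subgroup.map_commutator, h.1]
  · apply le_antisymm (pElementClosure_le' 2 _)
    conv_lhs => rw [← h.2]
    rw [Subgroup.map_le_iff_le_comap]
    apply pElementClosure_le_of_forall
    rintro x hx ⟨k, hk⟩
    rw [Subgroup.mem_comap]
    apply mem_pElementClosure (Subgroup.mem_map_of_mem f hx)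
    have h1 : orderOf (f x) ∣ 2 ^ k := by rw [← hk]; exact orderOf_map_dvd f x
    obtain ⟨j, _, hj⟩ := (Nat.dvd_prime_pow Nat.prime_two).mp h1
    exact ⟨j, hj⟩

theorem Good.le_of_two_elements {B M : Subgroup Γ} (h : Good B)
    (hM : ∀ x ∈ B, (∃ k : ℕ, orderOf x = 2 ^ k) → x ∈ M) : B ≤ M := by
  rw [← h.2]
  exact pElementClosure_le_of_forall hM

theorem Good.le_of_odd_elements [Finite Γ] {B M : Subgroup Γ} (h : Good B)
    (hM : ∀ x ∈ B, (orderOf x).Coprime 2 → x ∈ M) : B ≤ M :=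
  haveI : Fact (Nat.Prime 2) := ⟨Nat.prime_two⟩
  perfect_le_of_coprime 2 B M h.1 hM

theorem Good.eq_bot_of_comm {B : Subgroup Γ} (h : Good B)
    (hc : ∀ a ∈ B, ∀ b ∈ B, a * b = b * a) : B = ⊥ := by
  rw [← h.1, Subgroup.commutator_eq_bot_iff_le_centralizer]
  intro a ha
  rw [Subgroup.mem_centralizer_iff]
  intro b hb
  exact hc b hb a ha

/-- a nontrivial good subgroup contains an involution -/
theorem Good.exists_involution [Finite Γ] {B : Subgroup Γ} (h : Good B) (hne : B ≠ ⊥) :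
    ∃ u ∈ B, orderOf u = 2 := by
  by_contra hcon
  push_neg at hcon
  apply hne
  rw [eq_bot_iff]
  apply h.le_of_two_elements
  rintro x hx ⟨k, hk⟩
  rw [Subgroup.mem_bot]
  rcases Nat.eq_zero_or_pos k with h0 | h0
  · rw [h0, pow_zero, orderOf_eq_one_iff] at hk
    exact hk
  · exfalso
    obtain ⟨j, rfl⟩ : ∃ j, k = j + 1 := ⟨k - 1, by omega⟩
    apply hcon (x ^ (2 ^ j)) (Subgroup.pow_mem _ hx _)
    have h1 : orderOf (x ^ (2 ^ j)) = orderOf x / 2 ^ j := by
      apply orderOf_pow_of_dvd (pow_ne_zero _ two_ne_zero)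
      rw [hk]
      exact pow_dvd_pow 2 (Nat.le_succ j)
    rw [h1, hk, pow_succ, Nat.mul_div_cancel_left _ (pow_pos two_pos _)]

/-- goodness passes to `B.subgroupOf M` when `B ≤ M` -/
theorem Good.subgroupOf {B M : Subgroup Γ} (h : Good B) (hBM : B ≤ M) : Good (B.subgroupOf M) := by
  constructor
  · apply Subgroup.map_injective M.subtype_injective
    rw [Subgroup.map_commutator, Subgroup.map_subgroupOf_eq_of_le hBM, h.1]
  · apply Subgroup.map_injective M.subtype_injective
    rw [map_pElementClosure_of_injective 2 M.subtype M.subtype_injective,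
      Subgroup.map_subgroupOf_eq_of_le hBM, h.2]


theorem card_lt_of_lt [Finite Γ] {H K : Subgroup Γ} (h : H < K) : Nat.card H < Nat.card K := by
  have h1 : Nat.card H ∣ Nat.card K := Subgroup.card_dvd_of_le h.le
  have h2 : Nat.card H ≤ Nat.card K := Nat.le_of_dvd Nat.card_pos h1
  rcases lt_or_eq_of_le h2 with h3 | h3
  · exact h3
  · exact absurd (Subgroup.eq_of_le_of_card_ge h.le h3.ge) h.ne

/-- every `2`-element of the image of `M` is the image of a `2`-element of `M` -/
theorem exists_two_element_preimage [Finite Γ] {Γ' : Type*} [Group Γ'] (f : Γ →* Γ')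
    (M : Subgroup Γ) (y : Γ') (hy : y ∈ M.map f) (hy2 : ∃ k : ℕ, orderOf y = 2 ^ k) :
    ∃ x ∈ M, (∃ j : ℕ, orderOf x = 2 ^ j) ∧ f x = y := by
  haveI : Fact (Nat.Prime 2) := ⟨Nat.prime_two⟩
  obtain ⟨x, hx, rfl⟩ := hy
  obtain ⟨k, hk⟩ := hy2
  obtain ⟨m, hm, a, ha⟩ := exists_pow_pElement 2 x
  rcases Nat.eq_zero_or_pos k with h0 | h0
  · refine ⟨1, one_mem _, ⟨0, by simp⟩, ?_⟩
    rw [h0, pow_zero, orderOf_eq_one_iff] at hk
    rw [map_one, hk]
  · have hcop : Nat.Coprime m (2 ^ k) := Nat.Coprime.pow_right k hm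
    have h1k : 1 < 2 ^ k := Nat.one_lt_two_pow (by omega)
    obtain ⟨m', -, hm'⟩ := Nat.exists_mul_mod_eq_one_of_coprime hcop h1k
    refine ⟨(x ^ m) ^ m', Subgroup.pow_mem _ (Subgroup.pow_mem _ hx _) _, ?_, ?_⟩
    · have h1 : orderOf ((x ^ m) ^ m') ∣ 2 ^ a := by
        rw [← ha]; exact orderOf_pow_dvd m'
      obtain ⟨j, _, hj⟩ := (Nat.dvd_prime_pow Nat.prime_two).mp h1
      exact ⟨j, hj⟩
    · rw [map_pow, map_pow, ← pow_mul, ← pow_mod_orderOf, hk, hm', pow_one]

/-- a good subgroup of the image of `H` lifts to a good subgroup of `H` -/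
theorem Good.lift [Finite Γ] {Γ' : Type*} [Group Γ'] (f : Γ →* Γ') (H : Subgroup Γ)
    {B' : Subgroup Γ'} (hB' : Good B') (hle : B' ≤ H.map f) :
    ∃ B : Subgroup Γ, B ≤ H ∧ Good B ∧ B.map f = B' := by
  have key : ∀ n : ℕ, ∀ M : Subgroup Γ, Nat.card M = n → M.map f = B' →
      ∃ B : Subgroup Γ, B ≤ M ∧ Good B ∧ B.map f = B' := by
    intro n
    induction n using Nat.strong_induction_on with
    | _ n ih =>
      intro M hM hmap
      by_cases h1 : ⁅M, M⁆ = M
      · by_cases h2 : Cfsg.pElementClosure 2 M = M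
        · exact ⟨M, le_rfl, ⟨h1, h2⟩, hmap⟩
        · have hlt : Cfsg.pElementClosure 2 M < M := lt_of_le_of_ne (pElementClosure_le' 2 M) h2
          have hmap' : (Cfsg.pElementClosure 2 M).map f = B' := by
            apply le_antisymm
            · rw [← hmap]; exact Subgroup.map_mono (pElementClosure_le' 2 M)
            · conv_lhs => rw [← hB'.2]
              apply pElementClosure_le_of_forall
              intro y hy hy2
              rw [← hmap] at hy
              obtain ⟨x, hx, hx2, rfl⟩ := exists_two_element_preimage f M y hy hy2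
              exact Subgroup.mem_map_of_mem f (mem_pElementClosure hx hx2)
          obtain ⟨B, hB1, hB2, hB3⟩ := ih _ (hM ▸ card_lt_of_lt hlt) _ rfl hmap'
          exact ⟨B, hB1.trans hlt.le, hB2, hB3⟩
      · have hlt : ⁅M, M⁆ < M := lt_of_le_of_ne (Subgroup.commutator_le_self M) h1
        have hmap' : (⁅M, M⁆).map f = B' := by
          rw [Subgroup.map_commutator, hmap, hB'.1]
        obtain ⟨B, hB1, hB2, hB3⟩ := ih _ (hM ▸ card_lt_of_lt hlt) _ rfl hmap'
        exact ⟨B, hB1.trans hlt.le, hB2, hB3⟩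
  have h0 : (H ⊓ B'.comap f).map f = B' := by
    apply le_antisymm
    · rintro _ ⟨x, ⟨_, hx⟩, rfl⟩
      exact hx
    · intro y hy
      obtain ⟨x, hx, rfl⟩ := hle hy
      exact ⟨x, ⟨hx, hy⟩, rfl⟩
  obtain ⟨B, hB1, hB2, hB3⟩ := key _ _ rfl h0
  exact ⟨B, hB1.trans inf_le_left, hB2, hB3⟩


/-! ### Three subgroups modulo a subgroup -/

theorem commutator_subgroupOf' {A B M : Subgroup Γ} (hA : A ≤ M) (hB : B ≤ M) :
    ⁅A.subgroupOf M, B.subgroupOf M⁆ = (⁅A, B⁆).subgroupOf M := by
  have hAB : ⁅A, B⁆ ≤ M := (Subgroup.commutator_mono hA hB).trans (Subgroup.commutator_le_self M)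
  apply Subgroup.map_injective M.subtype_injective
  rw [Subgroup.map_commutator, Subgroup.map_subgroupOf_eq_of_le hA,
    Subgroup.map_subgroupOf_eq_of_le hB, Subgroup.map_subgroupOf_eq_of_le hAB]

/-- If `B` is perfect, `A` and `B` normalize `N` and `[A, B, B] ≤ N`, then `[A, B] ≤ N`. -/
theorem commutator_le_of_commutator_commutator_le {A B N : Subgroup Γ}
    (hA : A ≤ normalizer (N : Set Γ)) (hB : B ≤ normalizer (N : Set Γ)) (hperf : ⁅B, B⁆ = B)
    (h : ⁅⁅A, B⁆, B⁆ ≤ N) : ⁅A, B⁆ ≤ N := by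
  set M : Subgroup Γ := normalizer (N : Set Γ) with hM
  have hNM : N ≤ M := Subgroup.le_normalizer
  haveI hNn : (N.subgroupOf M).Normal := Subgroup.normal_in_normalizer
  set φ := QuotientGroup.mk' (N.subgroupOf M) with hφ
  have hABM : ⁅A, B⁆ ≤ M := (Subgroup.commutator_mono hA hB).trans (Subgroup.commutator_le_self M)
  have h1 : ⁅⁅(A.subgroupOf M).map φ, (B.subgroupOf M).map φ⁆, (B.subgroupOf M).map φ⁆ = ⊥ := by
    rw [← Subgroup.map_commutator, ← Subgroup.map_commutator, commutator_subgroupOf' hA hB,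
      commutator_subgroupOf' hABM hB, Subgroup.map_eq_bot_iff, QuotientGroup.ker_mk']
    exact Subgroup.comap_mono h
  have h2 : ⁅⁅(B.subgroupOf M).map φ, (A.subgroupOf M).map φ⁆, (B.subgroupOf M).map φ⁆ = ⊥ := by
    rw [Subgroup.commutator_comm ((B.subgroupOf M).map φ)]
    exact h1
  have h3 := Subgroup.commutator_commutator_eq_bot_of_rotate h2 h1
  have hperf' : ⁅(B.subgroupOf M).map φ, (B.subgroupOf M).map φ⁆ = (B.subgroupOf M).map φ := by
    rw [← Subgroup.map_commutator, commutator_subgroupOf' hB hB, hperf]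
  rw [hperf', Subgroup.commutator_comm, ← Subgroup.map_commutator, commutator_subgroupOf' hA hB,
    Subgroup.map_eq_bot_iff, QuotientGroup.ker_mk'] at h3
  exact (subgroupOf_le_subgroupOf_iff hABM).mp h3

/-! ### Transfer of centralizing -/

/-- If `B' ` centralizes the normal subgroup `K`, `O` has odd order and the good group `B` lies in
`B' O`, then `B` centralizes `K`. -/
theorem Good.le_centralizer_of_le_sup [Finite Γ] (K : Subgroup Γ) [K.Normal] {B B' O : Subgroup Γ}
    (hB : Good B) (hO : (Nat.card O).Coprime 2) (hB'K : B' ≤ centralizer (K : Set Γ))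
    (hle : B ≤ B' ⊔ O) : B ≤ centralizer (K : Set Γ) := by
  set q := QuotientGroup.mk' (centralizer (K : Set Γ)) with hq
  apply hB.le_of_two_elements
  rintro x hx ⟨k, hk⟩
  have h1 : q x ∈ (B' ⊔ O).map q := Subgroup.mem_map_of_mem q (hle hx)
  have h2 : (B' ⊔ O).map q = O.map q := by
    rw [Subgroup.map_sup]
    have : B'.map q = ⊥ := by
      rw [Subgroup.map_eq_bot_iff, QuotientGroup.ker_mk']
      exact hB'K
    rw [this, bot_sup_eq]
  rw [h2] at h1
  have o1 : orderOf (q x) ∣ 2 ^ k := hk ▸ orderOf_map_dvd q x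
  have o2 : orderOf (q x) ∣ Nat.card O := by
    have h3 : orderOf (⟨q x, h1⟩ : O.map q) ∣ Nat.card (O.map q) := orderOf_dvd_natCard _
    rw [Subgroup.orderOf_mk] at h3
    exact h3.trans (Subgroup.card_map_dvd (H := O) q)
  have o3 : orderOf (q x) = 1 :=
    Nat.eq_one_of_dvd_coprimes (Nat.Coprime.pow_right k hO) o2 o1
  rw [orderOf_eq_one_iff, hq, QuotientGroup.mk'_apply, QuotientGroup.eq_one_iff] at o3
  exact o3

/-! ### The Frattini lift -/

/-- If the good group `B` centralizes the `2`-group `S` modulo the odd-order group `O`, then some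
good `B'` with `B' O = B O` centralizes `S`. -/
theorem exists_good_centralizing [Finite Γ] {O S B : Subgroup Γ} (hO : (Nat.card O).Coprime 2)
    (hS : IsPGroup 2 S) (hSO : S ≤ normalizer (O : Set Γ)) (hBO : B ≤ normalizer (O : Set Γ))
    (hB : Good B) (hSB : ⁅S, B⁆ ≤ O) :
    ∃ B' : Subgroup Γ, Good B' ∧ B' ≤ centralizer (S : Set Γ) ∧ B' ≤ B ⊔ O ∧ B ≤ B' ⊔ O := by
  haveI : Fact (Nat.Prime 2) := ⟨Nat.prime_two⟩
  set M : Subgroup Γ := normalizer (O : Set Γ) with hM
  have hOM : O ≤ M := Subgroup.le_normalizer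
  haveI hOn : (O.subgroupOf M).Normal := Subgroup.normal_in_normalizer
  set φ := QuotientGroup.mk' (O.subgroupOf M) with hφ
  have hS' : IsPGroup 2 (S.subgroupOf M) := hS.comap_subtype
  have hO' : (Nat.card (O.subgroupOf M)).Coprime 2 := by
    rw [Nat.card_congr (Subgroup.subgroupOfEquivOfLe hOM).toEquiv]
    exact hO
  have hcent := centralizer_map_mk'_eq (G := ↥M) hS' hO'
  have hB₀ : Good (B.subgroupOf M) := hB.subgroupOf hBO
  have hle : (B.subgroupOf M).map φ ≤ (centralizer ((S.subgroupOf M : Subgroup M) : Set M)).map φ := by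
    rw [← hcent, ← Subgroup.commutator_eq_bot_iff_le_centralizer, ← Subgroup.map_commutator,
      commutator_subgroupOf' hBO hSO, Subgroup.map_eq_bot_iff, QuotientGroup.ker_mk']
    apply Subgroup.comap_mono
    rw [Subgroup.commutator_comm]
    exact hSB
  obtain ⟨B₁, hB₁le, hB₁good, hB₁map⟩ := Good.lift φ _ (hB₀.map φ) hle
  refine ⟨B₁.map M.subtype, hB₁good.map _, ?_, ?_, ?_⟩
  · rintro _ ⟨x, hx, rfl⟩
    rw [Subgroup.mem_centralizer_iff]
    intro s hs
    have h1 := Subgroup.mem_centralizer_iff.mp (hB₁le hx) ⟨s, hSO hs⟩ (Subgroup.mem_subgroupOf.mpr hs)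
    exact congrArg Subtype.val h1
  · have h1 : B₁ ≤ (B₁.map φ).comap φ := Subgroup.le_comap_map _ _
    rw [hB₁map, QuotientGroup.comap_map_mk'] at h1
    have h2 := Subgroup.map_mono (f := M.subtype) h1
    rw [Subgroup.map_sup, Subgroup.map_subgroupOf_eq_of_le hOM,
      Subgroup.map_subgroupOf_eq_of_le hBO, sup_comm] at h2
    exact h2
  · have h1 : B.subgroupOf M ≤ ((B.subgroupOf M).map φ).comap φ := Subgroup.le_comap_map _ _
    rw [← hB₁map, QuotientGroup.comap_map_mk'] at h1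
    have h2 := Subgroup.map_mono (f := M.subtype) h1
    rw [Subgroup.map_sup, Subgroup.map_subgroupOf_eq_of_le hOM,
      Subgroup.map_subgroupOf_eq_of_le hBO, sup_comm] at h2
    exact h2

end Cfsg.Agent.Helper7.Glaub
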