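import Mathlib
import Cfsg.Agent.Lib.Helper7.Glaub1
import Cfsg.Agent.S0028

/-!
# The odd core of a subgroup, relative Sylow subgroups (helper7's library, towards `L`-balance)
-/

set_option autoImplicit false

namespace Cfsg.Agent.Helper7.Glaub

open Subgroup Cfsg.Agent.Helper15
open scoped commutatorElement

universe u

variable {Γ : Type u} [Group Γ]

/-! ### The odd core `O(K)` of a subgroup -/

/-- `O(K)` as a subgroup of the ambient group -/
def oc (K : Subgroup Γ) : Subgroup Γ := (Cfsg.pPrimeCore 2 ↥K).map K.subtype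

theorem oc_le (K : Subgroup Γ) : oc K ≤ K := Subgroup.map_subtype_le _

theorem card_oc_coprime [Finite Γ] (K : Subgroup Γ) : (Nat.card (oc K)).Coprime 2 := by
  unfold oc
  rw [Subgroup.card_subtype]
  exact Cfsg.Agent.Helper22.card_pPrimeCore_coprime 2

theorem le_normalizer_map_subtype' (N : Subgroup Γ) (H : Subgroup ↥N) [hH : H.Normal] :
    N ≤ normalizer ((H.map N.subtype : Subgroup Γ) : Set Γ) := by
  intro n hn
  rw [Subgroup.mem_normalizer_iff]
  intro x
  constructor
  · rintro ⟨h, hh, rfl⟩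
    exact ⟨⟨n, hn⟩ * h * ⟨n, hn⟩⁻¹, hH.conj_mem h hh _, by simp⟩
  · rintro ⟨h, hh, he⟩
    refine ⟨⟨n, hn⟩⁻¹ * h * ⟨n, hn⟩, ?_, ?_⟩
    · have := hH.conj_mem h hh (⟨n, hn⟩⁻¹)
      simpa using this
    · simp only [Subgroup.subtype_apply, Subgroup.coe_mul, Subgroup.coe_inv] at he ⊢
      rw [he]; group

theorem le_normalizer_oc (K : Subgroup Γ) : K ≤ normalizer ((oc K : Subgroup Γ) : Set Γ) := by
  haveI := Cfsg.Agent.Helper22.pPrimeCore_normal (G := ↥K) 2
  exact le_normalizer_map_subtype' K _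

theorem le_oc {N K : Subgroup Γ} (hNK : N ≤ K) (hK : K ≤ normalizer (N : Set Γ))
    (hN : (Nat.card N).Coprime 2) : N ≤ oc K := by
  haveI : (N.subgroupOf K).Normal := (Subgroup.normal_subgroupOf_iff_le_normalizer hNK).mpr hK
  have h1 : N.subgroupOf K ≤ Cfsg.pPrimeCore 2 ↥K := by
    apply Cfsg.Agent.Helper22.le_pPrimeCore 2 _ inferInstance
    rw [Nat.card_congr (Subgroup.subgroupOfEquivOfLe hNK).toEquiv]
    exact hN
  have := Subgroup.map_mono (f := K.subtype) h1
  rwa [Subgroup.map_subgroupOf_eq_of_le hNK] at this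

theorem map_conj_oc_le [Finite Γ] (K : Subgroup Γ) {g : Γ} (hg : g ∈ normalizer (K : Set Γ)) :
    (oc K).map (MulAut.conj g).toMonoidHom ≤ oc K := by
  apply le_oc
  · have := map_conj_mono (oc_le K) g
    rwa [map_conj_eq_of_mem_normalizer hg] at this
  · have h1 : K.map (MulAut.conj g).toMonoidHom ≤
        (normalizer ((oc K : Subgroup Γ) : Set Γ)).map (MulAut.conj g).toMonoidHom :=
      Subgroup.map_mono (le_normalizer_oc K)
    rw [map_conj_eq_of_mem_normalizer hg] at h1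
    refine h1.trans ?_
    exact Subgroup.le_normalizer_map _
  · rw [card_map_conj]
    exact card_oc_coprime K

theorem normalizer_le_normalizer_oc [Finite Γ] (K : Subgroup Γ) :
    normalizer (K : Set Γ) ≤ normalizer ((oc K : Subgroup Γ) : Set Γ) := by
  intro g hg
  apply mem_normalizer_of_map_conj_eq
  exact map_conj_eq_iff_le.mpr (map_conj_oc_le K hg)

theorem oc_normal [Finite Γ] (K : Subgroup Γ) [hK : K.Normal] : (oc K).Normal := by
  rw [← Subgroup.normalizer_eq_top_iff, eq_top_iff]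
  have := normalizer_le_normalizer_oc K
  rwa [Subgroup.normalizer_eq_top_iff.mpr hK] at this

theorem oc_le_oc [Finite Γ] {H K : Subgroup Γ} (hHK : H ≤ K) (hK : K ≤ normalizer (H : Set Γ)) :
    oc H ≤ oc K :=
  le_oc ((oc_le H).trans hHK) (hK.trans (normalizer_le_normalizer_oc H)) (card_oc_coprime H)

/-- the odd core of `K / O(K)` is trivial -/
theorem oc_map_mk'_oc [Finite Γ] (K : Subgroup Γ) [K.Normal] (N : Subgroup Γ) [N.Normal]
    (hN : N = oc K) : oc (K.map (QuotientGroup.mk' N)) = ⊥ := by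
  have : Fact (Nat.Prime 2) := ⟨Nat.prime_two⟩
  have hNK : N ≤ K := by rw [hN]; exact oc_le K
  have hNc : (Nat.card N).Coprime 2 := by rw [hN]; exact card_oc_coprime K
  have hNmax : ∀ M : Subgroup Γ, M ≤ K → K ≤ normalizer (M : Set Γ) → (Nat.card M).Coprime 2 →
      M ≤ N := by
    intro M h1 h2 h3
    rw [hN]; exact le_oc h1 h2 h3
  clear hN
  set π := QuotientGroup.mk' N with hπ
  set Nb := oc (K.map π) with hNb
  have h1 : Nb.comap π ≤ K := by
    have h2 : Nb.comap π ≤ (K.map π).comap π := Subgroup.comap_mono (oc_le _)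
    rw [QuotientGroup.comap_map_mk', sup_eq_right.mpr hNK] at h2
    exact h2
  have h3 : K ≤ normalizer ((Nb.comap π : Subgroup Γ) : Set Γ) := by
    have h4 : K ≤ (normalizer ((Nb : Subgroup (Γ ⧸ N)) : Set (Γ ⧸ N))).comap π := by
      rw [← Subgroup.map_le_iff_le_comap]
      exact le_normalizer_oc _
    exact h4.trans (Subgroup.le_normalizer_comap π)
  have h5 : (Nat.card (Nb.comap π)).Coprime 2 := by
    apply coprime_card_of_forall_orderOf_ne
    rintro ⟨x, hx⟩ hxo
    rw [Subgroup.orderOf_mk] at hxo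
    have hx' : π x ∈ Nb := hx
    have o1 : orderOf (π x) ∣ 2 := hxo ▸ orderOf_map_dvd π x
    have o2 : orderOf (π x) ∣ Nat.card Nb := by
      have := orderOf_dvd_natCard (⟨π x, hx'⟩ : Nb)
      rwa [Subgroup.orderOf_mk] at this
    have o3 : orderOf (π x) = 1 :=
      Nat.eq_one_of_dvd_coprimes (card_oc_coprime _).symm o1 o2
    rw [orderOf_eq_one_iff, hπ, QuotientGroup.mk'_apply, QuotientGroup.eq_one_iff] at o3
    have o4 : orderOf (⟨x, o3⟩ : N) ∣ Nat.card N := orderOf_dvd_natCard _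
    rw [Subgroup.orderOf_mk, hxo] at o4
    have := Nat.Coprime.eq_one_of_dvd hNc.symm o4
    omega
  have h6 : Nb.comap π ≤ N := hNmax _ h1 h3 h5
  rw [eq_bot_iff]
  intro y hy
  obtain ⟨x, rfl⟩ := QuotientGroup.mk'_surjective N y
  have : x ∈ N := h6 hy
  rw [Subgroup.mem_bot, QuotientGroup.mk'_apply, QuotientGroup.eq_one_iff]
  exact this

/-! ### Relative Sylow subgroups -/

theorem IsSylowIn.inf_of_le_normalizer [Finite Γ] {p : ℕ} [Fact p.Prime] {M K T : Subgroup Γ}
    (hT : IsSylowIn p T M) (hKM : K ≤ M) (hMK : M ≤ normalizer (K : Set Γ)) :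
    IsSylowIn p (T ⊓ K) K := by
  refine ⟨inf_le_right, hT.isPGroup.to_le inf_le_left, ?_⟩
  intro Q hQ hTQ hQK
  obtain ⟨T', hQT', hT'⟩ := exists_isSylowIn_ge hQ (hQK.trans hKM)
  obtain ⟨m, hm, hmT'⟩ := hT.exists_conj hT'
  have hKm : K.map (MulAut.conj m).toMonoidHom = K := map_conj_eq_of_mem_normalizer (hMK hm)
  have hQle : Q ≤ (T ⊓ K).map (MulAut.conj m).toMonoidHom := by
    rw [Subgroup.map_inf _ _ _ (MulAut.conj m).injective, hKm, hmT']
    exact le_inf hQT' hQK
  have hcard : Nat.card Q ≤ Nat.card ↥(T ⊓ K) := by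
    calc Nat.card Q ≤ Nat.card ↥((T ⊓ K).map (MulAut.conj m).toMonoidHom) :=
          Subgroup.card_le_of_le hQle
      _ = Nat.card ↥(T ⊓ K) := Subgroup.card_map_of_injective (MulAut.conj m).injective
  exact (Subgroup.eq_of_le_of_card_ge hTQ hcard).symm

/-- the image of a relative Sylow subgroup in a quotient by a normal subgroup inside `K` -/
theorem IsSylowIn.map_mk' [Finite Γ] {p : ℕ} [Fact p.Prime] {S K : Subgroup Γ} (hS : IsSylowIn p S K)
    (N : Subgroup Γ) [N.Normal] (hNK : N ≤ K) :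
    IsSylowIn p (S.map (QuotientGroup.mk' N)) (K.map (QuotientGroup.mk' N)) := by
  apply isSylowIn_of_not_dvd_relIndex (hS.isPGroup.map _) (Subgroup.map_mono hS.le)
  rw [Subgroup.relIndex_map_map, QuotientGroup.ker_mk', sup_eq_left.mpr hNK]
  intro h
  exact hS.not_dvd_relIndex (h.trans (Subgroup.relIndex_dvd_of_le_left K le_sup_left))

/-- every `p`-subgroup of `K` is conjugate in `K` into a given relative Sylow subgroup -/
theorem IsSylowIn.exists_conj_le [Finite Γ] {p : ℕ} [Fact p.Prime] {S K Q : Subgroup Γ}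
    (hS : IsSylowIn p S K) (hQ : IsPGroup p Q) (hQK : Q ≤ K) :
    ∃ k ∈ K, Q.map (MulAut.conj k).toMonoidHom ≤ S := by
  obtain ⟨T, hQT, hT⟩ := exists_isSylowIn_ge hQ hQK
  obtain ⟨k, hk, hkT⟩ := hT.exists_conj hS
  exact ⟨k, hk, hkT ▸ map_conj_mono hQT k⟩

/-! ### The `P × Q` lemma for good groups -/

theorem Good.le_centralizer_of_pq [Finite Γ] {B T Q : Subgroup Γ} (hB : Good B)
    (hT : IsPGroup 2 T) (hQ : IsPGroup 2 Q) (hBT : B ≤ centralizer (T : Set Γ))
    (hTQ : T ≤ normalizer (Q : Set Γ)) (hBQ : B ≤ normalizer (Q : Set Γ))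
    (hfix : B ≤ centralizer ((Q ⊓ centralizer (T : Set Γ) : Subgroup Γ) : Set Γ)) :
    B ≤ centralizer (Q : Set Γ) := by
  have : Fact (Nat.Prime 2) := ⟨Nat.prime_two⟩
  apply hB.le_of_odd_elements
  intro x hx hxo
  have h1 : zpowers x ≤ centralizer (Q : Set Γ) := by
    apply Cfsg.Agent.S0028.result 2 T (zpowers x) Q hT _ hQ _ hTQ _ _
    · rw [Nat.card_zpowers]; exact hxo
    · rw [Subgroup.le_centralizer_iff, Subgroup.zpowers_le]
      exact hBT hx
    · rw [Subgroup.zpowers_le]; exact hBQ hx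
    · rw [Subgroup.le_centralizer_iff, Subgroup.zpowers_le]
      exact hfix hx
  exact h1 (Subgroup.mem_zpowers x)

end Cfsg.Agent.Helper7.Glaub
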