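import Mathlib
import Cfsg.Agent.Lib.Helper7.Glaub2
import Cfsg.Agent.Lib.Helper14.Ambient

/-!
# A theorem of Glauberman type, first reductions (helper7's library, towards `L`-balance)

`G1Stmt n`: if `K ⊴ Γ` has order `< n`, `B` is a perfect group generated by `2`-elements which
centralizes a Sylow `2`-subgroup of `K`, then `[K, B] ≤ O(K)`.
-/

set_option autoImplicit false

namespace Cfsg.Agent.Helper7.Glaub

open Subgroup Cfsg.Agent.Helper15
open scoped commutatorElement

universe u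

/-- the statement of the theorem for normal subgroups `K` of order less than `n` -/
def G1Stmt (n : ℕ) : Prop :=
  ∀ (Γ : Type u) [Group Γ] [Finite Γ] (K B S : Subgroup Γ), K.Normal → Nat.card K < n → Good B →
    IsSylowIn 2 S K → B ≤ centralizer (S : Set Γ) → ⁅K, B⁆ ≤ oc K

variable {Γ : Type u} [Group Γ]

theorem isSylowIn_subgroupOf {p : ℕ} {S K M : Subgroup Γ} (hKM : K ≤ M) (hS : IsSylowIn p S K) :
    IsSylowIn p (S.subgroupOf M) (K.subgroupOf M) := by
  refine ⟨Subgroup.comap_mono hS.le, hS.isPGroup.comap_subtype, ?_⟩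
  intro T' hT' hle hK'
  have h1 : S ≤ T'.map M.subtype := by
    have := Subgroup.map_mono (f := M.subtype) hle
    rwa [Subgroup.map_subgroupOf_eq_of_le (hS.le.trans hKM)] at this
  have h2 : T'.map M.subtype ≤ K := by
    have := Subgroup.map_mono (f := M.subtype) hK'
    rwa [Subgroup.map_subgroupOf_eq_of_le hKM] at this
  have h3 := hS.eq_of_le (hT'.map _) h1 h2
  apply Subgroup.map_injective M.subtype_injective
  rw [h3, Subgroup.map_subgroupOf_eq_of_le (hS.le.trans hKM)]

theorem map_subtype_oc_subgroupOf_le [Finite Γ] {K M : Subgroup Γ} (hKM : K ≤ M) :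
    (oc (K.subgroupOf M)).map M.subtype ≤ oc K := by
  apply le_oc
  · have := Subgroup.map_mono (f := M.subtype) (oc_le (K.subgroupOf M))
    rwa [Subgroup.map_subgroupOf_eq_of_le hKM] at this
  · have h1 := Subgroup.map_mono (f := M.subtype) (le_normalizer_oc (K.subgroupOf M))
    rw [Subgroup.map_subgroupOf_eq_of_le hKM] at h1
    exact h1.trans (Subgroup.le_normalizer_map _)
  · rw [Subgroup.card_subtype]
    exact card_oc_coprime _

/-- the relative form: `K` need only be normalized by `B` -/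
theorem G1Stmt.rel {n : ℕ} (h : G1Stmt.{u} n) [Finite Γ] (K B S : Subgroup Γ)
    (hBK : B ≤ normalizer (K : Set Γ)) (hcard : Nat.card K < n) (hB : Good B)
    (hS : IsSylowIn 2 S K) (hSB : B ≤ centralizer (S : Set Γ)) : ⁅K, B⁆ ≤ oc K := by
  set M : Subgroup Γ := normalizer (K : Set Γ) with hM
  have hKM : K ≤ M := Subgroup.le_normalizer
  have hKn : (K.subgroupOf M).Normal := Subgroup.normal_in_normalizer
  have hc : Nat.card (K.subgroupOf M) < n := by
    rw [Nat.card_congr (Subgroup.subgroupOfEquivOfLe hKM).toEquiv]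
    exact hcard
  have hcent : B.subgroupOf M ≤ centralizer ((S.subgroupOf M : Subgroup M) : Set M) := by
    intro b hb
    rw [Subgroup.mem_centralizer_iff]
    intro s hs
    apply Subtype.ext
    exact Subgroup.mem_centralizer_iff.mp (hSB hb) s hs
  have h1 := h ↥M (K.subgroupOf M) (B.subgroupOf M) (S.subgroupOf M) hKn hc (hB.subgroupOf hBK)
    (isSylowIn_subgroupOf hKM hS) hcent
  rw [commutator_subgroupOf' hKM hBK] at h1
  have hKB : ⁅K, B⁆ ≤ M :=
    (Subgroup.commutator_mono hKM hBK).trans (Subgroup.commutator_le_self M)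
  have h2 := Subgroup.map_mono (f := M.subtype) h1
  rw [Subgroup.map_subgroupOf_eq_of_le hKB] at h2
  exact h2.trans (map_subtype_oc_subgroupOf_le hKM)

theorem card_map_mk'_lt [Finite Γ] {N K : Subgroup Γ} [N.Normal] (hNK : N ≤ K) (hN : N ≠ ⊥) :
    Nat.card (K.map (QuotientGroup.mk' N)) < Nat.card K := by
  have h1 : Nat.card (K.map (QuotientGroup.mk' N)) = N.relIndex K := by
    rw [← Subgroup.relIndex_ker, QuotientGroup.ker_mk']
  have h2 : Nat.card (N.subgroupOf K) * N.relIndex K = Nat.card K :=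
    Subgroup.card_mul_index (N.subgroupOf K)
  rw [Nat.card_congr (Subgroup.subgroupOfEquivOfLe hNK).toEquiv] at h2
  have h3 : 1 < Nat.card N := (Subgroup.one_lt_card_iff_ne_bot (H := N)).mpr hN
  have h4 : 0 < N.relIndex K := by
    rcases Nat.eq_zero_or_pos (N.relIndex K) with h | h
    · rw [h, mul_zero] at h2
      exact absurd h2.symm Nat.card_pos.ne'
    · exact h
  rw [h1]
  nlinarith

theorem map_le_centralizer_map {Γ' : Type*} [Group Γ'] (f : Γ →* Γ') {B S : Subgroup Γ}
    (h : B ≤ centralizer (S : Set Γ)) : B.map f ≤ centralizer ((S.map f : Subgroup Γ') : Set Γ') := by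
  rw [← Subgroup.commutator_eq_bot_iff_le_centralizer, ← Subgroup.map_commutator,
    Subgroup.commutator_eq_bot_iff_le_centralizer.mpr h, Subgroup.map_bot]

/-- Case (a): `O(K) ≠ 1`. -/
theorem g1_case_a [Finite Γ] (K B S : Subgroup Γ) [hKn : K.Normal]
    (IH : G1Stmt.{u} (Nat.card K)) (hne : oc K ≠ ⊥) (hB : Good B) (hS : IsSylowIn 2 S K)
    (hSB : B ≤ centralizer (S : Set Γ)) : ⁅K, B⁆ ≤ oc K := by
  have : Fact (Nat.Prime 2) := ⟨Nat.prime_two⟩
  haveI hNn : (oc K).Normal := oc_normal K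
  have hKb : (K.map (QuotientGroup.mk' (oc K))).Normal :=
    hKn.map _ (QuotientGroup.mk'_surjective _)
  have h1 := IH (Γ ⧸ oc K) (K.map (QuotientGroup.mk' (oc K))) (B.map (QuotientGroup.mk' (oc K)))
    (S.map (QuotientGroup.mk' (oc K))) hKb (card_map_mk'_lt (oc_le K) hne) (hB.map _)
    (IsSylowIn.map_mk' hS (oc K) (oc_le K)) (map_le_centralizer_map _ hSB)
  rw [oc_map_mk'_oc K (oc K) rfl, ← Subgroup.map_commutator, le_bot_iff, Subgroup.map_eq_bot_iff,
    QuotientGroup.ker_mk'] at h1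
  exact h1

/-- A group with a central Sylow `2`-subgroup and trivial odd core is a `2`-group. -/
theorem le_of_isSylowIn_of_le_centralizer [Finite Γ] {K Q : Subgroup Γ} (hQ : IsSylowIn 2 Q K)
    (hc : K ≤ centralizer (Q : Set Γ)) (hoc : oc K = ⊥) : K ≤ Q := by
  have : Fact (Nat.Prime 2) := ⟨Nat.prime_two⟩
  set P : Sylow 2 ↥K := hQ.toSylow with hPdef
  have hPcoe : (P : Subgroup ↥K) = Q.subgroupOf K := hQ.coe_toSylow
  have hP : normalizer ((P : Subgroup ↥K) : Set ↥K) ≤ centralizer ((P : Subgroup ↥K) : Set ↥K) := by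
    intro k _
    rw [Subgroup.mem_centralizer_iff]
    intro q hq
    rw [SetLike.mem_coe, hPcoe, Subgroup.mem_subgroupOf] at hq
    apply Subtype.ext
    exact Subgroup.mem_centralizer_iff.mp (hc k.2) q hq
  have hcomp := MonoidHom.ker_transferSylow_isComplement' P hP
  have hodd := MonoidHom.not_dvd_card_ker_transferSylow P hP
  set W := (MonoidHom.transferSylow P hP).ker with hW
  have hW' : W.map K.subtype ≤ oc K := by
    apply le_oc (Subgroup.map_subtype_le _) (le_normalizer_map_subtype' K W)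
    rw [Subgroup.card_subtype]
    exact (Nat.Prime.coprime_iff_not_dvd Nat.prime_two).mpr hodd |>.symm
  rw [hoc, le_bot_iff, Subgroup.map_eq_bot_iff_of_injective _ K.subtype_injective] at hW'
  rw [hW'] at hcomp
  have h1 : (P : Subgroup ↥K) = ⊤ := Subgroup.isComplement'_bot_left.mp hcomp
  rw [hPcoe] at h1
  intro k hk
  have : (⟨k, hk⟩ : ↥K) ∈ Q.subgroupOf K := by rw [h1]; exact Subgroup.mem_top _
  exact Subgroup.mem_subgroupOf.mp this

theorem pCoreOf_normal (p : ℕ) (K : Subgroup Γ) [hK : K.Normal] : (Cfsg.pCoreOf p K).Normal := by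
  constructor
  intro x hx g
  have h1 := Cfsg.Agent.Helper14.pCoreOf_map_equiv p (MulAut.conj g) K
  have h2 : K.map (MulAut.conj g).toMonoidHom = K :=
    map_conj_eq_of_mem_normalizer (by rw [Subgroup.normalizer_eq_top_iff.mpr hK]; exact Subgroup.mem_top g)
  rw [h2] at h1
  rw [h1]
  exact ⟨x, hx, rfl⟩

theorem pCoreOf_le_of_isSylowIn {p : ℕ} {S K : Subgroup Γ} (hS : IsSylowIn p S K) :
    Cfsg.pCoreOf p K ≤ S := by
  have hQK := Cfsg.Agent.Helper14.pCoreOf_le p K
  have hSQ : S ≤ normalizer ((Cfsg.pCoreOf p K : Subgroup Γ) : Set Γ) :=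
    hS.le.trans (Cfsg.Agent.Helper14.le_normalizer_pCoreOf p K)
  have h1 : IsPGroup p (S ⊔ Cfsg.pCoreOf p K : Subgroup Γ) :=
    IsPGroup.to_sup_of_normal_right' hS.isPGroup (Cfsg.Agent.Helper14.pCoreOf_isPGroup p K) hSQ
  have h2 := hS.eq_of_le h1 le_sup_left (sup_le hS.le hQK)
  rw [← h2]
  exact le_sup_right

/-- Case (b): `O(K) = 1` and `O_2(K) ≠ 1`. -/
theorem g1_case_b [Finite Γ] (K B S : Subgroup Γ) [hKn : K.Normal]
    (IH : G1Stmt.{u} (Nat.card K)) (hoc : oc K = ⊥) (hQne : Cfsg.pCoreOf 2 K ≠ ⊥) (hB : Good B)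
    (hS : IsSylowIn 2 S K) (hSB : B ≤ centralizer (S : Set Γ)) : ⁅K, B⁆ ≤ oc K := by
  have : Fact (Nat.Prime 2) := ⟨Nat.prime_two⟩
  set Q : Subgroup Γ := Cfsg.pCoreOf 2 K with hQ
  haveI hQn : Q.Normal := pCoreOf_normal 2 K
  have hQK : Q ≤ K := Cfsg.Agent.Helper14.pCoreOf_le 2 K
  have hQp : IsPGroup 2 Q := Cfsg.Agent.Helper14.pCoreOf_isPGroup 2 K
  have hQS : Q ≤ S := pCoreOf_le_of_isSylowIn hS
  have hBQ : B ≤ centralizer (Q : Set Γ) := hSB.trans (Subgroup.centralizer_le hQS)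
  have hBQ' : ⁅B, Q⁆ = ⊥ := Subgroup.commutator_eq_bot_iff_le_centralizer.mpr hBQ
  set π := QuotientGroup.mk' Q with hπ
  have hKb : (K.map π).Normal := hKn.map _ (QuotientGroup.mk'_surjective _)
  have h1 := IH (Γ ⧸ Q) (K.map π) (B.map π) (S.map π) hKb (card_map_mk'_lt hQK hQne) (hB.map _)
    (IsSylowIn.map_mk' hS Q hQK) (map_le_centralizer_map _ hSB)
  haveI hNbn : (oc (K.map π)).Normal := oc_normal _
  set Y : Subgroup Γ := (oc (K.map π)).comap π with hY
  have hYn : Y.Normal := inferInstance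
  have hKBY : ⁅K, B⁆ ≤ Y := by
    rw [hY, ← Subgroup.map_le_iff_le_comap, Subgroup.map_commutator]
    exact h1
  have hYK : Y ≤ K := by
    have h2 : Y ≤ (K.map π).comap π := Subgroup.comap_mono (oc_le _)
    rw [QuotientGroup.comap_map_mk', sup_eq_right.mpr hQK] at h2
    exact h2
  -- `[K, B]` centralizes `Q`
  have hKBQ : ⁅K, B⁆ ≤ centralizer (Q : Set Γ) := by
    rw [← Subgroup.commutator_eq_bot_iff_le_centralizer]
    apply Subgroup.commutator_commutator_eq_bot_of_rotate
    · rw [hBQ', Subgroup.commutator_bot_left]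
    · rw [eq_bot_iff]
      calc ⁅⁅Q, K⁆, B⁆ ≤ ⁅Q, B⁆ := Subgroup.commutator_mono (Subgroup.commutator_le_left Q K) le_rfl
        _ = ⊥ := by rw [Subgroup.commutator_comm]; exact hBQ'
  set W : Subgroup Γ := Y ⊓ centralizer (Q : Set Γ) with hW
  have hWn : W.Normal := inferInstance
  have hKBW : ⁅K, B⁆ ≤ W := le_inf hKBY hKBQ
  have hWK : W ≤ K := inf_le_left.trans hYK
  -- `Q ⊓ W` is a central Sylow 2-subgroup of `W`
  have hQW : IsSylowIn 2 (Q ⊓ W) W := by
    apply isSylowIn_of_not_dvd_relIndex (hQp.to_le inf_le_left) inf_le_right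
    rw [Subgroup.inf_relIndex_right]
    have h2 : Q.relIndex W = Nat.card (W.map π) := by
      rw [← Subgroup.relIndex_ker, QuotientGroup.ker_mk']
    rw [h2]
    have h3 : W.map π ≤ oc (K.map π) := by
      rw [Subgroup.map_le_iff_le_comap]
      exact inf_le_left
    have h4 : Nat.card (W.map π) ∣ Nat.card (oc (K.map π)) := Subgroup.card_dvd_of_le h3
    intro h5
    have h6 := (card_oc_coprime (K.map π))
    have := Nat.Coprime.eq_one_of_dvd h6.symm (h5.trans h4)
    omega
  have hBQW : B ≤ centralizer ((Q ⊓ W : Subgroup Γ) : Set Γ) :=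
    hBQ.trans (Subgroup.centralizer_le inf_le_left)
  by_cases hWeq : W = K
  · -- `K` has a central Sylow 2-subgroup
    have hQK' : IsSylowIn 2 Q K := by
      have := hQW
      rw [hWeq, inf_eq_left.mpr hQK] at this
      exact this
    have hKc : K ≤ centralizer (Q : Set Γ) := by
      rw [← hWeq]; exact inf_le_right
    have hKQ : K ≤ Q := le_of_isSylowIn_of_le_centralizer hQK' hKc hoc
    calc ⁅K, B⁆ ≤ ⁅Q, B⁆ := Subgroup.commutator_mono hKQ le_rfl
      _ = ⊥ := by rw [Subgroup.commutator_comm]; exact hBQ'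
      _ ≤ oc K := bot_le
  · have hlt : W < K := lt_of_le_of_ne hWK hWeq
    have h2 := IH Γ W B (Q ⊓ W) hWn (card_lt_of_lt hlt) hB hQW hBQW
    have h3 : oc W ≤ oc K := oc_le_oc hWK (by rw [Subgroup.normalizer_eq_top_iff.mpr hWn]; exact le_top)
    rw [hoc, le_bot_iff] at h3
    rw [h3, le_bot_iff] at h2
    have h4 : ⁅⁅K, B⁆, B⁆ ≤ (⊥ : Subgroup Γ) := by
      rw [← h2]
      exact Subgroup.commutator_mono hKBW le_rfl
    have hnb : normalizer (((⊥ : Subgroup Γ) : Subgroup Γ) : Set Γ) = ⊤ :=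
      Subgroup.normalizer_eq_top_iff.mpr inferInstance
    have h5 := commutator_le_of_commutator_commutator_le (A := K) (B := B) (N := ⊥)
      (by rw [hnb]; exact le_top) (by rw [hnb]; exact le_top) hB.1 h4
    exact h5.trans bot_le

end Cfsg.Agent.Helper7.Glaub
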