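import Mathlib
import Cfsg.Agent.Lib.Helper7.Glaub3
import Cfsg.Agent.Lib.Helper10.TameAlperin

/-!
# A theorem of Glauberman type: the Alperin argument (helper7's library, towards `L`-balance)
-/

set_option autoImplicit false

namespace Cfsg.Agent.Helper7.Glaub

open Subgroup Cfsg.Agent.Helper15
open Cfsg.Agent.Helper10 (rcs XChain TameStep mem_rcs tame_chain)
open scoped commutatorElement

universe u

variable {Γ : Type u} [Group Γ]

/-- the configuration of the minimal case -/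
structure Setup (K B S : Subgroup Γ) (u : Γ) : Prop where
  normal : K.Normal
  good : Good B
  syl : IsSylowIn 2 S K
  cent : B ≤ centralizer (S : Set Γ)
  ih : G1Stmt.{u} (Nat.card K)
  noOdd : ∀ N : Subgroup Γ, N ≤ K → K ≤ normalizer (N : Set Γ) → (Nat.card N).Coprime 2 → N = ⊥
  noTwo : ∀ N : Subgroup Γ, N ≤ K → K ≤ normalizer (N : Set Γ) → IsPGroup 2 N → N = ⊥
  uB : u ∈ B
  uOrd : orderOf u = 2

theorem Setup.uu {K B S : Subgroup Γ} {u : Γ} (h : Setup K B S u) : u * u = 1 := by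
  have := pow_orderOf_eq_one u
  rwa [h.uOrd, pow_two] at this

theorem Setup.uinv {K B S : Subgroup Γ} {u : Γ} (h : Setup K B S u) : u⁻¹ = u :=
  inv_eq_of_mul_eq_one_left h.uu

theorem Setup.comm_of_mem {K B S : Subgroup Γ} {u : Γ} (h : Setup K B S u) {a : Γ} (ha : a ∈ S) :
    a * u = u * a :=
  Subgroup.mem_centralizer_iff.mp (h.cent h.uB) a ha

/-- the square-root trick -/
theorem exists_conj_eq_of_odd (u x : Γ) (hu : u * u = 1)
    (hodd : Odd (orderOf (x * u * x⁻¹ * u⁻¹))) :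
    ∃ o ∈ zpowers (x * u * x⁻¹ * u⁻¹), o * u * o⁻¹ = x * u * x⁻¹ := by
  have huinv : u⁻¹ = u := inv_eq_of_mul_eq_one_left hu
  set y := x * u * x⁻¹ * u⁻¹ with hy
  have hinv : u * y * u⁻¹ = y⁻¹ := by
    have e1 : y⁻¹ = u * x * u⁻¹ * x⁻¹ := by rw [hy]; group
    rw [e1, hy, huinv]
    calc u * (x * u * x⁻¹ * u) * u = u * x * u * x⁻¹ * (u * u) := by group
      _ = u * x * u * x⁻¹ := by rw [hu, mul_one]
  obtain ⟨r, hr⟩ := hodd
  refine ⟨y ^ (r + 1), Subgroup.pow_mem _ (Subgroup.mem_zpowers y) _, ?_⟩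
  have ho2 : y ^ (r + 1) * y ^ (r + 1) = y := by
    rw [← pow_add]
    have : r + 1 + (r + 1) = (2 * r + 1) + 1 := by ring
    rw [this, pow_succ, ← hr, pow_orderOf_eq_one, one_mul]
  have hou : u * y ^ (r + 1) * u⁻¹ = (y ^ (r + 1))⁻¹ := by
    rw [← conj_pow, hinv, inv_pow]
  calc y ^ (r + 1) * u * (y ^ (r + 1))⁻¹
      = y ^ (r + 1) * u * (u * y ^ (r + 1) * u⁻¹) := by rw [hou]
    _ = y ^ (r + 1) * (u * u) * y ^ (r + 1) * u⁻¹ := by group
    _ = y ^ (r + 1) * y ^ (r + 1) * u⁻¹ := by rw [hu, mul_one]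
    _ = y * u⁻¹ := by rw [ho2]
    _ = x * u * x⁻¹ * (u⁻¹ * u⁻¹) := by rw [hy]; group
    _ = x * u * x⁻¹ := by rw [huinv, hu, mul_one]

/-- decomposition of the normalizer of a tame intersection -/
theorem Setup.decomp [Finite Γ] {K B S : Subgroup Γ} {u : Γ} (h : Setup K B S u) (T : Subgroup Γ)
    (hTS : T ≤ S) (hT : T ≠ ⊥)
    (htame : IsSylowIn 2 (S ⊓ normalizer (T : Set Γ)) (K ⊓ normalizer (T : Set Γ)))
    (x : Γ) (hxK : x ∈ K) (hxT : x ∈ normalizer (T : Set Γ)) :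
    ∃ o m : Γ, o ∈ K ∧ o ∈ centralizer (T : Set Γ) ∧ m ∈ K ∧ m * u = u * m ∧ x = o * m := by
  haveI := h.normal
  set Ni : Subgroup Γ := K ⊓ normalizer (T : Set Γ) with hNi
  have hBT : B ≤ centralizer (T : Set Γ) := h.cent.trans (Subgroup.centralizer_le hTS)
  have hBNi : B ≤ normalizer (Ni : Set Γ) := by
    refine le_trans ?_ Subgroup.inf_normalizer_le_normalizer_inf
    apply le_inf
    · rw [Subgroup.normalizer_eq_top_iff.mpr h.normal]; exact le_top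
    · exact (hBT.trans (Subgroup.centralizer_le_normalizer _)).trans Subgroup.le_normalizer
  have hlt : Ni < K := by
    refine lt_of_le_of_ne inf_le_left ?_
    intro heq
    apply hT
    apply h.noTwo T (hTS.trans h.syl.le) _ (h.syl.isPGroup.to_le hTS)
    rw [← heq]; exact inf_le_right
  have h1 : ⁅Ni, B⁆ ≤ oc Ni :=
    h.ih.rel Ni B _ hBNi (card_lt_of_lt hlt) h.good htame (h.cent.trans (Subgroup.centralizer_le inf_le_left))
  have hxNi : x ∈ Ni := ⟨hxK, hxT⟩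
  set y := x * u * x⁻¹ * u⁻¹ with hy
  have hyc : y ∈ ⁅Ni, B⁆ := Subgroup.commutator_mem_commutator hxNi h.uB
  have hyO : y ∈ oc Ni := h1 hyc
  have hyodd : Odd (orderOf y) := by
    have o1 : orderOf (⟨y, hyO⟩ : oc Ni) ∣ Nat.card (oc Ni) := orderOf_dvd_natCard _
    rw [Subgroup.orderOf_mk] at o1
    exact Nat.coprime_two_right.mp (Nat.Coprime.coprime_dvd_left o1 (card_oc_coprime Ni))
  -- `[Ni, B]` centralizes `T`
  have hcT : ⁅Ni, B⁆ ≤ centralizer (T : Set Γ) := by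
    rw [← Subgroup.commutator_eq_bot_iff_le_centralizer]
    have hBT' : ⁅B, T⁆ = ⊥ := Subgroup.commutator_eq_bot_iff_le_centralizer.mpr hBT
    apply Subgroup.commutator_commutator_eq_bot_of_rotate
    · rw [hBT', Subgroup.commutator_bot_left]
    · rw [eq_bot_iff]
      have h2 : ⁅T, Ni⁆ ≤ T := by
        rw [Subgroup.commutator_le]
        intro t ht n hn
        have := (Subgroup.mem_normalizer_iff.mp hn.2 t⁻¹).mp (T.inv_mem ht)
        have e : ⁅t, n⁆ = t * (n * t⁻¹ * n⁻¹) := by rw [commutatorElement_def]; group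
        rw [e]
        exact T.mul_mem ht this
      calc ⁅⁅T, Ni⁆, B⁆ ≤ ⁅T, B⁆ := Subgroup.commutator_mono h2 le_rfl
        _ = ⊥ := by rw [Subgroup.commutator_comm]; exact hBT'
  obtain ⟨o, ho, hou⟩ := exists_conj_eq_of_odd u x h.uu hyodd
  have hzle : zpowers y ≤ oc Ni ⊓ centralizer (T : Set Γ) := by
    rw [Subgroup.zpowers_le]
    exact ⟨hyO, hcT hyc⟩
  have hoK : o ∈ K := ((oc_le Ni).trans inf_le_left) (hzle ho).1
  refine ⟨o, o⁻¹ * x, hoK, (hzle ho).2, K.mul_mem (K.inv_mem hoK) hxK, ?_, by group⟩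
  have e1 : o⁻¹ * x * u = o⁻¹ * (x * u * x⁻¹) * x := by group
  rw [e1, ← hou]
  group

/-- normalizers in a subgroup -/
theorem map_subtype_normalizer (K : Subgroup Γ) (T : Subgroup ↥K) :
    (normalizer (T : Set ↥K)).map K.subtype =
      K ⊓ normalizer ((T.map K.subtype : Subgroup Γ) : Set Γ) := by
  ext y
  constructor
  · rintro ⟨x, hx, rfl⟩
    exact ⟨x.2, Subgroup.le_normalizer_map K.subtype (Subgroup.mem_map_of_mem _ hx)⟩
  · rintro ⟨hyK, hyN⟩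
    refine ⟨⟨y, hyK⟩, ?_, rfl⟩
    show (⟨y, hyK⟩ : ↥K) ∈ normalizer (T : Set ↥K)
    rw [Subgroup.mem_normalizer_iff]
    intro t
    have h1 := Subgroup.mem_normalizer_iff.mp hyN (t : Γ)
    have e1 : ∀ s : ↥K, (s : Γ) ∈ T.map K.subtype ↔ s ∈ T := fun s =>
      Subgroup.mem_map_iff_mem (f := K.subtype) K.subtype_injective (x := s)
    rw [← e1 t, ← e1 (⟨y, hyK⟩ * t * ⟨y, hyK⟩⁻¹)]
    exact h1

/-- the decomposition, inside `K` -/
theorem Setup.decompK [Finite Γ] {K B S : Subgroup Γ} {u : Γ} (h : Setup K B S u)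
    (T : Subgroup ↥K) (hTS : T ≤ S.subgroupOf K) (hT : T ≠ ⊥)
    (htame : ¬ 2 ∣ (S.subgroupOf K ⊓ normalizer (T : Set ↥K)).relIndex (normalizer (T : Set ↥K)))
    (x : ↥K) (hxT : x ∈ normalizer (T : Set ↥K)) :
    ∃ o m : ↥K, o ∈ centralizer (T : Set ↥K) ∧ (m : Γ) * u = u * (m : Γ) ∧ x = o * m := by
  haveI : Fact (Nat.Prime 2) := ⟨Nat.prime_two⟩
  set TΓ : Subgroup Γ := T.map K.subtype with hTΓ
  have hTΓS : TΓ ≤ S := by
    rw [hTΓ, Subgroup.map_le_iff_le_comap]; exact hTS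
  have hTΓne : TΓ ≠ ⊥ := by
    intro h0
    apply hT
    rw [hTΓ, Subgroup.map_eq_bot_iff_of_injective _ K.subtype_injective] at h0
    exact h0
  have hmapN : (normalizer (T : Set ↥K)).map K.subtype = K ⊓ normalizer (TΓ : Set Γ) :=
    map_subtype_normalizer K T
  have hmapS : (S.subgroupOf K).map K.subtype = S := Subgroup.map_subgroupOf_eq_of_le h.syl.le
  have hmapI : (S.subgroupOf K ⊓ normalizer (T : Set ↥K)).map K.subtype =
      S ⊓ normalizer (TΓ : Set Γ) := by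
    rw [Subgroup.map_inf _ _ _ K.subtype_injective, hmapS, hmapN, ← inf_assoc,
      inf_eq_left.mpr h.syl.le]
  have htameΓ : IsSylowIn 2 (S ⊓ normalizer (TΓ : Set Γ)) (K ⊓ normalizer (TΓ : Set Γ)) := by
    apply isSylowIn_of_not_dvd_relIndex (h.syl.isPGroup.to_le inf_le_left)
      (inf_le_inf_right _ h.syl.le)
    rw [← hmapI, ← hmapN, Subgroup.relIndex_map_map_of_injective _ _ K.subtype_injective]
    exact htame
  have hxN : (x : Γ) ∈ normalizer (TΓ : Set Γ) := by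
    have h1 : (x : Γ) ∈ (normalizer (T : Set ↥K)).map K.subtype :=
      Subgroup.mem_map_of_mem K.subtype hxT
    rw [hmapN] at h1
    exact h1.2
  obtain ⟨o, m, hoK, hoT, hmK, hmu, hxom⟩ := h.decomp TΓ hTΓS hTΓne htameΓ (x : Γ) x.2 hxN
  refine ⟨⟨o, hoK⟩, ⟨m, hmK⟩, ?_, hmu, Subtype.ext hxom⟩
  rw [Subgroup.mem_centralizer_iff]
  intro t ht
  apply Subtype.ext
  exact Subgroup.mem_centralizer_iff.mp hoT (t : Γ) (Subgroup.mem_map_of_mem K.subtype ht)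

/-- the induction along a chain of tame intersections -/
theorem Setup.chain [Finite Γ] {K B S : Subgroup Γ} {u : Γ} (h : Setup K B S u)
    {A : Set ↥K} {g : ↥K} (hch : XChain (TameStep h.syl.toSylow) A g)
    (hne : ∃ a ∈ A, a ≠ 1) :
    ∃ c m : ↥K, (∀ a ∈ A, c * a = a * c) ∧ (m : Γ) * u = u * (m : Γ) ∧ g = c * m := by
  induction hch with
  | nil A =>
    exact ⟨1, 1, fun a _ => by rw [one_mul, mul_one], by simp, by simp⟩
  | cons A T x g hSt hx hAT _ ih =>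
    obtain ⟨a₀, ha₀, ha₀1⟩ := hne
    obtain ⟨Q, hTQ, htame, -, -⟩ := hSt
    have hTS : T ≤ S.subgroupOf K := by
      rw [hTQ]; exact inf_le_left
    have hT : T ≠ ⊥ := by
      intro h0
      apply ha₀1
      have h1 : a₀ ∈ T := hAT ha₀
      rw [h0] at h1
      exact Subgroup.mem_bot.mp h1
    obtain ⟨o, m₁, hoT, hm₁u, hx'⟩ := h.decompK T hTS hT htame x hx
    have hne' : ∃ a ∈ rcs x A, a ≠ 1 := by
      refine ⟨x⁻¹ * a₀ * x, ?_, ?_⟩
      · rw [mem_rcs]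
        have e : x * (x⁻¹ * a₀ * x) * x⁻¹ = a₀ := by group
        rw [e]; exact ha₀
      · intro h1
        apply ha₀1
        have e : a₀ = x * (x⁻¹ * a₀ * x) * x⁻¹ := by group
        rw [e, h1]; group
    obtain ⟨c', m', hc', hm'u, hg⟩ := ih hne'
    refine ⟨o * (m₁ * c' * m₁⁻¹), m₁ * m', ?_, ?_, ?_⟩
    · intro a ha
      have hoa : a * o = o * a := Subgroup.mem_centralizer_iff.mp hoT a (hAT ha)
      have hmem : m₁⁻¹ * a * m₁ ∈ rcs x A := by
        rw [mem_rcs, hx']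
        have e : o * m₁ * (m₁⁻¹ * a * m₁) * (o * m₁)⁻¹ = o * a * o⁻¹ := by group
        rw [e, ← hoa]
        have e2 : a * o * o⁻¹ = a := by group
        rw [e2]; exact ha
      have hc'a := hc' _ hmem
      have e3 : m₁ * c' * m₁⁻¹ * a = a * (m₁ * c' * m₁⁻¹) := by
        have e4 : m₁ * c' * m₁⁻¹ * a = m₁ * (c' * (m₁⁻¹ * a * m₁)) * m₁⁻¹ := by group
        rw [e4, hc'a]; group
      calc o * (m₁ * c' * m₁⁻¹) * a = o * (m₁ * c' * m₁⁻¹ * a) := by group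
        _ = o * (a * (m₁ * c' * m₁⁻¹)) := by rw [e3]
        _ = (o * a) * (m₁ * c' * m₁⁻¹) := by group
        _ = (a * o) * (m₁ * c' * m₁⁻¹) := by rw [hoa]
        _ = a * (o * (m₁ * c' * m₁⁻¹)) := by group
    · rw [Subgroup.coe_mul, mul_assoc, hm'u, ← mul_assoc, hm₁u, mul_assoc]
    · rw [hx', hg]; group

/-- the consequence of Alperin's theorem: conjugations between subsets of `S` -/
theorem Setup.star [Finite Γ] {K B S : Subgroup Γ} {u : Γ} (h : Setup K B S u)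
    (A : Set Γ) (hAS : A ⊆ (S : Set Γ)) (hne : ∃ a ∈ A, a ≠ 1) (g : Γ) (hgK : g ∈ K)
    (hAg : ∀ a ∈ A, g⁻¹ * a * g ∈ S) :
    ∃ c m : Γ, c ∈ K ∧ (∀ a ∈ A, c * a = a * c) ∧ m ∈ K ∧ m * u = u * m ∧ g = c * m := by
  haveI : Fact (Nat.Prime 2) := ⟨Nat.prime_two⟩
  obtain ⟨A', hA'⟩ : ∃ A' : Set ↥K, ∀ a : ↥K, a ∈ A' ↔ (a : Γ) ∈ A :=
    ⟨{a | (a : Γ) ∈ A}, fun a => Iff.rfl⟩
  have h1 : A' ⊆ ((h.syl.toSylow : Subgroup ↥K) : Set ↥K) := by
    intro a ha
    show (a : Γ) ∈ S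
    exact hAS ((hA' a).mp ha)
  have h2 : rcs (⟨g, hgK⟩ : ↥K) A' ⊆ ((h.syl.toSylow : Subgroup ↥K) : Set ↥K) := by
    intro y hy
    rw [mem_rcs, hA'] at hy
    have h3 := hAg _ hy
    have e : g⁻¹ * (((⟨g, hgK⟩ : ↥K) * y * (⟨g, hgK⟩ : ↥K)⁻¹ : ↥K) : Γ) * g = (y : Γ) := by
      show g⁻¹ * (g * (y : Γ) * g⁻¹) * g = (y : Γ)
      group
    rw [e] at h3
    show (y : Γ) ∈ S
    exact h3
  obtain ⟨a₀, ha₀, ha₀1⟩ := hne
  have hne' : ∃ a ∈ A', a ≠ 1 := by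
    refine ⟨⟨a₀, h.syl.le (hAS ha₀)⟩, (hA' _).mpr ha₀, ?_⟩
    intro h0
    exact ha₀1 (congrArg Subtype.val h0)
  obtain ⟨c, m, hc, hm, hg⟩ := h.chain (tame_chain h.syl.toSylow A' ⟨g, hgK⟩ h1 h2) hne'
  refine ⟨c, m, c.2, ?_, m.2, hm, ?_⟩
  · intro a ha
    have := hc ⟨a, h.syl.le (hAS ha)⟩ ((hA' _).mpr ha)
    exact congrArg Subtype.val this
  · exact congrArg Subtype.val hg

end Cfsg.Agent.Helper7.Glaub
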