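import Mathlib

/-!
# The combinatorial core of the Brauer--Suzuki theorem for quaternion Sylow subgroups of order 8
(helper7's library)
-/

set_option autoImplicit false

namespace Cfsg.Agent.Helper7

section Core

variable {ι : Type*} [DecidableEq ι]

/-- entries of an integer vector of square length 4 orthogonal to a positive vector -/
theorem bsq_small (B : Finset ι) (w D : ι → ℤ) (hD : ∀ ζ ∈ B, 0 < D ζ)
    (hw : ∑ ζ ∈ B, w ζ ^ 2 = 4) (hwD : ∑ ζ ∈ B, w ζ * D ζ = 0) :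
    ∀ ζ ∈ B, w ζ = 0 ∨ w ζ = 1 ∨ w ζ = -1 := by
  intro ζ₀ hζ₀
  by_contra hcon
  push_neg at hcon
  have h4 : 4 ≤ w ζ₀ ^ 2 := by
    have h1 : w ζ₀ ≤ -2 ∨ 2 ≤ w ζ₀ := by
      obtain ⟨h0, h1, h2⟩ := hcon
      omega
    rcases h1 with h | h <;> nlinarith
  rw [← Finset.add_sum_erase B _ hζ₀] at hw hwD
  have hnn : ∀ ζ ∈ B.erase ζ₀, 0 ≤ w ζ ^ 2 := fun ζ _ => sq_nonneg _
  have hz : ∑ ζ ∈ B.erase ζ₀, w ζ ^ 2 = 0 := by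
    have := Finset.sum_nonneg hnn
    linarith
  have hz' : ∀ ζ ∈ B.erase ζ₀, w ζ = 0 := by
    intro ζ hζ
    have := (Finset.sum_eq_zero_iff_of_nonneg hnn).1 hz ζ hζ
    exact pow_eq_zero_iff (two_ne_zero) |>.1 this
  have h0 : ∑ ζ ∈ B.erase ζ₀, w ζ * D ζ = 0 := by
    apply Finset.sum_eq_zero
    intro ζ hζ
    rw [hz' ζ hζ, zero_mul]
  rw [h0, add_zero] at hwD
  have hD0 := hD ζ₀ hζ₀
  rcases mul_eq_zero.1 hwD with h | h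
  · exact hcon.1 h
  · omega

/-- the same for a difference of two such vectors with inner product 2 -/
theorem bsq_small_sub (B : Finset ι) (w₁ w₂ D : ι → ℤ) (hD : ∀ ζ ∈ B, 0 < D ζ)
    (h11 : ∑ ζ ∈ B, w₁ ζ ^ 2 = 4) (h22 : ∑ ζ ∈ B, w₂ ζ ^ 2 = 4)
    (h12 : ∑ ζ ∈ B, w₁ ζ * w₂ ζ = 2)
    (hD1 : ∑ ζ ∈ B, w₁ ζ * D ζ = 0) (hD2 : ∑ ζ ∈ B, w₂ ζ * D ζ = 0) :
    ∀ ζ ∈ B, w₁ ζ - w₂ ζ = 0 ∨ w₁ ζ - w₂ ζ = 1 ∨ w₁ ζ - w₂ ζ = -1 := by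
  apply bsq_small B (fun ζ => w₁ ζ - w₂ ζ) D hD
  · have : ∀ ζ ∈ B, (w₁ ζ - w₂ ζ) ^ 2 = w₁ ζ ^ 2 + w₂ ζ ^ 2 - 2 * (w₁ ζ * w₂ ζ) := by
      intro ζ _; ring
    rw [Finset.sum_congr rfl this, Finset.sum_sub_distrib, Finset.sum_add_distrib,
      ← Finset.mul_sum, h11, h22, h12]
    norm_num
  · have : ∀ ζ ∈ B, (w₁ ζ - w₂ ζ) * D ζ = w₁ ζ * D ζ - w₂ ζ * D ζ := by
      intro ζ _; ring
    rw [Finset.sum_congr rfl this, Finset.sum_sub_distrib, hD1, hD2]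
    norm_num

/-- a `0/1` vector with sum one has a unique nonzero entry -/
theorem bsq_unique (B : Finset ι) (I : ι → ℤ) (h01 : ∀ ζ ∈ B, I ζ = 0 ∨ I ζ = 1)
    (hs : ∑ ζ ∈ B, I ζ = 1) : ∃ x ∈ B, I x = 1 ∧ ∀ ζ ∈ B, ζ ≠ x → I ζ = 0 := by
  have hex : ∃ x ∈ B, I x = 1 := by
    by_contra hcon
    push_neg at hcon
    have : ∑ ζ ∈ B, I ζ = 0 := by
      apply Finset.sum_eq_zero
      intro ζ hζ
      rcases h01 ζ hζ with h | h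
      · exact h
      · exact absurd h (hcon ζ hζ)
    omega
  obtain ⟨x, hx, hx1⟩ := hex
  refine ⟨x, hx, hx1, ?_⟩
  intro ζ hζ hne
  rw [← Finset.add_sum_erase B _ hx, hx1] at hs
  have hnn : ∀ ζ ∈ B.erase x, 0 ≤ I ζ := by
    intro ζ hζ
    rcases h01 ζ (Finset.mem_of_mem_erase hζ) with h | h <;> omega
  have hz : ∑ ζ ∈ B.erase x, I ζ = 0 := by linarith
  exact (Finset.sum_eq_zero_iff_of_nonneg hnn).1 hz ζ (Finset.mem_erase.2 ⟨hne, hζ⟩)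

/-- summing against an indicator of a single element -/
theorem bsq_sum_single (B : Finset ι) (I : ι → ℤ) (x : ι) (hx : x ∈ B)
    (hx1 : I x = 1) (h0 : ∀ ζ ∈ B, ζ ≠ x → I ζ = 0) (g : ι → ℚ) :
    ∑ ζ ∈ B, (I ζ : ℚ) * g ζ = g x := by
  rw [Finset.sum_eq_single_of_mem x hx]
  · rw [hx1]; simp
  · intro ζ hζ hne
    rw [h0 ζ hζ hne]; simp

/-- the shape of a row -/
theorem bsq_row (p q r : ℤ) (hp : p = 0 ∨ p = 1 ∨ p = -1) (hq : q = 0 ∨ q = 1 ∨ q = -1)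
    (hr : r = 0 ∨ r = 1 ∨ r = -1) (hpq : p - q = 0 ∨ p - q = 1 ∨ p - q = -1)
    (hpr : p - r = 0 ∨ p - r = 1 ∨ p - r = -1) (hqr : q - r = 0 ∨ q - r = 1 ∨ q - r = -1) :
    p = (p + (1 - p ^ 2) * q + (1 - p ^ 2) * (1 - q ^ 2) * r) * p ^ 2 ∧
    q = (p + (1 - p ^ 2) * q + (1 - p ^ 2) * (1 - q ^ 2) * r) * q ^ 2 ∧
    r = (p + (1 - p ^ 2) * q + (1 - p ^ 2) * (1 - q ^ 2) * r) * r ^ 2 ∧
    p * q = p ^ 2 * q ^ 2 ∧ p * r = p ^ 2 * r ^ 2 ∧ q * r = q ^ 2 * r ^ 2 ∧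
    ((p + (1 - p ^ 2) * q + (1 - p ^ 2) * (1 - q ^ 2) * r) ^ 2 = 1 ∨
      (p = 0 ∧ q = 0 ∧ r = 0)) := by
  rcases hp with rfl | rfl | rfl <;> rcases hq with rfl | rfl | rfl <;>
    rcases hr with rfl | rfl | rfl <;> first | (exfalso; omega) | norm_num

/-- the parity identity -/
theorem bsq_parity (p q r w : ℤ) (hp : p = 0 ∨ p = 1 ∨ p = -1) (hq : q = 0 ∨ q = 1 ∨ q = -1)
    (hr : r = 0 ∨ r = 1 ∨ r = -1) (hw : w = 0 ∨ w = 1 ∨ w = -1)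
    (hpar : w ≠ 0 ↔ (p + q + r) % 2 = 1) :
    w ^ 2 = p ^ 2 + q ^ 2 + r ^ 2 - 2 * (p ^ 2 * q ^ 2 + p ^ 2 * r ^ 2 + q ^ 2 * r ^ 2) +
      4 * (p ^ 2 * q ^ 2 * r ^ 2) := by
  rcases hp with rfl | rfl | rfl <;> rcases hq with rfl | rfl | rfl <;>
    rcases hr with rfl | rfl | rfl <;> rcases hw with rfl | rfl | rfl <;>
    first | (exfalso; omega) | norm_num

set_option maxHeartbeats 3200000 in
/-- the structure of the rows -/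
theorem bsq_struct (B : Finset ι) (x0 : ι) (hx0 : x0 ∈ B)
    (m1 m2 m3 v D E : ι → ℤ) (F2 F3 : ℤ)
    (hD : ∀ ζ ∈ B, 0 < D ζ)
    (h11 : ∑ ζ ∈ B, m1 ζ ^ 2 = 4) (h22 : ∑ ζ ∈ B, m2 ζ ^ 2 = 4)
    (h33 : ∑ ζ ∈ B, m3 ζ ^ 2 = 4)
    (h12 : ∑ ζ ∈ B, m1 ζ * m2 ζ = 2) (h13 : ∑ ζ ∈ B, m1 ζ * m3 ζ = 2)
    (h23 : ∑ ζ ∈ B, m2 ζ * m3 ζ = 2)
    (hm0 : m1 x0 = 1 ∧ m2 x0 = 0 ∧ m3 x0 = 0) (hv0 : v x0 = 1)
    (hvv : ∑ ζ ∈ B, v ζ ^ 2 = 4)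
    (hv1 : ∑ ζ ∈ B, m1 ζ * v ζ = 0) (hv2 : ∑ ζ ∈ B, m2 ζ * v ζ = 0)
    (hv3 : ∑ ζ ∈ B, m3 ζ * v ζ = 0)
    (hD1 : ∑ ζ ∈ B, m1 ζ * D ζ = 0) (hD2 : ∑ ζ ∈ B, m2 ζ * D ζ = 0)
    (hD3 : ∑ ζ ∈ B, m3 ζ * D ζ = 0) (hvD : ∑ ζ ∈ B, v ζ * D ζ = 0)
    (hE : ∀ ζ ∈ B, E ζ = m1 ζ + F2 * m2 ζ + F3 * m3 ζ)
    (hpar : ∀ ζ ∈ B, (v ζ ≠ 0 ↔ (m1 ζ + m2 ζ + m3 ζ) % 2 = 1)) :
    ∃ (σ : ι → ℤ) (x010 x110 x001 x101 x011 x111 : ι),
      (x010 ∈ B ∧ x110 ∈ B ∧ x001 ∈ B ∧ x101 ∈ B ∧ x011 ∈ B ∧ x111 ∈ B) ∧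
      ((σ x010 : ℚ) ^ 2 = 1 ∧ (σ x110 : ℚ) ^ 2 = 1 ∧ (σ x001 : ℚ) ^ 2 = 1 ∧
        (σ x101 : ℚ) ^ 2 = 1 ∧ (σ x011 : ℚ) ^ 2 = 1 ∧ (σ x111 : ℚ) ^ 2 = 1) ∧
      (E x010 = σ x010 * F2 ∧ E x110 = σ x110 * (1 + F2) ∧ E x001 = σ x001 * F3 ∧
        E x101 = σ x101 * (1 + F3) ∧ E x011 = σ x011 * (F2 + F3) ∧
        E x111 = σ x111 * (1 + F2 + F3)) ∧
      (∀ w : ι → ℚ, ∑ ζ ∈ B, (m1 ζ : ℚ) * w ζ = 0 → ∑ ζ ∈ B, (m2 ζ : ℚ) * w ζ = 0 →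
        ∑ ζ ∈ B, (m3 ζ : ℚ) * w ζ = 0 → ∑ ζ ∈ B, (v ζ : ℚ) * w ζ = 0 →
        (σ x110 : ℚ) * w x110 = - w x0 - (σ x010 : ℚ) * w x010 ∧
        (σ x101 : ℚ) * w x101 = - w x0 - (σ x001 : ℚ) * w x001 ∧
        (σ x111 : ℚ) * w x111 = w x0 + (σ x010 : ℚ) * w x010 + (σ x001 : ℚ) * w x001 ∧
        (σ x011 : ℚ) * w x011 = - (σ x010 : ℚ) * w x010 - (σ x001 : ℚ) * w x001) ∧
      (∀ ζ ∈ B, ζ = x0 ∨ ζ = x010 ∨ ζ = x110 ∨ ζ = x001 ∨ ζ = x101 ∨ ζ = x011 ∨ ζ = x111 ∨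
        E ζ = 0) := by
  -- smallness of the entries
  have s1 := bsq_small B m1 D hD h11 hD1
  have s2 := bsq_small B m2 D hD h22 hD2
  have s3 := bsq_small B m3 D hD h33 hD3
  have sv := bsq_small B v D hD hvv hvD
  have s12 := bsq_small_sub B m1 m2 D hD h11 h22 h12 hD1 hD2
  have s13 := bsq_small_sub B m1 m3 D hD h11 h33 h13 hD1 hD3
  have s23 := bsq_small_sub B m2 m3 D hD h22 h33 h23 hD2 hD3
  -- the sign of a row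
  set σ : ι → ℤ := fun ζ => m1 ζ + (1 - m1 ζ ^ 2) * m2 ζ +
    (1 - m1 ζ ^ 2) * (1 - m2 ζ ^ 2) * m3 ζ with hσ
  have hrow : ∀ ζ ∈ B, m1 ζ = σ ζ * m1 ζ ^ 2 ∧ m2 ζ = σ ζ * m2 ζ ^ 2 ∧
      m3 ζ = σ ζ * m3 ζ ^ 2 ∧ m1 ζ * m2 ζ = m1 ζ ^ 2 * m2 ζ ^ 2 ∧
      m1 ζ * m3 ζ = m1 ζ ^ 2 * m3 ζ ^ 2 ∧ m2 ζ * m3 ζ = m2 ζ ^ 2 * m3 ζ ^ 2 ∧
      (σ ζ ^ 2 = 1 ∨ (m1 ζ = 0 ∧ m2 ζ = 0 ∧ m3 ζ = 0)) := by
    intro ζ hζ
    exact bsq_row (m1 ζ) (m2 ζ) (m3 ζ) (s1 ζ hζ) (s2 ζ hζ) (s3 ζ hζ) (s12 ζ hζ) (s13 ζ hζ)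
      (s23 ζ hζ)
  -- the squares
  set a1 : ι → ℤ := fun ζ => m1 ζ ^ 2 with ha1
  set a2 : ι → ℤ := fun ζ => m2 ζ ^ 2 with ha2
  set a3 : ι → ℤ := fun ζ => m3 ζ ^ 2 with ha3
  have ha01 : ∀ ζ ∈ B, (a1 ζ = 0 ∨ a1 ζ = 1) ∧ (a2 ζ = 0 ∨ a2 ζ = 1) ∧
      (a3 ζ = 0 ∨ a3 ζ = 1) := by
    intro ζ hζ
    simp only [ha1, ha2, ha3]
    refine ⟨?_, ?_, ?_⟩
    · rcases s1 ζ hζ with h | h | h <;> rw [h] <;> norm_num
    · rcases s2 ζ hζ with h | h | h <;> rw [h] <;> norm_num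
    · rcases s3 ζ hζ with h | h | h <;> rw [h] <;> norm_num
  have hS12 : ∑ ζ ∈ B, a1 ζ * a2 ζ = 2 := by
    rw [← h12]
    apply Finset.sum_congr rfl
    intro ζ hζ
    exact (hrow ζ hζ).2.2.2.1.symm
  have hS13 : ∑ ζ ∈ B, a1 ζ * a3 ζ = 2 := by
    rw [← h13]
    apply Finset.sum_congr rfl
    intro ζ hζ
    exact (hrow ζ hζ).2.2.2.2.1.symm
  have hS23 : ∑ ζ ∈ B, a2 ζ * a3 ζ = 2 := by
    rw [← h23]
    apply Finset.sum_congr rfl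
    intro ζ hζ
    exact (hrow ζ hζ).2.2.2.2.2.1.symm
  -- the number of rows of weight three
  have hS123 : ∑ ζ ∈ B, a1 ζ * a2 ζ * a3 ζ = 1 := by
    have hpt : ∀ ζ ∈ B, v ζ ^ 2 = a1 ζ + a2 ζ + a3 ζ -
        2 * (a1 ζ * a2 ζ + a1 ζ * a3 ζ + a2 ζ * a3 ζ) + 4 * (a1 ζ * a2 ζ * a3 ζ) := by
      intro ζ hζ
      exact bsq_parity (m1 ζ) (m2 ζ) (m3 ζ) (v ζ) (s1 ζ hζ) (s2 ζ hζ) (s3 ζ hζ) (sv ζ hζ)
        (hpar ζ hζ)
    have hsum := Finset.sum_congr rfl hpt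
    rw [hvv] at hsum
    simp only [Finset.sum_add_distrib, Finset.sum_sub_distrib, ← Finset.mul_sum] at hsum
    rw [hS12, hS13, hS23] at hsum
    have e1 : ∑ ζ ∈ B, a1 ζ = 4 := h11
    have e2 : ∑ ζ ∈ B, a2 ζ = 4 := h22
    have e3 : ∑ ζ ∈ B, a3 ζ = 4 := h33
    rw [e1, e2, e3] at hsum
    linarith
  -- the seven indicator functions
  set I111 : ι → ℤ := fun ζ => a1 ζ * a2 ζ * a3 ζ with hI111
  set I110 : ι → ℤ := fun ζ => a1 ζ * a2 ζ * (1 - a3 ζ) with hI110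
  set I101 : ι → ℤ := fun ζ => a1 ζ * (1 - a2 ζ) * a3 ζ with hI101
  set I011 : ι → ℤ := fun ζ => (1 - a1 ζ) * a2 ζ * a3 ζ with hI011
  set I100 : ι → ℤ := fun ζ => a1 ζ * (1 - a2 ζ) * (1 - a3 ζ) with hI100
  set I010 : ι → ℤ := fun ζ => (1 - a1 ζ) * a2 ζ * (1 - a3 ζ) with hI010
  set I001 : ι → ℤ := fun ζ => (1 - a1 ζ) * (1 - a2 ζ) * a3 ζ with hI001
  have e1 : ∑ ζ ∈ B, a1 ζ = 4 := h11
  have e2 : ∑ ζ ∈ B, a2 ζ = 4 := h22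
  have e3 : ∑ ζ ∈ B, a3 ζ = 4 := h33
  have hI01 : ∀ ζ ∈ B, (I111 ζ = 0 ∨ I111 ζ = 1) ∧ (I110 ζ = 0 ∨ I110 ζ = 1) ∧
      (I101 ζ = 0 ∨ I101 ζ = 1) ∧ (I011 ζ = 0 ∨ I011 ζ = 1) ∧ (I100 ζ = 0 ∨ I100 ζ = 1) ∧
      (I010 ζ = 0 ∨ I010 ζ = 1) ∧ (I001 ζ = 0 ∨ I001 ζ = 1) := by
    intro ζ hζ
    obtain ⟨h1, h2, h3⟩ := ha01 ζ hζ
    simp only [hI111, hI110, hI101, hI011, hI100, hI010, hI001]
    rcases h1 with h1 | h1 <;> rcases h2 with h2 | h2 <;> rcases h3 with h3 | h3 <;>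
      rw [h1, h2, h3] <;> norm_num
  have c111 : ∑ ζ ∈ B, I111 ζ = 1 := hS123
  have c110 : ∑ ζ ∈ B, I110 ζ = 1 := by
    have : ∀ ζ ∈ B, I110 ζ = a1 ζ * a2 ζ - a1 ζ * a2 ζ * a3 ζ := by
      intro ζ _; simp only [hI110]; ring
    rw [Finset.sum_congr rfl this, Finset.sum_sub_distrib, hS12, hS123]; norm_num
  have c101 : ∑ ζ ∈ B, I101 ζ = 1 := by
    have : ∀ ζ ∈ B, I101 ζ = a1 ζ * a3 ζ - a1 ζ * a2 ζ * a3 ζ := by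
      intro ζ _; simp only [hI101]; ring
    rw [Finset.sum_congr rfl this, Finset.sum_sub_distrib, hS13, hS123]; norm_num
  have c011 : ∑ ζ ∈ B, I011 ζ = 1 := by
    have : ∀ ζ ∈ B, I011 ζ = a2 ζ * a3 ζ - a1 ζ * a2 ζ * a3 ζ := by
      intro ζ _; simp only [hI011]; ring
    rw [Finset.sum_congr rfl this, Finset.sum_sub_distrib, hS23, hS123]; norm_num
  have c100 : ∑ ζ ∈ B, I100 ζ = 1 := by
    have : ∀ ζ ∈ B, I100 ζ = a1 ζ - a1 ζ * a2 ζ - a1 ζ * a3 ζ + a1 ζ * a2 ζ * a3 ζ := by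
      intro ζ _; simp only [hI100]; ring
    rw [Finset.sum_congr rfl this, Finset.sum_add_distrib, Finset.sum_sub_distrib,
      Finset.sum_sub_distrib, e1, hS12, hS13, hS123]; norm_num
  have c010 : ∑ ζ ∈ B, I010 ζ = 1 := by
    have : ∀ ζ ∈ B, I010 ζ = a2 ζ - a1 ζ * a2 ζ - a2 ζ * a3 ζ + a1 ζ * a2 ζ * a3 ζ := by
      intro ζ _; simp only [hI010]; ring
    rw [Finset.sum_congr rfl this, Finset.sum_add_distrib, Finset.sum_sub_distrib,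
      Finset.sum_sub_distrib, e2, hS12, hS23, hS123]; norm_num
  have c001 : ∑ ζ ∈ B, I001 ζ = 1 := by
    have : ∀ ζ ∈ B, I001 ζ = a3 ζ - a1 ζ * a3 ζ - a2 ζ * a3 ζ + a1 ζ * a2 ζ * a3 ζ := by
      intro ζ _; simp only [hI001]; ring
    rw [Finset.sum_congr rfl this, Finset.sum_add_distrib, Finset.sum_sub_distrib,
      Finset.sum_sub_distrib, e3, hS13, hS23, hS123]; norm_num
  obtain ⟨x111, hx111, i111, u111⟩ := bsq_unique B I111 (fun ζ hζ => (hI01 ζ hζ).1) c111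
  obtain ⟨x110, hx110, i110, u110⟩ := bsq_unique B I110 (fun ζ hζ => (hI01 ζ hζ).2.1) c110
  obtain ⟨x101, hx101, i101, u101⟩ := bsq_unique B I101 (fun ζ hζ => (hI01 ζ hζ).2.2.1) c101
  obtain ⟨x011, hx011, i011, u011⟩ :=
    bsq_unique B I011 (fun ζ hζ => (hI01 ζ hζ).2.2.2.1) c011
  obtain ⟨x100, hx100, i100, u100⟩ :=
    bsq_unique B I100 (fun ζ hζ => (hI01 ζ hζ).2.2.2.2.1) c100
  obtain ⟨x010, hx010, i010, u010⟩ :=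
    bsq_unique B I010 (fun ζ hζ => (hI01 ζ hζ).2.2.2.2.2.1) c010
  obtain ⟨x001, hx001, i001, u001⟩ :=
    bsq_unique B I001 (fun ζ hζ => (hI01 ζ hζ).2.2.2.2.2.2) c001
  -- the row `x100` is the distinguished one
  have hx100eq : x100 = x0 := by
    by_contra hne
    have h0 := u100 x0 hx0 (fun h => hne h.symm)
    simp only [hI100, ha1, ha2, ha3, hm0.1, hm0.2.1, hm0.2.2] at h0
    norm_num at h0
  -- values of the squares at the seven rows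
  have val : ∀ ζ ∈ B, ∀ b1 b2 b3 : ℤ, (b1 = 0 ∨ b1 = 1) → (b2 = 0 ∨ b2 = 1) →
      (b3 = 0 ∨ b3 = 1) →
      (if b1 = 1 then a1 ζ else 1 - a1 ζ) * (if b2 = 1 then a2 ζ else 1 - a2 ζ) *
        (if b3 = 1 then a3 ζ else 1 - a3 ζ) = 1 → a1 ζ = b1 ∧ a2 ζ = b2 ∧ a3 ζ = b3 := by
    intro ζ hζ b1 b2 b3 hb1 hb2 hb3 h
    obtain ⟨h1, h2, h3⟩ := ha01 ζ hζ
    rcases hb1 with rfl | rfl <;> rcases hb2 with rfl | rfl <;> rcases hb3 with rfl | rfl <;>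
      rcases h1 with h1 | h1 <;> rcases h2 with h2 | h2 <;> rcases h3 with h3 | h3 <;>
      rw [h1, h2, h3] at h ⊢ <;> (try norm_num at h) <;> (try norm_num)
  have v111 := val x111 hx111 1 1 1 (Or.inr rfl) (Or.inr rfl) (Or.inr rfl)
    (by simpa [hI111] using i111)
  have v110 := val x110 hx110 1 1 0 (Or.inr rfl) (Or.inr rfl) (Or.inl rfl)
    (by simpa [hI110] using i110)
  have v101 := val x101 hx101 1 0 1 (Or.inr rfl) (Or.inl rfl) (Or.inr rfl)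
    (by simpa [hI101] using i101)
  have v011 := val x011 hx011 0 1 1 (Or.inl rfl) (Or.inr rfl) (Or.inr rfl)
    (by simpa [hI011] using i011)
  have v100 := val x100 hx100 1 0 0 (Or.inr rfl) (Or.inl rfl) (Or.inl rfl)
    (by simpa [hI100] using i100)
  have v010 := val x010 hx010 0 1 0 (Or.inl rfl) (Or.inr rfl) (Or.inl rfl)
    (by simpa [hI010] using i010)
  have v001 := val x001 hx001 0 0 1 (Or.inl rfl) (Or.inl rfl) (Or.inr rfl)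
    (by simpa [hI001] using i001)
  -- decomposition of the columns
  have dec1 : ∀ ζ ∈ B, m1 ζ = (I100 ζ + I110 ζ + I101 ζ + I111 ζ) * σ ζ := by
    intro ζ hζ
    have h := (hrow ζ hζ).1
    have e : I100 ζ + I110 ζ + I101 ζ + I111 ζ = m1 ζ ^ 2 := by
      simp only [hI100, hI110, hI101, hI111, ha1, ha2, ha3]; ring
    rw [e, mul_comm]; exact h
  have dec2 : ∀ ζ ∈ B, m2 ζ = (I010 ζ + I110 ζ + I011 ζ + I111 ζ) * σ ζ := by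
    intro ζ hζ
    have h := (hrow ζ hζ).2.1
    have e : I010 ζ + I110 ζ + I011 ζ + I111 ζ = m2 ζ ^ 2 := by
      simp only [hI010, hI110, hI011, hI111, ha1, ha2, ha3]; ring
    rw [e, mul_comm]; exact h
  have dec3 : ∀ ζ ∈ B, m3 ζ = (I001 ζ + I101 ζ + I011 ζ + I111 ζ) * σ ζ := by
    intro ζ hζ
    have h := (hrow ζ hζ).2.2.1
    have e : I001 ζ + I101 ζ + I011 ζ + I111 ζ = m3 ζ ^ 2 := by
      simp only [hI001, hI101, hI011, hI111, ha1, ha2, ha3]; ring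
    rw [e, mul_comm]; exact h
  -- `v` lives on the rows of odd weight
  have decv : ∀ ζ ∈ B, v ζ = (I100 ζ + I010 ζ + I001 ζ + I111 ζ) * v ζ := by
    intro ζ hζ
    have hp := bsq_parity (m1 ζ) (m2 ζ) (m3 ζ) (v ζ) (s1 ζ hζ) (s2 ζ hζ) (s3 ζ hζ) (sv ζ hζ)
      (hpar ζ hζ)
    have e : I100 ζ + I010 ζ + I001 ζ + I111 ζ = v ζ ^ 2 := by
      rw [hp]
      simp only [hI100, hI010, hI001, hI111, ha1, ha2, ha3]; ring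
    rw [e]
    rcases sv ζ hζ with h | h | h <;> rw [h] <;> norm_num
  have veven : ∀ ζ ∈ B, (a1 ζ + a2 ζ + a3 ζ) % 2 = 0 → v ζ = 0 := by
    intro ζ hζ h
    by_contra hne
    have hp := (hpar ζ hζ).1 hne
    simp only [ha1, ha2, ha3] at h
    rcases s1 ζ hζ with h1 | h1 | h1 <;> rcases s2 ζ hζ with h2 | h2 | h2 <;>
      rcases s3 ζ hζ with h3 | h3 | h3 <;> rw [h1, h2, h3] at h hp <;>
      (try norm_num at h) <;> (try norm_num at hp)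
  have hv110 : v x110 = 0 := by
    apply veven x110 hx110
    rw [v110.1, v110.2.1, v110.2.2]; norm_num
  have hv101 : v x101 = 0 := by
    apply veven x101 hx101
    rw [v101.1, v101.2.1, v101.2.2]; norm_num
  have hv011 : v x011 = 0 := by
    apply veven x011 hx011
    rw [v011.1, v011.2.1, v011.2.2]; norm_num
  -- the signs of the seven rows
  have sgn : ∀ ζ ∈ B, (a1 ζ = 1 ∨ a2 ζ = 1 ∨ a3 ζ = 1) → (σ ζ : ℚ) ^ 2 = 1 := by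
    intro ζ hζ h
    rcases (hrow ζ hζ).2.2.2.2.2.2 with h' | h'
    · exact_mod_cast h'
    · exfalso
      simp only [ha1, ha2, ha3] at h
      rw [h'.1, h'.2.1, h'.2.2] at h
      norm_num at h
  have g111 := sgn x111 hx111 (Or.inl v111.1)
  have g110 := sgn x110 hx110 (Or.inl v110.1)
  have g101 := sgn x101 hx101 (Or.inl v101.1)
  have g011 := sgn x011 hx011 (Or.inr (Or.inl v011.2.1))
  have g100 := sgn x100 hx100 (Or.inl v100.1)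
  have g010 := sgn x010 hx010 (Or.inr (Or.inl v010.2.1))
  have g001 := sgn x001 hx001 (Or.inr (Or.inr v001.2.2))
  have hσ0 : σ x0 = 1 := by
    simp only [hσ, hm0.1, hm0.2.1, hm0.2.2]; norm_num
  -- expansions of the column sums
  have exp1 : ∀ w : ι → ℚ, ∑ ζ ∈ B, (m1 ζ : ℚ) * w ζ =
      (σ x100 : ℚ) * w x100 + (σ x110 : ℚ) * w x110 + (σ x101 : ℚ) * w x101 +
        (σ x111 : ℚ) * w x111 := by
    intro w
    have h : ∀ ζ ∈ B, (m1 ζ : ℚ) * w ζ =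
        (I100 ζ : ℚ) * ((σ ζ : ℚ) * w ζ) + (I110 ζ : ℚ) * ((σ ζ : ℚ) * w ζ) +
          (I101 ζ : ℚ) * ((σ ζ : ℚ) * w ζ) + (I111 ζ : ℚ) * ((σ ζ : ℚ) * w ζ) := by
      intro ζ hζ
      rw [dec1 ζ hζ]; push_cast; ring
    rw [Finset.sum_congr rfl h, Finset.sum_add_distrib, Finset.sum_add_distrib,
      Finset.sum_add_distrib, bsq_sum_single B I100 x100 hx100 i100 u100,
      bsq_sum_single B I110 x110 hx110 i110 u110, bsq_sum_single B I101 x101 hx101 i101 u101,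
      bsq_sum_single B I111 x111 hx111 i111 u111]
  have exp2 : ∀ w : ι → ℚ, ∑ ζ ∈ B, (m2 ζ : ℚ) * w ζ =
      (σ x010 : ℚ) * w x010 + (σ x110 : ℚ) * w x110 + (σ x011 : ℚ) * w x011 +
        (σ x111 : ℚ) * w x111 := by
    intro w
    have h : ∀ ζ ∈ B, (m2 ζ : ℚ) * w ζ =
        (I010 ζ : ℚ) * ((σ ζ : ℚ) * w ζ) + (I110 ζ : ℚ) * ((σ ζ : ℚ) * w ζ) +
          (I011 ζ : ℚ) * ((σ ζ : ℚ) * w ζ) + (I111 ζ : ℚ) * ((σ ζ : ℚ) * w ζ) := by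
      intro ζ hζ
      rw [dec2 ζ hζ]; push_cast; ring
    rw [Finset.sum_congr rfl h, Finset.sum_add_distrib, Finset.sum_add_distrib,
      Finset.sum_add_distrib, bsq_sum_single B I010 x010 hx010 i010 u010,
      bsq_sum_single B I110 x110 hx110 i110 u110, bsq_sum_single B I011 x011 hx011 i011 u011,
      bsq_sum_single B I111 x111 hx111 i111 u111]
  have exp3 : ∀ w : ι → ℚ, ∑ ζ ∈ B, (m3 ζ : ℚ) * w ζ =
      (σ x001 : ℚ) * w x001 + (σ x101 : ℚ) * w x101 + (σ x011 : ℚ) * w x011 +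
        (σ x111 : ℚ) * w x111 := by
    intro w
    have h : ∀ ζ ∈ B, (m3 ζ : ℚ) * w ζ =
        (I001 ζ : ℚ) * ((σ ζ : ℚ) * w ζ) + (I101 ζ : ℚ) * ((σ ζ : ℚ) * w ζ) +
          (I011 ζ : ℚ) * ((σ ζ : ℚ) * w ζ) + (I111 ζ : ℚ) * ((σ ζ : ℚ) * w ζ) := by
      intro ζ hζ
      rw [dec3 ζ hζ]; push_cast; ring
    rw [Finset.sum_congr rfl h, Finset.sum_add_distrib, Finset.sum_add_distrib,
      Finset.sum_add_distrib, bsq_sum_single B I001 x001 hx001 i001 u001,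
      bsq_sum_single B I101 x101 hx101 i101 u101, bsq_sum_single B I011 x011 hx011 i011 u011,
      bsq_sum_single B I111 x111 hx111 i111 u111]
  have expv : ∀ w : ι → ℚ, ∑ ζ ∈ B, (v ζ : ℚ) * w ζ =
      (v x100 : ℚ) * w x100 + (v x010 : ℚ) * w x010 + (v x001 : ℚ) * w x001 +
        (v x111 : ℚ) * w x111 := by
    intro w
    have h : ∀ ζ ∈ B, (v ζ : ℚ) * w ζ =
        (I100 ζ : ℚ) * ((v ζ : ℚ) * w ζ) + (I010 ζ : ℚ) * ((v ζ : ℚ) * w ζ) +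
          (I001 ζ : ℚ) * ((v ζ : ℚ) * w ζ) + (I111 ζ : ℚ) * ((v ζ : ℚ) * w ζ) := by
      intro ζ hζ
      have := decv ζ hζ
      have h2 : (v ζ : ℚ) = ((I100 ζ + I010 ζ + I001 ζ + I111 ζ : ℤ) : ℚ) * (v ζ : ℚ) := by
        exact_mod_cast this
      push_cast at h2
      linear_combination (w ζ) * h2
    rw [Finset.sum_congr rfl h, Finset.sum_add_distrib, Finset.sum_add_distrib,
      Finset.sum_add_distrib, bsq_sum_single B I100 x100 hx100 i100 u100,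
      bsq_sum_single B I010 x010 hx010 i010 u010, bsq_sum_single B I001 x001 hx001 i001 u001,
      bsq_sum_single B I111 x111 hx111 i111 u111]
  -- the values of `v`
  have cast_sum : ∀ f g : ι → ℤ, ∑ ζ ∈ B, f ζ * g ζ = 0 →
      ∑ ζ ∈ B, (f ζ : ℚ) * ((fun ζ => (g ζ : ℚ)) ζ) = 0 := by
    intro f g h
    have : ((∑ ζ ∈ B, f ζ * g ζ : ℤ) : ℚ) = 0 := by rw [h]; simp
    push_cast at this
    exact this
  have q1 := exp1 (fun ζ => (v ζ : ℚ))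
  rw [cast_sum m1 v hv1] at q1
  have q2 := exp2 (fun ζ => (v ζ : ℚ))
  rw [cast_sum m2 v hv2] at q2
  have q3 := exp3 (fun ζ => (v ζ : ℚ))
  rw [cast_sum m3 v hv3] at q3
  simp only [hx100eq, hσ0, hv0, hv110, hv101, hv011] at q1 q2 q3
  rw [hx100eq] at g100 v100
  have w111 : (v x111 : ℚ) = -(σ x111 : ℚ) := by
    have : (σ x111 : ℚ) * (v x111 : ℚ) = -1 := by
      push_cast at q1; linarith
    calc (v x111 : ℚ) = (σ x111 : ℚ) ^ 2 * (v x111 : ℚ) := by rw [g111, one_mul]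
      _ = (σ x111 : ℚ) * ((σ x111 : ℚ) * (v x111 : ℚ)) := by ring
      _ = -(σ x111 : ℚ) := by rw [this]; ring
  have w010 : (v x010 : ℚ) = (σ x010 : ℚ) := by
    have : (σ x010 : ℚ) * (v x010 : ℚ) = 1 := by
      push_cast at q2
      have h' : (σ x111 : ℚ) * (v x111 : ℚ) = -1 := by rw [w111]; nlinarith
      linarith
    calc (v x010 : ℚ) = (σ x010 : ℚ) ^ 2 * (v x010 : ℚ) := by rw [g010, one_mul]
      _ = (σ x010 : ℚ) * ((σ x010 : ℚ) * (v x010 : ℚ)) := by ring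
      _ = (σ x010 : ℚ) := by rw [this]; ring
  have w001 : (v x001 : ℚ) = (σ x001 : ℚ) := by
    have : (σ x001 : ℚ) * (v x001 : ℚ) = 1 := by
      push_cast at q3
      have h' : (σ x111 : ℚ) * (v x111 : ℚ) = -1 := by rw [w111]; nlinarith
      linarith
    calc (v x001 : ℚ) = (σ x001 : ℚ) ^ 2 * (v x001 : ℚ) := by rw [g001, one_mul]
      _ = (σ x001 : ℚ) * ((σ x001 : ℚ) * (v x001 : ℚ)) := by ring
      _ = (σ x001 : ℚ) := by rw [this]; ring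
  -- solving the linear system
  have key : ∀ w : ι → ℚ, ∑ ζ ∈ B, (m1 ζ : ℚ) * w ζ = 0 → ∑ ζ ∈ B, (m2 ζ : ℚ) * w ζ = 0 →
      ∑ ζ ∈ B, (m3 ζ : ℚ) * w ζ = 0 → ∑ ζ ∈ B, (v ζ : ℚ) * w ζ = 0 →
      (σ x110 : ℚ) * w x110 = - w x0 - (σ x010 : ℚ) * w x010 ∧
      (σ x101 : ℚ) * w x101 = - w x0 - (σ x001 : ℚ) * w x001 ∧
      (σ x111 : ℚ) * w x111 = w x0 + (σ x010 : ℚ) * w x010 + (σ x001 : ℚ) * w x001 ∧
      (σ x011 : ℚ) * w x011 = - (σ x010 : ℚ) * w x010 - (σ x001 : ℚ) * w x001 := by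
    intro w r1 r2 r3 rv
    rw [exp1 w] at r1
    rw [exp2 w] at r2
    rw [exp3 w] at r3
    rw [expv w, w111, w010, w001] at rv
    simp only [hx100eq, hσ0, hv0] at r1 rv
    push_cast at r1 rv
    refine ⟨?_, ?_, ?_, ?_⟩ <;> linarith
  -- the values of `E`
  have Eval : ∀ ζ ∈ B, E ζ = σ ζ * (a1 ζ + F2 * a2 ζ + F3 * a3 ζ) := by
    intro ζ hζ
    rw [hE ζ hζ]
    obtain ⟨h1, h2, h3, -⟩ := hrow ζ hζ
    simp only [ha1, ha2, ha3]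
    linear_combination h1 + F2 * h2 + F3 * h3
  refine ⟨σ, x010, x110, x001, x101, x011, x111, ⟨hx010, hx110, hx001, hx101, hx011, hx111⟩,
    ⟨g010, g110, g001, g101, g011, g111⟩, ⟨?_, ?_, ?_, ?_, ?_, ?_⟩, key, ?_⟩
  · rw [Eval x010 hx010, v010.1, v010.2.1, v010.2.2]; ring
  · rw [Eval x110 hx110, v110.1, v110.2.1, v110.2.2]; ring
  · rw [Eval x001 hx001, v001.1, v001.2.1, v001.2.2]; ring
  · rw [Eval x101 hx101, v101.1, v101.2.1, v101.2.2]; ring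
  · rw [Eval x011 hx011, v011.1, v011.2.1, v011.2.2]; ring
  · rw [Eval x111 hx111, v111.1, v111.2.1, v111.2.2]; ring
  intro ζ hζ
  by_cases c1 : ζ = x111
  · simp [c1]
  by_cases c2 : ζ = x110
  · simp [c2]
  by_cases c3 : ζ = x101
  · simp [c3]
  by_cases c4 : ζ = x011
  · simp [c4]
  by_cases c5 : ζ = x010
  · simp [c5]
  by_cases c6 : ζ = x001
  · simp [c6]
  by_cases c7 : ζ = x0
  · simp [c7]
  have z111 := u111 ζ hζ c1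
  have z110 := u110 ζ hζ c2
  have z101 := u101 ζ hζ c3
  have z011 := u011 ζ hζ c4
  have z010 := u010 ζ hζ c5
  have z001 := u001 ζ hζ c6
  have z100 := u100 ζ hζ (by rw [hx100eq]; exact c7)
  obtain ⟨h1, h2, h3⟩ := ha01 ζ hζ
  have hz : a1 ζ = 0 ∧ a2 ζ = 0 ∧ a3 ζ = 0 := by
    simp only [hI111, hI110, hI101, hI011, hI100, hI010, hI001] at z111 z110 z101 z011 z010 z001 z100
    rcases h1 with h1 | h1 <;> rcases h2 with h2 | h2 <;> rcases h3 with h3 | h3 <;>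
      rw [h1, h2, h3] at z111 z110 z101 z011 z010 z001 z100 <;>
      first | exact ⟨h1, h2, h3⟩ | (exfalso; revert z111 z110 z101 z011 z010 z001 z100; norm_num)
  right; right; right; right; right; right; right
  rw [Eval ζ hζ, hz.1, hz.2.1, hz.2.2]
  ring

/-- two solutions with the same products agree -/
theorem bsq_fin2 (P P' R R' F : ℚ) (hR : R = -1 - P) (hR' : R' = -1 - P')
    (h1 : P * P' = F ^ 2) (h2 : R * R' = (1 + F) ^ 2) : P = P' := by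
  rw [hR, hR'] at h2
  have hsum : P + P' = 2 * F := by linear_combination h2 - h1
  have h3 : (P - P') ^ 2 = 0 := by
    have : (P - P') ^ 2 = (P + P') ^ 2 - 4 * (P * P') := by ring
    rw [this, hsum, h1]; ring
  have h4 := pow_eq_zero_iff (two_ne_zero) |>.1 h3
  linarith

theorem bsq_prod (s d e c : ℚ) (hs : s ^ 2 = 1) (hd : d ≠ 0) (he : e = s * c) :
    (s * d) * (s * (e ^ 2 / d)) = c ^ 2 := by
  rw [he]
  field_simp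
  have : s ^ 4 = 1 := by
    have : s ^ 4 = (s ^ 2) ^ 2 := by ring
    rw [this, hs]; ring
  rw [this, one_mul]

theorem bsq_close (s d e : ℚ) (hs : s ^ 2 = 1) (hd : d ≠ 0)
    (h : s * d = s * (e ^ 2 / d)) : e ^ 2 = d ^ 2 := by
  have h1 : d = e ^ 2 / d := by
    calc d = s ^ 2 * d := by rw [hs, one_mul]
      _ = s * (s * d) := by ring
      _ = s * (s * (e ^ 2 / d)) := by rw [h]
      _ = s ^ 2 * (e ^ 2 / d) := by ring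
      _ = e ^ 2 / d := by rw [hs, one_mul]
  field_simp at h1
  linarith

set_option maxHeartbeats 1600000 in
/-- **The combinatorial core**: the rows of generalized decomposition numbers are forced, and
the values at the involution are, up to sign, the degrees. -/
theorem bsq_core (B : Finset ι) (x0 : ι) (hx0 : x0 ∈ B)
    (m1 m2 m3 v D E : ι → ℤ) (F2 F3 : ℤ)
    (hD : ∀ ζ ∈ B, 0 < D ζ)
    (h11 : ∑ ζ ∈ B, m1 ζ ^ 2 = 4) (h22 : ∑ ζ ∈ B, m2 ζ ^ 2 = 4)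
    (h33 : ∑ ζ ∈ B, m3 ζ ^ 2 = 4)
    (h12 : ∑ ζ ∈ B, m1 ζ * m2 ζ = 2) (h13 : ∑ ζ ∈ B, m1 ζ * m3 ζ = 2)
    (h23 : ∑ ζ ∈ B, m2 ζ * m3 ζ = 2)
    (hm0 : m1 x0 = 1 ∧ m2 x0 = 0 ∧ m3 x0 = 0) (hD0 : D x0 = 1) (hv0 : v x0 = 1)
    (hvv : ∑ ζ ∈ B, v ζ ^ 2 = 4)
    (hv1 : ∑ ζ ∈ B, m1 ζ * v ζ = 0) (hv2 : ∑ ζ ∈ B, m2 ζ * v ζ = 0)
    (hv3 : ∑ ζ ∈ B, m3 ζ * v ζ = 0)
    (hD1 : ∑ ζ ∈ B, m1 ζ * D ζ = 0) (hD2 : ∑ ζ ∈ B, m2 ζ * D ζ = 0)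
    (hD3 : ∑ ζ ∈ B, m3 ζ * D ζ = 0) (hvD : ∑ ζ ∈ B, v ζ * D ζ = 0)
    (hE : ∀ ζ ∈ B, E ζ = m1 ζ + F2 * m2 ζ + F3 * m3 ζ)
    (hpar : ∀ ζ ∈ B, (v ζ ≠ 0 ↔ (m1 ζ + m2 ζ + m3 ζ) % 2 = 1))
    (hE1 : ∑ ζ ∈ B, (m1 ζ : ℚ) * ((E ζ : ℚ) ^ 2 / (D ζ : ℚ)) = 0)
    (hE2 : ∑ ζ ∈ B, (m2 ζ : ℚ) * ((E ζ : ℚ) ^ 2 / (D ζ : ℚ)) = 0)
    (hE3 : ∑ ζ ∈ B, (m3 ζ : ℚ) * ((E ζ : ℚ) ^ 2 / (D ζ : ℚ)) = 0)
    (hEv : ∑ ζ ∈ B, (v ζ : ℚ) * ((E ζ : ℚ) ^ 2 / (D ζ : ℚ)) = 0) :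
    ∀ ζ ∈ B, E ζ = 0 ∨ E ζ ^ 2 = D ζ ^ 2 := by
  obtain ⟨σ, x010, x110, x001, x101, x011, x111, ⟨hx010, hx110, hx001, hx101, hx011, hx111⟩,
    ⟨g010, g110, g001, g101, g011, g111⟩, ⟨e010, e110, e001, e101, e011, e111⟩, key, hall⟩ :=
    bsq_struct B x0 hx0 m1 m2 m3 v D E F2 F3 hD h11 h22 h33 h12 h13 h23 hm0 hv0 hvv hv1 hv2 hv3
      hD1 hD2 hD3 hvD hE hpar
  have hDpos : ∀ ζ ∈ B, ((D ζ : ℤ) : ℚ) ≠ 0 := fun ζ hζ => by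
    have := hD ζ hζ
    have h' : (0 : ℚ) < (D ζ : ℚ) := by exact_mod_cast this
    exact h'.ne'
  have cast_sum : ∀ f g : ι → ℤ, ∑ ζ ∈ B, f ζ * g ζ = 0 →
      ∑ ζ ∈ B, (f ζ : ℚ) * ((fun ζ => (g ζ : ℚ)) ζ) = 0 := by
    intro f g h
    have : ((∑ ζ ∈ B, f ζ * g ζ : ℤ) : ℚ) = 0 := by rw [h]; simp
    push_cast at this
    exact this
  have k1 := key (fun ζ => (D ζ : ℚ)) (cast_sum m1 D hD1) (cast_sum m2 D hD2)
    (cast_sum m3 D hD3) (cast_sum v D hvD)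
  have k2 := key (fun ζ => (E ζ : ℚ) ^ 2 / (D ζ : ℚ)) hE1 hE2 hE3 hEv
  have hE0 : E x0 = 1 := by
    rw [hE x0 hx0, hm0.1, hm0.2.1, hm0.2.2]; ring
  simp only [hD0, hE0, Int.cast_one, one_pow, div_one] at k1 k2
  obtain ⟨k1a, k1b, k1c, k1d⟩ := k1
  obtain ⟨k2a, k2b, k2c, k2d⟩ := k2
  have q010 : ((E x010 : ℤ) : ℚ) = (σ x010 : ℚ) * (F2 : ℚ) := by rw [e010]; push_cast; ring
  have q110 : ((E x110 : ℤ) : ℚ) = (σ x110 : ℚ) * (1 + F2 : ℚ) := by rw [e110]; push_cast; ring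
  have q001 : ((E x001 : ℤ) : ℚ) = (σ x001 : ℚ) * (F3 : ℚ) := by rw [e001]; push_cast; ring
  have q101 : ((E x101 : ℤ) : ℚ) = (σ x101 : ℚ) * (1 + F3 : ℚ) := by rw [e101]; push_cast; ring
  have hP : (σ x010 : ℚ) * (D x010 : ℚ) = (σ x010 : ℚ) * ((E x010 : ℚ) ^ 2 / (D x010 : ℚ)) :=
    bsq_fin2 _ _ _ _ (F2 : ℚ) k1a k2a
      (bsq_prod _ _ _ _ g010 (hDpos x010 hx010) q010)
      (bsq_prod _ _ _ _ g110 (hDpos x110 hx110) q110)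
  have hQ : (σ x001 : ℚ) * (D x001 : ℚ) = (σ x001 : ℚ) * ((E x001 : ℚ) ^ 2 / (D x001 : ℚ)) :=
    bsq_fin2 _ _ _ _ (F3 : ℚ) k1b k2b
      (bsq_prod _ _ _ _ g001 (hDpos x001 hx001) q001)
      (bsq_prod _ _ _ _ g101 (hDpos x101 hx101) q101)
  have close : ∀ ζ ∈ B, (σ ζ : ℚ) ^ 2 = 1 →
      (σ ζ : ℚ) * (D ζ : ℚ) = (σ ζ : ℚ) * ((E ζ : ℚ) ^ 2 / (D ζ : ℚ)) → E ζ ^ 2 = D ζ ^ 2 := by
    intro ζ hζ hs heq
    have h2 := bsq_close _ _ _ hs (hDpos ζ hζ) heq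
    exact_mod_cast h2
  intro ζ hζ
  rcases hall ζ hζ with h | h | h | h | h | h | h | h
  · right; rw [h, hE0, hD0]
  · right; rw [h]; exact close x010 hx010 g010 hP
  · right; rw [h]; apply close x110 hx110 g110; rw [k1a, k2a, hP]
  · right; rw [h]; exact close x001 hx001 g001 hQ
  · right; rw [h]; apply close x101 hx101 g101; rw [k1b, k2b, hQ]
  · right; rw [h]; apply close x011 hx011 g011; rw [k1d, k2d]; linear_combination (-1 : ℚ) * hP - hQ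
  · right; rw [h]; apply close x111 hx111 g111; rw [k1c, k2c, hP, hQ]
  · left; exact h

end Core

end Cfsg.Agent.Helper7
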