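import Mathlib
import Cfsg.Agent.Lib.Helper7.BSQLocal2
import Cfsg.Agent.Lib.Helper23.BlockSecondMain4

/-!
# Auxiliary facts for the final step of the Brauer–Suzuki theorem (helper7's library)
-/

set_option autoImplicit false

universe u v

namespace Cfsg.Agent.Helper7

open Cfsg Cfsg.Agent.Helper24 Cfsg.Agent.Helper18 Cfsg.Agent.Helper23 Cfsg.Agent.Helper23.Blk
open scoped ComplexConjugate

section RepNeg

variable {G : Type u} [Group G] [Finite G] {V : Type v} [AddCommGroup V] [Module ℂ V]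
  [FiniteDimensional ℂ V] (ρ : Representation ℂ G V)

/-- `χ(g) = -χ(1)` forces `g` to act as `-1`. -/
theorem rep_eq_neg_one_of_char (g : G) (h : ρ.character g = -(Module.finrank ℂ V : ℂ)) :
    ρ g = -1 := by
  obtain ⟨n, b, μ, hμ, hb⟩ := exists_eigenbasis ρ g
  have hn : Module.finrank ℂ V = n := finrank_eq_of_basis b
  have htr : ρ.character g = ∑ i, μ i := trace_eq_sum_of_eigenbasis b μ (ρ g) hb
  rw [htr, hn] at h
  have hnorm : ∀ i, ‖μ i‖ = 1 := fun i =>
    Complex.norm_eq_one_of_pow_eq_one (hμ i) Nat.card_pos.ne'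
  have hre_ge : ∀ i, -1 ≤ (μ i).re := by
    intro i
    have h1 := Complex.abs_re_le_norm (μ i)
    rw [hnorm i] at h1
    exact (abs_le.1 h1).1
  have hsum : ∑ _i : Fin n, (-1 : ℝ) = ∑ i, (μ i).re := by
    have := congrArg Complex.re h
    simp only [Complex.re_sum, Complex.neg_re, Complex.natCast_re] at this
    rw [this]
    simp
  have hre : ∀ i, (μ i).re = -1 := by
    intro i
    have := (Finset.sum_eq_sum_iff_of_le (fun i _ => hre_ge i)).mp hsum i (Finset.mem_univ i)
    exact this.symm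
  have hone : ∀ i, μ i = -1 := by
    intro i
    have h2 := hnorm i
    have h3 := hre i
    have h4 : (μ i).im = 0 := by
      have := Complex.sq_norm (μ i)
      rw [h2, Complex.normSq_apply, h3] at this
      nlinarith
    apply Complex.ext <;> simp [h3, h4]
  apply b.ext
  intro i
  rw [hb i, hone i]
  simp

end RepNeg

section Ker

variable {G : Type u} [Group G] [Finite G]

/-- an irreducible character taking the value `± χ(1)` at `u` -/
theorem irr_ker_data {ζ : G → ℂ} (hζ : IsIrrCharacter G ζ) (u : G)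
    (hval : ζ u = ζ 1 ∨ ζ u = - ζ 1) :
    ∃ N : Subgroup G, N.Normal ∧ (ζ u = - ζ 1 → u ∉ N) ∧ ∀ g, u * g * u⁻¹ * g⁻¹ ∈ N := by
  have h10 : ζ 1 ≠ 0 := by
    letI : Fintype G := Fintype.ofFinite G
    exact Cfsg.Agent.Helper23.Blk.irr_one_ne_zero hζ
  obtain ⟨n, ρ, hirr, rfl⟩ := hζ
  have hone : ρ.character 1 = (Module.finrank ℂ (Fin n → ℂ) : ℂ) := Representation.char_one ρ
  refine ⟨MonoidHom.ker ρ, MonoidHom.normal_ker ρ, ?_, ?_⟩
  · intro hneg hmem
    rw [MonoidHom.mem_ker] at hmem
    have h1 : ρ.character u = ρ.character 1 := by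
      simp only [Representation.character]
      rw [hmem, map_one ρ]
    rw [h1] at hneg
    apply h10
    have : (2 : ℂ) * ρ.character 1 = 0 := by linear_combination hneg
    rcases mul_eq_zero.1 this with h | h
    · norm_num at h
    · exact h
  · have hsc : ρ u = 1 ∨ ρ u = -1 := by
      rcases hval with h | h
      · left
        rw [hone] at h
        exact (char_eq_finrank_iff ρ u).1 h
      · right
        rw [hone] at h
        exact rep_eq_neg_one_of_char ρ u h
    intro g
    rw [MonoidHom.mem_ker]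
    have hcomm : ρ (u * g) = ρ (g * u) := by
      rw [map_mul, map_mul]
      rcases hsc with h | h
      · rw [h, one_mul, mul_one]
      · rw [h]
        apply LinearMap.ext
        intro w
        simp [Module.End.mul_apply]
    have e1 : u * g * u⁻¹ * g⁻¹ = (u * g) * (g * u)⁻¹ := by group
    rw [e1, map_mul, hcomm, ← map_mul, mul_inv_cancel, map_one]

/-- **the conclusion**: a normal subgroup modulo which `u` is central -/
theorem exists_normal_of_values (u : G) (B : Finset (IrrCharacter G))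
    (hval : ∀ ζ ∈ B, (ζ : G → ℂ) u = 0 ∨ (ζ : G → ℂ) u = (ζ : G → ℂ) 1 ∨
      (ζ : G → ℂ) u = - (ζ : G → ℂ) 1)
    (hneg : ∃ ζ ∈ B, (ζ : G → ℂ) u = - (ζ : G → ℂ) 1) :
    ∃ K : Subgroup G, K.Normal ∧ u ∉ K ∧ ∀ g, u * g * u⁻¹ * g⁻¹ ∈ K := by
  classical
  have hex : ∀ ζ : IrrCharacter G, ∃ N : Subgroup G, N.Normal ∧
      (ζ ∈ B → (ζ : G → ℂ) u = - (ζ : G → ℂ) 1 → u ∉ N) ∧
      ∀ g, u * g * u⁻¹ * g⁻¹ ∈ N := by
    intro ζ
    by_cases hζ : ζ ∈ B ∧ (ζ : G → ℂ) u ≠ 0
    · rcases hval ζ hζ.1 with h | h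
      · exact absurd h hζ.2
      · obtain ⟨N, hN, h1, h2⟩ := irr_ker_data ζ.2 u h
        exact ⟨N, hN, fun _ => h1, h2⟩
    · refine ⟨⊤, inferInstance, ?_, fun g => Subgroup.mem_top _⟩
      intro hB hn
      exfalso
      apply hζ
      refine ⟨hB, ?_⟩
      rw [hn]
      let _ : Fintype G := Fintype.ofFinite G
      exact neg_ne_zero.2 (Cfsg.Agent.Helper23.Blk.irr_one_ne_zero ζ.2)
  choose N hN h1 h2 using hex
  refine ⟨⨅ ζ, N ζ, Subgroup.normal_iInf_normal hN, ?_, ?_⟩
  · obtain ⟨ζ, hζB, hζ⟩ := hneg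
    intro hmem
    rw [Subgroup.mem_iInf] at hmem
    exact h1 ζ hζB hζ (hmem ζ)
  · intro g
    rw [Subgroup.mem_iInf]
    intro ζ
    exact h2 ζ g

end Ker

section Shift

variable {H : Type u} [Group H] [Fintype H]

/-- translating a generalized character by a central involution -/
theorem isGenChar_shift_central {θ : H → ℂ} (hθ : IsGeneralizedCharacter H θ) (u : H)
    (hu : orderOf u = 2) (huc : ∀ h : H, h * u = u * h) :
    IsGeneralizedCharacter H (fun h => θ (u * h)) := by
  classical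
  letI : Fintype (IrrCharacter H) := irrFintype
  obtain ⟨z, hz⟩ := genChar_expansion hθ
  have key : (fun h => θ (u * h)) = ∑ μ : IrrCharacter H,
      ((z μ * (if (μ : H → ℂ) u = (μ : H → ℂ) 1 then 1 else -1) : ℤ) : ℂ) • (μ : H → ℂ) := by
    funext h
    have h0 := congrFun hz (u * h)
    rw [h0]
    simp only [Finset.sum_apply, Pi.smul_apply, smul_eq_mul]
    apply Finset.sum_congr rfl
    intro μ _
    rcases irr_central_invol μ.2 u hu huc with ⟨h1, h2⟩ | ⟨h1, h2⟩
    · rw [if_pos h1, h2]; push_cast; ring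
    · have hne : ¬ (μ : H → ℂ) u = (μ : H → ℂ) 1 := by
        intro h3
        have h4 : (2 : ℂ) * (μ : H → ℂ) 1 = 0 := by
          rw [h1] at h3
          linear_combination -h3
        rcases mul_eq_zero.1 h4 with h5 | h5
        · norm_num at h5
        · exact Cfsg.Agent.Helper23.Blk.irr_one_ne_zero μ.2 h5
      rw [if_neg hne, h2]; push_cast; ring
  rw [key]
  apply isGenChar_sum
  intro μ _
  exact isGenChar_intCast_smul _ (isGenChar_of_isCharacter (isCharacter_of_isIrrCharacter μ.2))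

end Shift

section Orth

variable {G : Type u} [Group G] [Fintype G] {M : Ideal AlgInt} {p : ℕ}

/-- block orthogonality for the principal block, as a sum over a finite set -/
theorem block_orth_finset (hM : IsPModular p M) [Fintype (IrrCharacter G)]
    (B : Finset (IrrCharacter G)) (hB : ∀ ζ, ζ ∈ B ↔ ζ ∈ principalBlock M G)
    {g h x y : G} (hgx : IsPPart p g x) (hhy : IsPPart p h y) (hnc : ¬ IsConj x y) :
    ∑ ζ ∈ B, (ζ : G → ℂ) g * conj ((ζ : G → ℂ) h) = 0 := by
  classical
  have hBp : IsPBlock M (principalBlock M G) := ⟨principalChar G, rfl⟩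
  have hset : principalBlock M G = ↑B := by
    ext ζ; simp [hB]
  have h3 := block_orthogonality hM hgx hhy hnc hBp
  rw [hset, finsum_mem_coe_finset] at h3
  rw [← h3]
  apply Finset.sum_congr rfl
  intro ζ _
  rw [irr_inv (isCharacter_of_isIrrCharacter ζ.2)]

end Orth

end Cfsg.Agent.Helper7
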