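import Mathlib
import Cfsg.Agent.Lib.Helper7.BSQLocal2

/-!
# The projective class functions of the local principal block (helper7's library)
-/

set_option autoImplicit false

universe u

namespace Cfsg.Agent.Helper7

open Cfsg Cfsg.Agent.Helper24 Cfsg.Agent.Helper18 Cfsg.Agent.Helper23 Cfsg.Agent.Helper23.Blk
open scoped ComplexConjugate

section Local3

variable {H : Type u} [Group H] [Fintype H] [Fintype (IrrCharacter H)]

set_option maxHeartbeats 3200000 in
/-- **The local analysis**: the three projective class functions of the principal block. -/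
theorem bsq_local (M : Ideal AlgInt) (hM : IsPModular 2 M) (u : H) (hu : orderOf u = 2)
    (huc : ∀ h : H, h * u = u * h) (D : LocalData M u) :
    ∃ (P₁ P₂ P₃ : H → ℂ) (F₂ F₃ : ℤ),
      (IsGeneralizedCharacter H P₁ ∧ IsGeneralizedCharacter H P₂ ∧
        IsGeneralizedCharacter H P₃) ∧
      (∀ h, 2 ∣ orderOf h → P₁ h = 0 ∧ P₂ h = 0 ∧ P₃ h = 0) ∧
      (∀ χ : IrrCharacter H, χ ∉ principalBlock M H →
        classInner P₁ (χ : H → ℂ) = 0 ∧ classInner P₂ (χ : H → ℂ) = 0 ∧
          classInner P₃ (χ : H → ℂ) = 0) ∧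
      (classInner P₁ P₁ = 4 ∧ classInner P₂ P₂ = 4 ∧ classInner P₃ P₃ = 4 ∧
        classInner P₁ P₂ = 2 ∧ classInner P₂ P₁ = 2 ∧ classInner P₁ P₃ = 2 ∧
        classInner P₃ P₁ = 2 ∧ classInner P₂ P₃ = 2 ∧ classInner P₃ P₂ = 2) ∧
      (classInner (fun _ : H => (1 : ℂ)) P₁ = 1 ∧ classInner (fun _ : H => (1 : ℂ)) P₂ = 0 ∧
        classInner (fun _ : H => (1 : ℂ)) P₃ = 0) ∧
      (F₂ % 2 = 1 ∧ F₃ % 2 = 1) ∧
      (∀ h, blockReg (principalBlock M H) h = P₁ h + (F₂ : ℂ) * P₂ h + (F₃ : ℂ) * P₃ h) := by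
  classical
  haveI hMp : M.IsPrime := hM.2.1.isPrime
  have hε2 : (D.ε : ℂ) * (D.ε : ℂ) = 1 := by
    rcases D.hε with h | h <;> rw [h] <;> norm_num
  have hεc : conj (D.ε : ℂ) = (D.ε : ℂ) := map_intCast (starRingEnd ℂ) D.ε
  have hinv1 : ∀ h, (D.ζ1 : H → ℂ) (u * h) = (D.ζ1 : H → ℂ) h := by
    intro h; rw [D.h1]
  -- the three generalized characters
  set ρ1 : H → ℂ := (D.ζ1 : H → ℂ) + (D.ζ4 : H → ℂ) with hρ1
  set ρ2 : H → ℂ := (D.ζ2 : H → ℂ) + (D.ζ4 : H → ℂ) with hρ2
  set ρ3 : H → ℂ := (D.ε : ℂ) • (D.ζ3 : H → ℂ) + (D.ζ4 : H → ℂ) with hρ3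
  have gc : ∀ ζ : IrrCharacter H, IsGeneralizedCharacter H (ζ : H → ℂ) := fun ζ =>
    isGenChar_of_isCharacter (isCharacter_of_isIrrCharacter ζ.2)
  have g1 : IsGeneralizedCharacter H ρ1 := isGenChar_add (gc _) (gc _)
  have g2 : IsGeneralizedCharacter H ρ2 := isGenChar_add (gc _) (gc _)
  have g3 : IsGeneralizedCharacter H ρ3 :=
    isGenChar_add (isGenChar_intCast_smul _ (gc _)) (gc _)
  have i1 : ∀ h, ρ1 (u * h) = ρ1 h := by
    intro h; simp only [hρ1, Pi.add_apply]; rw [hinv1, D.inv4]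
  have i2 : ∀ h, ρ2 (u * h) = ρ2 h := by
    intro h; simp only [hρ2, Pi.add_apply]; rw [D.inv2, D.inv4]
  have i3 : ∀ h, ρ3 (u * h) = ρ3 h := by
    intro h; simp only [hρ3, Pi.add_apply, Pi.smul_apply]; rw [D.inv3, D.inv4]
  have v1 : ∀ h, ρ1 h ≠ 0 → ¬ 2 ∣ orderOf h ∨ ¬ 2 ∣ orderOf (u * h) := by
    intro h hne
    by_contra hcon
    push_neg at hcon
    obtain ⟨-, -, h4⟩ := D.sing h hcon.1 hcon.2
    apply hne
    simp only [hρ1, Pi.add_apply]
    rw [h4, D.h1]; ring
  have v2 : ∀ h, ρ2 h ≠ 0 → ¬ 2 ∣ orderOf h ∨ ¬ 2 ∣ orderOf (u * h) := by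
    intro h hne
    by_contra hcon
    push_neg at hcon
    obtain ⟨h2, -, h4⟩ := D.sing h hcon.1 hcon.2
    apply hne
    simp only [hρ2, Pi.add_apply]
    rw [h2, h4]; ring
  have v3 : ∀ h, ρ3 h ≠ 0 → ¬ 2 ∣ orderOf h ∨ ¬ 2 ∣ orderOf (u * h) := by
    intro h hne
    by_contra hcon
    push_neg at hcon
    obtain ⟨-, h3, h4⟩ := D.sing h hcon.1 hcon.2
    apply hne
    simp only [hρ3, Pi.add_apply, Pi.smul_apply, smul_eq_mul]
    rw [h3, h4, hε2]; ring
  -- orthonormality
  have o : ∀ a b : IrrCharacter H, classInner (a : H → ℂ) (b : H → ℂ) = if a = b then 1 else 0 :=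
    irr_orthogonality'
  have n21 := D.h12.symm
  have n31 := D.h13.symm
  have n41 := D.h14.symm
  have n32 := D.h23.symm
  have n42 := D.h24.symm
  have n43 := D.h34.symm
  have r11 : classInner ρ1 ρ1 = 2 := by
    simp only [hρ1, classInner_add_left, classInner_add_right, o, if_pos, if_neg D.h14, if_neg n41]
    norm_num
  have r22 : classInner ρ2 ρ2 = 2 := by
    simp only [hρ2, classInner_add_left, classInner_add_right, o, if_pos, if_neg D.h24, if_neg n42]
    norm_num
  have r33 : classInner ρ3 ρ3 = 2 := by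
    simp only [hρ3, classInner_add_left, classInner_add_right, classInner_smul_left,
      classInner_smul_right, o, if_pos, if_neg D.h34, if_neg n43, hεc]
    linear_combination hε2
  have r12 : classInner ρ1 ρ2 = 1 := by
    simp only [hρ1, hρ2, classInner_add_left, classInner_add_right, o, if_pos, if_neg D.h12,
      if_neg D.h14, if_neg n42]
    norm_num
  have r21 : classInner ρ2 ρ1 = 1 := by
    simp only [hρ1, hρ2, classInner_add_left, classInner_add_right, o, if_pos, if_neg n21,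
      if_neg D.h24, if_neg n41]
    norm_num
  have r13 : classInner ρ1 ρ3 = 1 := by
    simp only [hρ1, hρ3, classInner_add_left, classInner_add_right, classInner_smul_right, o,
      if_pos, if_neg D.h13, if_neg D.h14, if_neg n43]
    norm_num
  have r31 : classInner ρ3 ρ1 = 1 := by
    simp only [hρ1, hρ3, classInner_add_left, classInner_add_right, classInner_smul_left, o,
      if_pos, if_neg n31, if_neg D.h34, if_neg n41]
    norm_num
  have r23 : classInner ρ2 ρ3 = 1 := by
    simp only [hρ2, hρ3, classInner_add_left, classInner_add_right, classInner_smul_right, o,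
      if_pos, if_neg D.h23, if_neg D.h24, if_neg n43]
    norm_num
  have r32 : classInner ρ3 ρ2 = 1 := by
    simp only [hρ2, hρ3, classInner_add_left, classInner_add_right, classInner_smul_left, o,
      if_pos, if_neg n32, if_neg D.h34, if_neg n42]
    norm_num
  have hone : (fun _ : H => (1 : ℂ)) = (D.ζ1 : H → ℂ) := D.h1.symm
  have s1 : classInner (fun _ : H => (1 : ℂ)) ρ1 = 1 := by
    rw [hone]
    simp only [hρ1, classInner_add_right, o, if_pos, if_neg D.h14]
    norm_num
  have s2 : classInner (fun _ : H => (1 : ℂ)) ρ2 = 0 := by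
    rw [hone]
    simp only [hρ2, classInner_add_right, o, if_neg D.h12, if_neg D.h14]
    norm_num
  have s3 : classInner (fun _ : H => (1 : ℂ)) ρ3 = 0 := by
    rw [hone]
    simp only [hρ3, classInner_add_right, classInner_smul_right, o, if_neg D.h13, if_neg D.h14]
    norm_num
  have hBp : IsPBlock M (principalBlock M H) := ⟨principalChar H, rfl⟩
  have hint : ∀ g : H, MemLocalRing M (blockCoeff (principalBlock M H) g) :=
    fun g => memLocalRing_blockCoeff hMp hBp g
  have hperp : ∀ (ζ : IrrCharacter H), ζ ∈ principalBlock M H → ∀ χ : IrrCharacter H,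
      χ ∉ principalBlock M H → classInner (pRegularPart 2 (ζ : H → ℂ)) (χ : H → ℂ) = 0 :=
    fun ζ hζ χ hχ => classInner_pRegularPart_eq_zero 2 hM hint hζ hχ
  refine ⟨(2 : ℂ) • pRegularPart 2 ρ1, (2 : ℂ) • pRegularPart 2 ρ2,
    (2 : ℂ) • pRegularPart 2 ρ3, (D.f2 : ℤ), D.ε * (D.f3 : ℤ),
    ⟨bsq_lift u hu huc ρ1 g1 i1 v1, bsq_lift u hu huc ρ2 g2 i2 v2,
      bsq_lift u hu huc ρ3 g3 i3 v3⟩, ?_, ?_, ?_, ?_, ?_, ?_⟩
  · intro h hh
    simp only [Pi.smul_apply, smul_eq_mul]
    rw [pRegularPart_of_dvd 2 ρ1 hh, pRegularPart_of_dvd 2 ρ2 hh, pRegularPart_of_dvd 2 ρ3 hh]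
    simp
  · intro χ hχ
    simp only [hρ1, hρ2, hρ3, pRegularPart_add, pRegularPart_smul, classInner_smul_left,
      classInner_add_left, hperp _ D.mem1 χ hχ, hperp _ D.mem2 χ hχ, hperp _ D.mem3 χ hχ,
      hperp _ D.mem4 χ hχ]
    simp
  · rw [classInner_two_smul_pRegularPart u hu huc ρ1 ρ1 i1 i1 v1,
      classInner_two_smul_pRegularPart u hu huc ρ2 ρ2 i2 i2 v2,
      classInner_two_smul_pRegularPart u hu huc ρ3 ρ3 i3 i3 v3,
      classInner_two_smul_pRegularPart u hu huc ρ1 ρ2 i1 i2 v1,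
      classInner_two_smul_pRegularPart u hu huc ρ2 ρ1 i2 i1 v2,
      classInner_two_smul_pRegularPart u hu huc ρ1 ρ3 i1 i3 v1,
      classInner_two_smul_pRegularPart u hu huc ρ3 ρ1 i3 i1 v3,
      classInner_two_smul_pRegularPart u hu huc ρ2 ρ3 i2 i3 v2,
      classInner_two_smul_pRegularPart u hu huc ρ3 ρ2 i3 i2 v3,
      r11, r22, r33, r12, r21, r13, r31, r23, r32]
    norm_num
  · rw [classInner_two_smul_pRegularPart_right u hu huc _ ρ1 (fun _ => rfl) i1 v1,
      classInner_two_smul_pRegularPart_right u hu huc _ ρ2 (fun _ => rfl) i2 v2,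
      classInner_two_smul_pRegularPart_right u hu huc _ ρ3 (fun _ => rfl) i3 v3]
    exact ⟨s1, s2, s3⟩
  · constructor
    · have := D.odd2
      omega
    · have := D.odd3
      rcases D.hε with h | h <;> rw [h] <;> omega
  · intro h
    by_cases hh : 2 ∣ orderOf h
    · rw [blockReg_eq_zero hM hBp hh]
      simp only [Pi.smul_apply, smul_eq_mul]
      rw [pRegularPart_of_dvd 2 ρ1 hh, pRegularPart_of_dvd 2 ρ2 hh, pRegularPart_of_dvd 2 ρ3 hh]
      simp
    · have hh' : 2 ∣ orderOf (u * h) := two_dvd_orderOf_mul_of_odd hu (huc h).symm hh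
      have h0 := blockReg_eq_zero hM hBp hh'
      -- the characters with `u` in the kernel
      have ku : ∀ ζ : IrrCharacter H, (∀ h, (ζ : H → ℂ) (u * h) = (ζ : H → ℂ) h) →
          (ζ : H → ℂ) u = (ζ : H → ℂ) 1 := by
        intro ζ hζ
        have := hζ 1
        rwa [mul_one] at this
      set T : Finset (IrrCharacter H) := {D.ζ1, D.ζ2, D.ζ3, D.ζ4} with hT
      have hTmem : ∀ ξ ∈ T, ξ ∈ principalBlock M H ∧ (ξ : H → ℂ) u = (ξ : H → ℂ) 1 := by
        intro ξ hξ
        simp only [hT, Finset.mem_insert, Finset.mem_singleton] at hξ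
        rcases hξ with rfl | rfl | rfl | rfl
        · exact ⟨D.mem1, ku _ hinv1⟩
        · exact ⟨D.mem2, ku _ D.inv2⟩
        · exact ⟨D.mem3, ku _ D.inv3⟩
        · exact ⟨D.mem4, ku _ D.inv4⟩
      have hterm : ∀ ξ : IrrCharacter H,
          ((if ξ ∈ principalBlock M H then (ξ : H → ℂ) 1 * (ξ : H → ℂ) h else 0) +
            (if ξ ∈ principalBlock M H then (ξ : H → ℂ) 1 * (ξ : H → ℂ) (u * h) else 0)) =
          if ξ ∈ T then 2 * ((ξ : H → ℂ) 1 * (ξ : H → ℂ) h) else 0 := by
        intro ξ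
        by_cases hξ : ξ ∈ principalBlock M H
        · rw [if_pos hξ, if_pos hξ]
          rcases irr_central_invol ξ.2 u hu huc with ⟨e1, e2⟩ | ⟨e1, e2⟩
          · have hmem : ξ ∈ T := by
              simp only [hT, Finset.mem_insert, Finset.mem_singleton]
              exact D.exhaust ξ hξ e1
            rw [if_pos hmem, e2]; ring
          · have hnot : ξ ∉ T := by
              intro hmem
              have e3 := (hTmem ξ hmem).2
              rw [e1] at e3
              have hd : (ξ : H → ℂ) 1 ≠ 0 := irr_one_ne_zero ξ.2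
              apply hd
              linear_combination (-1 / 2 : ℂ) * e3
            rw [if_neg hnot, e2]; ring
        · have hnot : ξ ∉ T := fun hmem => hξ (hTmem ξ hmem).1
          rw [if_neg hξ, if_neg hξ, if_neg hnot, add_zero]
      have hsum : blockReg (principalBlock M H) h + blockReg (principalBlock M H) (u * h) =
          2 * ((D.ζ1 : H → ℂ) 1 * (D.ζ1 : H → ℂ) h) + 2 * ((D.ζ2 : H → ℂ) 1 * (D.ζ2 : H → ℂ) h) +
          2 * ((D.ζ3 : H → ℂ) 1 * (D.ζ3 : H → ℂ) h) +
          2 * ((D.ζ4 : H → ℂ) 1 * (D.ζ4 : H → ℂ) h) := by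
        unfold blockReg
        rw [← Finset.sum_add_distrib, Finset.sum_congr rfl (fun ξ _ => hterm ξ),
          Finset.sum_ite_mem, Finset.univ_inter, hT, Finset.sum_insert, Finset.sum_insert,
          Finset.sum_insert, Finset.sum_singleton]
        · ring
        · simp only [Finset.mem_singleton]; exact D.h34
        · simp only [Finset.mem_insert, Finset.mem_singleton]
          rintro (h' | h')
          · exact D.h23 h'
          · exact D.h24 h'
        · simp only [Finset.mem_insert, Finset.mem_singleton]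
          rintro (h' | h' | h')
          · exact D.h12 h'
          · exact D.h13 h'
          · exact D.h14 h'
      rw [h0, add_zero, D.d2, D.d3, D.d4, D.h1] at hsum
      simp only [Pi.smul_apply, smul_eq_mul]
      rw [pRegularPart_of_not_dvd 2 ρ1 hh, pRegularPart_of_not_dvd 2 ρ2 hh,
        pRegularPart_of_not_dvd 2 ρ3 hh, hsum]
      simp only [hρ1, hρ2, hρ3, Pi.add_apply, Pi.smul_apply, smul_eq_mul, D.h1]
      have hrel : ((D.f4 : ℤ) : ℂ) = ((1 + (D.f2 : ℤ) + D.ε * (D.f3 : ℤ) : ℤ) : ℂ) := by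
        rw [D.rel]
      push_cast at hrel ⊢
      linear_combination (2 * (D.ζ4 : H → ℂ) h) * hrel -
        (2 * (D.f3 : ℂ) * (D.ζ3 : H → ℂ) h) * hε2

end Local3

end Cfsg.Agent.Helper7
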