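import Mathlib
import Cfsg.Agent.Lib.Helper16.BSQuatFacts
import Cfsg.Agent.Lib.Helper16.QuatDerived
import Cfsg.Agent.Lib.Helper9.SylowLemmas
import Cfsg.Agent.Lib.Helper7.BSKlein

/-!
# Groups with a quaternion Sylow `2`-subgroup of order `8` (helper7's library)
-/

set_option autoImplicit false

namespace Cfsg.Agent.Helper7

open Cfsg Cfsg.Agent.Helper16

section Q8

variable {G : Type*} [Group G] [Finite G] (S : Sylow 2 G) {a : G}

/-- the involution of the Sylow subgroup -/
theorem q8_orderOf_u (hq : IsQuatSub (S : Subgroup G) a 2) : orderOf (a ^ 2) = 2 := by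
  have h1 : (a ^ 2) ^ 2 = 1 := by
    have := hq.z_sq
    norm_num at this
    exact this
  have h2 : a ^ 2 ≠ 1 := hq.a_sq_ne_one
  exact orderOf_eq_prime h1 h2

theorem q8_u_mem (hq : IsQuatSub (S : Subgroup G) a 2) : a ^ 2 ∈ (S : Subgroup G) :=
  Subgroup.pow_mem _ hq.mem 2

/-- the involution of `S` is unique -/
theorem q8_invol_mem (hq : IsQuatSub (S : Subgroup G) a 2) {s : G} (hs : s ∈ (S : Subgroup G))
    (hso : orderOf s = 2) : s = a ^ 2 := by
  have h2 : s ^ 2 = 1 := by rw [← hso]; exact pow_orderOf_eq_one s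
  have h1 : s ≠ 1 := by
    intro h
    rw [h, orderOf_one] at hso
    omega
  have := hq.eq_z_of_sq_eq_one hs h2 h1
  norm_num at this
  exact this

/-- a `2`-subgroup has at most one involution -/
theorem q8_invol_eq_of_pgroup (hq : IsQuatSub (S : Subgroup G) a 2) (R : Subgroup G)
    (hR : IsPGroup 2 R) {s t : G} (hs : s ∈ R) (ht : t ∈ R) (hso : orderOf s = 2)
    (hto : orderOf t = 2) : s = t := by
  haveI : Fact (2 : ℕ).Prime := ⟨Nat.prime_two⟩
  obtain ⟨c, hc⟩ := Cfsg.Agent.Helper9.exists_conj_le_sylow S R hR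
  have h1 : c * s * c⁻¹ = a ^ 2 := by
    apply q8_invol_mem S hq (hc s hs)
    have := (MulAut.conj c).orderOf_eq s
    rw [MulAut.conj_apply] at this
    rw [this, hso]
  have h2 : c * t * c⁻¹ = a ^ 2 := by
    apply q8_invol_mem S hq (hc t ht)
    have := (MulAut.conj c).orderOf_eq t
    rw [MulAut.conj_apply] at this
    rw [this, hto]
  have h3 : c * s * c⁻¹ = c * t * c⁻¹ := by rw [h1, h2]
  have h4 : c * s = c * t := mul_right_cancel h3
  exact mul_left_cancel h4

/-- all involutions are conjugate to the one in `S` -/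
theorem q8_invol_conj (hq : IsQuatSub (S : Subgroup G) a 2) {t : G} (hto : orderOf t = 2) :
    ∃ c : G, c * t * c⁻¹ = a ^ 2 := by
  haveI : Fact (2 : ℕ).Prime := ⟨Nat.prime_two⟩
  obtain ⟨c, hc⟩ := Cfsg.Agent.Helper9.exists_conj_mem_sylow S t ⟨1, by rw [hto, pow_one]⟩
  refine ⟨c, q8_invol_mem S hq hc ?_⟩
  have := (MulAut.conj c).orderOf_eq t
  rw [MulAut.conj_apply] at this
  rw [this, hto]

/-- commuting involutions are equal -/
theorem q8_commuting_invol_eq (hq : IsQuatSub (S : Subgroup G) a 2) {s t : G}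
    (hso : orderOf s = 2) (hto : orderOf t = 2) (hc : Commute s t) : s = t := by
  have hs2 : s ^ 2 = 1 := by rw [← hso]; exact pow_orderOf_eq_one s
  have ht2 : t ^ 2 = 1 := by rw [← hto]; exact pow_orderOf_eq_one t
  -- the subgroup generated by `s` and `t`
  have hcomm : ∀ x ∈ ({s, t} : Set G), ∀ y ∈ ({s, t} : Set G), x * y = y * x := by
    intro x hx y hy
    rcases hx with rfl | hx <;> rcases hy with rfl | hy
    · rfl
    · rw [Set.mem_singleton_iff] at hy; rw [hy]; exact hc.eq
    · rw [Set.mem_singleton_iff] at hx; rw [hx]; exact hc.eq.symm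
    · rw [Set.mem_singleton_iff] at hx hy; rw [hx, hy]
  have hsq : ∀ x ∈ Subgroup.closure ({s, t} : Set G), x ^ 2 = 1 := by
    intro x hx
    have hcl : ∀ x ∈ Subgroup.closure ({s, t} : Set G), ∀ y ∈ Subgroup.closure ({s, t} : Set G),
        x * y = y * x := by
      intro x hx y hy
      have := Subgroup.closure_le_centralizer_centralizer ({s, t} : Set G)
      exact Set.centralizer_centralizer_comm_of_comm hcomm _ (this hx) _ (this hy)
    refine Subgroup.closure_induction (p := fun x _ => x ^ 2 = 1) ?_ ?_ ?_ ?_ hx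
    · intro y hy
      rcases hy with rfl | hy
      · exact hs2
      · rw [Set.mem_singleton_iff] at hy; rw [hy]; exact ht2
    · exact one_pow 2
    · intro x y hx hy hx2 hy2
      have : Commute x y := hcl x hx y hy
      rw [this.mul_pow, hx2, hy2, one_mul]
    · intro x _ hx2
      rw [inv_pow, hx2, inv_one]
  have hR : IsPGroup 2 (Subgroup.closure ({s, t} : Set G)) := by
    intro x
    refine ⟨1, ?_⟩
    apply Subtype.ext
    rw [pow_one, Subgroup.coe_pow, Subgroup.coe_one]
    exact hsq x x.2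
  exact q8_invol_eq_of_pgroup S hq _ hR (Subgroup.subset_closure (by simp))
    (Subgroup.subset_closure (by simp)) hso hto

/-- a product of two involutions has odd order -/
theorem q8_prod_invol_odd (hq : IsQuatSub (S : Subgroup G) a 2) {x y : G}
    (hxo : orderOf x = 2) (hyo : orderOf y = 2) : Odd (orderOf (x * y)) := by
  by_contra hodd
  rw [Nat.not_odd_iff_even] at hodd
  obtain ⟨k, hk⟩ := hodd
  have hx2 : x ^ 2 = 1 := by rw [← hxo]; exact pow_orderOf_eq_one x
  have hy2 : y ^ 2 = 1 := by rw [← hyo]; exact pow_orderOf_eq_one y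
  have hxinv : x⁻¹ = x := by
    rw [inv_eq_iff_mul_eq_one, ← pow_two]; exact hx2
  have hyinv : y⁻¹ = y := by
    rw [inv_eq_iff_mul_eq_one, ← pow_two]; exact hy2
  have hk0 : 0 < k := by
    have := orderOf_pos (x * y)
    omega
  set c := x * y with hc
  -- the involution in `⟨c⟩`
  have hzo : orderOf (c ^ k) = 2 := by
    rw [orderOf_pow_of_dvd hk0.ne' ⟨2, by rw [hk]; ring⟩, hk]
    have : (k + k) / k = 2 := by
      rw [← two_mul, Nat.mul_div_cancel _ hk0]
    exact this
  -- `x` inverts `c`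
  have hinv : x * c * x⁻¹ = c⁻¹ := by
    rw [hc, mul_inv_rev, hxinv, hyinv, ← mul_assoc, ← pow_two, hx2, one_mul]
  have hcomm : Commute x (c ^ k) := by
    have h1 : x * c ^ k * x⁻¹ = (c ^ k)⁻¹ := by
      rw [← conj_pow, hinv, inv_pow]
    have h2 : (c ^ k)⁻¹ = c ^ k := by
      rw [inv_eq_iff_mul_eq_one, ← pow_two, ← hzo]; exact pow_orderOf_eq_one _
    rw [h2] at h1
    calc x * c ^ k = x * c ^ k * x⁻¹ * x := by group
      _ = c ^ k * x := by rw [h1]
  have hxz : x = c ^ k := q8_commuting_invol_eq S hq hxo hzo hcomm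
  -- hence `x` commutes with `c`
  have hxc : Commute x c := by
    rw [hxz]
    exact (Commute.refl c).pow_left k
  have hcc : c = c⁻¹ := by
    rw [← hinv, hxc.eq, mul_inv_cancel_right]
  have hc2 : c ^ 2 = 1 := by
    rw [pow_two]
    nth_rewrite 2 [hcc]
    exact mul_inv_cancel c
  have hdvd : orderOf c ∣ 2 := orderOf_dvd_of_pow_eq_one hc2
  have hle : orderOf c ≤ 2 := Nat.le_of_dvd two_pos hdvd
  have hk1 : k = 1 := by omega
  rw [hk1, pow_one] at hxz
  have : y = 1 := by
    have h1 : x * y = x * 1 := by rw [mul_one, ← hc, ← hxz]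
    exact mul_left_cancel h1
  rw [this, orderOf_one] at hyo
  omega

/-- the centralizer in `S` of an element of order four -/
theorem q8_centralizer_in_S (hq : IsQuatSub (S : Subgroup G) a 2) {c s : G}
    (hc : c ∈ (S : Subgroup G)) (hco : orderOf c = 4) (hs : s ∈ (S : Subgroup G))
    (hsc : s * c = c * s) : s ∈ Subgroup.zpowers c := by
  have hc4 : c ^ 4 = 1 := by rw [← hco]; exact pow_orderOf_eq_one c
  have hc2o : orderOf (c ^ 2) = 2 := by
    rw [orderOf_pow_of_dvd two_ne_zero ⟨2, by rw [hco]⟩, hco]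
  have hc2 : c ^ 2 = a ^ 2 := q8_invol_mem S hq (Subgroup.pow_mem _ hc 2) hc2o
  by_cases hca : c ∈ Subgroup.zpowers a
  · -- `c` generates `⟨a⟩`
    have h1 : Subgroup.zpowers c = Subgroup.zpowers a := by
      apply Subgroup.eq_of_le_of_card_ge (Subgroup.zpowers_le.2 hca)
      rw [Nat.card_zpowers, Nat.card_zpowers, hco, hq.hao]
      norm_num
    have h2 : a ∈ Subgroup.zpowers c := by rw [h1]; exact Subgroup.mem_zpowers a
    rw [h1]
    apply hq.mem_zpowers_of_commute hs
    obtain ⟨i, hi⟩ := Subgroup.mem_zpowers_iff.1 h2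
    rw [← hi]
    have : Commute s c := hsc
    exact (this.zpow_right i).eq
  · -- `c` lies outside `⟨a⟩`
    -- elements of `⟨a⟩` commuting with `c` have order at most two
    have key : ∀ w ∈ Subgroup.zpowers a, w * c = c * w → w = 1 ∨ w = a ^ 2 := by
      intro w hw hwc
      have h1 := hq.out_inv_mem hc hca hw
      rw [← hwc, mul_inv_cancel_right] at h1
      have hw2 : w ^ 2 = 1 := by
        rw [pow_two]
        nth_rewrite 1 [h1]
        exact inv_mul_cancel w
      by_cases hw1 : w = 1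
      · exact Or.inl hw1
      · right
        have := hq.eq_z_of_sq_eq_one (hq.zpowers_le hw) hw2 hw1
        norm_num at this
        exact this
    by_cases hsa : s ∈ Subgroup.zpowers a
    · rcases key s hsa hsc with h | h
      · rw [h]; exact Subgroup.one_mem _
      · rw [h, ← hc2]; exact Subgroup.pow_mem _ (Subgroup.mem_zpowers c) 2
    · have h1 : s * c ∈ Subgroup.zpowers a := hq.out_mul s hs c hc hsa hca
      have h2 : (s * c) * c = c * (s * c) := by
        rw [← mul_assoc, ← hsc]
      rcases key _ h1 h2 with h | h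
      · have : s = c⁻¹ := eq_inv_of_mul_eq_one_left h
        rw [this]
        exact Subgroup.inv_mem _ (Subgroup.mem_zpowers c)
      · have : s = c := by
          have h3 : s * c = c * c := by rw [h, ← hc2, pow_two]
          exact mul_right_cancel h3
        rw [this]
        exact Subgroup.mem_zpowers c

/-- a normal subgroup missing the involution has odd order -/
theorem q8_odd_of_normal_not_mem (hq : IsQuatSub (S : Subgroup G) a 2) (K : Subgroup G)
    [K.Normal] (hK : a ^ 2 ∉ K) : Odd (Nat.card K) := by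
  by_contra hodd
  rw [Nat.not_odd_iff_even, even_iff_two_dvd] at hodd
  haveI : Fact (2 : ℕ).Prime := ⟨Nat.prime_two⟩
  obtain ⟨t, ht⟩ := exists_prime_orderOf_dvd_card' 2 hodd
  have hto : orderOf (t : G) = 2 := by rw [Subgroup.orderOf_coe, ht]
  obtain ⟨c, hc⟩ := q8_invol_conj S hq hto
  apply hK
  rw [← hc]
  exact Subgroup.Normal.conj_mem inferInstance _ t.2 c

/-- `a` is conjugate to its inverse -/
theorem q8_inv_conj (hq : IsQuatSub (S : Subgroup G) a 2) : ∃ b : G, b * a * b⁻¹ = a⁻¹ := by
  obtain ⟨b, hbS, hba⟩ := hq.exists_out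
  exact ⟨b, hq.out_inv b hbS hba⟩

/-- the normalizer of `S` centralizes the involution -/
theorem q8_normalizer_centralizes (hq : IsQuatSub (S : Subgroup G) a 2) {n : G}
    (hn : n ∈ Subgroup.normalizer ((S : Subgroup G) : Set G)) : n * a ^ 2 * n⁻¹ = a ^ 2 := by
  apply q8_invol_mem S hq
  · exact (Subgroup.mem_normalizer_iff.1 hn (a ^ 2)).1 (q8_u_mem S hq)
  · have := (MulAut.conj n).orderOf_eq (a ^ 2)
    rw [MulAut.conj_apply] at this
    rw [this, q8_orderOf_u S hq]

/-- the centralizer of an element of order four of `S` has a normal `2`-complement and Sylow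
`2`-subgroups of order four -/
theorem q8_cent_a (hq : IsQuatSub (S : Subgroup G) a 2) :
    (∃ k : ℕ, (Cfsg.pPrimeCore 2 (Subgroup.centralizer ({a} : Set G))).index = 2 ^ k) ∧
      (Nat.card (Subgroup.centralizer ({a} : Set G))).factorization 2 = 2 := by
  haveI : Fact (2 : ℕ).Prime := ⟨Nat.prime_two⟩
  set C := Subgroup.centralizer ({a} : Set G) with hC
  have haC : a ∈ C := by
    rw [hC, Subgroup.mem_centralizer_iff]
    intro w hw
    rw [Set.mem_singleton_iff] at hw
    rw [hw]
  set a' : C := ⟨a, haC⟩ with ha'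
  have ha'o : orderOf a' = 4 := by
    rw [← Subgroup.orderOf_coe]
    have h := hq.hao
    norm_num at h
    exact h
  have hA2 : IsPGroup 2 (Subgroup.zpowers a') := by
    apply IsPGroup.of_card (n := 2)
    rw [Nat.card_zpowers, ha'o]
    norm_num
  obtain ⟨Q, hQ⟩ := hA2.exists_le_sylow
  -- `Q` is `⟨a⟩`
  have hQ2 : IsPGroup 2 ((Q : Subgroup C).map C.subtype) := Q.2.map _
  obtain ⟨c, hc⟩ := Cfsg.Agent.Helper9.exists_conj_le_sylow S _ hQ2
  have hcaS : c * a * c⁻¹ ∈ (S : Subgroup G) :=
    hc a ⟨a', hQ (Subgroup.mem_zpowers a'), rfl⟩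
  have hcao : orderOf (c * a * c⁻¹) = 4 := by
    have := (MulAut.conj c).orderOf_eq a
    rw [MulAut.conj_apply] at this
    rw [this]
    have h := hq.hao
    norm_num at h
    exact h
  have hQle : ∀ x ∈ (Q : Subgroup C), x ∈ Subgroup.zpowers a' := by
    intro x hx
    have hxS : c * (x : G) * c⁻¹ ∈ (S : Subgroup G) := hc (x : G) ⟨x, hx, rfl⟩
    have hxa : (x : G) * a = a * (x : G) :=
      (Subgroup.mem_centralizer_iff.1 x.2 a (Set.mem_singleton a)).symm
    have hcomm : (c * (x : G) * c⁻¹) * (c * a * c⁻¹) = (c * a * c⁻¹) * (c * (x : G) * c⁻¹) := by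
      have e1 : (c * (x : G) * c⁻¹) * (c * a * c⁻¹) = c * ((x : G) * a) * c⁻¹ := by group
      have e2 : (c * a * c⁻¹) * (c * (x : G) * c⁻¹) = c * (a * (x : G)) * c⁻¹ := by group
      rw [e1, e2, hxa]
    have h1 := q8_centralizer_in_S S hq hcaS hcao hxS hcomm
    obtain ⟨i, hi⟩ := Subgroup.mem_zpowers_iff.1 h1
    rw [conj_zpow] at hi
    have h2 : a ^ i = (x : G) := by
      have h3 : c * a ^ i = c * (x : G) := mul_right_cancel hi
      exact mul_left_cancel h3
    rw [Subgroup.mem_zpowers_iff]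
    refine ⟨i, ?_⟩
    apply Subtype.ext
    rw [Subgroup.coe_zpow]
    exact h2
  have hQeq : (Q : Subgroup C) = Subgroup.zpowers a' := le_antisymm hQle hQ
  have hQcard : Nat.card (Q : Subgroup C) = 4 := by
    rw [hQeq, Nat.card_zpowers, ha'o]
  constructor
  · apply index_pPrimeCore_of_normalizer_le_centralizer Q
    intro x _
    rw [Subgroup.mem_centralizer_iff]
    intro y hy
    have hy' : y ∈ Subgroup.zpowers a' := hQle y hy
    obtain ⟨i, hi⟩ := Subgroup.mem_zpowers_iff.1 hy'
    rw [← hi]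
    have hxa : Commute a' x := by
      apply Subtype.ext
      exact Subgroup.mem_centralizer_iff.1 x.2 a (Set.mem_singleton a)
    exact (hxa.zpow_left i).eq
  · have h1 := Q.card_eq_multiplicity
    rw [hQcard] at h1
    have h2 : (2 : ℕ) ^ 2 = 2 ^ (Nat.card C).factorization 2 := by
      rw [← h1]; norm_num
    exact (Nat.pow_right_injective (le_refl 2) h2).symm

end Q8

end Cfsg.Agent.Helper7
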