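import Mathlib
import Cfsg.Agent.Lib.Helper7.BSQGroup

/-!
# The centralizer of the involution modulo the involution (helper7's library)

For a quaternion Sylow `2`-subgroup `S` of order `8` with involution `u`, the quotient of
`C_G(u)` by `⟨u⟩` has Klein four Sylow `2`-subgroups, and a single class of involutions when the
subgroups of order four of `S` are conjugate under the normalizer of `S`.
-/

set_option autoImplicit false

namespace Cfsg.Agent.Helper7

open Cfsg Cfsg.Agent.Helper16

section Quot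

variable {G : Type*} [Group G] [Finite G] (S : Sylow 2 G) {a : G}

/-- `S` centralizes its involution -/
theorem q8_le_centralizer (hq : IsQuatSub (S : Subgroup G) a 2) :
    (S : Subgroup G) ≤ Subgroup.centralizer ({a ^ 2} : Set G) := by
  intro s hs
  rw [Subgroup.mem_centralizer_iff]
  intro w hw
  rw [Set.mem_singleton_iff] at hw
  rw [hw]
  have hn : s ∈ Subgroup.normalizer ((S : Subgroup G) : Set G) := Subgroup.le_normalizer hs
  have h1 := q8_normalizer_centralizes S hq hn
  calc a ^ 2 * s = s * a ^ 2 * s⁻¹ * s := by rw [h1]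
    _ = s * a ^ 2 := by group

/-- squares of elements of `S` -/
theorem q8_sq_mem (hq : IsQuatSub (S : Subgroup G) a 2) {s : G} (hs : s ∈ (S : Subgroup G)) :
    s ^ 2 = 1 ∨ s ^ 2 = a ^ 2 := by
  have h4 : s ^ 4 = 1 := by
    by_cases hsa : s ∈ Subgroup.zpowers a
    · obtain ⟨i, rfl⟩ := Subgroup.mem_zpowers_iff.1 hsa
      have ha4 : a ^ 4 = 1 := by
        have h := hq.hao
        norm_num at h
        rw [← h]; exact pow_orderOf_eq_one a
      rw [← zpow_natCast, ← zpow_mul, mul_comm, zpow_mul, zpow_natCast, ha4, one_zpow]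
    · rw [← hq.out_ord s hs hsa]; exact pow_orderOf_eq_one s
  by_cases h1 : s ^ 2 = 1
  · exact Or.inl h1
  · right
    have h2 : (s ^ 2) ^ 2 = 1 := by rw [← pow_mul]; exact h4
    exact q8_invol_mem S hq (Subgroup.pow_mem _ hs 2) (orderOf_eq_prime h2 h1)

set_option maxHeartbeats 1600000 in
/-- the quotient of the centralizer of the involution by the involution -/
theorem q8_quot_data (hq : IsQuatSub (S : Subgroup G) a 2)
    (hconj : ∀ A B : Subgroup G, A ≤ S → B ≤ S → Nat.card A = 4 → Nat.card B = 4 →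
      ∃ n ∈ Subgroup.normalizer ((S : Subgroup G) : Set G),
        B = A.map (MulAut.conj n).toMonoidHom)
    (H : Subgroup G) (hH : H = Subgroup.centralizer ({a ^ 2} : Set G))
    (u' : H) (hu' : (u' : G) = a ^ 2)
    [hN : (Subgroup.zpowers u').Normal] :
    ∃ P : Sylow 2 (H ⧸ Subgroup.zpowers u'),
      IsKleinFour (P : Subgroup (H ⧸ Subgroup.zpowers u')) ∧
      ∀ s t : H ⧸ Subgroup.zpowers u',
        orderOf s = 2 → orderOf t = 2 → IsConj s t := by
  classical
  haveI : Fact (2 : ℕ).Prime := ⟨Nat.prime_two⟩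
  set N : Subgroup H := Subgroup.zpowers u' with hNdef
  have hSH : (S : Subgroup G) ≤ H := by rw [hH]; exact q8_le_centralizer S hq
  set SH : Sylow 2 H := S.subtype hSH with hSHdef
  have hu'o : orderOf u' = 2 := by
    rw [← Subgroup.orderOf_coe, hu']
    exact q8_orderOf_u S hq
  have hu'2 : u' ^ 2 = 1 := by rw [← hu'o]; exact pow_orderOf_eq_one u'
  have hNmem : ∀ x : H, x ∈ N ↔ x = 1 ∨ x = u' := by
    intro x
    constructor
    · intro hx
      obtain ⟨i, hi⟩ := Subgroup.mem_zpowers_iff.1 hx
      rcases Int.even_or_odd' i with ⟨j, rfl | rfl⟩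
      · left
        rw [← hi, zpow_mul, zpow_two, ← pow_two, hu'2, one_zpow]
      · right
        rw [← hi, zpow_add, zpow_mul, zpow_two, ← pow_two, hu'2, one_zpow, one_mul, zpow_one]
    · rintro (rfl | rfl)
      · exact Subgroup.one_mem _
      · exact Subgroup.mem_zpowers _
  have hπs := QuotientGroup.mk'_surjective N
  set P : Sylow 2 (H ⧸ N) := SH.mapSurjective hπs with hPdef
  -- cardinalities
  have hSHcard : Nat.card (SH : Subgroup H) = 8 := by
    rw [hSHdef, Sylow.coe_subtype,
      Nat.card_congr (Subgroup.subgroupOfEquivOfLe hSH).toEquiv, hq.card]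
    norm_num
  have hv3 : (Nat.card H).factorization 2 = 3 := by
    have h1 := SH.card_eq_multiplicity
    rw [hSHcard] at h1
    have h2 : (2 : ℕ) ^ 3 = 2 ^ (Nat.card H).factorization 2 := by
      rw [← h1]; norm_num
    exact (Nat.pow_right_injective (le_refl 2) h2).symm
  have hcardN : Nat.card N = 2 := by rw [hNdef, Nat.card_zpowers, hu'o]
  have hv2 : (Nat.card (H ⧸ N)).factorization 2 = 2 := by
    have h1 := Subgroup.card_eq_card_quotient_mul_card_subgroup N
    rw [hcardN] at h1
    have h2 : (Nat.card H).factorization 2 =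
        (Nat.card (H ⧸ N)).factorization 2 + (2 : ℕ).factorization 2 := by
      rw [h1, Nat.factorization_mul (Nat.card_pos (α := H ⧸ N)).ne' two_ne_zero]
      rfl
    rw [hv3, Nat.Prime.factorization_self Nat.prime_two] at h2
    omega
  have hPcard : Nat.card (P : Subgroup (H ⧸ N)) = 4 := by
    rw [P.card_eq_multiplicity, hv2]
    norm_num
  -- squares
  have hPsq : ∀ g : (P : Subgroup (H ⧸ N)), g ^ 2 = 1 := by
    intro g
    have hg : (g : H ⧸ N) ∈ (SH : Subgroup H).map (QuotientGroup.mk' N) := g.2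
    obtain ⟨s, hs, hsg⟩ := hg
    have hsS : (s : G) ∈ (S : Subgroup G) := by
      have hs' : s ∈ ((S.subtype hSH : Sylow 2 H) : Subgroup H) := hs
      rw [Sylow.coe_subtype] at hs'
      exact Subgroup.mem_subgroupOf.1 hs'
    have hs2 : s ^ 2 ∈ N := by
      rw [hNmem]
      rcases q8_sq_mem S hq hsS with h | h
      · left
        apply Subtype.ext
        rw [Subgroup.coe_pow, h, Subgroup.coe_one]
      · right
        apply Subtype.ext
        rw [Subgroup.coe_pow, h, hu']
    apply Subtype.ext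
    rw [Subgroup.coe_pow, Subgroup.coe_one, ← hsg, ← map_pow]
    exact (QuotientGroup.eq_one_iff _).2 hs2
  have hK : IsKleinFour (P : Subgroup (H ⧸ N)) := by
    haveI : Nontrivial (P : Subgroup (H ⧸ N)) := by
      rw [← Finite.one_lt_card_iff_nontrivial, hPcard]; norm_num
    refine ⟨hPcard, ?_⟩
    rw [Monoid.exponent_eq_prime_iff Nat.prime_two]
    intro g hg
    exact orderOf_eq_prime (hPsq g) hg
  refine ⟨P, hK, ?_⟩
  -- the image of `a`
  have haH : a ∈ H := hSH hq.mem
  set a' : H := ⟨a, haH⟩ with ha'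
  have ha'2 : a' ^ 2 = u' := by
    apply Subtype.ext
    rw [Subgroup.coe_pow, hu']
  have hπa2 : ((a' : H) : H ⧸ N) ^ 2 = 1 := by
    rw [← QuotientGroup.mk_pow, ha'2]
    exact (QuotientGroup.eq_one_iff _).2 (Subgroup.mem_zpowers u')
  have hao : orderOf a = 4 := by
    have h := hq.hao
    norm_num at h
    exact h
  have key : ∀ s : H ⧸ N, orderOf s = 2 → ∃ c : H ⧸ N, c * s * c⁻¹ = ((a' : H) : H ⧸ N) := by
    intro s hs
    obtain ⟨h, rfl⟩ := QuotientGroup.mk_surjective s
    have h2 : ((h : H) : H ⧸ N) ^ 2 = 1 := by rw [← hs]; exact pow_orderOf_eq_one _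
    rw [← QuotientGroup.mk_pow, QuotientGroup.eq_one_iff, hNmem] at h2
    have hne : ((h : H) : H ⧸ N) ≠ 1 := by
      intro h1
      rw [h1, orderOf_one] at hs
      omega
    have hnN : h ∉ N := fun hh => hne ((QuotientGroup.eq_one_iff _).2 hh)
    -- `h` has order four
    have hho : orderOf (h : G) = 4 := by
      rcases h2 with h2 | h2
      · exfalso
        have h3 : (h : G) ^ 2 = 1 := by
          have := congrArg (fun x : H => (x : G)) h2
          simpa using this
        have h4 : (h : G) ≠ 1 := by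
          intro h5
          apply hnN
          rw [hNmem]
          left
          exact Subtype.ext h5
        have h5 : orderOf (h : G) = 2 := orderOf_eq_prime h3 h4
        have h6 : Commute (h : G) (a ^ 2) := by
          have hh : (h : G) ∈ Subgroup.centralizer ({a ^ 2} : Set G) := hH.le h.2
          exact (Subgroup.mem_centralizer_iff.1 hh (a ^ 2) (Set.mem_singleton _)).symm
        have h7 := q8_commuting_invol_eq S hq h5 (q8_orderOf_u S hq) h6
        apply hnN
        rw [hNmem]
        right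
        apply Subtype.ext
        rw [h7, hu']
      · have h3 : (h : G) ^ 2 = a ^ 2 := by
          have := congrArg (fun x : H => (x : G)) h2
          simpa [hu'] using this
        have h4 : ¬ (h : G) ^ 2 ^ 1 = 1 := by
          rw [pow_one, h3]
          exact hq.a_sq_ne_one
        have h5 : (h : G) ^ 2 ^ (1 + 1) = 1 := by
          have : (2 : ℕ) ^ (1 + 1) = 2 * 2 := by norm_num
          rw [this, pow_mul, h3]
          have h22 := pow_orderOf_eq_one (a ^ 2)
          rwa [q8_orderOf_u S hq] at h22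
        rw [orderOf_eq_prime_pow h4 h5]
        norm_num
    have hho' : orderOf h = 2 ^ 2 := by
      rw [← Subgroup.orderOf_coe, hho]; norm_num
    obtain ⟨k, hk⟩ := Cfsg.Agent.Helper9.exists_conj_mem_sylow SH h ⟨2, hho'⟩
    have hkS : ((k * h * k⁻¹ : H) : G) ∈ (S : Subgroup G) := by
      have hk' : k * h * k⁻¹ ∈ ((S.subtype hSH : Sylow 2 H) : Subgroup H) := hk
      rw [Sylow.coe_subtype] at hk'
      exact Subgroup.mem_subgroupOf.1 hk'
    set h' : G := ((k * h * k⁻¹ : H) : G) with hh'
    have hh'o : orderOf h' = 4 := by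
      rw [hh', Subgroup.orderOf_coe]
      have := (MulAut.conj k).orderOf_eq h
      rw [MulAut.conj_apply] at this
      rw [this, hho']; norm_num
    obtain ⟨n, hn, hmap⟩ := hconj (Subgroup.zpowers h') (Subgroup.zpowers a)
      (Subgroup.zpowers_le.2 hkS) (Subgroup.zpowers_le.2 hq.mem)
      (by rw [Nat.card_zpowers, hh'o]) (by rw [Nat.card_zpowers, hao])
    have hnh' : n * h' * n⁻¹ ∈ Subgroup.zpowers a := by
      rw [hmap]
      exact ⟨h', Subgroup.mem_zpowers h', rfl⟩
    have hnh'o : orderOf (n * h' * n⁻¹) = 4 := by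
      have := (MulAut.conj n).orderOf_eq h'
      rw [MulAut.conj_apply] at this
      rw [this, hh'o]
    have hnH : n ∈ H := by
      rw [hH, Subgroup.mem_centralizer_iff]
      intro w hw
      rw [Set.mem_singleton_iff] at hw
      rw [hw]
      have h1 := q8_normalizer_centralizes S hq hn
      calc a ^ 2 * n = n * a ^ 2 * n⁻¹ * n := by rw [h1]
        _ = n * a ^ 2 := by group
    set n' : H := ⟨n, hnH⟩ with hn'
    have hx : ((n' * (k * h * k⁻¹) * n'⁻¹ : H) : G) = n * h' * n⁻¹ := by
      rw [hh']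
      simp [hn']
    refine ⟨((n' : H) : H ⧸ N) * ((k : H) : H ⧸ N), ?_⟩
    have e1 : ((n' : H) : H ⧸ N) * ((k : H) : H ⧸ N) * ((h : H) : H ⧸ N) *
        (((n' : H) : H ⧸ N) * ((k : H) : H ⧸ N))⁻¹ =
        ((n' * (k * h * k⁻¹) * n'⁻¹ : H) : H ⧸ N) := by
      simp only [QuotientGroup.mk_mul, QuotientGroup.mk_inv, mul_inv_rev]
      group
    rw [e1]
    rcases eq_or_eq_inv_of_orderOf_four hao hnh' hnh'o with h3 | h3
    · congr 1
      apply Subtype.ext
      rw [hx, h3]
    · have e2 : (n' * (k * h * k⁻¹) * n'⁻¹ : H) = a'⁻¹ := by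
        apply Subtype.ext
        rw [hx, h3]
        rfl
      rw [e2, QuotientGroup.mk_inv, inv_eq_iff_mul_eq_one, ← pow_two]
      exact hπa2
  intro s t hs ht
  obtain ⟨c1, hc1⟩ := key s hs
  obtain ⟨c2, hc2⟩ := key t ht
  rw [isConj_iff]
  refine ⟨c2⁻¹ * c1, ?_⟩
  have : c2⁻¹ * c1 * s * (c2⁻¹ * c1)⁻¹ = c2⁻¹ * (c1 * s * c1⁻¹) * c2 := by group
  rw [this, hc1, ← hc2]
  group

end Quot

end Cfsg.Agent.Helper7
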