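import Mathlib
import Cfsg.Agent.Lib.Helper23.BlockSections3
import Cfsg.Agent.Lib.Helper23.BlockDim
import Cfsg.Agent.S0936

/-!
# Generalized decomposition numbers of the principal block on a section (helper7's library)

For a `p`-element `z` with centralizer `H`, a character `ζ` of the principal block of `G` and a
class function `Φ` on `H`, we consider the inner product of `h ↦ ζ (z h)` with `Φ`.
-/

set_option autoImplicit false
set_option linter.unusedSectionVars false

universe u

namespace Cfsg.Agent.Helper7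

open Cfsg Cfsg.Agent.Helper24 Cfsg.Agent.Helper23 Cfsg.Agent.Helper23.Blk Cfsg.Agent.Helper18
open scoped ComplexConjugate

section Sec

variable {G : Type u} [Group G] [Fintype G] {M : Ideal AlgInt} {p : ℕ}

/-- only the principal block of the centralizer induces the principal block -/
theorem induced_principal_iff (hM : IsPModular p M) {z : G} (hz : ∃ k : ℕ, orderOf z = p ^ k)
    (b : Set (IrrCharacter (Subgroup.centralizer ({z} : Set G)))) (hb : IsPBlock M b) :
    IsInducedBlock M (Subgroup.centralizer ({z} : Set G)) b (principalBlock M G) ↔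
      b = principalBlock M (Subgroup.centralizer ({z} : Set G)) := by
  haveI : Fact p.Prime := ⟨hM.1⟩
  exact Cfsg.Agent.S0936.result p M hM _ b (exists_isInducedBlock_centralizer hM hz hb)

/-- **orthogonality on a section for the principal blocks** -/
theorem principal_section_orthogonality (hM : IsPModular p M) {z : G}
    (hz : ∃ k : ℕ, orderOf z = p ^ k)
    [Fintype (Subgroup.centralizer ({z} : Set G))]
    [Fintype (IrrCharacter G)]
    [Fintype (IrrCharacter (Subgroup.centralizer ({z} : Set G)))]
    (B : Finset (IrrCharacter G)) (hB : ∀ ζ, ζ ∈ B ↔ ζ ∈ principalBlock M G)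
    (b : Finset (IrrCharacter (Subgroup.centralizer ({z} : Set G))))
    (hb : ∀ χ, χ ∈ b ↔ χ ∈ principalBlock M (Subgroup.centralizer ({z} : Set G)))
    (y y' : Subgroup.centralizer ({z} : Set G)) (hy : ¬ p ∣ orderOf y)
    (hy' : ¬ p ∣ orderOf y') :
    ∑ ζ ∈ B, (ζ : G → ℂ) (z * (y : G)) * conj ((ζ : G → ℂ) (z * (y' : G))) =
      ∑ χ ∈ b, (χ : Subgroup.centralizer ({z} : Set G) → ℂ) y *
        conj ((χ : Subgroup.centralizer ({z} : Set G) → ℂ) y') := by
  classical
  haveI hMp : M.IsPrime := hM.2.1.isPrime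
  obtain ⟨𝔅, h𝔅⟩ := exists_finset_blocks (K := Subgroup.centralizer ({z} : Set G)) (M := M)
  have hBp : IsPBlock M (principalBlock M G) := ⟨principalChar G, rfl⟩
  have hB' : IsPBlock M (principalBlock M (Subgroup.centralizer ({z} : Set G))) :=
    ⟨principalChar _, rfl⟩
  have key := section_block_orthogonality hM hz hBp 𝔅 h𝔅 y y' hy hy'
  rw [Finset.sum_eq_single_of_mem (principalBlock M (Subgroup.centralizer ({z} : Set G)))] at key
  · refine Eq.trans ?_ (key.trans ?_)
    · rw [← Finset.sum_filter_add_sum_filter_not Finset.univ (· ∈ principalBlock M G)]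
      have h0 : ∑ ζ ∈ Finset.univ.filter (fun ζ : IrrCharacter G => ¬ ζ ∈ principalBlock M G),
          (principalBlock M G).indicator (fun ζ : IrrCharacter G =>
            (ζ : G → ℂ) (z * (y : G)) * conj ((ζ : G → ℂ) (z * (y' : G)))) ζ = 0 := by
        apply Finset.sum_eq_zero
        intro ζ hζ
        rw [Finset.mem_filter] at hζ
        exact Set.indicator_of_notMem hζ.2 _
      rw [h0, add_zero]
      have hBeq : B = Finset.univ.filter (fun ζ : IrrCharacter G => ζ ∈ principalBlock M G) := by
        ext ζ; simp [hB]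
      rw [hBeq]
      apply Finset.sum_congr rfl
      intro ζ hζ
      rw [Finset.mem_filter] at hζ
      rw [Set.indicator_of_mem hζ.2]
    · rw [← Finset.sum_filter_add_sum_filter_not Finset.univ
        (· ∈ principalBlock M (Subgroup.centralizer ({z} : Set G)))]
      have h0 : ∑ χ ∈ Finset.univ.filter
          (fun χ : IrrCharacter (Subgroup.centralizer ({z} : Set G)) =>
            ¬ χ ∈ principalBlock M (Subgroup.centralizer ({z} : Set G))),
          (principalBlock M (Subgroup.centralizer ({z} : Set G))).indicator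
            (fun χ : IrrCharacter (Subgroup.centralizer ({z} : Set G)) =>
              (χ : Subgroup.centralizer ({z} : Set G) → ℂ) y *
              conj ((χ : Subgroup.centralizer ({z} : Set G) → ℂ) y')) χ = 0 := by
        apply Finset.sum_eq_zero
        intro χ hχ
        rw [Finset.mem_filter] at hχ
        exact Set.indicator_of_notMem hχ.2 _
      rw [h0, add_zero]
      have hbeq : b = Finset.univ.filter
          (fun χ : IrrCharacter (Subgroup.centralizer ({z} : Set G)) =>
            χ ∈ principalBlock M (Subgroup.centralizer ({z} : Set G))) := by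
        ext χ; simp [hb]
      rw [hbeq]
      apply Finset.sum_congr rfl
      intro χ hχ
      rw [Finset.mem_filter] at hχ
      rw [Set.indicator_of_mem hχ.2]
  · rw [Finset.mem_filter]
    exact ⟨(h𝔅 _).2 hB', (induced_principal_iff hM hz _ hB').2 rfl⟩
  · intro b' hb' hne
    rw [Finset.mem_filter] at hb'
    exact absurd ((induced_principal_iff hM hz b' ((h𝔅 b').1 hb'.1)).1 hb'.2) hne

/-- a bilinear rearrangement -/
theorem sum_mul_sum_conj_rearrange {ι κ : Type*} [Fintype κ] (B : Finset ι) (f : ι → κ → ℂ)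
    (a c : κ → ℂ) :
    ∑ ζ ∈ B, (∑ h : κ, f ζ h * a h) * (∑ h' : κ, conj (f ζ h') * c h') =
      ∑ h : κ, ∑ h' : κ, a h * c h' * ∑ ζ ∈ B, f ζ h * conj (f ζ h') := by
  have h1 : ∀ ζ ∈ B, (∑ h : κ, f ζ h * a h) * (∑ h' : κ, conj (f ζ h') * c h') =
      ∑ h : κ, ∑ h' : κ, a h * c h' * (f ζ h * conj (f ζ h')) := by
    intro ζ _
    rw [Finset.sum_mul_sum]
    apply Finset.sum_congr rfl
    intro h _
    apply Finset.sum_congr rfl
    intro h' _
    ring
  rw [Finset.sum_congr rfl h1, Finset.sum_comm]
  apply Finset.sum_congr rfl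
  intro h _
  rw [Finset.sum_comm]
  apply Finset.sum_congr rfl
  intro h' _
  rw [Finset.mul_sum]

/-- **The Gram relation** for the generalized decomposition numbers of the principal block. -/
theorem section_gram (hM : IsPModular p M) {z : G}
    (hz : ∃ k : ℕ, orderOf z = p ^ k)
    [Fintype (Subgroup.centralizer ({z} : Set G))]
    [Fintype (IrrCharacter G)]
    [Fintype (IrrCharacter (Subgroup.centralizer ({z} : Set G)))]
    (B : Finset (IrrCharacter G)) (hB : ∀ ζ, ζ ∈ B ↔ ζ ∈ principalBlock M G)
    (Φ Ψ : Subgroup.centralizer ({z} : Set G) → ℂ)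
    (hΨcf : IsClassFunction (Subgroup.centralizer ({z} : Set G)) Ψ)
    (hΦ0 : ∀ h, p ∣ orderOf h → Φ h = 0) (hΨ0 : ∀ h, p ∣ orderOf h → Ψ h = 0)
    (hΦb : ∀ χ : IrrCharacter (Subgroup.centralizer ({z} : Set G)),
      χ ∉ principalBlock M (Subgroup.centralizer ({z} : Set G)) →
        classInner Φ (χ : Subgroup.centralizer ({z} : Set G) → ℂ) = 0) :
    ∑ ζ ∈ B, classInner (fun h : Subgroup.centralizer ({z} : Set G) =>
        (ζ : G → ℂ) (z * (h : G))) Φ *
      conj (classInner (fun h : Subgroup.centralizer ({z} : Set G) =>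
        (ζ : G → ℂ) (z * (h : G))) Ψ) = classInner Ψ Φ := by
  classical
  set b : Finset (IrrCharacter (Subgroup.centralizer ({z} : Set G))) :=
    Finset.univ.filter (· ∈ principalBlock M (Subgroup.centralizer ({z} : Set G))) with hbdef
  have hb : ∀ χ, χ ∈ b ↔ χ ∈ principalBlock M (Subgroup.centralizer ({z} : Set G)) := by
    intro χ; simp [hbdef]
  have hN : (Nat.card (Subgroup.centralizer ({z} : Set G)) : ℂ) ≠ 0 := by
    exact_mod_cast (Nat.card_pos (α := Subgroup.centralizer ({z} : Set G))).ne'
  -- the left hand side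
  have hL : ∀ ζ ∈ B, classInner (fun h : Subgroup.centralizer ({z} : Set G) =>
        (ζ : G → ℂ) (z * (h : G))) Φ *
      conj (classInner (fun h : Subgroup.centralizer ({z} : Set G) =>
        (ζ : G → ℂ) (z * (h : G))) Ψ) =
      (Nat.card (Subgroup.centralizer ({z} : Set G)) : ℂ)⁻¹ *
        (Nat.card (Subgroup.centralizer ({z} : Set G)) : ℂ)⁻¹ *
      ((∑ h : Subgroup.centralizer ({z} : Set G), (ζ : G → ℂ) (z * (h : G)) * conj (Φ h)) *
        (∑ h' : Subgroup.centralizer ({z} : Set G),
          conj ((ζ : G → ℂ) (z * (h' : G))) * Ψ h')) := by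
    intro ζ _
    unfold classInner
    rw [map_mul, map_inv₀, Complex.conj_natCast, map_sum]
    have : ∀ h' : Subgroup.centralizer ({z} : Set G),
        conj ((ζ : G → ℂ) (z * (h' : G)) * conj (Ψ h')) =
          conj ((ζ : G → ℂ) (z * (h' : G))) * Ψ h' := by
      intro h'
      rw [map_mul, Complex.conj_conj]
    rw [Finset.sum_congr rfl (fun h' _ => this h')]
    ring
  rw [Finset.sum_congr rfl hL, ← Finset.mul_sum,
    sum_mul_sum_conj_rearrange B
      (fun ζ (h : Subgroup.centralizer ({z} : Set G)) => (ζ : G → ℂ) (z * (h : G)))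
      (fun h => conj (Φ h)) Ψ]
  -- replace the inner sum
  have hin : ∀ h h' : Subgroup.centralizer ({z} : Set G),
      conj (Φ h) * Ψ h' * ∑ ζ ∈ B, (ζ : G → ℂ) (z * (h : G)) * conj ((ζ : G → ℂ) (z * (h' : G))) =
      conj (Φ h) * Ψ h' * ∑ χ ∈ b, (χ : Subgroup.centralizer ({z} : Set G) → ℂ) h *
        conj ((χ : Subgroup.centralizer ({z} : Set G) → ℂ) h') := by
    intro h h'
    by_cases hh : p ∣ orderOf h
    · rw [hΦ0 h hh, map_zero, zero_mul, zero_mul, zero_mul]
    by_cases hh' : p ∣ orderOf h'
    · rw [hΨ0 h' hh', mul_zero, zero_mul, zero_mul]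
    rw [principal_section_orthogonality hM hz B hB b hb h h' hh hh']
  rw [Finset.sum_congr rfl (fun h _ => Finset.sum_congr rfl (fun h' _ => hin h h'))]
  -- the right hand side
  rw [classInner_eq_sum_mul hΨcf Φ]
  have hR : ∀ χ : IrrCharacter (Subgroup.centralizer ({z} : Set G)),
      classInner Ψ (χ : Subgroup.centralizer ({z} : Set G) → ℂ) *
        conj (classInner Φ (χ : Subgroup.centralizer ({z} : Set G) → ℂ)) =
      if χ ∈ b then
        (Nat.card (Subgroup.centralizer ({z} : Set G)) : ℂ)⁻¹ *
        (Nat.card (Subgroup.centralizer ({z} : Set G)) : ℂ)⁻¹ *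
        ((∑ h : Subgroup.centralizer ({z} : Set G),
          (χ : Subgroup.centralizer ({z} : Set G) → ℂ) h * conj (Φ h)) *
        (∑ h' : Subgroup.centralizer ({z} : Set G),
          conj ((χ : Subgroup.centralizer ({z} : Set G) → ℂ) h') * Ψ h')) else 0 := by
    intro χ
    by_cases hχ : χ ∈ b
    · rw [if_pos hχ, classInner_conj_symm]
      unfold classInner
      have : ∀ h' : Subgroup.centralizer ({z} : Set G),
          Ψ h' * conj ((χ : Subgroup.centralizer ({z} : Set G) → ℂ) h') =
            conj ((χ : Subgroup.centralizer ({z} : Set G) → ℂ) h') * Ψ h' := fun h' => mul_comm _ _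
      rw [Finset.sum_congr rfl (fun h' _ => this h')]
      ring
    · rw [if_neg hχ, hΦb χ (fun h => hχ ((hb χ).2 h)), map_zero, mul_zero]
  rw [Finset.sum_congr rfl (fun χ _ => hR χ), Finset.sum_ite_mem, Finset.univ_inter,
    ← Finset.mul_sum,
    sum_mul_sum_conj_rearrange b
      (fun χ (h : Subgroup.centralizer ({z} : Set G)) =>
        (χ : Subgroup.centralizer ({z} : Set G) → ℂ) h)
      (fun h => conj (Φ h)) Ψ]

/-- **Orthogonality to the other sections.** -/
theorem section_orth (hM : IsPModular p M) {z : G}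
    (hz : ∃ k : ℕ, orderOf z = p ^ k)
    [Fintype (Subgroup.centralizer ({z} : Set G))]
    [Fintype (IrrCharacter G)]
    (B : Finset (IrrCharacter G)) (hB : ∀ ζ, ζ ∈ B ↔ ζ ∈ principalBlock M G)
    (Φ : Subgroup.centralizer ({z} : Set G) → ℂ)
    (hΦ0 : ∀ h, p ∣ orderOf h → Φ h = 0) {g x : G} (hgx : IsPPart p g x)
    (hnc : ¬ IsConj z x) :
    ∑ ζ ∈ B, classInner (fun h : Subgroup.centralizer ({z} : Set G) =>
        (ζ : G → ℂ) (z * (h : G))) Φ * conj ((ζ : G → ℂ) g) = 0 := by
  classical
  have hBp : IsPBlock M (principalBlock M G) := ⟨principalChar G, rfl⟩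
  have hset : principalBlock M G = ↑B := by
    ext ζ; simp [hB]
  have h1 : ∀ ζ ∈ B, classInner (fun h : Subgroup.centralizer ({z} : Set G) =>
        (ζ : G → ℂ) (z * (h : G))) Φ * conj ((ζ : G → ℂ) g) =
      (Nat.card (Subgroup.centralizer ({z} : Set G)) : ℂ)⁻¹ *
        ∑ h : Subgroup.centralizer ({z} : Set G),
          conj (Φ h) * ((ζ : G → ℂ) (z * (h : G)) * conj ((ζ : G → ℂ) g)) := by
    intro ζ _
    unfold classInner
    rw [mul_assoc, Finset.sum_mul]
    congr 1
    apply Finset.sum_congr rfl
    intro h _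
    ring
  rw [Finset.sum_congr rfl h1, ← Finset.mul_sum, Finset.sum_comm]
  have h2 : ∀ h : Subgroup.centralizer ({z} : Set G),
      ∑ ζ ∈ B, conj (Φ h) * ((ζ : G → ℂ) (z * (h : G)) * conj ((ζ : G → ℂ) g)) = 0 := by
    intro h
    by_cases hh : p ∣ orderOf h
    · rw [hΦ0 h hh, map_zero]
      simp
    · rw [← Finset.mul_sum]
      have hpp : IsPPart p (z * (h : G)) z := by
        refine ⟨(h : G), rfl, ?_, hz, ?_⟩
        · exact Subgroup.mem_centralizer_iff.1 h.2 z (Set.mem_singleton z)
        · rwa [Subgroup.orderOf_coe]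
      have h3 := block_orthogonality hM hpp hgx hnc hBp
      rw [hset, finsum_mem_coe_finset] at h3
      have h4 : ∀ ζ ∈ B, (ζ : G → ℂ) (z * (h : G)) * conj ((ζ : G → ℂ) g) =
          (ζ : G → ℂ) (z * (h : G)) * (ζ : G → ℂ) g⁻¹ := by
        intro ζ _
        rw [irr_inv (isCharacter_of_isIrrCharacter ζ.2)]
      rw [Finset.sum_congr rfl h4, h3, mul_zero]
  rw [Finset.sum_congr rfl (fun h _ => h2 h)]
  simp

open Classical in
/-- **The second main theorem for the principal block**, in explicit form. -/
theorem section_value (hM : IsPModular p M) {z : G}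
    (hz : ∃ k : ℕ, orderOf z = p ^ k)
    [Fintype (Subgroup.centralizer ({z} : Set G))]
    [Fintype (IrrCharacter (Subgroup.centralizer ({z} : Set G)))]
    (ζ : IrrCharacter G) (hζ : ζ ∈ principalBlock M G)
    (y : Subgroup.centralizer ({z} : Set G)) (hy : ¬ p ∣ orderOf y) :
    (ζ : G → ℂ) (z * (y : G)) =
      ∑ χ : IrrCharacter (Subgroup.centralizer ({z} : Set G)),
        if χ ∈ principalBlock M (Subgroup.centralizer ({z} : Set G)) then
          classInner (fun h : Subgroup.centralizer ({z} : Set G) => (ζ : G → ℂ) (z * (h : G)))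
            (χ : Subgroup.centralizer ({z} : Set G) → ℂ) *
            (χ : Subgroup.centralizer ({z} : Set G) → ℂ) y else 0 := by
  classical
  haveI hMp : M.IsPrime := hM.2.1.isPrime
  letI : Fintype (IrrCharacter G) := irrFintype
  obtain ⟨𝔅, h𝔅⟩ := exists_finset_blocks (K := Subgroup.centralizer ({z} : Set G)) (M := M)
  have hBp : IsPBlock M (principalBlock M G) := ⟨principalChar G, rfl⟩
  have hB' : IsPBlock M (principalBlock M (Subgroup.centralizer ({z} : Set G))) :=
    ⟨principalChar _, rfl⟩
  have key := sum_blocks_induced_shift hM hz hBp 𝔅 h𝔅 ζ y hy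
  rw [if_pos hζ,
    Finset.sum_eq_single_of_mem (principalBlock M (Subgroup.centralizer ({z} : Set G)))] at key
  · rw [← key]
    have h1 := blockPart_shift_eq_shiftPart
      (principalBlock M (Subgroup.centralizer ({z} : Set G)))
      (isClassFunction_of_isIrrCharacter ζ.2) y
    unfold shiftPart at h1
    rw [← h1, blockPart_apply, finsum_mem_def, finsum_eq_sum_of_fintype]
    apply Finset.sum_congr rfl
    intro χ _
    rw [Set.indicator_apply]
  · rw [Finset.mem_filter]
    exact ⟨(h𝔅 _).2 hB', (induced_principal_iff hM hz _ hB').2 rfl⟩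
  · intro b' hb' hne
    rw [Finset.mem_filter] at hb'
    exact absurd ((induced_principal_iff hM hz b' ((h𝔅 b').1 hb'.1)).1 hb'.2) hne

/-- the value at the `p`-element itself, through the block part of the regular character -/
theorem section_value_one (hM : IsPModular p M) {z : G}
    (hz : ∃ k : ℕ, orderOf z = p ^ k)
    [Fintype (Subgroup.centralizer ({z} : Set G))]
    [Fintype (IrrCharacter (Subgroup.centralizer ({z} : Set G)))]
    (ζ : IrrCharacter G) (hζ : ζ ∈ principalBlock M G) :
    (ζ : G → ℂ) z =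
      classInner (fun h : Subgroup.centralizer ({z} : Set G) => (ζ : G → ℂ) (z * (h : G)))
        (blockReg (principalBlock M (Subgroup.centralizer ({z} : Set G)))) := by
  classical
  have h1 := section_value hM hz ζ hζ 1 (by
    rw [orderOf_one]
    exact fun h => hM.1.one_lt.ne' (Nat.dvd_one.1 h))
  rw [Subgroup.coe_one, mul_one] at h1
  rw [h1, classInner_eq_sum_mul
    (isClassFunction_shift (isClassFunction_of_isIrrCharacter ζ.2) z)]
  apply Finset.sum_congr rfl
  intro χ _
  rw [classInner_blockReg]
  split_ifs with h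
  · rw [conj_irr_one χ.2]
  · rw [map_zero, mul_zero]

end Sec

end Cfsg.Agent.Helper7
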