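import Mathlib
import Cfsg.Agent.Lib.Helper23.ClassConst
import Cfsg.Agent.Lib.Helper23.BlockGenChar
import Cfsg.Agent.S0944
import Cfsg.Agent.S0947

/-!
# Values of characters at an element of order four conjugate to its inverse
(helper7's library)
-/

set_option autoImplicit false

namespace Cfsg.Agent.Helper7

open Cfsg Cfsg.Agent.Helper24 Cfsg.Agent.Helper23 Cfsg.Agent.Helper23.Blk
open scoped ComplexConjugate

section Val

variable {G : Type*} [Group G] [Finite G]

/-- the sum of a function over a cyclic group of order four -/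
theorem sum_zpowers_four {a : G} (hao : orderOf a = 4) (f : G → ℂ)
    [Fintype (Subgroup.zpowers a)] :
    ∑ g : Subgroup.zpowers a, f g = f 1 + f a + f (a ^ 2) + f (a ^ 3) := by
  have hfin : IsOfFinOrder a := isOfFinOrder_of_finite a
  rw [← Equiv.sum_comp (finEquivZPowers hfin)]
  have h1 : ∀ i : Fin (orderOf a), f ((finEquivZPowers hfin i : Subgroup.zpowers a) : G) =
      f (a ^ (i : ℕ)) := by
    intro i
    rw [finEquivZPowers_apply]
  rw [Finset.sum_congr rfl (fun i _ => h1 i), Fin.sum_univ_eq_sum_range (fun i => f (a ^ i)),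
    hao, Finset.sum_range_succ, Finset.sum_range_succ, Finset.sum_range_succ,
    Finset.sum_range_one, pow_zero, pow_one]

/-- a character takes integer values at an element of order four conjugate to its inverse -/
theorem char_order_four_int {a : G} (hao : orderOf a = 4) (hinv : ∃ b : G, b * a * b⁻¹ = a⁻¹)
    (χ : IrrCharacter G) : ∃ n : ℤ, (χ : G → ℂ) a = n := by
  classical
  haveI : Fintype (Subgroup.zpowers a) := Fintype.ofFinite _
  have hχ := isCharacter_of_isIrrCharacter χ.2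
  obtain ⟨m, hm⟩ := sum_char_subgroup' (χ : G → ℂ) hχ (Subgroup.zpowers a)
  rw [sum_zpowers_four hao, Nat.card_zpowers, hao] at hm
  have ha4 : a ^ 4 = 1 := by rw [← hao]; exact pow_orderOf_eq_one a
  have ha3 : a ^ 3 = a⁻¹ := by
    rw [eq_inv_iff_mul_eq_one, ← pow_succ]; exact ha4
  obtain ⟨b, hb⟩ := hinv
  have h3 : (χ : G → ℂ) (a ^ 3) = (χ : G → ℂ) a := by
    rw [ha3, ← hb]
    exact isClassFunction_of_isIrrCharacter χ.2 a b
  have huo : orderOf (a ^ 2) = 2 := by
    rw [orderOf_pow_of_dvd two_ne_zero ⟨2, by rw [hao]⟩, hao]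
  obtain ⟨nu, hnu, -⟩ := Cfsg.Agent.S0944.result χ (a ^ 2) huo
  rw [h3, hnu, irr_one_eq_charDegree χ.2] at hm
  have h4 : (χ : G → ℂ) a * ((2 : ℕ) : ℂ) =
      ((4 * (m : ℤ) - (charDegree (χ : G → ℂ) : ℤ) - nu : ℤ) : ℂ) := by
    push_cast
    linear_combination hm
  obtain ⟨k, hk⟩ := int_dvd_of_isIntegral_mul_eq (isIntegral_of_isCharacter hχ a) two_ne_zero h4
  refine ⟨k, ?_⟩
  rw [hk] at h4
  push_cast at h4
  have h2 : (2 : ℂ) ≠ 0 := two_ne_zero
  apply mul_right_cancel₀ h2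
  rw [h4]; ring

/-- the congruence for squares -/
theorem char_order_four_sq {a : G} (hao : orderOf a = 4) (hinv : ∃ b : G, b * a * b⁻¹ = a⁻¹)
    (χ : IrrCharacter G) (n nu : ℤ) (hn : (χ : G → ℂ) a = n) (hnu : (χ : G → ℂ) (a ^ 2) = nu) :
    (4 : ℤ) ∣ (charDegree (χ : G → ℂ) : ℤ) ^ 2 + nu ^ 2 + 2 * n ^ 2 := by
  classical
  haveI : Fintype (Subgroup.zpowers a) := Fintype.ofFinite _
  have hχ := isCharacter_of_isIrrCharacter χ.2
  obtain ⟨m, hm⟩ := sum_char_subgroup' ((χ : G → ℂ) * (χ : G → ℂ)) (isCharacter_mul hχ hχ)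
    (Subgroup.zpowers a)
  rw [sum_zpowers_four hao, Nat.card_zpowers, hao] at hm
  have ha4 : a ^ 4 = 1 := by rw [← hao]; exact pow_orderOf_eq_one a
  have ha3 : a ^ 3 = a⁻¹ := by
    rw [eq_inv_iff_mul_eq_one, ← pow_succ]; exact ha4
  obtain ⟨b, hb⟩ := hinv
  have h3 : (χ : G → ℂ) (a ^ 3) = (χ : G → ℂ) a := by
    rw [ha3, ← hb]
    exact isClassFunction_of_isIrrCharacter χ.2 a b
  simp only [Pi.mul_apply] at hm
  rw [h3, hn, hnu, irr_one_eq_charDegree χ.2] at hm
  refine ⟨m, ?_⟩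
  have : (((charDegree (χ : G → ℂ) : ℤ) ^ 2 + nu ^ 2 + 2 * n ^ 2 : ℤ) : ℂ) = ((4 * (m : ℤ) : ℤ) : ℂ) := by
    push_cast
    linear_combination hm
  exact_mod_cast this

/-- **parity**: for `|χ a| ≤ 1`, the value at `a` is nonzero exactly when the degree is odd -/
theorem char_order_four_parity {a : G} (hao : orderOf a = 4)
    (hinv : ∃ b : G, b * a * b⁻¹ = a⁻¹) (χ : IrrCharacter G) (n : ℤ)
    (hn : (χ : G → ℂ) a = n) (hsmall : n = 0 ∨ n = 1 ∨ n = -1) :
    n ≠ 0 ↔ (charDegree (χ : G → ℂ) : ℤ) % 2 = 1 := by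
  have huo : orderOf (a ^ 2) = 2 := by
    rw [orderOf_pow_of_dvd two_ne_zero ⟨2, by rw [hao]⟩, hao]
  obtain ⟨nu, hnu, hdvd⟩ := Cfsg.Agent.S0944.result χ (a ^ 2) huo
  obtain ⟨k, hk⟩ := char_order_four_sq hao hinv χ n nu hn hnu
  obtain ⟨l, hl⟩ := hdvd
  set d : ℤ := (charDegree (χ : G → ℂ) : ℤ) with hd
  have hnu' : nu = d - 2 * l := by linarith
  rw [hnu'] at hk
  rcases Int.emod_two_eq_zero_or_one d with h0 | h1
  · -- even degree
    obtain ⟨e, he⟩ : ∃ e, d = 2 * e := ⟨d / 2, by omega⟩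
    rw [he] at hk
    constructor
    · intro hne
      exfalso
      rcases hsmall with h | h | h
      · exact hne h
      · rw [h] at hk
        have : (2 : ℤ) = 4 * (k - e ^ 2 - (e - l) ^ 2) := by linarith [hk]
        omega
      · rw [h] at hk
        have : (2 : ℤ) = 4 * (k - e ^ 2 - (e - l) ^ 2) := by linarith [hk]
        omega
    · intro h
      omega
  · -- odd degree
    obtain ⟨e, he⟩ : ∃ e, d = 2 * e + 1 := ⟨d / 2, by omega⟩
    rw [he] at hk
    constructor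
    · intro _
      omega
    · intro _ hn0
      rw [hn0] at hk
      have : (2 : ℤ) = 4 * (k - e ^ 2 - e - (e - l) ^ 2 - (e - l)) := by linarith [hk]
      omega

end Val

end Cfsg.Agent.Helper7
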