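import Mathlib
import Cfsg.Agent.Lib.Helper7.BSQFin1
import Cfsg.Agent.Lib.Helper7.BSQQuot
import Cfsg.Agent.Lib.Helper7.BSQLocal3
import Cfsg.Agent.Lib.Helper7.BSQSec
import Cfsg.Agent.Lib.Helper7.BSQCore
import Cfsg.Agent.Lib.Helper7.BSQVal
import Cfsg.Agent.Lib.Helper24.GlaubPGroup
import Cfsg.Agent.Lib.Helper8.CharExtra
import Cfsg.Agent.S0944
import Cfsg.Agent.S0947

/-!
# The Brauer–Suzuki theorem for quaternion Sylow subgroups of order eight: assembly
(helper7's library)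
-/

set_option autoImplicit false

universe u

namespace Cfsg.Agent.Helper7

open Cfsg Cfsg.Agent.Helper24 Cfsg.Agent.Helper18 Cfsg.Agent.Helper23 Cfsg.Agent.Helper23.Blk
open Cfsg.Agent.Helper16
open scoped ComplexConjugate

section Aux

variable {G : Type u} [Group G]

theorem isPPart_one_of_odd {g : G} (h : Odd (orderOf g)) : IsPPart 2 g 1 := by
  refine ⟨g, one_mul g, Commute.one_left g, ⟨0, by simp⟩, ?_⟩
  intro h2
  exact (Nat.not_even_iff_odd.2 h) (even_iff_two_dvd.2 h2)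

theorem isPPart_self_of_pow {p : ℕ} (hp : p.Prime) {g : G} (h : ∃ k : ℕ, orderOf g = p ^ k) :
    IsPPart p g g := by
  refine ⟨1, mul_one g, Commute.one_right g, h, ?_⟩
  rw [orderOf_one]
  exact hp.one_lt.ne' ∘ Nat.dvd_one.1

theorem orderOf_eq_of_isConj {x y : G} (h : IsConj x y) : orderOf x = orderOf y := by
  obtain ⟨c, hc⟩ := isConj_iff.1 h
  rw [← hc]
  have := (MulAut.conj c).orderOf_eq x
  rw [MulAut.conj_apply] at this
  exact this.symm

theorem conj_intCast' (n : ℤ) : conj (n : ℂ) = n := map_intCast (starRingEnd ℂ) n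

/-- summing a weighted orthogonality relation over the products of two conjugates -/
theorem sum_weighted_sq_div [Fintype G] [Fintype (IrrCharacter G)]
    (B : Finset (IrrCharacter G)) (c : IrrCharacter G → ℂ) (u : G)
    (h : ∀ y : G, ∑ ζ ∈ B, c ζ * conj ((ζ : G → ℂ) (u * (y * u * y⁻¹))) = 0) :
    ∑ ζ ∈ B, c ζ * conj ((ζ : G → ℂ) u * (ζ : G → ℂ) u / (ζ : G → ℂ) 1) = 0 := by
  have h1 : ∑ y : G, ∑ ζ ∈ B, c ζ * conj ((ζ : G → ℂ) (u * (y * u * y⁻¹))) = 0 :=
    Finset.sum_eq_zero (fun y _ => h y)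
  rw [Finset.sum_comm] at h1
  have h2 : ∀ ζ ∈ B, ∑ y : G, c ζ * conj ((ζ : G → ℂ) (u * (y * u * y⁻¹))) =
      (Nat.card G : ℂ) * (c ζ * conj ((ζ : G → ℂ) u * (ζ : G → ℂ) u / (ζ : G → ℂ) 1)) := by
    intro ζ _
    rw [← Finset.mul_sum, ← map_sum, sum_char_mul_conj ζ.2 u u]
    have : (Nat.card G : ℂ) * (ζ : G → ℂ) u * (ζ : G → ℂ) u / (ζ : G → ℂ) 1 =
        (Nat.card G : ℂ) * ((ζ : G → ℂ) u * (ζ : G → ℂ) u / (ζ : G → ℂ) 1) := by ring
    rw [this, map_mul, Complex.conj_natCast]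
    ring
  rw [Finset.sum_congr rfl h2, ← Finset.mul_sum] at h1
  rcases mul_eq_zero.1 h1 with h3 | h3
  · exfalso
    have : 0 < Nat.card G := Nat.card_pos
    have h4 : (Nat.card G : ℂ) ≠ 0 := by exact_mod_cast this.ne'
    exact h4 h3
  · exact h3

end Aux

section Main

variable {G : Type u} [Group G] [Finite G] (S : Sylow 2 G) {a : G}

set_option maxHeartbeats 3200000 in
/-- **Brauer–Suzuki for quaternion Sylow subgroups of order eight**: when the subgroups of
order four of `S` are conjugate under the normalizer, the involution is central modulo a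
normal subgroup not containing it. -/
theorem bsq_main (hq : IsQuatSub (S : Subgroup G) a 2)
    (hconj : ∀ A B : Subgroup G, A ≤ S → B ≤ S → Nat.card A = 4 → Nat.card B = 4 →
      ∃ n ∈ Subgroup.normalizer ((S : Subgroup G) : Set G),
        B = A.map (MulAut.conj n).toMonoidHom) :
    ∃ K : Subgroup G, K.Normal ∧ a ^ 2 ∉ K ∧ ∀ g, a ^ 2 * g * (a ^ 2)⁻¹ * g⁻¹ ∈ K := by
  classical
  letI : Fintype G := Fintype.ofFinite G
  letI : Fintype (IrrCharacter G) := irrFintype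
  obtain ⟨M, hM⟩ := Cfsg.Agent.Helper24.Glaub.exists_isPModular Nat.prime_two
  obtain ⟨u, hu⟩ : ∃ u : G, u = a ^ 2 := ⟨_, rfl⟩
  rw [← hu]
  have huo : orderOf u = 2 := by rw [hu]; exact q8_orderOf_u S hq
  have hu1 : u ≠ 1 := by
    intro h
    rw [h, orderOf_one] at huo
    omega
  have hz : ∃ k : ℕ, orderOf u = 2 ^ k := ⟨1, by rw [huo]; norm_num⟩
  have hao : orderOf a = 4 := by
    have h := hq.hao
    norm_num at h
    exact h
  have haz : ∃ k : ℕ, orderOf a = 2 ^ k := ⟨2, by rw [hao]; norm_num⟩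
  have hainv : ∃ b, b * a * b⁻¹ = a⁻¹ := q8_inv_conj S hq
  letI : Fintype (Subgroup.centralizer ({u} : Set G)) := Fintype.ofFinite _
  letI : Fintype (IrrCharacter (Subgroup.centralizer ({u} : Set G))) := irrFintype
  set B : Finset (IrrCharacter G) :=
    Finset.univ.filter (fun ζ => ζ ∈ principalBlock M G) with hBdef
  have hB : ∀ ζ, ζ ∈ B ↔ ζ ∈ principalBlock M G := by
    intro ζ; simp [hBdef]
  -- the involution in its centralizer
  have humem : u ∈ Subgroup.centralizer ({u} : Set G) := by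
    rw [Subgroup.mem_centralizer_iff]
    intro w hw
    rw [Set.mem_singleton_iff] at hw
    rw [hw]
  obtain ⟨u', hu'⟩ : ∃ u' : Subgroup.centralizer ({u} : Set G), (u' : G) = u := ⟨⟨u, humem⟩, rfl⟩
  have hu'o : orderOf u' = 2 := by rw [← Subgroup.orderOf_coe, hu', huo]
  have hu'c : ∀ h : Subgroup.centralizer ({u} : Set G), h * u' = u' * h := by
    intro h
    apply Subtype.ext
    rw [Subgroup.coe_mul, Subgroup.coe_mul, hu']
    exact (Subgroup.mem_centralizer_iff.1 h.2 u (Set.mem_singleton u)).symm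
  haveI hN : (Subgroup.zpowers u').Normal := by
    constructor
    intro w hw g
    obtain ⟨i, rfl⟩ := Subgroup.mem_zpowers_iff.1 hw
    have : g * u' ^ i * g⁻¹ = u' ^ i := by
      have hc : Commute g u' := hu'c g
      rw [(hc.zpow_right i).eq, mul_inv_cancel_right]
    rw [this]
    exact hw
  obtain ⟨P, hP, hone⟩ := q8_quot_data S hq hconj (Subgroup.centralizer ({u} : Set G))
    (by rw [hu]) u' (by rw [hu', hu])
  obtain ⟨LD⟩ := exists_localData M hM u' hu'o hu'c P hP hone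
  obtain ⟨P₁, P₂, P₃, F₂, F₃, ⟨hg1, hg2, hg3⟩, hvan, hblk,
    ⟨h11, h22, h33, h12, h21, h13, h31, h23, h32⟩, ⟨ho1, ho2, ho3⟩, ⟨hF2, hF3⟩, hreg⟩ :=
    bsq_local M hM u' hu'o hu'c LD
  -- the generalized decomposition numbers
  have hsh : ∀ ζ : IrrCharacter G,
      IsGeneralizedCharacter (Subgroup.centralizer ({u} : Set G))
        (fun h : Subgroup.centralizer ({u} : Set G) => (ζ : G → ℂ) (u * (h : G))) := by
    intro ζ
    have h1 : IsGeneralizedCharacter (Subgroup.centralizer ({u} : Set G))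
        (fun h : Subgroup.centralizer ({u} : Set G) => (ζ : G → ℂ) (h : G)) :=
      isGenChar_restrict _ (isGenChar_of_isCharacter (isCharacter_of_isIrrCharacter ζ.2))
    have h2 := isGenChar_shift_central h1 u' hu'o hu'c
    have h3 : (fun h : Subgroup.centralizer ({u} : Set G) => (ζ : G → ℂ) (u * (h : G))) =
        fun h => (fun h : Subgroup.centralizer ({u} : Set G) => (ζ : G → ℂ) (h : G))
          (u' * h) := by
      funext h
      simp only [Subgroup.coe_mul, hu']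
    rw [h3]
    exact h2
  have hint : ∀ Φ : Subgroup.centralizer ({u} : Set G) → ℂ,
      IsGeneralizedCharacter (Subgroup.centralizer ({u} : Set G)) Φ →
      ∀ ζ : IrrCharacter G, ∃ n : ℤ,
        classInner (fun h : Subgroup.centralizer ({u} : Set G) => (ζ : G → ℂ) (u * (h : G)))
          Φ = n :=
    fun Φ hΦ ζ => Cfsg.Agent.Helper8.genChar_inner_genChar_int (hsh ζ) hΦ
  choose m1 hm1 using hint P₁ hg1
  choose m2 hm2 using hint P₂ hg2
  choose m3 hm3 using hint P₃ hg3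
  -- the values at `a`, `1` and `u`
  choose v hv using fun ζ : IrrCharacter G => char_order_four_int hao hainv ζ
  have hE0 := fun ζ : IrrCharacter G => Cfsg.Agent.S0944.result ζ u huo
  choose E hE hED using hE0
  set D : IrrCharacter G → ℤ := fun ζ => (charDegree (ζ : G → ℂ) : ℤ) with hDdef
  have hD : ∀ ζ : IrrCharacter G, (ζ : G → ℂ) 1 = (D ζ : ℂ) := by
    intro ζ
    rw [irr_one_eq_charDegree ζ.2, hDdef]
    simp
  have hDpos : ∀ ζ : IrrCharacter G, 0 < D ζ := by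
    intro ζ
    have := charDegree_pos ζ.2
    show (0 : ℤ) < (charDegree (ζ : G → ℂ) : ℤ)
    exact_mod_cast this
  -- the Gram relations
  have hcf1 := Cfsg.Agent.Helper8.isClassFunction_of_isGeneralizedCharacter hg1
  have hcf2 := Cfsg.Agent.Helper8.isClassFunction_of_isGeneralizedCharacter hg2
  have hcf3 := Cfsg.Agent.Helper8.isClassFunction_of_isGeneralizedCharacter hg3
  have gram : ∀ (Φ Ψ : Subgroup.centralizer ({u} : Set G) → ℂ) (mΦ mΨ : IrrCharacter G → ℤ),
      (∀ ζ : IrrCharacter G, classInner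
        (fun h : Subgroup.centralizer ({u} : Set G) => (ζ : G → ℂ) (u * (h : G))) Φ = mΦ ζ) →
      (∀ ζ : IrrCharacter G, classInner
        (fun h : Subgroup.centralizer ({u} : Set G) => (ζ : G → ℂ) (u * (h : G))) Ψ = mΨ ζ) →
      IsClassFunction (Subgroup.centralizer ({u} : Set G)) Ψ →
      (∀ h, 2 ∣ orderOf h → Φ h = 0) → (∀ h, 2 ∣ orderOf h → Ψ h = 0) →
      (∀ χ : IrrCharacter (Subgroup.centralizer ({u} : Set G)),
        χ ∉ principalBlock M (Subgroup.centralizer ({u} : Set G)) →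
          classInner Φ (χ : Subgroup.centralizer ({u} : Set G) → ℂ) = 0) →
      ∀ c : ℤ, classInner Ψ Φ = c → ∑ ζ ∈ B, mΦ ζ * mΨ ζ = c := by
    intro Φ Ψ mΦ mΨ hmΦ hmΨ hΨcf hΦ0 hΨ0 hΦb c hc
    have h1 := section_gram hM hz B hB Φ Ψ hΨcf hΦ0 hΨ0 hΦb
    rw [Finset.sum_congr rfl (fun ζ _ => by rw [hmΦ ζ, hmΨ ζ, conj_intCast']), hc] at h1
    exact_mod_cast h1
  have g11 := gram P₁ P₁ m1 m1 hm1 hm1 hcf1 (fun h hh => (hvan h hh).1)
    (fun h hh => (hvan h hh).1) (fun χ hχ => (hblk χ hχ).1) 4 (by rw [h11]; norm_num)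
  have g22 := gram P₂ P₂ m2 m2 hm2 hm2 hcf2 (fun h hh => (hvan h hh).2.1)
    (fun h hh => (hvan h hh).2.1) (fun χ hχ => (hblk χ hχ).2.1) 4 (by rw [h22]; norm_num)
  have g33 := gram P₃ P₃ m3 m3 hm3 hm3 hcf3 (fun h hh => (hvan h hh).2.2)
    (fun h hh => (hvan h hh).2.2) (fun χ hχ => (hblk χ hχ).2.2) 4 (by rw [h33]; norm_num)
  have g12 := gram P₁ P₂ m1 m2 hm1 hm2 hcf2 (fun h hh => (hvan h hh).1)
    (fun h hh => (hvan h hh).2.1) (fun χ hχ => (hblk χ hχ).1) 2 (by rw [h21]; norm_num)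
  have g13 := gram P₁ P₃ m1 m3 hm1 hm3 hcf3 (fun h hh => (hvan h hh).1)
    (fun h hh => (hvan h hh).2.2) (fun χ hχ => (hblk χ hχ).1) 2 (by rw [h31]; norm_num)
  have g23 := gram P₂ P₃ m2 m3 hm2 hm3 hcf3 (fun h hh => (hvan h hh).2.1)
    (fun h hh => (hvan h hh).2.2) (fun χ hχ => (hblk χ hχ).2.1) 2 (by rw [h32]; norm_num)
  simp only [← pow_two] at g11 g22 g33
  -- orthogonality to the other sections
  have orth : ∀ (Φ : Subgroup.centralizer ({u} : Set G) → ℂ) (mΦ : IrrCharacter G → ℤ),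
      (∀ ζ : IrrCharacter G, classInner
        (fun h : Subgroup.centralizer ({u} : Set G) => (ζ : G → ℂ) (u * (h : G))) Φ = mΦ ζ) →
      (∀ h, 2 ∣ orderOf h → Φ h = 0) →
      ∀ {g x : G}, IsPPart 2 g x → ¬ IsConj u x →
        ∑ ζ ∈ B, (mΦ ζ : ℂ) * conj ((ζ : G → ℂ) g) = 0 := by
    intro Φ mΦ hmΦ hΦ0 g x hgx hux
    have h1 := section_orth hM hz B hB Φ hΦ0 hgx hux
    rw [Finset.sum_congr rfl (fun ζ _ => by rw [hmΦ ζ])] at h1
    exact h1
  have hpa : IsPPart 2 a a := isPPart_self_of_pow Nat.prime_two haz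
  have hp1 : IsPPart 2 (1 : G) 1 := isPPart_self_of_pow Nat.prime_two ⟨0, by simp⟩
  have hpu : IsPPart 2 u u := isPPart_self_of_pow Nat.prime_two hz
  have hua : ¬ IsConj u a := by
    intro h
    have := orderOf_eq_of_isConj h
    rw [huo, hao] at this
    omega
  have hu1' : ¬ IsConj u 1 := by
    intro h
    exact hu1 (isConj_one_left.1 h)
  have ha1' : ¬ IsConj a 1 := by
    intro h
    have := orderOf_eq_of_isConj h
    rw [hao, orderOf_one] at this
    omega
  have hw : ∀ y : G, IsPPart 2 (u * (y * u * y⁻¹)) 1 := by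
    intro y
    apply isPPart_one_of_odd
    rw [hu]
    apply q8_prod_invol_odd S hq (q8_orderOf_u S hq)
    have := (MulAut.conj y).orderOf_eq (a ^ 2)
    rw [MulAut.conj_apply] at this
    rw [this]
    exact q8_orderOf_u S hq
  have toint : ∀ (f g : IrrCharacter G → ℤ) (ψ : IrrCharacter G → ℂ),
      (∀ ζ, ψ ζ = (g ζ : ℂ)) → ∑ ζ ∈ B, (f ζ : ℂ) * conj (ψ ζ) = 0 →
      ∑ ζ ∈ B, f ζ * g ζ = 0 := by
    intro f g ψ hψ h
    rw [Finset.sum_congr rfl (fun ζ _ => by rw [hψ ζ, conj_intCast'])] at h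
    exact_mod_cast h
  have hv1 := toint m1 v _ hv (orth P₁ m1 hm1 (fun h hh => (hvan h hh).1) hpa hua)
  have hv2 := toint m2 v _ hv (orth P₂ m2 hm2 (fun h hh => (hvan h hh).2.1) hpa hua)
  have hv3 := toint m3 v _ hv (orth P₃ m3 hm3 (fun h hh => (hvan h hh).2.2) hpa hua)
  have hD1 := toint m1 D _ hD (orth P₁ m1 hm1 (fun h hh => (hvan h hh).1) hp1 hu1')
  have hD2 := toint m2 D _ hD (orth P₂ m2 hm2 (fun h hh => (hvan h hh).2.1) hp1 hu1')
  have hD3 := toint m3 D _ hD (orth P₃ m3 hm3 (fun h hh => (hvan h hh).2.2) hp1 hu1')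
  have hvD : ∑ ζ ∈ B, v ζ * D ζ = 0 := by
    have h1 := block_orth_finset hM B hB hpa hp1 ha1'
    rw [Finset.sum_congr rfl (fun ζ _ => by rw [hv ζ])] at h1
    exact toint v D _ hD h1
  have hED0 : ∑ ζ ∈ B, E ζ * D ζ = 0 := by
    have h1 := block_orth_finset hM B hB hpu hp1 hu1'
    rw [Finset.sum_congr rfl (fun ζ _ => by rw [hE ζ])] at h1
    exact toint E D _ hD h1
  -- the relations coming from products of two conjugates of the involution
  have toQ : ∀ f : IrrCharacter G → ℤ,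
      (∀ y : G, ∑ ζ ∈ B, (f ζ : ℂ) * conj ((ζ : G → ℂ) (u * (y * u * y⁻¹))) = 0) →
      ∑ ζ ∈ B, (f ζ : ℚ) * ((E ζ : ℚ) ^ 2 / (D ζ : ℚ)) = 0 := by
    intro f h
    have h1 := sum_weighted_sq_div B (fun ζ => (f ζ : ℂ)) u h
    have h2 : ((∑ ζ ∈ B, (f ζ : ℚ) * ((E ζ : ℚ) ^ 2 / (D ζ : ℚ)) : ℚ) : ℂ) = 0 := by
      rw [← h1]
      push_cast
      apply Finset.sum_congr rfl
      intro ζ _
      rw [hE ζ, hD ζ, map_div₀, map_mul, conj_intCast', conj_intCast']
      ring
    exact_mod_cast h2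
  have hE1 := toQ m1 (fun y => orth P₁ m1 hm1 (fun h hh => (hvan h hh).1) (hw y) hu1')
  have hE2 := toQ m2 (fun y => orth P₂ m2 hm2 (fun h hh => (hvan h hh).2.1) (hw y) hu1')
  have hE3 := toQ m3 (fun y => orth P₃ m3 hm3 (fun h hh => (hvan h hh).2.2) (hw y) hu1')
  have hEv := toQ v (fun y => by
    have h1 := block_orth_finset hM B hB hpa (hw y) ha1'
    rw [Finset.sum_congr rfl (fun ζ _ => by rw [hv ζ])] at h1
    exact h1)
  -- the sum of squares of the values at `a`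
  have hvv : ∑ ζ ∈ B, v ζ ^ 2 = 4 := by
    haveI : Fact (Nat.Prime 2) := ⟨Nat.prime_two⟩
    have ha1 : a ≠ 1 := by
      intro h
      rw [h, orderOf_one] at hao
      omega
    have h1 := (Cfsg.Agent.S0947.result 2 M hM a haz ha1
      (1 : Subgroup.centralizer ({a} : Set G)) (by rw [orderOf_one]; norm_num)).2
      (q8_cent_a S hq).1
    rw [(q8_cent_a S hq).2] at h1
    have hset : principalBlock M G = ↑B := by
      ext ζ; simp [hB]
    rw [hset, finsum_mem_coe_finset] at h1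
    have h2 : ∀ ζ ∈ B, ‖(ζ : G → ℂ) (a * ((1 : Subgroup.centralizer ({a} : Set G)) : G))‖ ^ 2 =
        ((v ζ ^ 2 : ℤ) : ℝ) := by
      intro ζ _
      rw [Subgroup.coe_one, mul_one, hv ζ, Complex.norm_intCast, sq_abs]
      push_cast
      rfl
    rw [Finset.sum_congr rfl h2] at h1
    have h3 : ((∑ ζ ∈ B, v ζ ^ 2 : ℤ) : ℝ) = ((4 : ℤ) : ℝ) := by
      push_cast
      push_cast at h1
      rw [h1]
    exact_mod_cast h3
  -- the principal character
  haveI hMp : M.IsPrime := hM.2.1.isPrime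
  have hx0 : principalChar G ∈ B := (hB _).2 principalChar_mem_principalBlock
  have hm0 : m1 (principalChar G) = 1 ∧ m2 (principalChar G) = 0 ∧ m3 (principalChar G) = 0 := by
    have e1 : ((m1 (principalChar G) : ℤ) : ℂ) = 1 := (hm1 (principalChar G)).symm.trans ho1
    have e2 : ((m2 (principalChar G) : ℤ) : ℂ) = 0 := (hm2 (principalChar G)).symm.trans ho2
    have e3 : ((m3 (principalChar G) : ℤ) : ℂ) = 0 := (hm3 (principalChar G)).symm.trans ho3
    refine ⟨?_, ?_, ?_⟩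
    · exact_mod_cast e1
    · exact_mod_cast e2
    · exact_mod_cast e3
  have hD0 : D (principalChar G) = 1 := by
    have e1 : ((D (principalChar G) : ℤ) : ℂ) = 1 := (hD (principalChar G)).symm
    exact_mod_cast e1
  have hv0 : v (principalChar G) = 1 := by
    have e1 : ((v (principalChar G) : ℤ) : ℂ) = 1 := (hv (principalChar G)).symm
    exact_mod_cast e1
  -- the value at the involution
  have hEf : ∀ ζ ∈ B, E ζ = m1 ζ + F₂ * m2 ζ + F₃ * m3 ζ := by
    intro ζ hζ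
    have h1 := section_value_one hM hz ζ ((hB ζ).1 hζ)
    have h2 : Cfsg.Agent.Helper23.Blk.blockReg
        (principalBlock M (Subgroup.centralizer ({u} : Set G))) =
        P₁ + ((F₂ : ℂ) • P₂ + (F₃ : ℂ) • P₃) := by
      funext h
      rw [hreg h]
      simp only [Pi.add_apply, Pi.smul_apply, smul_eq_mul]
      ring
    rw [h2, classInner_add_right, classInner_add_right, classInner_smul_right,
      classInner_smul_right, hm1 ζ, hm2 ζ, hm3 ζ, conj_intCast', conj_intCast', hE ζ] at h1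
    have h3 : E ζ = m1 ζ + (F₂ * m2 ζ + F₃ * m3 ζ) := by exact_mod_cast h1
    rw [h3]
    ring
  -- the parity condition
  have hvsmall : ∀ ζ ∈ B, v ζ = 0 ∨ v ζ = 1 ∨ v ζ = -1 := by
    intro ζ hζ
    by_cases hζ0 : ζ = principalChar G
    · right; left
      rw [hζ0]; exact hv0
    · have h1 : v ζ ^ 2 + v (principalChar G) ^ 2 ≤ ∑ ξ ∈ B, v ξ ^ 2 := by
        have h2 : ({ζ, principalChar G} : Finset (IrrCharacter G)) ⊆ B := by
          intro ξ hξ
          rw [Finset.mem_insert, Finset.mem_singleton] at hξ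
          rcases hξ with rfl | rfl
          · exact hζ
          · exact hx0
        have h3 := Finset.sum_le_sum_of_subset_of_nonneg (f := fun ξ => v ξ ^ 2) h2
          (fun ξ _ _ => sq_nonneg _)
        rw [Finset.sum_pair hζ0] at h3
        exact h3
      rw [hvv, hv0] at h1
      have h4 : v ζ ^ 2 ≤ 3 := by linarith
      have h5 : -1 ≤ v ζ := by nlinarith
      have h6 : v ζ ≤ 1 := by nlinarith
      omega
  have hpar : ∀ ζ ∈ B, v ζ ≠ 0 ↔ (m1 ζ + m2 ζ + m3 ζ) % 2 = 1 := by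
    intro ζ hζ
    have h1 := char_order_four_parity hao hainv ζ (v ζ) (hv ζ) (hvsmall ζ hζ)
    rw [h1]
    have h2 := hED ζ
    have h3 := hEf ζ hζ
    have e2 : ∃ t, F₂ * m2 ζ = m2 ζ + 2 * t := by
      refine ⟨(F₂ / 2) * m2 ζ, ?_⟩
      have : F₂ = 2 * (F₂ / 2) + 1 := by omega
      nth_rewrite 1 [this]
      ring
    have e3 : ∃ t, F₃ * m3 ζ = m3 ζ + 2 * t := by
      refine ⟨(F₃ / 2) * m3 ζ, ?_⟩
      have : F₃ = 2 * (F₃ / 2) + 1 := by omega
      nth_rewrite 1 [this]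
      ring
    obtain ⟨t2, ht2⟩ := e2
    obtain ⟨t3, ht3⟩ := e3
    rw [ht2, ht3] at h3
    obtain ⟨k, hk⟩ := h2
    omega
  have hcore := bsq_core B (principalChar G) hx0 m1 m2 m3 v D E F₂ F₃ (fun ζ _ => hDpos ζ)
    g11 g22 g33 g12 g13 g23 hm0 hD0 hv0 hvv hv1 hv2 hv3 hD1 hD2 hD3 hvD hEf hpar
    hE1 hE2 hE3 hEv
  have hdich : ∀ ζ ∈ B, E ζ = 0 ∨ E ζ = D ζ ∨ E ζ = - D ζ := by
    intro ζ hζ
    rcases hcore ζ hζ with h | h
    · exact Or.inl h
    · exact Or.inr (sq_eq_sq_iff_eq_or_eq_neg.1 h)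
  have hE0' : E (principalChar G) = 1 := by
    have e1 : ((E (principalChar G) : ℤ) : ℂ) = 1 := (hE (principalChar G)).symm
    exact_mod_cast e1
  have hneg : ∃ ζ ∈ B, E ζ = - D ζ := by
    by_contra hcon
    push_neg at hcon
    have h1 : ∀ ζ ∈ B, 0 ≤ E ζ * D ζ := by
      intro ζ hζ
      rcases hdich ζ hζ with h | h | h
      · rw [h, zero_mul]
      · rw [h]; exact mul_self_nonneg _
      · exact absurd h (hcon ζ hζ)
    have h2 : 0 < E (principalChar G) * D (principalChar G) := by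
      rw [hE0', hD0]; norm_num
    have h3 := Finset.sum_pos' h1 ⟨principalChar G, hx0, h2⟩
    rw [hED0] at h3
    exact lt_irrefl _ h3
  have hu2 : u⁻¹ = u := by
    have : u * u = 1 := by
      rw [← pow_two, ← huo]; exact pow_orderOf_eq_one u
    exact inv_eq_of_mul_eq_one_left this
  apply exists_normal_of_values u B
  · intro ζ hζ
    rw [hE ζ, hD ζ]
    rcases hdich ζ hζ with h | h | h
    · left; rw [h]; simp
    · right; left; rw [h]
    · right; right; rw [h]; simp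
  · obtain ⟨ζ, hζ, h⟩ := hneg
    refine ⟨ζ, hζ, ?_⟩
    rw [hE ζ, hD ζ, h]
    simp

end Main

end Cfsg.Agent.Helper7
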