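import Mathlib
import Cfsg.Agent.Lib.Helper15.ZStarMin2
import Cfsg.Agent.Lib.Helper6.Dihedral
import Cfsg.Agent.Lib.Helper9.SylowLemmas
import Cfsg.Agent.S0016
import Cfsg.Agent.S0201

/-!
# Glauberman's `Z*`-theorem: the group-theoretic part (helper7's library)
-/

set_option autoImplicit false
set_option linter.unusedSectionVars false

universe u

namespace Cfsg.Agent.Helper7.ZStar

open Cfsg Cfsg.Agent.Helper15 Cfsg.Agent.Helper15.ZStarMin Cfsg.Agent.Helper6

variable {G : Type u} [Group G]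

/-- isolation passes to subgroups -/
theorem isIsolated_subtype {x : G} (hiso : IsIsolated x) (H : Subgroup G) (hxH : x ∈ H) :
    IsIsolated (⟨x, hxH⟩ : H) := by
  intro g hc
  apply Subtype.ext
  have h1 : Commute x ((g : G) * x * (g : G)⁻¹) := by
    have := congrArg Subtype.val hc.eq
    show x * ((g : G) * x * (g : G)⁻¹) = (g : G) * x * (g : G)⁻¹ * x
    simpa using this
  have h2 := hiso (g : G) h1
  simpa using h2

theorem orderOf_conj' (g x : G) : orderOf (g * x * g⁻¹) = orderOf x := by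
  have := (MulAut.conj g).orderOf_eq x
  rwa [MulAut.conj_apply] at this

theorem sq_eq_one_of_orderOf_two {x : G} (hx : orderOf x = 2) : x * x = 1 := by
  rw [← pow_two, ← hx]; exact pow_orderOf_eq_one x

/-- an involution of a Sylow `2`-subgroup which is the only one of its conjugates in the Sylow
subgroup is isolated -/
theorem isIsolated_of_sylow [Finite G] (P : Sylow 2 G) (x : G) (hx : orderOf x = 2)
    (hxP : x ∈ P) (hiso : ∀ g : G, g * x * g⁻¹ ∈ P → g * x * g⁻¹ = x) : IsIsolated x := by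
  haveI : Fact (Nat.Prime 2) := ⟨Nat.prime_two⟩
  intro g hc
  set v := g * x * g⁻¹ with hv
  have hvo : orderOf v = 2 := by rw [hv, orderOf_conj', hx]
  have hZu : IsPGroup 2 (Subgroup.zpowers x) :=
    isPGroup_zpowers_of_orderOf ⟨1, by rw [hx]; norm_num⟩
  have hZv : IsPGroup 2 (Subgroup.zpowers v) :=
    isPGroup_zpowers_of_orderOf ⟨1, by rw [hvo]; norm_num⟩
  have hnorm : Subgroup.zpowers x ≤ Subgroup.normalizer (Subgroup.zpowers v : Set G) := by
    rw [Subgroup.zpowers_le, Subgroup.mem_normalizer_iff]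
    intro w
    have key : ∀ w ∈ Subgroup.zpowers v, x * w * x⁻¹ = w := by
      intro w hw
      obtain ⟨i, rfl⟩ := Subgroup.mem_zpowers_iff.1 hw
      rw [(hc.zpow_right i).eq, mul_inv_cancel_right]
    constructor
    · intro hw
      rw [key w hw]; exact hw
    · intro hw
      have h1 := key _ hw
      have h2 : w = x * w * x⁻¹ := by
        have h3 : x * w * x⁻¹ = x⁻¹ * (x * (x * w * x⁻¹) * x⁻¹) * x := by group
        rw [h1] at h3
        calc w = x⁻¹ * (x * w * x⁻¹) * x := by group
          _ = x * w * x⁻¹ := h3.symm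
      rw [h2]; exact hw
  have hQ : IsPGroup 2 (Subgroup.zpowers x ⊔ Subgroup.zpowers v : Subgroup G) :=
    IsPGroup.to_sup_of_normal_right' hZu hZv hnorm
  obtain ⟨c, hcP⟩ := Cfsg.Agent.Helper9.exists_conj_le_sylow P _ hQ
  have h1 := hiso c (hcP x (le_sup_left (a := Subgroup.zpowers x) (Subgroup.mem_zpowers x)))
  have h2 : (c * g) * x * (c * g)⁻¹ ∈ P := by
    have := hcP v (le_sup_right (a := Subgroup.zpowers x) (Subgroup.mem_zpowers v))
    have e : (c * g) * x * (c * g)⁻¹ = c * v * c⁻¹ := by rw [hv]; group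
    rw [e]; exact this
  have h3 := hiso (c * g) h2
  calc v = c⁻¹ * ((c * g) * x * (c * g)⁻¹) * c := by rw [hv]; group
    _ = c⁻¹ * x * c := by rw [h3]
    _ = c⁻¹ * (c * x * c⁻¹) * c := by rw [h1]
    _ = x := by group

/-- two conjugate elements of the centralizer of an isolated involution are conjugate in the
centralizer -/
theorem conj_in_centralizer [Finite G] {x : G} (hx : orderOf x = 2) (hiso : IsIsolated x)
    {t : G} (htx : Commute t x) (g : G) (hg : Commute (g * t * g⁻¹) x) :
    ∃ c, Commute c x ∧ c * t * c⁻¹ = g * t * g⁻¹ := by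
  haveI : Fact (Nat.Prime 2) := ⟨Nat.prime_two⟩
  have hxK : x ∈ Subgroup.centralizer ({t} : Set G) :=
    mem_centralizer_singleton_iff.2 htx.eq.symm
  have hgK : g⁻¹ * x * g⁻¹⁻¹ ∈ Subgroup.centralizer ({t} : Set G) := by
    rw [mem_centralizer_singleton_iff]
    have h1 : (g * t * g⁻¹) * x = x * (g * t * g⁻¹) := hg.eq
    calc g⁻¹ * x * g⁻¹⁻¹ * t = g⁻¹ * (x * (g * t * g⁻¹)) * g := by group
      _ = g⁻¹ * ((g * t * g⁻¹) * x) * g := by rw [h1]
      _ = t * (g⁻¹ * x * g⁻¹⁻¹) := by group
  obtain ⟨c, hcK, hc⟩ := exists_conj_of_mem (p := 2) hiso ⟨1, by rw [hx]; norm_num⟩ hxK hgK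
  have hct : c * t = t * c := mem_centralizer_singleton_iff.1 hcK
  refine ⟨g * c⁻¹, ?_, ?_⟩
  · show g * c⁻¹ * x = x * (g * c⁻¹)
    calc g * c⁻¹ * x = g * c⁻¹ * (c * (g⁻¹ * x * g⁻¹⁻¹) * c⁻¹) := by rw [hc]
      _ = x * (g * c⁻¹) := by group
  · have h2 : c⁻¹ * t * c = t := by
      calc c⁻¹ * t * c = c⁻¹ * (t * c) := by group
        _ = c⁻¹ * (c * t) := by rw [hct]
        _ = t := by group
    calc g * c⁻¹ * t * (g * c⁻¹)⁻¹ = g * (c⁻¹ * t * c) * g⁻¹ := by group
      _ = g * t * g⁻¹ := by rw [h2]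

/-- the structure of the dihedral group generated by two involutions whose product has twice
odd order -/
theorem dihedral_decomp {x y : G} (hx : x * x = 1) (hy : y * y = 1) (k : ℕ)
    (hk : (x * y) ^ (2 * (2 * k + 1)) = 1) :
    ∃ z w c : G, z * z = 1 ∧ x * y = z * w ∧ w ∈ Subgroup.zpowers ((x * y) ^ 2) ∧
      Commute z x ∧ Commute z w ∧ z = x * (c * y * c⁻¹) ∧ z = (x * y) ^ (2 * k + 1) := by
  set r := x * y with hr
  refine ⟨r ^ (2 * k + 1), (r ^ 2) ^ (k + 1), (r ^ k)⁻¹, ?_, ?_, ?_, ?_, ?_, ?_, rfl⟩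
  · rw [← pow_add, ← two_mul]; exact hk
  · rw [← pow_mul, ← pow_add]
    have : 2 * k + 1 + 2 * (k + 1) = 2 * (2 * k + 1) + 1 := by ring
    rw [this, pow_succ, hk, one_mul]
  · exact Subgroup.pow_mem _ (Subgroup.mem_zpowers _) _
  · have h1 := conj_pow_inv x y hx hy (2 * k + 1)
    rw [← hr] at h1
    have h2 : (r ^ (2 * k + 1))⁻¹ = r ^ (2 * k + 1) := by
      apply inv_eq_of_mul_eq_one_left
      rw [← pow_add, ← two_mul]; exact hk
    rw [h2] at h1
    show r ^ (2 * k + 1) * x = x * r ^ (2 * k + 1)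
    calc r ^ (2 * k + 1) * x = (x * r ^ (2 * k + 1) * x⁻¹) * x := by rw [h1]
      _ = x * r ^ (2 * k + 1) := by group
  · rw [← pow_mul]
    exact (Commute.refl r).pow_pow _ _
  · have h1 := mul_pow_eq x y hx hy k
    rw [← hr] at h1
    rw [inv_inv]
    have h2 : r ^ (2 * k + 1) = r ^ k * r * r ^ k := by
      rw [← pow_succ, ← pow_add]; congr 1; ring
    calc r ^ (2 * k + 1) = x * (x * r ^ k * r * r ^ k) := by
          rw [h2]
          have : x * (x * r ^ k * r * r ^ k) = (x * x) * (r ^ k * r * r ^ k) := by group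
          rw [this, hx, one_mul]
      _ = x * ((r ^ k)⁻¹ * x * r * r ^ k) := by rw [h1]
      _ = x * ((r ^ k)⁻¹ * y * r ^ k) := by
          have : x * r = y := by rw [hr, ← mul_assoc, hx, one_mul]
          have h3 : (r ^ k)⁻¹ * x * r * r ^ k = (r ^ k)⁻¹ * (x * r) * r ^ k := by group
          rw [h3, this]

section MinCE

variable [Finite G] {x : G}

/-- a minimal counterexample has no normal subgroups of odd order -/
theorem MinCE_hO (h : MinCE 2 x) (N : Subgroup G) (hN : N.Normal) (hodd : Odd (Nat.card N)) :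
    N = ⊥ := by
  haveI : Fact (Nat.Prime 2) := ⟨Nat.prime_two⟩
  have h1 := Cfsg.Agent.Helper22.le_pPrimeCore 2 N hN (Nat.coprime_two_right.2 hodd)
  rw [h.pPrimeCore_eq_bot] at h1
  exact le_bot_iff.1 h1

/-- a minimal counterexample has no central involution -/
theorem MinCE_no_central_involution (h : MinCE 2 x) (t : G) (ht : orderOf t = 2)
    (htc : t ∈ Subgroup.center G) : False := by
  haveI : Fact (Nat.Prime 2) := ⟨Nat.prime_two⟩
  have hNle : Subgroup.zpowers t ≤ Subgroup.center G := Subgroup.zpowers_le.2 htc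
  haveI hNn : (Subgroup.zpowers t).Normal := by
    constructor
    intro w hw g
    have := Subgroup.mem_center_iff.1 (hNle hw) g
    rw [this, mul_inv_cancel_right]
    exact hw
  have hNp : IsPGroup 2 (Subgroup.zpowers t) :=
    isPGroup_zpowers_of_orderOf ⟨1, by rw [ht]; norm_num⟩
  have hNne : Subgroup.zpowers t ≠ ⊥ := by
    intro hbot
    rw [Subgroup.zpowers_eq_bot] at hbot
    rw [hbot, orderOf_one] at ht
    omega
  have hquot := pPrimeCore_quotient_eq_bot_of_central hNle hNp h.pPrimeCore_eq_bot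
  apply h.central_of_comm_mem_center
  intro g
  have h1 := h.quot (Subgroup.zpowers t) hNne (QuotientGroup.mk g)
  rw [hquot, Subgroup.mem_bot] at h1
  have h2 : (QuotientGroup.mk (g * x * g⁻¹ * x⁻¹) : G ⧸ Subgroup.zpowers t) = 1 := h1
  exact hNle ((QuotientGroup.eq_one_iff _).mp h2)

/-- in a minimal counterexample a Sylow `2`-subgroup is not cyclic -/
theorem MinCE_not_cyclic (h : MinCE 2 x) (S : Sylow 2 G) (hxS : x ∈ S)
    (hc : IsCyclic (S : Subgroup G)) : False := by
  haveI : Fact (Nat.Prime 2) := ⟨Nat.prime_two⟩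
  have h2 : 2 ∣ Nat.card G := by
    rw [← h.ord]; exact orderOf_dvd_natCard x
  have hp : (Nat.card G).minFac = 2 := (Nat.minFac_eq_two_iff _).2 h2
  have hNC := hc.normalizer_le_centralizer hp
  have hcomp := MonoidHom.ker_transferSylow_isComplement' S hNC
  have hodd : ¬ 2 ∣ Nat.card (MonoidHom.transferSylow S hNC).ker :=
    MonoidHom.not_dvd_card_ker_transferSylow S hNC
  have hoddK : Odd (Nat.card (MonoidHom.transferSylow S hNC).ker) := by
    rw [Nat.odd_iff]; omega
  have hK := MinCE_hO h _ (MonoidHom.normal_ker _) hoddK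
  rw [hK] at hcomp
  have hS : (S : Subgroup G) = ⊤ := Subgroup.isComplement'_bot_left.1 hcomp
  have hle := IsIsolated.commute_of_mem h.iso S.isPGroup' hxS
  apply h.not_central
  intro g
  have hg : g ∈ (S : Subgroup G) := by rw [hS]; exact Subgroup.mem_top g
  exact mem_centralizer_singleton_iff.1 (hle hg)

/-- in a minimal counterexample the centralizer of the involution contains another involution -/
theorem MinCE_exists_involution (h : MinCE 2 x) :
    ∃ t : G, orderOf t = 2 ∧ Commute t x ∧ t ≠ x := by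
  haveI : Fact (Nat.Prime 2) := ⟨Nat.prime_two⟩
  by_contra hcon
  push_neg at hcon
  have hZ : IsPGroup 2 (Subgroup.zpowers x) :=
    isPGroup_zpowers_of_orderOf ⟨1, by rw [h.ord]; norm_num⟩
  obtain ⟨S, hS⟩ := hZ.exists_le_sylow
  have hxS : x ∈ S := hS (Subgroup.mem_zpowers x)
  have hle := IsIsolated.commute_of_mem h.iso S.isPGroup' hxS
  -- subgroups of order two of `S`
  have hsub : ∀ H : Subgroup (S : Subgroup G), Nat.card H = 2 →
      H = Subgroup.zpowers (⟨x, hxS⟩ : (S : Subgroup G)) := by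
    intro H hH
    have hne : H ≠ ⊥ := by
      intro hb
      rw [hb, Subgroup.card_bot] at hH
      omega
    obtain ⟨s, hs1⟩ := (Subgroup.ne_bot_iff_exists_ne_one).1 hne
    have hso : orderOf s = 2 := by
      have h1 : orderOf s ∣ 2 := by
        have := orderOf_dvd_natCard s
        rwa [hH] at this
      rcases (Nat.dvd_prime Nat.prime_two).1 h1 with h2 | h2
      · rw [orderOf_eq_one_iff] at h2
        exact absurd h2 hs1
      · exact h2
    have hsx : ((s : H) : (S : Subgroup G)) = ⟨x, hxS⟩ := by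
      apply Subtype.ext
      apply hcon
      · rw [Subgroup.orderOf_coe, Subgroup.orderOf_coe]; exact hso
      · exact (mem_centralizer_singleton_iff.1 (hle (s : (S : Subgroup G)).2))
    have hle2 : Subgroup.zpowers (⟨x, hxS⟩ : (S : Subgroup G)) ≤ H := by
      rw [Subgroup.zpowers_le, ← hsx]
      exact s.2
    symm
    apply Subgroup.eq_of_le_of_card_ge hle2
    rw [hH, Nat.card_zpowers, Subgroup.orderOf_mk, h.ord]
  have huniq : ∀ H K : Subgroup (S : Subgroup G), Nat.card H = 2 → Nat.card K = 2 → H = K := by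
    intro H K hH hK
    rw [hsub H hH, hsub K hK]
  rcases Cfsg.Agent.S0016.result (G := (S : Subgroup G)) 2 S.isPGroup' huniq with hc | ⟨-, n, ⟨e⟩⟩
  · exact MinCE_not_cyclic h S hxS hc
  · rcases Nat.eq_zero_or_pos n with hn | hn
    · subst hn
      have e1 : (S : Subgroup G) ≃* QuaternionGroup 1 := e
      have hc : IsCyclic (S : Subgroup G) := by
        haveI := QuaternionGroup.quaternionGroup_one_isCyclic
        exact isCyclic_of_surjective e1.symm e1.symm.surjective
      exact MinCE_not_cyclic h S hxS hc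
    · obtain ⟨m, rfl⟩ : ∃ m, n = m + 1 := ⟨n - 1, by omega⟩
      have hcard := Cfsg.Agent.S0201.result S m e (MinCE_hO h)
      have h2 : 2 ∣ Nat.card (Subgroup.center G) := by rw [hcard]
      obtain ⟨t, ht⟩ := exists_prime_orderOf_dvd_card' 2 h2
      apply MinCE_no_central_involution h (t : G) _ t.2
      rw [Subgroup.orderOf_coe]; exact ht

end MinCE

end Cfsg.Agent.Helper7.ZStar
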