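import Mathlib
import Cfsg.Agent.Lib.Helper7.ZStar1
import Cfsg.Agent.Lib.Helper7.BSQFin2
import Cfsg.Agent.Lib.Helper7.Signalizer2
import Cfsg.Agent.S0942
import Cfsg.Agent.S0943

/-!
# Glauberman's `Z*`-theorem: the character-theoretic part (helper7's library)
-/

set_option autoImplicit false
set_option linter.unusedSectionVars false

universe u

namespace Cfsg.Agent.Helper7.ZStar

open Cfsg Cfsg.Agent.Helper15 Cfsg.Agent.Helper15.ZStarMin Cfsg.Agent.Helper6
open Cfsg.Agent.Helper24 Cfsg.Agent.Helper23 Cfsg.Agent.Helper23.Blk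
open scoped ComplexConjugate

variable {G : Type u} [Group G]

/-- the central involution of a dihedral group of order divisible by four -/
theorem dihedral_central {x y : G} (hx : x * x = 1) (hy : y * y = 1) (m : ℕ)
    (hm : (x * y) ^ (2 * m) = 1) :
    Commute ((x * y) ^ m) x ∧ Commute ((x * y) ^ m) y := by
  set r := x * y with hr
  have h2 : (r ^ m)⁻¹ = r ^ m := by
    apply inv_eq_of_mul_eq_one_left
    rw [← pow_add, ← two_mul]; exact hm
  have hcx : Commute (r ^ m) x := by
    have h1 := conj_pow_inv x y hx hy m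
    rw [← hr, h2] at h1
    show r ^ m * x = x * r ^ m
    calc r ^ m * x = (x * r ^ m * x⁻¹) * x := by rw [h1]
      _ = x * r ^ m := by group
  refine ⟨hcx, ?_⟩
  have hyr : y = x * r := by rw [hr, ← mul_assoc, hx, one_mul]
  rw [hyr]
  exact hcx.mul_right ((Commute.refl r).pow_left m)

/-- an irreducible character having `x` in its kernel is trivial when the normal closure of `x`
is everything -/
theorem irr_trivial_of_normalClosure [Finite G] {χ : G → ℂ} (hχ : IsIrrCharacter G χ) (x : G)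
    (hx : χ x = χ 1) (hN : Subgroup.normalClosure ({x} : Set G) = ⊤) : ∀ g, χ g = χ 1 := by
  obtain ⟨n, ρ, hirr, rfl⟩ := hχ
  have hone : ρ.character 1 = (Module.finrank ℂ (Fin n → ℂ) : ℂ) := Representation.char_one ρ
  have hxk : x ∈ MonoidHom.ker ρ := by
    rw [MonoidHom.mem_ker]
    exact (char_eq_finrank_iff ρ x).1 (by rw [hx, hone])
  have hle : Subgroup.normalClosure ({x} : Set G) ≤ MonoidHom.ker ρ :=
    Subgroup.normalClosure_le_normal (Set.singleton_subset_iff.2 hxk)
  intro g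
  have hg : g ∈ MonoidHom.ker ρ := hle (by rw [hN]; exact Subgroup.mem_top g)
  rw [MonoidHom.mem_ker] at hg
  simp only [Representation.character]
  rw [hg, map_one ρ]

section MinCE

variable [Finite G] {x : G}

/-- **the key computation**: characters of the principal block at products of a conjugate of
the isolated involution with conjugates of another involution of its centralizer -/
theorem MinCE_char_prod (h : MinCE 2 x) {M : Ideal AlgInt} (hM : IsPModular 2 M)
    (χ : IrrCharacter G) (hχ : χ ∈ principalBlock M G)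
    {t : G} (ht : orderOf t = 2) (htx : Commute t x) (htne : t ≠ x) (g : G) :
    (χ : G → ℂ) (x * (g * t * g⁻¹)) = (χ : G → ℂ) (x * t) := by
  haveI : Fact (Nat.Prime 2) := ⟨Nat.prime_two⟩
  have hcf : IsClassFunction G (χ : G → ℂ) := isClassFunction_of_isIrrCharacter χ.2
  have hxx : x * x = 1 := sq_eq_one_of_orderOf_two h.ord
  obtain ⟨y, hy⟩ : ∃ y : G, y = g * t * g⁻¹ := ⟨_, rfl⟩
  rw [← hy]
  have hyo : orderOf y = 2 := by rw [hy, orderOf_conj', ht]
  have hyy : y * y = 1 := sq_eq_one_of_orderOf_two hyo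
  -- `x` and `y` are not conjugate
  have hnc : ∀ c : G, c * x * c⁻¹ ≠ y := by
    intro c hc
    apply htne
    have h1 : t = (g⁻¹ * c) * x * (g⁻¹ * c)⁻¹ := by
      calc t = g⁻¹ * y * g := by rw [hy]; group
        _ = (g⁻¹ * c) * x * (g⁻¹ * c)⁻¹ := by rw [← hc]; group
    rw [h1]
    apply h.iso
    rw [← h1]
    exact htx.symm
  set r := x * y with hr
  -- the order of `r` is even
  have hev : Even (orderOf r) := by
    rw [← Nat.not_odd_iff_even]
    rintro ⟨k, hk⟩
    apply hnc ((x * y) ^ k)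
    apply conj_of_odd_order x y hxx hyy k
    rw [← hr, ← hk]; exact pow_orderOf_eq_one r
  obtain ⟨m, hm⟩ := hev
  have hm' : orderOf r = 2 * m := by rw [hm]; ring
  have hrm : r ^ (2 * m) = 1 := by rw [← hm']; exact pow_orderOf_eq_one r
  have hmpos : 0 < m := by
    have := orderOf_pos r
    omega
  set z := r ^ m with hz
  have hz1 : z ≠ 1 := by
    rw [hz]
    apply pow_ne_one_of_lt_orderOf (by omega) (by omega)
  have hzz : z * z = 1 := by
    rw [hz, ← pow_add, ← two_mul]; exact hrm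
  have hzo : orderOf z = 2 := by
    apply orderOf_eq_prime
    · rw [pow_two]; exact hzz
    · exact hz1
  obtain ⟨hzx, hzy⟩ := dihedral_central hxx hyy m hrm
  rw [← hr, ← hz] at hzx hzy
  -- the centralizer of `z` is proper
  have hH : Subgroup.centralizer ({z} : Set G) ≠ ⊤ := by
    intro htop
    apply MinCE_no_central_involution h z hzo
    rw [Subgroup.mem_center_iff]
    intro w
    have hw : w ∈ Subgroup.centralizer ({z} : Set G) := by rw [htop]; exact Subgroup.mem_top w
    exact mem_centralizer_singleton_iff.1 hw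
  have hxH : x ∈ Subgroup.centralizer ({z} : Set G) :=
    mem_centralizer_singleton_iff.2 hzx.eq.symm
  have hyH : y ∈ Subgroup.centralizer ({z} : Set G) :=
    mem_centralizer_singleton_iff.2 hzy.eq.symm
  have hmin := h.min _ hxH hH ⟨y, hyH⟩
  -- `r ^ 2` lies in the core of the centralizer of `z`
  have hr2 : r ^ 2 ∈ Cfsg.centralizerPPrimeCore 2 z := by
    have h1 : (((⟨y, hyH⟩ : Subgroup.centralizer ({z} : Set G)) * ⟨x, hxH⟩ * ⟨y, hyH⟩⁻¹ *
        ⟨x, hxH⟩⁻¹ : Subgroup.centralizer ({z} : Set G)) : G) ∈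
        Cfsg.centralizerPPrimeCore 2 z := Subgroup.mem_map_of_mem _ hmin
    have h2 : (((⟨y, hyH⟩ : Subgroup.centralizer ({z} : Set G)) * ⟨x, hxH⟩ * ⟨y, hyH⟩⁻¹ *
        ⟨x, hxH⟩⁻¹ : Subgroup.centralizer ({z} : Set G)) : G) = (r ^ 2)⁻¹ := by
      simp only [Subgroup.coe_mul, Subgroup.coe_inv]
      have hxi : x⁻¹ = x := inv_eq_self_of_mul_self hxx
      have hyi : y⁻¹ = y := inv_eq_self_of_mul_self hyy
      rw [hxi, hyi, hr, pow_two, mul_inv_rev, mul_inv_rev, hxi, hyi]
      group
    rw [h2] at h1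
    have := Subgroup.inv_mem _ h1
    rwa [inv_inv] at this
  have hodd : Odd (orderOf (r ^ 2)) := by
    have h1 : orderOf (r ^ 2) ∣ Nat.card (Cfsg.centralizerPPrimeCore 2 z) :=
      Subgroup.orderOf_dvd_natCard _ hr2
    have h2 := Cfsg.Agent.Helper7.card_centralizerPPrimeCore_coprime 2 z
    exact Nat.coprime_two_right.1 (Nat.Coprime.coprime_dvd_left h1 h2)
  have horder : orderOf (r ^ 2) = m := by
    rw [orderOf_pow' r two_ne_zero, hm']
    have : Nat.gcd (2 * m) 2 = 2 := by
      rw [Nat.gcd_comm]; exact Nat.gcd_eq_left ⟨m, rfl⟩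
    rw [this]
    omega
  rw [horder] at hodd
  obtain ⟨k, hk⟩ := hodd
  have hrk : (x * y) ^ (2 * (2 * k + 1)) = 1 := by rw [← hr, ← hk]; exact hrm
  obtain ⟨z', w, c, -, hrw, hw, -, -, hzc, hz'⟩ := dihedral_decomp hxx hyy k hrk
  have hzz' : z' = z := by rw [hz', ← hr, ← hk]
  rw [hzz'] at hrw hzc
  -- apply the second main theorem
  have hwO : w ∈ Cfsg.centralizerPPrimeCore 2 z :=
    (Subgroup.zpowers_le.2 hr2) (by rw [← hr] at hw; exact hw)
  have hval := Cfsg.Agent.S0942.result 2 M hM z ⟨1, by rw [hzo]; norm_num⟩ w hwO χ hχ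
  rw [← hrw] at hval
  rw [hval]
  -- `z` is conjugate to `x * t`
  have hct : c * y * c⁻¹ = (c * g) * t * (c * g)⁻¹ := by rw [hy]; group
  have hcomm : Commute ((c * g) * t * (c * g)⁻¹) x := by
    rw [← hct]
    have h1 : c * y * c⁻¹ = x * z := by
      rw [hzc, ← mul_assoc, hxx, one_mul]
    rw [h1]
    exact (Commute.refl x).mul_left hzx
  obtain ⟨d, hdx, hd⟩ := conj_in_centralizer h.ord h.iso htx (c * g) hcomm
  have hzd : z = d * (x * t) * d⁻¹ := by
    rw [hzc, hct, ← hd]
    have : d * (x * t) * d⁻¹ = (d * x * d⁻¹) * (d * t * d⁻¹) := by group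
    rw [this]
    congr 1
    rw [hdx.eq, mul_inv_cancel_right]
  rw [hzd]
  exact hcf (x * t) d

/-- the product formula for the characters of the principal block -/
theorem MinCE_char_rel (h : MinCE 2 x) {M : Ideal AlgInt} (hM : IsPModular 2 M)
    (χ : IrrCharacter G) (hχ : χ ∈ principalBlock M G)
    {t : G} (ht : orderOf t = 2) (htx : Commute t x) (htne : t ≠ x) :
    (χ : G → ℂ) x * (χ : G → ℂ) t = (χ : G → ℂ) 1 * (χ : G → ℂ) (x * t) := by
  apply Cfsg.Agent.S0943.result χ x t
  intro x' y' hx' hy'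
  obtain ⟨a, ha⟩ := isConj_iff.1 hx'
  obtain ⟨b, hb⟩ := isConj_iff.1 hy'
  have hcf : IsClassFunction G (χ : G → ℂ) := isClassFunction_of_isIrrCharacter χ.2
  have e : x' * y' = a * (x * ((a⁻¹ * b) * t * (a⁻¹ * b)⁻¹)) * a⁻¹ := by
    rw [← ha, ← hb]; group
  rw [e, hcf _ a]
  exact MinCE_char_prod h hM χ hχ ht htx htne (a⁻¹ * b)

/-- **there is no minimal counterexample** -/
theorem MinCE_false (h : MinCE 2 x) : False := by
  classical
  haveI : Fact (Nat.Prime 2) := ⟨Nat.prime_two⟩
  letI : Fintype G := Fintype.ofFinite G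
  letI : Fintype (IrrCharacter G) := irrFintype
  obtain ⟨M, hM⟩ := Cfsg.Agent.Helper24.Glaub.exists_isPModular Nat.prime_two
  haveI hMp : M.IsPrime := hM.2.1.isPrime
  set B : Finset (IrrCharacter G) :=
    Finset.univ.filter (fun ζ => ζ ∈ principalBlock M G) with hBdef
  have hB : ∀ ζ, ζ ∈ B ↔ ζ ∈ principalBlock M G := by
    intro ζ; simp [hBdef]
  obtain ⟨t, hto, htx, htne⟩ := MinCE_exists_involution h
  have hxx := sq_eq_one_of_orderOf_two h.ord
  have htt := sq_eq_one_of_orderOf_two hto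
  have ht1 : t ≠ 1 := by
    intro h1
    rw [h1, orderOf_one] at hto
    omega
  have hs1 : x * t ≠ 1 := by
    intro h1
    apply htne
    have h2 : t = x⁻¹ := eq_inv_of_mul_eq_one_right h1
    rw [h2, inv_eq_self_of_mul_self hxx]
  have hso : orderOf (x * t) = 2 := by
    apply orderOf_eq_prime
    · rw [pow_two]
      calc x * t * (x * t) = x * (t * x) * t := by group
        _ = x * (x * t) * t := by rw [htx.eq]
        _ = (x * x) * (t * t) := by group
        _ = 1 := by rw [hxx, htt, one_mul]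
    · exact hs1
  have hsx : Commute (x * t) x := (Commute.refl x).mul_left htx
  have hsne : x * t ≠ x := by
    intro h1
    exact ht1 (mul_eq_left.1 h1)
  have R1 : ∀ χ ∈ B, (χ : G → ℂ) x * (χ : G → ℂ) t = (χ : G → ℂ) 1 * (χ : G → ℂ) (x * t) :=
    fun χ hχ => MinCE_char_rel h hM χ ((hB χ).1 hχ) hto htx htne
  have R2 : ∀ χ ∈ B, (χ : G → ℂ) x * (χ : G → ℂ) (x * t) = (χ : G → ℂ) 1 * (χ : G → ℂ) t := by
    intro χ hχ
    have := MinCE_char_rel h hM χ ((hB χ).1 hχ) hso hsx hsne
    rwa [← mul_assoc, hxx, one_mul] at this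
  -- orthogonality
  have hpt : IsPPart 2 t t := isPPart_self_of_pow Nat.prime_two ⟨1, by rw [hto]; norm_num⟩
  have hps : IsPPart 2 (x * t) (x * t) :=
    isPPart_self_of_pow Nat.prime_two ⟨1, by rw [hso]; norm_num⟩
  have hp1 : IsPPart 2 (1 : G) 1 := isPPart_self_of_pow Nat.prime_two ⟨0, by simp⟩
  have hnt : ¬ IsConj t 1 := fun hc => ht1 (isConj_one_left.1 hc)
  have hns : ¬ IsConj (x * t) 1 := fun hc => hs1 (isConj_one_left.1 hc)
  have O1 := block_orth_finset hM B hB hpt hp1 hnt
  have O2 := block_orth_finset hM B hB hps hp1 hns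
  have hsum : ∑ χ ∈ B, ((χ : G → ℂ) t + (χ : G → ℂ) (x * t)) * conj ((χ : G → ℂ) 1) = 0 := by
    simp only [add_mul]
    rw [Finset.sum_add_distrib, O1, O2, add_zero]
  -- each term is a nonnegative real
  have hterm : ∀ χ ∈ B, ∃ r : ℝ, 0 ≤ r ∧
      ((χ : G → ℂ) t + (χ : G → ℂ) (x * t)) * conj ((χ : G → ℂ) 1) = (r : ℂ) := by
    intro χ hχ
    obtain ⟨n, hn, ha⟩ := irr_one_eq χ.2
    have r1 := R1 χ hχ
    have r2 := R2 χ hχ
    have ha0 : (χ : G → ℂ) 1 ≠ 0 := by
      rw [ha]; exact_mod_cast hn.ne'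
    by_cases hc : (χ : G → ℂ) t = 0
    · have hd : (χ : G → ℂ) (x * t) = 0 := by
        rw [hc, mul_zero] at r1
        rcases mul_eq_zero.1 r1.symm with h1 | h1
        · exact absurd h1 ha0
        · exact h1
      refine ⟨0, le_refl 0, ?_⟩
      rw [hc, hd]; simp
    · have h3 : ((χ : G → ℂ) x - (χ : G → ℂ) 1) * ((χ : G → ℂ) x + (χ : G → ℂ) 1) = 0 := by
        have h4 : (((χ : G → ℂ) x - (χ : G → ℂ) 1) * ((χ : G → ℂ) x + (χ : G → ℂ) 1)) *
            (χ : G → ℂ) t = 0 := by
          linear_combination (χ : G → ℂ) x * r1 + (χ : G → ℂ) 1 * r2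
        rcases mul_eq_zero.1 h4 with h5 | h5
        · exact h5
        · exact absurd h5 hc
      rcases mul_eq_zero.1 h3 with h5 | h5
      · have hx1 : (χ : G → ℂ) x = (χ : G → ℂ) 1 := by linear_combination h5
        have htriv := irr_trivial_of_normalClosure χ.2 x hx1 h.normalClosure_eq_top
        refine ⟨2 * (n : ℝ) ^ 2, by positivity, ?_⟩
        rw [htriv t, htriv (x * t), ha, Complex.conj_natCast]
        push_cast
        ring
      · have hx1 : (χ : G → ℂ) x = - (χ : G → ℂ) 1 := by linear_combination h5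
        have hd : (χ : G → ℂ) (x * t) = - (χ : G → ℂ) t := by
          rw [hx1] at r1
          have h6 : (χ : G → ℂ) 1 * ((χ : G → ℂ) (x * t) + (χ : G → ℂ) t) = 0 := by
            linear_combination -r1
          rcases mul_eq_zero.1 h6 with h7 | h7
          · exact absurd h7 ha0
          · linear_combination h7
        refine ⟨0, le_refl 0, ?_⟩
        rw [hd]; simp
  have hx0 : principalChar G ∈ B := (hB _).2 principalChar_mem_principalBlock
  have hterm0 : (((principalChar G : IrrCharacter G) : G → ℂ) t +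
      ((principalChar G : IrrCharacter G) : G → ℂ) (x * t)) *
      conj (((principalChar G : IrrCharacter G) : G → ℂ) 1) = 2 := by
    show ((1 : ℂ) + 1) * conj (1 : ℂ) = 2
    rw [map_one]; norm_num
  have hre : ∑ χ ∈ B, (((χ : G → ℂ) t + (χ : G → ℂ) (x * t)) * conj ((χ : G → ℂ) 1)).re = 0 := by
    rw [← Complex.re_sum, hsum]; simp
  have hnonneg : ∀ χ ∈ B,
      0 ≤ (((χ : G → ℂ) t + (χ : G → ℂ) (x * t)) * conj ((χ : G → ℂ) 1)).re := by
    intro χ hχ
    obtain ⟨r, hr, he⟩ := hterm χ hχ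
    rw [he]
    simpa using hr
  have hpos := Finset.sum_pos' hnonneg ⟨principalChar G, hx0, by rw [hterm0]; norm_num⟩
  rw [hre] at hpos
  exact lt_irrefl _ hpos

end MinCE

end Cfsg.Agent.Helper7.ZStar
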