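import Mathlib
import Cfsg.Agent.Lib.Helper7.ZStar2
import Cfsg.Agent.S2970

/-!
# Glauberman's `Z*`-theorem (helper7's library)
-/

set_option autoImplicit false
set_option linter.unusedSectionVars false

universe u

namespace Cfsg.Agent.Helper7.ZStar

open Cfsg Cfsg.Agent.Helper15 Cfsg.Agent.Helper15.ZStarMin

theorem zstar_aux : ∀ n : ℕ, ∀ (G : Type u) [Group G] [Finite G], Nat.card G = n →
    ∀ x : G, orderOf x = 2 → IsIsolated x → InZStar 2 x := by
  intro n
  induction n using Nat.strong_induction_on with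
  | _ n ih =>
    intro G _ _ hn x hx hiso
    haveI : Fact (Nat.Prime 2) := ⟨Nat.prime_two⟩
    by_contra hnz
    apply MinCE_false (x := x)
    refine ⟨hx, hiso, hnz, ?_, ?_⟩
    · intro H hxH hH
      have hlt : Nat.card H < n := by
        rw [← hn]
        by_contra hcon
        push_neg at hcon
        exact hH (Subgroup.eq_top_of_le_card H hcon)
      exact ih (Nat.card H) hlt H rfl ⟨x, hxH⟩ (by rw [Subgroup.orderOf_mk]; exact hx)
        (isIsolated_subtype hiso H hxH)
    · intro N hN hNne
      have hlt : Nat.card (G ⧸ N) < n := by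
        rw [← hn, Subgroup.card_eq_card_quotient_mul_card_subgroup N]
        have h1 : 1 < Nat.card N := (Subgroup.one_lt_card_iff_ne_bot N).2 hNne
        have h2 : 0 < Nat.card (G ⧸ N) := Nat.card_pos
        nlinarith
      by_cases hxN : x ∈ N
      · intro g
        have h1 : (QuotientGroup.mk x : G ⧸ N) = 1 := (QuotientGroup.eq_one_iff x).2 hxN
        rw [h1, mul_one, mul_inv_cancel, inv_one, mul_one]
        exact one_mem _
      · have hord : orderOf (QuotientGroup.mk x : G ⧸ N) = 2 := by
          apply orderOf_eq_prime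
          · rw [← QuotientGroup.mk_pow, ← hx, pow_orderOf_eq_one]
            rfl
          · intro h1
            exact hxN ((QuotientGroup.eq_one_iff x).1 h1)
        exact ih _ hlt (G ⧸ N) rfl (QuotientGroup.mk x) hord
          ((Cfsg.Agent.S2970.result (p := 2) x ⟨1, by rw [hx]; norm_num⟩ hiso).1 N)

/-- **Glauberman's `Z*`-theorem**: an isolated involution is central modulo the largest normal
subgroup of odd order. -/
theorem zstar {G : Type u} [Group G] [Finite G] (x : G) (hx : orderOf x = 2)
    (hiso : IsIsolated x) : InZStar 2 x :=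
  zstar_aux _ G rfl x hx hiso

/-- the `Z*`-theorem, with an explicit normal subgroup of odd order -/
theorem zstar_exists {G : Type u} [Group G] [Finite G] (x : G) (hx : orderOf x = 2)
    (hiso : IsIsolated x) :
    ∃ N : Subgroup G, N.Normal ∧ Odd (Nat.card N) ∧ ∀ g : G, x * g * x⁻¹ * g⁻¹ ∈ N := by
  refine ⟨Cfsg.pPrimeCore 2 G, Cfsg.Agent.Helper22.pPrimeCore_normal 2,
    Nat.coprime_two_right.1 (Cfsg.Agent.Helper22.card_pPrimeCore_coprime 2), ?_⟩
  intro g
  have h1 := zstar x hx hiso g
  have h2 := Subgroup.inv_mem _ h1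
  have e : (g * x * g⁻¹ * x⁻¹)⁻¹ = x * g * x⁻¹ * g⁻¹ := by group
  rwa [e] at h2

end Cfsg.Agent.Helper7.ZStar
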