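import Mathlib
import Cfsg.Agent.Lib.Helper7.Glaub4
import Cfsg.Agent.Lib.Helper7.ZStar3

/-!
# A theorem of Glauberman type: the minimal case and the theorem (helper7's library)

`g1`: if `K ⊴ Γ`, `B` is a perfect group generated by `2`-elements which centralizes a Sylow
`2`-subgroup of `K`, then `[K, B] ≤ O(K)`.
-/

set_option autoImplicit false

namespace Cfsg.Agent.Helper7.Glaub

open Subgroup Cfsg.Agent.Helper15
open scoped commutatorElement

universe u

variable {Γ : Type u} [Group Γ]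

theorem map_conj_inf_centralizer_singleton (K : Subgroup Γ) (s g : Γ) (hg : g ∈ K) :
    (K ⊓ centralizer {s}).map (MulAut.conj g).toMonoidHom = K ⊓ centralizer {g * s * g⁻¹} := by
  ext x
  rw [mem_map_conj_iff, Subgroup.mem_inf, Subgroup.mem_inf,
    Subgroup.mem_centralizer_singleton_iff, Subgroup.mem_centralizer_singleton_iff]
  constructor
  · rintro ⟨h1, h2⟩
    refine ⟨?_, ?_⟩
    · have h3 := K.mul_mem (K.mul_mem hg h1) (K.inv_mem hg)
      have e : g * (g⁻¹ * x * g) * g⁻¹ = x := by group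
      rwa [e] at h3
    · calc x * (g * s * g⁻¹) = g * ((g⁻¹ * x * g) * s) * g⁻¹ := by group
        _ = g * (s * (g⁻¹ * x * g)) * g⁻¹ := by rw [h2]
        _ = g * s * g⁻¹ * x := by group
  · rintro ⟨h1, h2⟩
    refine ⟨K.mul_mem (K.mul_mem (K.inv_mem hg) h1) hg, ?_⟩
    calc g⁻¹ * x * g * s = g⁻¹ * (x * (g * s * g⁻¹)) * g := by group
      _ = g⁻¹ * ((g * s * g⁻¹) * x) * g := by rw [h2]
      _ = s * (g⁻¹ * x * g) := by group

/-- the extremal case of the fusion lemma -/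
theorem Setup.c3ext [Finite Γ] {K B S : Subgroup Γ} {u : Γ} (h : Setup K B S u)
    (k s : Γ) (hkK : k ∈ K) (hsS : s ∈ S) (hk : k * u * k⁻¹ = u * s)
    (hext : IsSylowIn 2 (S ⊓ centralizer {s}) (K ⊓ centralizer {s})) : s = 1 := by
  have : Fact (Nat.Prime 2) := ⟨Nat.prime_two⟩
  by_contra hs1
  have hsu : s * u = u * s := h.comm_of_mem hsS
  have huu := h.uu
  have hss : s * s = 1 := by
    have h1 : (u * s) * (u * s) = 1 := by
      rw [← hk]
      calc k * u * k⁻¹ * (k * u * k⁻¹) = k * (u * u) * k⁻¹ := by group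
        _ = 1 := by rw [huu]; group
    calc s * s = (u * u) * (s * s) := by rw [huu, one_mul]
      _ = u * (u * s) * s := by group
      _ = u * (s * u) * s := by rw [hsu]
      _ = (u * s) * (u * s) := by group
      _ = 1 := h1
  obtain ⟨P, hP⟩ : ∃ P : Subgroup Γ, P = S ⊓ centralizer {s} := ⟨_, rfl⟩
  rw [← hP] at hext
  have hsP : s ∈ P := by
    rw [hP]; exact ⟨hsS, Subgroup.mem_centralizer_singleton_iff.mpr rfl⟩
  have hPS : P ≤ S := by rw [hP]; exact inf_le_left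
  have hPp : IsPGroup 2 P := h.syl.isPGroup.to_le hPS
  have hPs : ∀ a ∈ P, a * s = s * a := by
    intro a ha
    rw [hP] at ha
    exact Subgroup.mem_centralizer_singleton_iff.mp ha.2
  -- the conjugate of `S` by `k`
  obtain ⟨S', hS'⟩ : ∃ S' : Subgroup Γ, S' = S.map (MulAut.conj k).toMonoidHom := ⟨_, rfl⟩
  have hS'syl : IsSylowIn 2 S' K := by rw [hS']; exact h.syl.map_conj_of_mem hkK
  have hS'w : S' ≤ centralizer {u * s} := by
    intro x hx
    rw [hS', mem_map_conj_iff] at hx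
    rw [Subgroup.mem_centralizer_singleton_iff, ← hk]
    have h1 := h.comm_of_mem hx
    calc x * (k * u * k⁻¹) = k * ((k⁻¹ * x * k) * u) * k⁻¹ := by group
      _ = k * (u * (k⁻¹ * x * k)) * k⁻¹ := by rw [h1]
      _ = k * u * k⁻¹ * x := by group
  have hS'syl' : IsSylowIn 2 S' (K ⊓ centralizer {u * s}) :=
    hS'syl.of_le (le_inf hS'syl.le hS'w) inf_le_left
  have hPw : P ≤ K ⊓ centralizer {u * s} := by
    intro a ha
    refine ⟨h.syl.le (hPS ha), ?_⟩
    show a ∈ centralizer {u * s}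
    rw [Subgroup.mem_centralizer_singleton_iff]
    have h1 := h.comm_of_mem (hPS ha)
    have h2 := hPs a ha
    calc a * (u * s) = (a * u) * s := by group
      _ = (u * a) * s := by rw [h1]
      _ = u * (a * s) := by group
      _ = u * (s * a) := by rw [h2]
      _ = u * s * a := by group
  obtain ⟨d, hd, hdP⟩ := IsSylowIn.exists_conj_le hS'syl' hPp hPw
  have hdK : d ∈ K := hd.1
  have hdw : d * (u * s) = u * s * d := Subgroup.mem_centralizer_singleton_iff.mp hd.2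
  have hgK : d⁻¹ * k ∈ K := K.mul_mem (K.inv_mem hdK) hkK
  have hgP : ∀ a ∈ (P : Set Γ), (d⁻¹ * k)⁻¹ * a * (d⁻¹ * k) ∈ S := by
    intro a ha
    have h1 : d * a * d⁻¹ ∈ S' := hdP ⟨a, ha, rfl⟩
    rw [hS', mem_map_conj_iff] at h1
    have e : (d⁻¹ * k)⁻¹ * a * (d⁻¹ * k) = k⁻¹ * (d * a * d⁻¹) * k := by group
    rw [e]; exact h1
  have hgu : (d⁻¹ * k) * u * (d⁻¹ * k)⁻¹ = u * s := by
    have e : (d⁻¹ * k) * u * (d⁻¹ * k)⁻¹ = d⁻¹ * (k * u * k⁻¹) * d := by group
    rw [e, hk]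
    calc d⁻¹ * (u * s) * d = d⁻¹ * (u * s * d) := by group
      _ = d⁻¹ * (d * (u * s)) := by rw [hdw]
      _ = u * s := by group
  obtain ⟨c, m, hcK, hcP, hmK, hmu, hgcm⟩ :=
    h.star (P : Set Γ) (fun a ha => hPS ha) ⟨s, hsP, hs1⟩ (d⁻¹ * k) hgK hgP
  have hcu : c * u * c⁻¹ = u * s := by
    rw [← hgu, hgcm]
    calc c * u * c⁻¹ = c * (u * m) * m⁻¹ * c⁻¹ := by group
      _ = c * (m * u) * m⁻¹ * c⁻¹ := by rw [hmu]
      _ = c * m * u * (c * m)⁻¹ := by group
  -- `2`-elements of `K` centralizing `P` lie in `P`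
  have hclaim : ∀ x ∈ K, (∀ a ∈ P, x * a = a * x) → (∃ n : ℕ, orderOf x = 2 ^ n) → x ∈ P := by
    rintro x hxK hxP ⟨n, hn⟩
    have hZ : IsPGroup 2 (zpowers x) := by
      apply IsPGroup.of_card (n := n)
      rw [Nat.card_zpowers, hn]
    have hZP : zpowers x ≤ normalizer (P : Set Γ) := by
      refine le_trans ?_ (Subgroup.centralizer_le_normalizer _)
      rw [Subgroup.zpowers_le, Subgroup.mem_centralizer_iff]
      intro a ha
      exact (hxP a ha).symm
    have h1 : IsPGroup 2 (zpowers x ⊔ P : Subgroup Γ) :=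
      IsPGroup.to_sup_of_normal_right' hZ hPp hZP
    have h2 : zpowers x ⊔ P ≤ K ⊓ centralizer {s} := by
      apply sup_le
      · rw [Subgroup.zpowers_le]
        exact ⟨hxK, Subgroup.mem_centralizer_singleton_iff.mpr (hxP s hsP)⟩
      · exact hext.le
    have h3 := hext.eq_of_le h1 le_sup_right h2
    have h4 : x ∈ zpowers x ⊔ P := (le_sup_left : zpowers x ≤ zpowers x ⊔ P) (Subgroup.mem_zpowers x)
    rwa [h3] at h4
  obtain ⟨m', hm', a, ha⟩ := Cfsg.Agent.Helper7.exists_pow_pElement 2 c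
  have hcomm' : ∀ b ∈ P, c ^ m' * b = b * c ^ m' := fun b hb =>
    (Commute.pow_left (show Commute c b from hcP b hb) m').eq
  have hd'P : c ^ m' ∈ P := hclaim (c ^ m') (K.pow_mem hcK m') hcomm' ⟨a, ha⟩
  have hd'u : c ^ m' * u = u * c ^ m' := h.comm_of_mem (hPS hd'P)
  have h1 : c * u = u * s * c := by
    calc c * u = (c * u * c⁻¹) * c := by group
      _ = u * s * c := by rw [hcu]
  have huc : u * c * u⁻¹ = s * c := by
    rw [h.uinv]
    calc u * c * u = u * (c * u) := by group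
      _ = u * (u * s * c) := by rw [h1]
      _ = (u * u) * s * c := by group
      _ = s * c := by rw [huu, one_mul]
  obtain ⟨r, hr⟩ := Nat.coprime_two_right.mp hm'
  have hsm : s ^ m' = s := by
    rw [hr, pow_succ, pow_mul, pow_two, hss, one_pow, one_mul]
  have hconj : u * c ^ m' * u⁻¹ = s * c ^ m' := by
    rw [← conj_pow, huc, (show Commute s c from (hcP s hsP).symm).mul_pow, hsm]
  have hconj2 : u * c ^ m' * u⁻¹ = c ^ m' := by
    rw [← hd'u]; group
  apply hs1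
  have h5 : s * c ^ m' = 1 * c ^ m' := by rw [one_mul, ← hconj, hconj2]
  exact mul_right_cancel h5

/-- the fusion lemma: `u` is not fused to `u s` for `1 ≠ s ∈ S` -/
theorem Setup.c3 [Finite Γ] {K B S : Subgroup Γ} {u : Γ} (h : Setup K B S u)
    (k s : Γ) (hkK : k ∈ K) (hsS : s ∈ S) (hk : k * u * k⁻¹ = u * s) : s = 1 := by
  have : Fact (Nat.Prime 2) := ⟨Nat.prime_two⟩
  by_contra hs1
  obtain ⟨P₀, hP₀⟩ : ∃ P₀ : Subgroup Γ, P₀ = S ⊓ centralizer {s} := ⟨_, rfl⟩
  have hP₀p : IsPGroup 2 P₀ := by rw [hP₀]; exact h.syl.isPGroup.to_le inf_le_left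
  have hP₀K : P₀ ≤ K ⊓ centralizer {s} := by rw [hP₀]; exact inf_le_inf_right _ h.syl.le
  obtain ⟨P₁, hP₀P₁, hP₁⟩ := exists_isSylowIn_ge hP₀p hP₀K
  obtain ⟨g₀, hg₀K, hg₀⟩ := IsSylowIn.exists_conj_le h.syl hP₁.isPGroup (hP₁.le.trans inf_le_left)
  have hsP₀ : s ∈ P₀ := by
    rw [hP₀]; exact ⟨hsS, Subgroup.mem_centralizer_singleton_iff.mpr rfl⟩
  have hs'S0 : g₀ * s * g₀⁻¹ ∈ S := hg₀ ⟨s, hP₀P₁ hsP₀, rfl⟩
  obtain ⟨c, m, hcK, hcs, hmK, hmu, hgcm⟩ := h.star {s}
    (by intro a ha; rw [Set.mem_singleton_iff] at ha; rw [ha]; exact hsS)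
    ⟨s, Set.mem_singleton s, hs1⟩ g₀⁻¹ (K.inv_mem hg₀K) (by
      intro a ha
      rw [Set.mem_singleton_iff] at ha
      rw [ha, inv_inv]
      exact hs'S0)
  have hcs' : c * s = s * c := hcs s (Set.mem_singleton s)
  have hg₀eq : g₀ = m⁻¹ * c⁻¹ := by
    have e : g₀ = (g₀⁻¹)⁻¹ := (inv_inv g₀).symm
    rw [e, hgcm]; group
  obtain ⟨s', hs'⟩ : ∃ s' : Γ, s' = g₀ * s * g₀⁻¹ := ⟨_, rfl⟩
  have hs'm : s' = m⁻¹ * s * m := by
    rw [hs', hg₀eq]
    calc m⁻¹ * c⁻¹ * s * (m⁻¹ * c⁻¹)⁻¹ = m⁻¹ * (c⁻¹ * (s * c)) * m := by group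
      _ = m⁻¹ * (c⁻¹ * (c * s)) * m := by rw [hcs']
      _ = m⁻¹ * s * m := by group
  have hs'S : s' ∈ S := by rw [hs']; exact hs'S0
  have hmu' : m⁻¹ * u = u * m⁻¹ := by
    calc m⁻¹ * u = m⁻¹ * (u * m) * m⁻¹ := by group
      _ = m⁻¹ * (m * u) * m⁻¹ := by rw [hmu]
      _ = u * m⁻¹ := by group
  have hk' : (m⁻¹ * k) * u * (m⁻¹ * k)⁻¹ = u * s' := by
    calc (m⁻¹ * k) * u * (m⁻¹ * k)⁻¹ = m⁻¹ * (k * u * k⁻¹) * m := by group
      _ = m⁻¹ * (u * s) * m := by rw [hk]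
      _ = (m⁻¹ * u) * s * m := by group
      _ = (u * m⁻¹) * s * m := by rw [hmu']
      _ = u * (m⁻¹ * s * m) := by group
      _ = u * s' := by rw [hs'm]
  have hsyl' : IsSylowIn 2 (P₁.map (MulAut.conj g₀).toMonoidHom) (K ⊓ centralizer {s'}) := by
    have h1 := hP₁.map_conj g₀
    rw [map_conj_inf_centralizer_singleton K s g₀ hg₀K, ← hs'] at h1
    exact h1
  have hle : P₁.map (MulAut.conj g₀).toMonoidHom ≤ S ⊓ centralizer {s'} :=
    le_inf hg₀ (hsyl'.le.trans inf_le_right)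
  have heq := hsyl'.eq_of_le (h.syl.isPGroup.to_le inf_le_left) hle
    (inf_le_inf_right _ h.syl.le)
  have hext : IsSylowIn 2 (S ⊓ centralizer {s'}) (K ⊓ centralizer {s'}) := by
    rw [heq]; exact hsyl'
  have h1 := h.c3ext (m⁻¹ * k) s' (K.mul_mem (K.inv_mem hmK) hkK) hs'S hk' hext
  apply hs1
  have e : s = m * s' * m⁻¹ := by rw [hs'm]; group
  rw [e, h1]; group

/-- `u` is isolated in `K ⟨u⟩` -/
theorem Setup.isolated [Finite Γ] {K B S : Subgroup Γ} {u : Γ} (h : Setup K B S u)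
    (γ : Γ) (hγ : γ ∈ K ⊔ zpowers u) (hcomm : u * (γ * u * γ⁻¹) = (γ * u * γ⁻¹) * u) :
    γ * u * γ⁻¹ = u := by
  have : Fact (Nat.Prime 2) := ⟨Nat.prime_two⟩
  haveI := h.normal
  have huu := h.uu
  obtain ⟨k, hkK, y, hy, rfl⟩ := Subgroup.mem_sup_of_normal_left.mp hγ
  have hyu : y * u = u * y := by
    obtain ⟨n, rfl⟩ := Subgroup.mem_zpowers_iff.mp hy
    exact (Commute.zpow_left (Commute.refl u) n).eq
  have hw : (k * y) * u * (k * y)⁻¹ = k * u * k⁻¹ := by
    calc (k * y) * u * (k * y)⁻¹ = k * (y * u) * y⁻¹ * k⁻¹ := by group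
      _ = k * (u * y) * y⁻¹ * k⁻¹ := by rw [hyu]
      _ = k * u * k⁻¹ := by group
  rw [hw] at hcomm ⊢
  have hww : (k * u * k⁻¹) * (k * u * k⁻¹) = 1 := by
    calc (k * u * k⁻¹) * (k * u * k⁻¹) = k * (u * u) * k⁻¹ := by group
      _ = 1 := by rw [huu]; group
  obtain ⟨s₀, hs₀⟩ : ∃ s₀ : Γ, s₀ = u * (k * u * k⁻¹) := ⟨_, rfl⟩
  have hs₀K : s₀ ∈ K := by
    have e : s₀ = (u * k * u⁻¹) * k⁻¹ := by rw [hs₀, h.uinv]; group
    rw [e]
    exact K.mul_mem (h.normal.conj_mem k hkK u) (K.inv_mem hkK)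
  have hs₀u : s₀ * u = u * s₀ := by
    rw [hs₀]
    calc u * (k * u * k⁻¹) * u = u * ((k * u * k⁻¹) * u) := by group
      _ = u * (u * (k * u * k⁻¹)) := by rw [← hcomm]
  have hs₀2 : s₀ * s₀ = 1 := by
    rw [hs₀]
    calc u * (k * u * k⁻¹) * (u * (k * u * k⁻¹))
        = u * ((k * u * k⁻¹) * u) * (k * u * k⁻¹) := by group
      _ = u * (u * (k * u * k⁻¹)) * (k * u * k⁻¹) := by rw [← hcomm]
      _ = (u * u) * ((k * u * k⁻¹) * (k * u * k⁻¹)) := by group
      _ = 1 := by rw [huu, hww, one_mul]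
  have hZ : IsPGroup 2 (zpowers s₀) := by
    have ho : orderOf s₀ ∣ 2 ^ 1 := by
      apply orderOf_dvd_of_pow_eq_one
      rw [pow_one, pow_two]; exact hs₀2
    obtain ⟨j, -, hj⟩ := (Nat.dvd_prime_pow Nat.prime_two).mp ho
    apply IsPGroup.of_card (n := j)
    rw [Nat.card_zpowers, hj]
  have hSu : S ≤ K ⊓ centralizer {u} :=
    le_inf h.syl.le (fun a ha => Subgroup.mem_centralizer_singleton_iff.mpr (h.comm_of_mem ha))
  have hsyl := h.syl.of_le hSu inf_le_left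
  have hZle : zpowers s₀ ≤ K ⊓ centralizer {u} := by
    rw [Subgroup.zpowers_le]
    exact ⟨hs₀K, Subgroup.mem_centralizer_singleton_iff.mpr hs₀u⟩
  obtain ⟨d, hd, hdZ⟩ := IsSylowIn.exists_conj_le hsyl hZ hZle
  have hsS : d * s₀ * d⁻¹ ∈ S := hdZ ⟨s₀, Subgroup.mem_zpowers s₀, rfl⟩
  have hdu : d * u = u * d := Subgroup.mem_centralizer_singleton_iff.mp hd.2
  have e1 : k * u * k⁻¹ = u * s₀ := by
    calc k * u * k⁻¹ = (u * u) * (k * u * k⁻¹) := by rw [huu, one_mul]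
      _ = u * (u * (k * u * k⁻¹)) := by group
      _ = u * s₀ := by rw [hs₀]
  have hk' : (d * k) * u * (d * k)⁻¹ = u * (d * s₀ * d⁻¹) := by
    calc (d * k) * u * (d * k)⁻¹ = d * (k * u * k⁻¹) * d⁻¹ := by group
      _ = d * (u * s₀) * d⁻¹ := by rw [e1]
      _ = (d * u) * s₀ * d⁻¹ := by group
      _ = (u * d) * s₀ * d⁻¹ := by rw [hdu]
      _ = u * (d * s₀ * d⁻¹) := by group
  have h1 := h.c3 (d * k) (d * s₀ * d⁻¹) (K.mul_mem hd.1 hkK) hsS hk'
  have hs₀1 : s₀ = 1 := by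
    have e : s₀ = d⁻¹ * (d * s₀ * d⁻¹) * d := by group
    rw [e, h1]; group
  rw [e1, hs₀1, mul_one]

/-- in the minimal case the involution `u` centralizes `K` -/
theorem Setup.u_mem_centralizer [Finite Γ] {K B S : Subgroup Γ} {u : Γ} (h : Setup K B S u) :
    u ∈ centralizer (K : Set Γ) := by
  haveI := h.normal
  obtain ⟨L, hL⟩ : ∃ L : Subgroup Γ, L = K ⊔ zpowers u := ⟨_, rfl⟩
  have huL : u ∈ L := by rw [hL]; exact le_sup_right (a := K) (Subgroup.mem_zpowers u)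
  have hKL : K ≤ L := by rw [hL]; exact le_sup_left
  have hord : orderOf (⟨u, huL⟩ : ↥L) = 2 := by rw [Subgroup.orderOf_mk]; exact h.uOrd
  have hiso : Cfsg.IsIsolated (⟨u, huL⟩ : ↥L) := by
    intro g hg
    apply Subtype.ext
    have hc : u * ((g : Γ) * u * (g : Γ)⁻¹) = ((g : Γ) * u * (g : Γ)⁻¹) * u :=
      congrArg Subtype.val hg.eq
    have hgL : (g : Γ) ∈ K ⊔ zpowers u := by rw [← hL]; exact g.2
    exact h.isolated (g : Γ) hgL hc
  obtain ⟨N, hNn, hNodd, hN⟩ := Cfsg.Agent.Helper7.ZStar.zstar_exists _ hord hiso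
  haveI := hNn
  obtain ⟨M, hM⟩ : ∃ M : Subgroup Γ, M = N.map L.subtype ⊓ K := ⟨_, rfl⟩
  have hMK : M ≤ K := by rw [hM]; exact inf_le_right
  have hKM : K ≤ normalizer (M : Set Γ) := by
    rw [hM]
    refine le_trans ?_ Subgroup.inf_normalizer_le_normalizer_inf
    apply le_inf
    · exact hKL.trans (le_normalizer_map_subtype' L N)
    · exact Subgroup.le_normalizer
  have hMc : (Nat.card M).Coprime 2 := by
    have h1 : Nat.card M ∣ Nat.card (N.map L.subtype) := by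
      rw [hM]; exact Subgroup.card_dvd_of_le inf_le_left
    rw [Subgroup.card_subtype] at h1
    exact Nat.Coprime.coprime_dvd_left h1 (Nat.coprime_two_right.mpr hNodd)
  have hMbot := h.noOdd M hMK hKM hMc
  rw [Subgroup.mem_centralizer_iff]
  intro k hk
  have h1 := hN ⟨k, hKL hk⟩
  have h2 : u * k * u⁻¹ * k⁻¹ ∈ M := by
    rw [hM]
    refine ⟨⟨_, h1, rfl⟩, ?_⟩
    exact K.mul_mem (h.normal.conj_mem k hk u) (K.inv_mem hk)
  rw [hMbot, Subgroup.mem_bot] at h2
  calc k * u = (u * k * u⁻¹ * k⁻¹)⁻¹ * (u * k) := by group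
    _ = u * k := by rw [h2, inv_one, one_mul]

theorem card_map_of_inf_ker_eq_bot {Γ' : Type*} [Group Γ'] (f : Γ →* Γ') (H : Subgroup Γ)
    (hH : f.ker ⊓ H = ⊥) : Nat.card (H.map f) = Nat.card H := by
  rw [← Subgroup.relIndex_ker, ← Subgroup.inf_relIndex_right, hH, Subgroup.relIndex_bot_left]

/-- Case (c): `O(K) = 1` and `O_2(K) = 1`. -/
theorem g1_case_c [Finite Γ] (K B S : Subgroup Γ) [hKn : K.Normal]
    (IH : G1Stmt.{u} (Nat.card K)) (hoc : oc K = ⊥) (hQ : Cfsg.pCoreOf 2 K = ⊥) (hB : Good B)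
    (hS : IsSylowIn 2 S K) (hSB : B ≤ centralizer (S : Set Γ)) : ⁅K, B⁆ ≤ oc K := by
  have : Fact (Nat.Prime 2) := ⟨Nat.prime_two⟩
  have noOdd : ∀ N : Subgroup Γ, N ≤ K → K ≤ normalizer (N : Set Γ) → (Nat.card N).Coprime 2 →
      N = ⊥ := by
    intro N h1 h2 h3
    have h4 := le_oc h1 h2 h3
    rwa [hoc, le_bot_iff] at h4
  have noTwo : ∀ N : Subgroup Γ, N ≤ K → K ≤ normalizer (N : Set Γ) → IsPGroup 2 N → N = ⊥ := by
    intro N h1 h2 h3
    have h4 := Cfsg.Agent.Helper14.le_pCoreOf h1 h2 h3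
    rwa [hQ, le_bot_iff] at h4
  obtain ⟨C, hC⟩ : ∃ C : Subgroup Γ, C = centralizer (K : Set Γ) := ⟨_, rfl⟩
  haveI hCn : C.Normal := by rw [hC]; infer_instance
  -- trivial centre
  have hCK : C ⊓ K = ⊥ := by
    rw [eq_bot_iff]
    intro z hz
    rw [Subgroup.mem_bot]
    have hzC : z ∈ C := hz.1
    have hzK : z ∈ K := hz.2
    have hinv : ∀ n : ℕ, K ≤ normalizer ((zpowers (z ^ n) : Subgroup Γ) : Set Γ) := by
      intro n
      refine le_trans ?_ (Subgroup.centralizer_le_normalizer _)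
      intro k hk
      rw [Subgroup.mem_centralizer_iff]
      intro y hy
      have hyC : y ∈ C := by
        have h1 : zpowers (z ^ n) ≤ C := by rw [Subgroup.zpowers_le]; exact C.pow_mem hzC n
        exact h1 hy
      rw [hC] at hyC
      exact (Subgroup.mem_centralizer_iff.mp hyC k hk).symm
    obtain ⟨m, hm, a, ha⟩ := Cfsg.Agent.Helper7.exists_pow_pElement 2 z
    have hle : zpowers (z ^ m) ≤ K := by rw [Subgroup.zpowers_le]; exact K.pow_mem hzK m
    have hp : IsPGroup 2 (zpowers (z ^ m)) := by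
      apply IsPGroup.of_card (n := a); rw [Nat.card_zpowers, ha]
    have h1 := noTwo _ hle (hinv m) hp
    have h2 : z ^ m = 1 := Subgroup.zpowers_eq_bot.mp h1
    have hle' : zpowers z ≤ K := by rw [Subgroup.zpowers_le]; exact hzK
    have hinv1 : K ≤ normalizer ((zpowers z : Subgroup Γ) : Set Γ) := by
      have h3 := hinv 1; rwa [pow_one] at h3
    have hc : (Nat.card (zpowers z)).Coprime 2 := by
      rw [Nat.card_zpowers]
      exact Nat.Coprime.coprime_dvd_left (orderOf_dvd_of_pow_eq_one h2) hm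
    exact Subgroup.zpowers_eq_bot.mp (noOdd _ hle' hinv1 hc)
  obtain ⟨π, hπ⟩ : ∃ π : Γ →* Γ ⧸ C, π = QuotientGroup.mk' C := ⟨_, rfl⟩
  have hker : π.ker = C := by rw [hπ]; exact QuotientGroup.ker_mk' C
  have hsurj : Function.Surjective π := by rw [hπ]; exact QuotientGroup.mk'_surjective C
  by_cases hBbar : B.map π = ⊥
  · have hBC : B ≤ C := by
      rw [← hker, ← Subgroup.map_eq_bot_iff]
      exact hBbar
    have h0 : ⁅K, B⁆ = ⊥ := by
      rw [Subgroup.commutator_comm, Subgroup.commutator_eq_bot_iff_le_centralizer, ← hC]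
      exact hBC
    rw [h0]; exact bot_le
  · exfalso
    obtain ⟨ub, hubB, hubord⟩ := (hB.map π).exists_involution hBbar
    obtain ⟨b, hbB, rfl⟩ := hubB
    have hinjK : π.ker ⊓ K = ⊥ := by rw [hker]; exact hCK
    have hcardK : Nat.card (K.map π) = Nat.card K := card_map_of_inf_ker_eq_bot π K hinjK
    have hinjS : π.ker ⊓ S = ⊥ := by
      rw [eq_bot_iff, ← hinjK]; exact inf_le_inf_left _ hS.le
    have hcardS : Nat.card (S.map π) = Nat.card S := card_map_of_inf_ker_eq_bot π S hinjS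
    have hsylbar : IsSylowIn 2 (S.map π) (K.map π) := by
      apply isSylowIn_of_card (Subgroup.map_mono hS.le)
      rw [hcardS, hcardK]; exact hS.card_eq
    have hpull : ∀ Nb : Subgroup (Γ ⧸ C), Nb ≤ K.map π →
        K.map π ≤ normalizer (Nb : Set (Γ ⧸ C)) →
        (K ⊓ Nb.comap π ≤ K ∧ K ≤ normalizer ((K ⊓ Nb.comap π : Subgroup Γ) : Set Γ) ∧
          Nat.card (K ⊓ Nb.comap π : Subgroup Γ) ∣ Nat.card Nb ∧
          (K ⊓ Nb.comap π = ⊥ → Nb = ⊥)) := by
      intro Nb hNbK hKNb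
      refine ⟨inf_le_left, ?_, ?_, ?_⟩
      · refine le_trans ?_ Subgroup.inf_normalizer_le_normalizer_inf
        apply le_inf Subgroup.le_normalizer
        refine le_trans ?_ (Subgroup.le_normalizer_comap π)
        intro k hk
        rw [Subgroup.mem_comap]
        exact hKNb (Subgroup.mem_map_of_mem π hk)
      · have h1 : Nat.card ((K ⊓ Nb.comap π : Subgroup Γ).map π) =
            Nat.card (K ⊓ Nb.comap π : Subgroup Γ) := by
          apply card_map_of_inf_ker_eq_bot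
          rw [eq_bot_iff, ← hinjK]
          exact inf_le_inf_left _ inf_le_left
        rw [← h1]
        apply Subgroup.card_dvd_of_le
        rw [Subgroup.map_le_iff_le_comap]
        exact inf_le_right
      · intro h0
        rw [eq_bot_iff]
        intro x hx
        obtain ⟨k, hk, rfl⟩ := hNbK hx
        have h1 : k ∈ K ⊓ Nb.comap π := ⟨hk, hx⟩
        rw [h0, Subgroup.mem_bot] at h1
        rw [h1, map_one]; exact Subgroup.one_mem _
    have hsetup : Setup (K.map π) (B.map π) (S.map π) (π b) := by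
      refine ⟨hKn.map π hsurj, hB.map π, hsylbar, map_le_centralizer_map π hSB, ?_, ?_, ?_,
        Subgroup.mem_map_of_mem π hbB, hubord⟩
      · rw [hcardK]; exact IH
      · intro Nb h1 h2 h3
        obtain ⟨p1, p2, p3, p4⟩ := hpull Nb h1 h2
        exact p4 (noOdd _ p1 p2 (Nat.Coprime.coprime_dvd_left p3 h3))
      · intro Nb h1 h2 h3
        obtain ⟨p1, p2, p3, p4⟩ := hpull Nb h1 h2
        apply p4
        apply noTwo _ p1 p2
        obtain ⟨n, hn⟩ := IsPGroup.iff_card.mp h3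
        rw [hn] at p3
        obtain ⟨j, -, hj⟩ := (Nat.dvd_prime_pow Nat.prime_two).mp p3
        exact IsPGroup.of_card hj
    have hcent := hsetup.u_mem_centralizer
    have hbC : b ∈ C := by
      rw [hC, Subgroup.mem_centralizer_iff]
      intro k hk
      have h1 := Subgroup.mem_centralizer_iff.mp hcent (π k) (Subgroup.mem_map_of_mem π hk)
      have h2 : k * b * k⁻¹ * b⁻¹ ∈ C ⊓ K := by
        refine ⟨?_, ?_⟩
        · show k * b * k⁻¹ * b⁻¹ ∈ C
          rw [← hker, MonoidHom.mem_ker, map_mul, map_mul, map_mul, map_inv, map_inv, h1]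
          group
        · have e : k * b * k⁻¹ * b⁻¹ = k * (b * k⁻¹ * b⁻¹) := by group
          rw [e]
          exact K.mul_mem hk (hKn.conj_mem _ (K.inv_mem hk) b)
      rw [hCK, Subgroup.mem_bot] at h2
      calc k * b = (k * b * k⁻¹ * b⁻¹) * (b * k) := by group
        _ = b * k := by rw [h2, one_mul]
    have hb1 : π b = 1 := by
      rw [← MonoidHom.mem_ker, hker]; exact hbC
    rw [hb1, orderOf_one] at hubord
    exact absurd hubord (by norm_num)

/-- **The theorem**: if `B` is a perfect group generated by `2`-elements which centralizes a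
Sylow `2`-subgroup of the normal subgroup `K`, then `[K, B] ≤ O(K)`. -/
theorem g1 : ∀ n : ℕ, G1Stmt.{u} n := by
  intro n
  induction n with
  | zero =>
    intro Γ _ _ K B S _ hc
    exact absurd hc (Nat.not_lt_zero _)
  | succ n ih =>
    intro Γ _ _ K B S hKn hc hB hS hSB
    rcases Nat.lt_succ_iff_lt_or_eq.mp hc with hlt | heq
    · exact ih Γ K B S hKn hlt hB hS hSB
    · have ih' : G1Stmt.{u} (Nat.card K) := by rw [heq]; exact ih
      haveI := hKn
      by_cases hoc : oc K = ⊥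
      · by_cases hQ : Cfsg.pCoreOf 2 K = ⊥
        · exact g1_case_c K B S ih' hoc hQ hB hS hSB
        · exact g1_case_b K B S ih' hoc hQ hB hS hSB
      · exact g1_case_a K B S ih' hoc hB hS hSB

/-- the theorem, in relative form -/
theorem g1_rel [Finite Γ] (K B S : Subgroup Γ) (hBK : B ≤ normalizer (K : Set Γ)) (hB : Good B)
    (hS : IsSylowIn 2 S K) (hSB : B ≤ centralizer (S : Set Γ)) : ⁅K, B⁆ ≤ oc K :=
  (g1.{u} (Nat.card K + 1)).rel K B S hBK (Nat.lt_succ_self _) hB hS hSB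

end Cfsg.Agent.Helper7.Glaub
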