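import Mathlib
import Cfsg.Agent.Lib.Helper7.Glaub5
import Cfsg.Agent.Lib.Helper19.PGroupBasic

/-!
# `L`-balance for the prime `2`, the local-to-global step (helper7's library)

`G5Stmt n`: `K ⊴ Γ` of order `< n`, `T` a `2`-subgroup, `B` a perfect group generated by
`2`-elements centralizing `T`, with `[C_K(T), B] ≤ O(C_K(T))`; then `[K, B] ≤ O(K)`.
This file: generalities, the relative form and the case `O(K) ≠ 1`.
-/

set_option autoImplicit false

namespace Cfsg.Agent.Helper7.Glaub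

open Subgroup Cfsg.Agent.Helper15
open scoped commutatorElement

universe u

/-- the local-to-global statement for normal subgroups `K` of order less than `n` -/
def G5Stmt (n : ℕ) : Prop :=
  ∀ (Γ : Type u) [Group Γ] [Finite Γ] (K T B : Subgroup Γ), K.Normal → Nat.card K < n →
    IsPGroup 2 T → Good B → B ≤ centralizer (T : Set Γ) →
    ⁅K ⊓ centralizer (T : Set Γ), B⁆ ≤ oc (K ⊓ centralizer (T : Set Γ)) → ⁅K, B⁆ ≤ oc K

variable {Γ : Type u} [Group Γ]

theorem subgroupOf_oc_le [Finite Γ] {H M : Subgroup Γ} (hHM : H ≤ M) :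
    (oc H).subgroupOf M ≤ oc (H.subgroupOf M) := by
  apply le_oc
  · exact Subgroup.comap_mono (oc_le H)
  · have h1 : H.subgroupOf M ≤ (normalizer ((oc H : Subgroup Γ) : Set Γ)).comap M.subtype :=
      Subgroup.comap_mono (le_normalizer_oc H)
    exact h1.trans (Subgroup.le_normalizer_comap M.subtype)
  · rw [Nat.card_congr (Subgroup.subgroupOfEquivOfLe ((oc_le H).trans hHM)).toEquiv]
    exact card_oc_coprime H

theorem map_oc_le [Finite Γ] {Γ' : Type*} [Group Γ'] (f : Γ →* Γ') (H : Subgroup Γ) :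
    (oc H).map f ≤ oc (H.map f) := by
  apply le_oc (Subgroup.map_mono (oc_le H))
    ((Subgroup.map_mono (le_normalizer_oc H)).trans (Subgroup.le_normalizer_map f))
  exact Nat.Coprime.coprime_dvd_left (Subgroup.card_map_dvd (H := oc H) f) (card_oc_coprime H)

theorem map_inf_of_ker_le {Γ' : Type*} [Group Γ'] (f : Γ →* Γ') (K D : Subgroup Γ)
    (hK : f.ker ≤ K) : K.map f ⊓ D.map f = (K ⊓ D).map f := by
  apply le_antisymm _ (Subgroup.map_inf_le _ _ _)
  rintro y ⟨⟨k, hk, rfl⟩, ⟨d, hd, hdk⟩⟩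
  refine ⟨d, ⟨?_, hd⟩, hdk⟩
  have h1 : k⁻¹ * d ∈ f.ker := by
    rw [MonoidHom.mem_ker, map_mul, map_inv, hdk]; group
  have e : d = k * (k⁻¹ * d) := by group
  rw [e]; exact K.mul_mem hk (hK h1)

theorem map_inf_comap {Γ' : Type*} [Group Γ'] (f : Γ →* Γ') (K : Subgroup Γ) (X : Subgroup Γ') :
    (K ⊓ X.comap f).map f = K.map f ⊓ X := by
  ext y
  constructor
  · rintro ⟨x, ⟨hxK, hxX⟩, rfl⟩
    exact ⟨Subgroup.mem_map_of_mem f hxK, hxX⟩
  · rintro ⟨⟨k, hk, rfl⟩, hX⟩
    exact ⟨k, ⟨hk, hX⟩, rfl⟩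

theorem le_normalizer_of_commutator_le {D C : Subgroup Γ} (h : ⁅D, C⁆ ≤ C) :
    D ≤ normalizer (C : Set Γ) := by
  have key : ∀ d ∈ D, ∀ c ∈ C, d * c * d⁻¹ ∈ C := by
    intro d hd c hc
    have h1 : ⁅d, c⁆ ∈ C := h (Subgroup.commutator_mem_commutator hd hc)
    have e : d * c * d⁻¹ = ⁅d, c⁆ * c := by rw [commutatorElement_def]; group
    rw [e]; exact C.mul_mem h1 hc
  intro d hd
  rw [Subgroup.mem_normalizer_iff]
  intro c
  constructor
  · exact key d hd c
  · intro hc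
    have h1 := key d⁻¹ (D.inv_mem hd) _ hc
    have e : d⁻¹ * (d * c * d⁻¹) * d⁻¹⁻¹ = c := by group
    rwa [e] at h1

theorem commutator_le_of_le_normalizer {D C : Subgroup Γ} (h : D ≤ normalizer (C : Set Γ)) :
    ⁅C, D⁆ ≤ C := by
  rw [Subgroup.commutator_le]
  intro c hc d hd
  have h1 := (Subgroup.mem_normalizer_iff.mp (h hd) c⁻¹).mp (C.inv_mem hc)
  have e : ⁅c, d⁆ = c * (d * c⁻¹ * d⁻¹) := by rw [commutatorElement_def]; group
  rw [e]; exact C.mul_mem hc h1

/-- the relative form: `K` need only be normalized by `T` and `B` -/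
theorem G5Stmt.rel {n : ℕ} (h : G5Stmt.{u} n) [Finite Γ] (K T B : Subgroup Γ)
    (hTK : T ≤ normalizer (K : Set Γ)) (hBK : B ≤ normalizer (K : Set Γ))
    (hcard : Nat.card K < n) (hT : IsPGroup 2 T) (hB : Good B)
    (hBT : B ≤ centralizer (T : Set Γ))
    (hH : ⁅K ⊓ centralizer (T : Set Γ), B⁆ ≤ oc (K ⊓ centralizer (T : Set Γ))) :
    ⁅K, B⁆ ≤ oc K := by
  set M : Subgroup Γ := normalizer (K : Set Γ) with hM
  have hKM : K ≤ M := Subgroup.le_normalizer
  have hKn : (K.subgroupOf M).Normal := Subgroup.normal_in_normalizer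
  have hc : Nat.card (K.subgroupOf M) < n := by
    rw [Nat.card_congr (Subgroup.subgroupOfEquivOfLe hKM).toEquiv]
    exact hcard
  have hcent : B.subgroupOf M ≤ centralizer ((T.subgroupOf M : Subgroup M) : Set M) := by
    intro b hb
    rw [Subgroup.mem_centralizer_iff]
    intro t ht
    apply Subtype.ext
    exact Subgroup.mem_centralizer_iff.mp (hBT hb) t ht
  have hC'M : K ⊓ centralizer (T : Set Γ) ≤ M := inf_le_left.trans hKM
  have heq : K.subgroupOf M ⊓ centralizer ((T.subgroupOf M : Subgroup M) : Set M) =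
      (K ⊓ centralizer (T : Set Γ)).subgroupOf M := by
    ext x
    constructor
    · rintro ⟨h1, h2⟩
      have h1' : (x : Γ) ∈ K := h1
      have h2' : ∀ t ∈ (T.subgroupOf M : Subgroup M), t * x = x * t :=
        Subgroup.mem_centralizer_iff.mp h2
      show (x : Γ) ∈ K ⊓ centralizer (T : Set Γ)
      refine ⟨h1', ?_⟩
      show (x : Γ) ∈ centralizer (T : Set Γ)
      rw [Subgroup.mem_centralizer_iff]
      intro t ht
      exact congrArg Subtype.val (h2' ⟨t, hTK ht⟩ ht)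
    · intro hx
      have hx' : (x : Γ) ∈ K ⊓ centralizer (T : Set Γ) := hx
      refine ⟨hx'.1, ?_⟩
      show x ∈ centralizer ((T.subgroupOf M : Subgroup M) : Set M)
      rw [Subgroup.mem_centralizer_iff]
      intro t ht
      apply Subtype.ext
      exact Subgroup.mem_centralizer_iff.mp hx'.2 (t : Γ) ht
  have hH' : ⁅K.subgroupOf M ⊓ centralizer ((T.subgroupOf M : Subgroup M) : Set M),
      B.subgroupOf M⁆ ≤
      oc (K.subgroupOf M ⊓ centralizer ((T.subgroupOf M : Subgroup M) : Set M)) := by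
    rw [heq, commutator_subgroupOf' hC'M hBK]
    exact (Subgroup.comap_mono hH).trans (subgroupOf_oc_le hC'M)
  have h1 := h ↥M (K.subgroupOf M) (T.subgroupOf M) (B.subgroupOf M) hKn hc hT.comap_subtype
    (hB.subgroupOf hBK) hcent hH'
  rw [commutator_subgroupOf' hKM hBK] at h1
  have hKB : ⁅K, B⁆ ≤ M :=
    (Subgroup.commutator_mono hKM hBK).trans (Subgroup.commutator_le_self M)
  have h2 := Subgroup.map_mono (f := M.subtype) h1
  rw [Subgroup.map_subgroupOf_eq_of_le hKB] at h2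
  exact h2.trans (map_subtype_oc_subgroupOf_le hKM)

/-- Case (a): `O(K) ≠ 1`. -/
theorem g5_case_a [Finite Γ] (K T B : Subgroup Γ) [hKn : K.Normal]
    (IH : G5Stmt.{u} (Nat.card K)) (hne : oc K ≠ ⊥) (hT : IsPGroup 2 T) (hB : Good B)
    (hBT : B ≤ centralizer (T : Set Γ))
    (hH : ⁅K ⊓ centralizer (T : Set Γ), B⁆ ≤ oc (K ⊓ centralizer (T : Set Γ))) :
    ⁅K, B⁆ ≤ oc K := by
  have : Fact (Nat.Prime 2) := ⟨Nat.prime_two⟩
  haveI hNn : (oc K).Normal := oc_normal K
  have hKb : (K.map (QuotientGroup.mk' (oc K))).Normal :=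
    hKn.map _ (QuotientGroup.mk'_surjective _)
  have hcentb : centralizer ((T.map (QuotientGroup.mk' (oc K)) : Subgroup (Γ ⧸ oc K)) :
      Set (Γ ⧸ oc K)) = (centralizer (T : Set Γ)).map (QuotientGroup.mk' (oc K)) :=
    centralizer_map_mk'_eq hT (card_oc_coprime K)
  have hinf : K.map (QuotientGroup.mk' (oc K)) ⊓
      centralizer ((T.map (QuotientGroup.mk' (oc K)) : Subgroup (Γ ⧸ oc K)) : Set (Γ ⧸ oc K)) =
      (K ⊓ centralizer (T : Set Γ)).map (QuotientGroup.mk' (oc K)) := by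
    rw [hcentb]
    apply map_inf_of_ker_le
    rw [QuotientGroup.ker_mk']; exact oc_le K
  have hHb : ⁅K.map (QuotientGroup.mk' (oc K)) ⊓
      centralizer ((T.map (QuotientGroup.mk' (oc K)) : Subgroup (Γ ⧸ oc K)) : Set (Γ ⧸ oc K)),
      B.map (QuotientGroup.mk' (oc K))⁆ ≤ oc (K.map (QuotientGroup.mk' (oc K)) ⊓
      centralizer ((T.map (QuotientGroup.mk' (oc K)) : Subgroup (Γ ⧸ oc K)) :
        Set (Γ ⧸ oc K))) := by
    rw [hinf, ← Subgroup.map_commutator]
    exact (Subgroup.map_mono hH).trans (map_oc_le _ _)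
  have h1 := IH (Γ ⧸ oc K) (K.map (QuotientGroup.mk' (oc K))) (T.map (QuotientGroup.mk' (oc K)))
    (B.map (QuotientGroup.mk' (oc K))) hKb (card_map_mk'_lt (oc_le K) hne) (hT.map _) (hB.map _)
    (map_le_centralizer_map _ hBT) hHb
  rw [oc_map_mk'_oc K (oc K) rfl, ← Subgroup.map_commutator, le_bot_iff, Subgroup.map_eq_bot_iff,
    QuotientGroup.ker_mk'] at h1
  exact h1

/-- a nontrivial normal subgroup of a `p`-group contains a nontrivial central element -/
theorem exists_central_of_normal [Finite Γ] {p : ℕ} [Fact p.Prime] {Sh S : Subgroup Γ}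
    (hSh : IsPGroup p Sh) (hS : S ≤ Sh) (hnorm : Sh ≤ normalizer (S : Set Γ)) (hne : S ≠ ⊥) :
    ∃ z ∈ S, z ≠ 1 ∧ ∀ x ∈ Sh, x * z = z * x := by
  haveI : (S.subgroupOf Sh).Normal := (Subgroup.normal_subgroupOf_iff_le_normalizer hS).mpr hnorm
  have hne' : S.subgroupOf Sh ≠ ⊥ := by
    intro h0
    apply hne
    rw [eq_bot_iff]
    intro s hs
    have h1 : (⟨s, hS hs⟩ : ↥Sh) ∈ S.subgroupOf Sh := Subgroup.mem_subgroupOf.mpr hs
    rw [h0, Subgroup.mem_bot] at h1
    rw [Subgroup.mem_bot]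
    exact congrArg Subtype.val h1
  have h2 := Cfsg.Agent.Helper19.normal_inf_center_ne_bot hSh (S.subgroupOf Sh) hne'
  obtain ⟨a, ha⟩ := (Subgroup.ne_bot_iff_exists_ne_one).mp h2
  have haS : (a : ↥Sh) ∈ S.subgroupOf Sh := a.2.1
  have haZ : (a : ↥Sh) ∈ Subgroup.center ↥Sh := a.2.2
  refine ⟨((a : ↥Sh) : Γ), Subgroup.mem_subgroupOf.mp haS, ?_, ?_⟩
  · intro h0
    apply ha
    apply Subtype.ext
    apply Subtype.ext
    exact h0
  · intro x hx
    have h3 := Subgroup.mem_center_iff.mp haZ ⟨x, hx⟩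
    exact congrArg Subtype.val h3

end Cfsg.Agent.Helper7.Glaub
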