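import Mathlib
import Cfsg.Agent.Lib.Helper7.Glaub6

/-!
# `L`-balance for the prime `2`, the local-to-global step: the induction (helper7's library)
-/

set_option autoImplicit false

namespace Cfsg.Agent.Helper7.Glaub

open Subgroup Cfsg.Agent.Helper15
open scoped commutatorElement

universe u

variable {Γ : Type u} [Group Γ]

/-- the reduced configuration: `O(K) = 1` and `B` centralizes a Sylow `2`-subgroup of `C_K(T)` -/
structure Core (K T B R : Subgroup Γ) : Prop where
  normal : K.Normal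
  hoc : oc K = ⊥
  hT : IsPGroup 2 T
  good : Good B
  hBT : B ≤ centralizer (T : Set Γ)
  hR : IsSylowIn 2 R (K ⊓ centralizer (T : Set Γ))
  hBR : B ≤ centralizer (R : Set Γ)
  ih : G5Stmt.{u} (Nat.card K)

theorem Core.hBC {K T B R : Subgroup Γ} (h : Core K T B R) :
    B ≤ normalizer ((K ⊓ centralizer (T : Set Γ) : Subgroup Γ) : Set Γ) := by
  refine le_trans ?_ Subgroup.inf_normalizer_le_normalizer_inf
  apply le_inf
  · rw [Subgroup.normalizer_eq_top_iff.mpr h.normal]; exact le_top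
  · exact h.hBT.trans Subgroup.le_normalizer

theorem Core.H [Finite Γ] {K T B R : Subgroup Γ} (h : Core K T B R) :
    ⁅K ⊓ centralizer (T : Set Γ), B⁆ ≤ oc (K ⊓ centralizer (T : Set Γ)) :=
  g1_rel _ B R h.hBC h.good h.hR h.hBR

theorem le_centralizer_of_commutator_le {K B X : Subgroup Γ} (hB : Good B) (h1 : ⁅K, B⁆ ≤ X)
    (h2 : ⁅X, B⁆ = ⊥) : B ≤ centralizer (K : Set Γ) := by
  have h4 : ⁅⁅K, B⁆, B⁆ ≤ (⊥ : Subgroup Γ) := by
    rw [← h2]
    exact Subgroup.commutator_mono h1 le_rfl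
  have hnb : normalizer (((⊥ : Subgroup Γ) : Subgroup Γ) : Set Γ) = ⊤ :=
    Subgroup.normalizer_eq_top_iff.mpr inferInstance
  have h5 := commutator_le_of_commutator_commutator_le (A := K) (B := B) (N := ⊥)
    (by rw [hnb]; exact le_top) (by rw [hnb]; exact le_top) hB.1 h4
  rw [le_bot_iff, Subgroup.commutator_comm, Subgroup.commutator_eq_bot_iff_le_centralizer] at h5
  exact h5

/-- Case (b): `O_2(K) ≠ 1`. -/
theorem Core.case_b [Finite Γ] {K T B R : Subgroup Γ} (h : Core K T B R)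
    (hQne : Cfsg.pCoreOf 2 K ≠ ⊥) : B ≤ centralizer (K : Set Γ) := by
  have : Fact (Nat.Prime 2) := ⟨Nat.prime_two⟩
  haveI hKn := h.normal
  obtain ⟨Q, hQ⟩ : ∃ Q : Subgroup Γ, Q = Cfsg.pCoreOf 2 K := ⟨_, rfl⟩
  rw [← hQ] at hQne
  haveI hQn : Q.Normal := by rw [hQ]; exact pCoreOf_normal 2 K
  have hQK : Q ≤ K := by rw [hQ]; exact Cfsg.Agent.Helper14.pCoreOf_le 2 K
  have hQp : IsPGroup 2 Q := by rw [hQ]; exact Cfsg.Agent.Helper14.pCoreOf_isPGroup 2 K
  have htop : ∀ X : Subgroup Γ, X ≤ normalizer (Q : Set Γ) := fun X => by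
    rw [Subgroup.normalizer_eq_top_iff.mpr hQn]; exact le_top
  have htopK : ∀ X : Subgroup Γ, X ≤ normalizer (K : Set Γ) := fun X => by
    rw [Subgroup.normalizer_eq_top_iff.mpr hKn]; exact le_top
  have hRC : R ≤ K ⊓ centralizer (T : Set Γ) := h.hR.le
  -- `B` centralizes `Q`
  have hQ'R : Q ⊓ centralizer (T : Set Γ) ≤ R := by
    have hRN : R ≤ normalizer ((Q ⊓ centralizer (T : Set Γ) : Subgroup Γ) : Set Γ) := by
      refine le_trans ?_ Subgroup.inf_normalizer_le_normalizer_inf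
      exact le_inf (htop R) ((hRC.trans inf_le_right).trans Subgroup.le_normalizer)
    have h1 : IsPGroup 2 (R ⊔ (Q ⊓ centralizer (T : Set Γ)) : Subgroup Γ) :=
      IsPGroup.to_sup_of_normal_right' h.hR.isPGroup (hQp.to_le inf_le_left) hRN
    have h2 := h.hR.eq_of_le h1 le_sup_left (sup_le hRC (inf_le_inf_right _ hQK))
    rw [← h2]; exact le_sup_right
  have hBQ : B ≤ centralizer (Q : Set Γ) :=
    h.good.le_centralizer_of_pq h.hT hQp h.hBT (htop T) (htop B)
      (h.hBR.trans (Subgroup.centralizer_le hQ'R))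
  have hBQ' : ⁅B, Q⁆ = ⊥ := Subgroup.commutator_eq_bot_iff_le_centralizer.mpr hBQ
  have hQB : ⁅Q, B⁆ = ⊥ := by rw [Subgroup.commutator_comm]; exact hBQ'
  have hKBQ : ⁅K, B⁆ ≤ centralizer (Q : Set Γ) := by
    rw [← Subgroup.commutator_eq_bot_iff_le_centralizer]
    apply Subgroup.commutator_commutator_eq_bot_of_rotate
    · rw [hBQ', Subgroup.commutator_bot_left]
    · rw [eq_bot_iff, ← hQB]
      exact Subgroup.commutator_mono (Subgroup.commutator_le_left Q K) le_rfl
  have hKBK : ⁅K, B⁆ ≤ K := Subgroup.commutator_le_left K B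
  by_cases hcase : K ≤ centralizer (Q : Set Γ)
  · -- `Q` is central in `K`: pass to `K / Q`
    obtain ⟨π, hπ⟩ : ∃ π : Γ →* Γ ⧸ Q, π = QuotientGroup.mk' Q := ⟨_, rfl⟩
    have hker : π.ker = Q := by rw [hπ]; exact QuotientGroup.ker_mk' Q
    have hsurj : Function.Surjective π := by rw [hπ]; exact QuotientGroup.mk'_surjective Q
    haveI hKb : (K.map π).Normal := hKn.map π hsurj
    have hcardlt : Nat.card (K.map π) < Nat.card K := by
      rw [hπ]; exact card_map_mk'_lt hQK hQne
    obtain ⟨C, hC⟩ : ∃ C : Subgroup Γ, C = K ⊓ centralizer (T : Set Γ) := ⟨_, rfl⟩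
    have hH : ⁅C, B⁆ ≤ oc C := by rw [hC]; exact h.H
    have hBC : B ≤ normalizer (C : Set Γ) := by rw [hC]; exact h.hBC
    have hCK : C ≤ K := by rw [hC]; exact inf_le_left
    have hCT : C ≤ centralizer (T : Set Γ) := by rw [hC]; exact inf_le_right
    obtain ⟨D, hD⟩ : ∃ D : Subgroup Γ, D = K ⊓
        (centralizer ((T.map π : Subgroup (Γ ⧸ Q)) : Set (Γ ⧸ Q))).comap π := ⟨_, rfl⟩
    have hDK : D ≤ K := by rw [hD]; exact inf_le_left
    have hDmap : D.map π =
        K.map π ⊓ centralizer ((T.map π : Subgroup (Γ ⧸ Q)) : Set (Γ ⧸ Q)) := by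
      rw [hD]; exact map_inf_comap π K _
    have hCD : C ≤ D := by
      rw [hD]
      apply le_inf hCK
      intro c hc
      rw [Subgroup.mem_comap]
      exact (map_le_centralizer_map π (le_refl (centralizer (T : Set Γ))))
        (Subgroup.mem_map_of_mem π (hCT hc))
    have hDT : ⁅D, T⁆ ≤ Q := by
      rw [Subgroup.commutator_le]
      intro d hd t ht
      rw [← hker, MonoidHom.mem_ker, map_commutatorElement, commutatorElement_eq_one_iff_commute]
      rw [hD] at hd
      have h1 : π d ∈ centralizer ((T.map π : Subgroup (Γ ⧸ Q)) : Set (Γ ⧸ Q)) := hd.2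
      exact (Subgroup.mem_centralizer_iff.mp h1 (π t) (Subgroup.mem_map_of_mem π ht)).symm
    have hTD : ⁅T, D⁆ ≤ Q := by rw [Subgroup.commutator_comm]; exact hDT
    have hBT' : ⁅B, T⁆ = ⊥ := Subgroup.commutator_eq_bot_iff_le_centralizer.mpr h.hBT
    have hDBT : ⁅D, B⁆ ≤ centralizer (T : Set Γ) := by
      rw [← Subgroup.commutator_eq_bot_iff_le_centralizer]
      apply Subgroup.commutator_commutator_eq_bot_of_rotate
      · rw [hBT', Subgroup.commutator_bot_left]
      · rw [eq_bot_iff, ← hQB]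
        exact Subgroup.commutator_mono hTD le_rfl
    have hDBC : ⁅D, B⁆ ≤ C := by
      rw [hC]
      exact le_inf ((Subgroup.commutator_mono hDK le_rfl).trans hKBK) hDBT
    have hQC : ⁅Q, C⁆ = ⊥ := by
      rw [Subgroup.commutator_comm, Subgroup.commutator_eq_bot_iff_le_centralizer]
      exact hCK.trans hcase
    have hCT' : ⁅C, T⁆ = ⊥ := Subgroup.commutator_eq_bot_iff_le_centralizer.mpr hCT
    have hDCT : ⁅D, C⁆ ≤ centralizer (T : Set Γ) := by
      rw [← Subgroup.commutator_eq_bot_iff_le_centralizer]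
      apply Subgroup.commutator_commutator_eq_bot_of_rotate
      · rw [hCT', Subgroup.commutator_bot_left]
      · rw [eq_bot_iff, ← hQC]
        exact Subgroup.commutator_mono hTD le_rfl
    have hDC : ⁅D, C⁆ ≤ C := by
      have h1 : ⁅D, C⁆ ≤ K :=
        (Subgroup.commutator_mono hDK hCK).trans (Subgroup.commutator_le_self K)
      have h2 : ⁅D, C⁆ ≤ K ⊓ centralizer (T : Set Γ) := le_inf h1 hDCT
      rwa [← hC] at h2
    have hDNC : D ≤ normalizer (C : Set Γ) := le_normalizer_of_commutator_le hDC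
    have hDNO : D ≤ normalizer ((oc C : Subgroup Γ) : Set Γ) :=
      hDNC.trans (normalizer_le_normalizer_oc C)
    have hBNO : B ≤ normalizer ((oc C : Subgroup Γ) : Set Γ) :=
      hBC.trans (normalizer_le_normalizer_oc C)
    have hDBO : ⁅D, B⁆ ≤ oc C :=
      commutator_le_of_commutator_commutator_le hDNO hBNO h.good.1
        ((Subgroup.commutator_mono hDBC le_rfl).trans hH)
    have hHb : ⁅K.map π ⊓ centralizer ((T.map π : Subgroup (Γ ⧸ Q)) : Set (Γ ⧸ Q)), B.map π⁆ ≤
        oc (K.map π ⊓ centralizer ((T.map π : Subgroup (Γ ⧸ Q)) : Set (Γ ⧸ Q))) := by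
      rw [← hDmap, ← Subgroup.map_commutator]
      refine (Subgroup.map_mono hDBO).trans ?_
      apply le_oc
      · exact Subgroup.map_mono ((oc_le C).trans hCD)
      · exact (Subgroup.map_mono hDNO).trans (Subgroup.le_normalizer_map π)
      · exact Nat.Coprime.coprime_dvd_left (Subgroup.card_map_dvd (H := oc C) π)
          (card_oc_coprime C)
    have h1 := h.ih (Γ ⧸ Q) (K.map π) (T.map π) (B.map π) hKb hcardlt (h.hT.map π)
      (h.good.map π) (map_le_centralizer_map π h.hBT) hHb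
    haveI hYbn : (oc (K.map π)).Normal := oc_normal _
    obtain ⟨Y, hY⟩ : ∃ Y : Subgroup Γ, Y = (oc (K.map π)).comap π := ⟨_, rfl⟩
    haveI hYn : Y.Normal := by rw [hY]; infer_instance
    have hKBY : ⁅K, B⁆ ≤ Y := by
      rw [hY, ← Subgroup.map_le_iff_le_comap, Subgroup.map_commutator]
      exact h1
    have hQY : Q ≤ Y := by
      intro q hq
      rw [hY, Subgroup.mem_comap]
      have hq1 : π q = 1 := by
        rw [← MonoidHom.mem_ker, hker]; exact hq
      rw [hq1]; exact Subgroup.one_mem _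
    have hYK : Y ≤ K := by
      have h2 : Y ≤ (K.map π).comap π := by rw [hY]; exact Subgroup.comap_mono (oc_le _)
      rw [hπ, QuotientGroup.comap_map_mk', sup_eq_right.mpr hQK] at h2
      exact h2
    have hQsyl : IsSylowIn 2 Q Y := by
      apply isSylowIn_of_not_dvd_relIndex hQp hQY
      have h2 : Q.relIndex Y = Nat.card (Y.map π) := by
        rw [← Subgroup.relIndex_ker, hker]
      rw [h2]
      have h3 : Y.map π ≤ oc (K.map π) := by
        rw [Subgroup.map_le_iff_le_comap, hY]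
      have h4 : Nat.card (Y.map π) ∣ Nat.card (oc (K.map π)) := Subgroup.card_dvd_of_le h3
      intro h5
      have h6 := card_oc_coprime (K.map π)
      have h7 := Nat.Coprime.eq_one_of_dvd h6.symm (h5.trans h4)
      omega
    have hYtop : ∀ X : Subgroup Γ, X ≤ normalizer (Y : Set Γ) := fun X => by
      rw [Subgroup.normalizer_eq_top_iff.mpr hYn]; exact le_top
    have h2 : ⁅Y, B⁆ ≤ oc Y := g1_rel Y B Q (hYtop B) h.good hQsyl hBQ
    have h3 : oc Y ≤ oc K := oc_le_oc hYK (hYtop K)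
    rw [h.hoc, le_bot_iff] at h3
    rw [h3, le_bot_iff] at h2
    exact le_centralizer_of_commutator_le h.good hKBY h2
  · -- `K₁ = C_K(Q) < K`
    haveI hK₁n : (K ⊓ centralizer (Q : Set Γ)).Normal := inferInstance
    obtain ⟨K₁, hK₁⟩ : ∃ K₁ : Subgroup Γ, K₁ = K ⊓ centralizer (Q : Set Γ) := ⟨_, rfl⟩
    rw [← hK₁] at hK₁n
    have hK₁K : K₁ ≤ K := by rw [hK₁]; exact inf_le_left
    have hlt : K₁ < K := by
      refine lt_of_le_of_ne hK₁K ?_
      intro heq
      apply hcase
      rw [← heq, hK₁]; exact inf_le_right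
    have hK₁top : ∀ X : Subgroup Γ, X ≤ normalizer (K₁ : Set Γ) := fun X => by
      rw [Subgroup.normalizer_eq_top_iff.mpr hK₁n]; exact le_top
    obtain ⟨C₁, hC₁⟩ : ∃ C₁ : Subgroup Γ, C₁ = K₁ ⊓ centralizer (T : Set Γ) := ⟨_, rfl⟩
    have hC₁C : C₁ ≤ K ⊓ centralizer (T : Set Γ) := by
      rw [hC₁]; exact inf_le_inf_right _ hK₁K
    have hCN : K ⊓ centralizer (T : Set Γ) ≤ normalizer (C₁ : Set Γ) := by
      rw [hC₁]
      refine le_trans ?_ Subgroup.inf_normalizer_le_normalizer_inf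
      exact le_inf (hK₁top _) (inf_le_right.trans Subgroup.le_normalizer)
    have hsyl₁ : IsSylowIn 2 (R ⊓ C₁) C₁ := IsSylowIn.inf_of_le_normalizer h.hR hC₁C hCN
    have hBC₁ : B ≤ normalizer (C₁ : Set Γ) := by
      rw [hC₁]
      refine le_trans ?_ Subgroup.inf_normalizer_le_normalizer_inf
      exact le_inf (hK₁top _) (h.hBT.trans Subgroup.le_normalizer)
    have hH₁ : ⁅K₁ ⊓ centralizer (T : Set Γ), B⁆ ≤ oc (K₁ ⊓ centralizer (T : Set Γ)) := by
      rw [← hC₁]
      exact g1_rel C₁ B (R ⊓ C₁) hBC₁ h.good hsyl₁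
        (h.hBR.trans (Subgroup.centralizer_le inf_le_left))
    have h1 := h.ih Γ K₁ T B hK₁n (card_lt_of_lt hlt) h.hT h.good h.hBT hH₁
    have h2 : oc K₁ ≤ oc K := oc_le_oc hK₁K (hK₁top K)
    rw [h.hoc, le_bot_iff] at h2
    rw [h2, le_bot_iff] at h1
    have hKBK₁ : ⁅K, B⁆ ≤ K₁ := by rw [hK₁]; exact le_inf hKBK hKBQ
    exact le_centralizer_of_commutator_le h.good hKBK₁ h1

/-- Case (c): `O_2(K) = 1`. -/
theorem Core.case_c [Finite Γ] {K T B R : Subgroup Γ} (h : Core K T B R)
    (hQ : Cfsg.pCoreOf 2 K = ⊥) : B ≤ centralizer (K : Set Γ) := by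
  have : Fact (Nat.Prime 2) := ⟨Nat.prime_two⟩
  haveI hKn := h.normal
  have htopK : ∀ X : Subgroup Γ, X ≤ normalizer (K : Set Γ) := fun X => by
    rw [Subgroup.normalizer_eq_top_iff.mpr hKn]; exact le_top
  have hRC : R ≤ K ⊓ centralizer (T : Set Γ) := h.hR.le
  have hRp := h.hR.isPGroup
  have hRT : IsPGroup 2 (R ⊔ T : Subgroup Γ) :=
    IsPGroup.to_sup_of_normal_right' hRp h.hT
      ((hRC.trans inf_le_right).trans (Subgroup.centralizer_le_normalizer _))
  obtain ⟨Sh, hRTSh, hSh⟩ :=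
    exists_isSylowIn_ge hRT (sup_le_sup_right (hRC.trans inf_le_left) T)
  have hRSh : R ≤ Sh := le_sup_left.trans hRTSh
  have hTSh : T ≤ Sh := le_sup_right.trans hRTSh
  obtain ⟨S, hSdef⟩ : ∃ S : Subgroup Γ, S = Sh ⊓ K := ⟨_, rfl⟩
  have hS : IsSylowIn 2 S K := by
    rw [hSdef]; exact IsSylowIn.inf_of_le_normalizer hSh le_sup_left (htopK _)
  have hSSh : S ≤ Sh := by rw [hSdef]; exact inf_le_left
  have hShS : Sh ≤ normalizer (S : Set Γ) := by
    rw [hSdef]
    refine le_trans ?_ Subgroup.inf_normalizer_le_normalizer_inf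
    exact le_inf Subgroup.le_normalizer (htopK _)
  by_cases hSbot : S = ⊥
  · have h1 := hS.not_dvd_relIndex
    rw [hSbot, Subgroup.relIndex_bot_left] at h1
    have hKodd : (Nat.card K).Coprime 2 :=
      ((Nat.Prime.coprime_iff_not_dvd Nat.prime_two).mpr h1).symm
    have h2 : K ≤ oc K := le_oc le_rfl (htopK K) hKodd
    rw [h.hoc, le_bot_iff] at h2
    intro b _
    rw [Subgroup.mem_centralizer_iff]
    intro k hk
    have hk' : k ∈ K := hk
    rw [h2, Subgroup.mem_bot] at hk'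
    rw [hk', one_mul, mul_one]
  · obtain ⟨z, hzS, hz1, hzc⟩ := exists_central_of_normal hSh.isPGroup hSSh hShS hSbot
    have hzK : z ∈ K := hS.le hzS
    have hzT : z ∈ centralizer (T : Set Γ) := by
      rw [Subgroup.mem_centralizer_iff]
      intro t ht
      exact hzc t (hTSh ht)
    have hZ : IsPGroup 2 (zpowers z) :=
      hS.isPGroup.to_le (by rw [Subgroup.zpowers_le]; exact hzS)
    have hzR : z ∈ R := by
      have hZR : zpowers z ≤ normalizer (R : Set Γ) := by
        refine le_trans ?_ (Subgroup.centralizer_le_normalizer _)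
        rw [Subgroup.zpowers_le, Subgroup.mem_centralizer_iff]
        intro r hr
        exact hzc r (hRSh hr)
      have h1 : IsPGroup 2 (zpowers z ⊔ R : Subgroup Γ) :=
        IsPGroup.to_sup_of_normal_right' hZ hRp hZR
      have h2 : zpowers z ⊔ R ≤ K ⊓ centralizer (T : Set Γ) := by
        apply sup_le _ hRC
        rw [Subgroup.zpowers_le]; exact ⟨hzK, hzT⟩
      have h3 := h.hR.eq_of_le h1 le_sup_right h2
      have h4 : z ∈ zpowers z ⊔ R :=
        (le_sup_left : zpowers z ≤ zpowers z ⊔ R) (Subgroup.mem_zpowers z)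
      rwa [h3] at h4
    have hBz : B ≤ centralizer ({z} : Set Γ) :=
      h.hBR.trans (Subgroup.centralizer_le (Set.singleton_subset_iff.mpr hzR))
    have hTz : T ≤ centralizer ({z} : Set Γ) := by
      intro t ht
      rw [Subgroup.mem_centralizer_singleton_iff]
      exact hzc t (hTSh ht)
    obtain ⟨Kz, hKz⟩ : ∃ Kz : Subgroup Γ, Kz = K ⊓ centralizer ({z} : Set Γ) := ⟨_, rfl⟩
    have hKzK : Kz ≤ K := by rw [hKz]; exact inf_le_left
    have hlt : Kz < K := by
      refine lt_of_le_of_ne hKzK ?_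
      intro heq
      have hKc : K ≤ centralizer ({z} : Set Γ) := by rw [← heq, hKz]; exact inf_le_right
      have hZle : zpowers z ≤ K := by rw [Subgroup.zpowers_le]; exact hzK
      have hKN : K ≤ normalizer ((zpowers z : Subgroup Γ) : Set Γ) := by
        refine le_trans ?_ (Subgroup.centralizer_le_normalizer _)
        intro k hk
        rw [Subgroup.mem_centralizer_iff]
        intro y hy
        obtain ⟨n, rfl⟩ := Subgroup.mem_zpowers_iff.mp hy
        have h1 : k * z = z * k := Subgroup.mem_centralizer_singleton_iff.mp (hKc hk)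
        exact (Commute.zpow_left (show Commute z k from h1.symm) n).eq
      have h1 := Cfsg.Agent.Helper14.le_pCoreOf hZle hKN hZ
      rw [hQ, le_bot_iff, Subgroup.zpowers_eq_bot] at h1
      exact hz1 h1
    have hCzN : centralizer ({z} : Set Γ) ≤ normalizer (Kz : Set Γ) := by
      rw [hKz]
      refine le_trans ?_ Subgroup.inf_normalizer_le_normalizer_inf
      exact le_inf (htopK _) Subgroup.le_normalizer
    have hTKz : T ≤ normalizer (Kz : Set Γ) := hTz.trans hCzN
    have hBKz : B ≤ normalizer (Kz : Set Γ) := hBz.trans hCzN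
    obtain ⟨Cz, hCz⟩ : ∃ Cz : Subgroup Γ, Cz = Kz ⊓ centralizer (T : Set Γ) := ⟨_, rfl⟩
    have hRCz : R ≤ Cz := by
      rw [hCz, hKz]
      refine le_inf (le_inf (hRC.trans inf_le_left) ?_) (hRC.trans inf_le_right)
      intro r hr
      rw [Subgroup.mem_centralizer_singleton_iff]
      exact hzc r (hRSh hr)
    have hCzC : Cz ≤ K ⊓ centralizer (T : Set Γ) := by
      rw [hCz]; exact inf_le_inf_right _ hKzK
    have hRsylz : IsSylowIn 2 R Cz := h.hR.of_le hRCz hCzC
    have hBCz : B ≤ normalizer (Cz : Set Γ) := by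
      rw [hCz]
      refine le_trans ?_ Subgroup.inf_normalizer_le_normalizer_inf
      exact le_inf hBKz (h.hBT.trans Subgroup.le_normalizer)
    have hHz : ⁅Kz ⊓ centralizer (T : Set Γ), B⁆ ≤ oc (Kz ⊓ centralizer (T : Set Γ)) := by
      rw [← hCz]; exact g1_rel Cz B R hBCz h.good hRsylz h.hBR
    have h1 : ⁅Kz, B⁆ ≤ oc Kz :=
      h.ih.rel Kz T B hTKz hBKz (card_lt_of_lt hlt) h.hT h.good h.hBT hHz
    have hSKz : S ≤ Kz := by
      rw [hKz]
      refine le_inf hS.le ?_
      intro s hs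
      rw [Subgroup.mem_centralizer_singleton_iff]
      exact hzc s (hSSh hs)
    have hSB : ⁅S, B⁆ ≤ oc Kz := (Subgroup.commutator_mono hSKz le_rfl).trans h1
    obtain ⟨B'', hB''good, hB''S, -, hBB''⟩ :=
      exists_good_centralizing (card_oc_coprime Kz) hS.isPGroup
        (hSKz.trans (le_normalizer_oc Kz)) (hBKz.trans (normalizer_le_normalizer_oc Kz))
        h.good hSB
    have h2 : ⁅K, B''⁆ ≤ oc K := g1_rel K B'' S (htopK _) hB''good hS hB''S
    rw [h.hoc, le_bot_iff, Subgroup.commutator_comm,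
      Subgroup.commutator_eq_bot_iff_le_centralizer] at h2
    exact h.good.le_centralizer_of_le_sup K (card_oc_coprime Kz) h2 hBB''

theorem g5_of_ih [Finite Γ] (K T B : Subgroup Γ) [hKn : K.Normal]
    (IH : G5Stmt.{u} (Nat.card K)) (hT : IsPGroup 2 T) (hB : Good B)
    (hBT : B ≤ centralizer (T : Set Γ))
    (hH : ⁅K ⊓ centralizer (T : Set Γ), B⁆ ≤ oc (K ⊓ centralizer (T : Set Γ))) :
    ⁅K, B⁆ ≤ oc K := by
  have : Fact (Nat.Prime 2) := ⟨Nat.prime_two⟩
  by_cases hoc : oc K = ⊥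
  · obtain ⟨C, hC⟩ : ∃ C : Subgroup Γ, C = K ⊓ centralizer (T : Set Γ) := ⟨_, rfl⟩
    rw [← hC] at hH
    obtain ⟨R, hR⟩ := exists_isSylowIn (p := 2) C
    have hBC : B ≤ normalizer (C : Set Γ) := by
      rw [hC]
      refine le_trans ?_ Subgroup.inf_normalizer_le_normalizer_inf
      apply le_inf
      · rw [Subgroup.normalizer_eq_top_iff.mpr hKn]; exact le_top
      · exact hBT.trans Subgroup.le_normalizer
    have hRB : ⁅R, B⁆ ≤ oc C := (Subgroup.commutator_mono hR.le le_rfl).trans hH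
    obtain ⟨B', hB'good, hB'R, hB'le, hBB'⟩ :=
      exists_good_centralizing (card_oc_coprime C) hR.isPGroup
        (hR.le.trans (le_normalizer_oc C)) (hBC.trans (normalizer_le_normalizer_oc C)) hB hRB
    have hB'T : B' ≤ centralizer (T : Set Γ) := by
      refine hB'le.trans (sup_le hBT ?_)
      refine (oc_le C).trans ?_
      rw [hC]; exact inf_le_right
    have hcore : Core K T B' R :=
      ⟨hKn, hoc, hT, hB'good, hB'T, by rw [← hC]; exact hR, hB'R, IH⟩
    have hB'K : B' ≤ centralizer (K : Set Γ) := by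
      by_cases hQ : Cfsg.pCoreOf 2 K = ⊥
      · exact hcore.case_c hQ
      · exact hcore.case_b hQ
    have hBK := hB.le_centralizer_of_le_sup K (card_oc_coprime C) hB'K hBB'
    have h0 : ⁅K, B⁆ = ⊥ := by
      rw [Subgroup.commutator_comm, Subgroup.commutator_eq_bot_iff_le_centralizer]
      exact hBK
    rw [h0]; exact bot_le
  · exact g5_case_a K T B IH hoc hT hB hBT hH

theorem g5 : ∀ n : ℕ, G5Stmt.{u} n := by
  intro n
  induction n with
  | zero =>
    intro Γ _ _ K T B _ hc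
    exact absurd hc (Nat.not_lt_zero _)
  | succ n ih =>
    intro Γ _ _ K T B hKn hc hT hB hBT hH
    rcases Nat.lt_succ_iff_lt_or_eq.mp hc with hlt | heq
    · exact ih Γ K T B hKn hlt hT hB hBT hH
    · have ih' : G5Stmt.{u} (Nat.card K) := by rw [heq]; exact ih
      haveI := hKn
      exact g5_of_ih K T B ih' hT hB hBT hH

/-- **The local-to-global step of `L`-balance for the prime `2`.** If `K ⊴ Γ`, `T` is a
`2`-subgroup, `B` is a perfect group generated by `2`-elements which centralizes `T`, and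
`[C_K(T), B] ≤ O(C_K(T))`, then `[K, B] ≤ O(K)`. -/
theorem g5_main [Finite Γ] (K T B : Subgroup Γ) [hKn : K.Normal] (hT : IsPGroup 2 T)
    (hB : Good B) (hBT : B ≤ centralizer (T : Set Γ))
    (hH : ⁅K ⊓ centralizer (T : Set Γ), B⁆ ≤ oc (K ⊓ centralizer (T : Set Γ))) :
    ⁅K, B⁆ ≤ oc K :=
  g5.{u} (Nat.card K + 1) Γ K T B hKn (Nat.lt_succ_self _) hT hB hBT hH

end Cfsg.Agent.Helper7.Glaub
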