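import Mathlib
import Cfsg.Prelude.Def_Local
import Cfsg.Agent.Lib.Helper7.LpB6
import Cfsg.Agent.Lib.Helper7.PLocal3

set_option autoImplicit false

namespace Cfsg.Agent.Helper7

open Subgroup
open scoped commutatorElement Pointwise

universe u

variable {G : Type u} [Group G]

theorem normalizer_le_normalizer_centralizer_sub (T : Subgroup G) :
    Subgroup.normalizer (T : Set G) ≤
      Subgroup.normalizer ((Subgroup.centralizer (T : Set G) : Subgroup G) : Set G) := by
  intro n hn
  have key : ∀ n : G, n ∈ Subgroup.normalizer (T : Set G) →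
      ∀ c ∈ Subgroup.centralizer (T : Set G), n * c * n⁻¹ ∈ Subgroup.centralizer (T : Set G) := by
    intro n hn c hc
    rw [Subgroup.mem_centralizer_iff]
    intro t ht
    have ht' : n⁻¹ * t * n ∈ T := by
      have := (Subgroup.mem_normalizer_iff.mp (Subgroup.inv_mem _ hn) t).mp ht
      simpa using this
    have h1 := (Subgroup.mem_centralizer_iff.mp hc) _ ht'
    calc t * (n * c * n⁻¹) = n * ((n⁻¹ * t * n) * c) * n⁻¹ := by group
      _ = n * (c * (n⁻¹ * t * n)) * n⁻¹ := by rw [h1]
      _ = n * c * n⁻¹ * t := by group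
  rw [Subgroup.mem_normalizer_iff]
  intro c
  constructor
  · exact key n hn c
  · intro hc
    have := key n⁻¹ (Subgroup.inv_mem _ hn) _ hc
    have e : n⁻¹ * (n * c * n⁻¹) * n⁻¹⁻¹ = c := by group
    rw [e] at this
    exact this

/-- relative subnormality passes up through a normal subgroup -/
theorem isSubnormal_subgroupOf_of_normal {J C N : Subgroup G} (hJC : J ≤ C) (hCN : C ≤ N)
    (hNC : N ≤ Subgroup.normalizer (C : Set G)) (h : (J.subgroupOf C).IsSubnormal) :
    (J.subgroupOf N).IsSubnormal := by
  have hCn : (C.subgroupOf N).Normal := (Subgroup.normal_subgroupOf_iff_le_normalizer hCN).mpr hNC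
  apply Subgroup.IsSubnormal.trans ((subgroupOf_le_subgroupOf_iff (hJC.trans hCN)).mpr hJC) _
    hCn.isSubnormal
  have := h.comap (Subgroup.subgroupOfEquivOfLe hCN).toMonoidHom
  convert this using 1
  ext x
  rfl

section transfer

variable [Finite G] (p : ℕ) [hp : Fact p.Prime]

/-- `p`-component-ness of `J` in `N` transfers to any `N'` in which some `C` with
`J ≤ C ≤ N ∩ N'` is normal. -/
theorem isPComponent_subgroupOf_of_le_of_normal {J C N N' : Subgroup G} (hJC : J ≤ C)
    (hCN : C ≤ N) (hCN' : C ≤ N') (hN'C : N' ≤ Subgroup.normalizer (C : Set G))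
    (hJ : Cfsg.IsPComponent p (J.subgroupOf N)) : Cfsg.IsPComponent p (J.subgroupOf N') := by
  have hJN : J ≤ N := hJC.trans hCN
  have hJN' : J ≤ N' := hJC.trans hCN'
  have hperf : ⁅J, J⁆ = J := perfect_of_subgroupOf_perfect hJN (IsPComponent.perfect p hJ)
  have hgen : Cfsg.pElementClosure p J = J := by
    have h1 := map_pElementClosure_of_injective p N.subtype N.subtype_injective (J.subgroupOf N)
    rw [IsPComponent.pElementClosure_eq p hJ, Subgroup.map_subgroupOf_eq_of_le hJN] at h1
    exact h1.symm
  apply isPComponent_of_intrinsic p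
  · exact isSubnormal_subgroupOf_of_normal hJC hCN' hN'C (isSubnormal_subgroupOf_of_le hCN hJ.1)
  · apply Subgroup.map_injective N'.subtype_injective
    rw [Subgroup.map_commutator, Subgroup.map_subgroupOf_eq_of_le hJN', hperf]
  · apply Subgroup.map_injective N'.subtype_injective
    rw [map_pElementClosure_of_injective p N'.subtype N'.subtype_injective,
      Subgroup.map_subgroupOf_eq_of_le hJN', hgen]
  · exact isQuasisimple_quotient_pPrimeCore_of_mulEquiv p
      ((Subgroup.subgroupOfEquivOfLe hJN).trans (Subgroup.subgroupOfEquivOfLe hJN').symm)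
      (IsPComponent.isQuasisimple_quotient p hJ)

end transfer

end Cfsg.Agent.Helper7
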