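import Mathlib
import Cfsg.Prelude.Def_Local
import Cfsg.Prelude.Def_KGroupFacts
import Cfsg.Agent.Lib.Helper7.LpB7

set_option autoImplicit false

namespace Cfsg.Agent.Helper7

open Subgroup
open scoped commutatorElement Pointwise

universe u

variable {G : Type u} [Group G] [Finite G]

/-- A `p`-component `J` of `N_G(R)` is perfect, centralizes `O_p(G)` and `R`, and is a
`p`-component of `N_G(R O_p(G))`. -/
theorem isPComponent_normalizer_sup_pCore (p : ℕ) [hp : Fact p.Prime]
    (R : Subgroup G) (hR : IsPGroup p ↥R) {J : Subgroup G}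
    (hJN : J ≤ Subgroup.normalizer (R : Set G))
    (hJ : Cfsg.IsPComponent p (J.subgroupOf (Subgroup.normalizer (R : Set G)))) :
    ⁅J, J⁆ = J ∧ J ≤ Subgroup.centralizer (Cfsg.pCore p G : Set G) ∧
      J ≤ Subgroup.centralizer ((R ⊔ Cfsg.pCore p G : Subgroup G) : Set G) ∧
      IsPGroup p ↥(R ⊔ Cfsg.pCore p G : Subgroup G) ∧
      Cfsg.IsPComponent p
        (J.subgroupOf (Subgroup.normalizer ((R ⊔ Cfsg.pCore p G : Subgroup G) : Set G))) := by
  set N : Subgroup G := Subgroup.normalizer (R : Set G) with hN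
  set Q : Subgroup G := Cfsg.pCore p G with hQ
  haveI hQn : Q.Normal := Cfsg.pCore_normal p G
  have hQp : IsPGroup p ↥Q := pCore_isPGroup p
  have hperf : ⁅J, J⁆ = J := perfect_of_subgroupOf_perfect hJN (IsPComponent.perfect p hJ)
  -- `J₀ ≤` the preimage of the layer
  have hJ₀le : J.subgroupOf N ≤ (Cfsg.layer (↥N ⧸ Cfsg.pPrimeCore p ↥N)).comap
      (QuotientGroup.mk' (Cfsg.pPrimeCore p ↥N)) := by
    rw [← Subgroup.map_le_iff_le_comap]
    exact component_le_layer hJ.2.1
  -- `J` centralizes `O_p(G)`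
  have hJQ : J ≤ Subgroup.centralizer (Q : Set G) := by
    refine le_trans ?_ (comap_layer_normalizer_le_centralizer_pCore p R hR)
    rw [← Subgroup.map_subgroupOf_eq_of_le hJN]
    exact Subgroup.map_mono hJ₀le
  -- `J` centralizes `R`
  have hJR : J ≤ Subgroup.centralizer (R : Set G) := by
    have hRN : R ≤ N := Subgroup.le_normalizer
    haveI hRn : (R.subgroupOf N).Normal := Subgroup.normal_in_normalizer
    have h1 := comap_layer_commutator_eq_bot p (R.subgroupOf N) hR.comap_subtype
    have h2 : ⁅J.subgroupOf N, R.subgroupOf N⁆ = ⊥ := by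
      rw [eq_bot_iff, ← h1]
      exact Subgroup.commutator_mono hJ₀le le_rfl
    rw [commutator_subgroupOf_eq_bot_iff hJN hRN] at h2
    exact Subgroup.commutator_eq_bot_iff_le_centralizer.mp h2
  -- replace `R` by `R' = R O_p(G)`
  set R' : Subgroup G := R ⊔ Q with hR'
  have hR'p : IsPGroup p ↥R' := IsPGroup.to_sup_of_normal_right hR hQp
  set C' : Subgroup G := Subgroup.centralizer (R' : Set G) with hC'
  have hJC' : J ≤ C' := by
    rw [hC', Subgroup.le_centralizer_iff]
    exact sup_le (Subgroup.le_centralizer_iff.mp hJR) (Subgroup.le_centralizer_iff.mp hJQ)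
  have hC'N : C' ≤ N :=
    (Subgroup.centralizer_le (le_sup_left : R ≤ R')).trans (Subgroup.centralizer_le_normalizer _)
  set N' : Subgroup G := Subgroup.normalizer (R' : Set G) with hN'
  have hC'N' : C' ≤ N' := Subgroup.centralizer_le_normalizer _
  have hN'C' : N' ≤ Subgroup.normalizer (C' : Set G) := normalizer_le_normalizer_centralizer_sub R'
  have hJ' : Cfsg.IsPComponent p (J.subgroupOf N') :=
    isPComponent_subgroupOf_of_le_of_normal p hJC' hC'N hC'N' hN'C' hJ
  exact ⟨hperf, hJQ, hJC', hR'p, hJ'⟩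

/-- with `O_{p'}(G) = 1`, every `p`-component of the normalizer of a `p`-subgroup normalizes every
component of `G` (no Schreier hypothesis needed). -/
theorem le_normalizer_component_of_isPComponent_normalizer (p : ℕ) [hp : Fact p.Prime]
    (hO : Cfsg.pPrimeCore p G = ⊥) (R : Subgroup G) (hR : IsPGroup p ↥R) {J : Subgroup G}
    (hJN : J ≤ Subgroup.normalizer (R : Set G))
    (hJ : Cfsg.IsPComponent p (J.subgroupOf (Subgroup.normalizer (R : Set G))))
    {K : Subgroup G} (hK : Cfsg.IsComponent K) : J ≤ Subgroup.normalizer (K : Set G) := by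
  obtain ⟨_, _, hJC', hR'p, hJ'⟩ := isPComponent_normalizer_sup_pCore p R hR hJN hJ
  rcases le_layer_or_forall_le_normalizer p hO hR'p (le_sup_right : Cfsg.pCore p G ≤ _)
    (hJC'.trans (Subgroup.centralizer_le_normalizer _)) hJ' hJC' with h | h
  · exact h.trans (layer_le_normalizer_component hK)
  · exact h K hK

/-- **`L_{p'}`-balance, core case `O_{p'}(G) = 1`**: under the Schreier property for the components
of `G`, every `p`-component of the normalizer of a `p`-subgroup lies in `E(G)`. -/
theorem le_layer_of_isPComponent_normalizer (p : ℕ) [hp : Fact p.Prime]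
    (hO : Cfsg.pPrimeCore p G = ⊥)
    (hS : ∀ K : Subgroup G, Cfsg.IsComponent K →
      Group.IsSolvable (Cfsg.Out (↥K ⧸ Subgroup.center ↥K)))
    (R : Subgroup G) (hR : IsPGroup p ↥R) (N : Subgroup G)
    (hN : N = Subgroup.normalizer (R : Set G)) {J : Subgroup G} (hJN : J ≤ N)
    (hJ : Cfsg.IsPComponent p (J.subgroupOf N)) : J ≤ Cfsg.layer G := by
  subst hN
  obtain ⟨hperf, hJQ, _, _, _⟩ := isPComponent_normalizer_sup_pCore p R hR hJN hJ
  exact le_layer_of_forall_le_normalizer p hO hS J hperf hJQ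
    (fun K hK => le_normalizer_component_of_isPComponent_normalizer p hO R hR hJN hJ hK)

end Cfsg.Agent.Helper7
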