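import Mathlib
import Cfsg.Agent.Lib.Helper7.Glaub7
import Cfsg.Agent.Lib.Helper7.LpB8
import Cfsg.Agent.Lib.Helper7.FStar2
import Cfsg.Agent.Lib.Helper1.FittingSolvable

/-!
# `L`-balance for the prime `2`: the core case `O(G) = 1` (helper7's library)
-/

set_option autoImplicit false

namespace Cfsg.Agent.Helper7.Glaub

open Subgroup Cfsg.Agent.Helper15 Cfsg.Agent.Helper7
open scoped commutatorElement

universe u

variable {G : Type u} [Group G] [Finite G]

/-- **`L`-balance for the prime `2`, core case `O(G) = 1`**: every `2`-component of the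
normalizer of a `2`-subgroup lies in `E(G)` (no Schreier hypothesis). -/
theorem le_layer_of_isPComponent_normalizer_two
    (hO : Cfsg.pPrimeCore 2 G = ⊥) (R : Subgroup G) (hR : IsPGroup 2 ↥R) (N : Subgroup G)
    (hN : N = Subgroup.normalizer (R : Set G)) {J : Subgroup G} (hJN : J ≤ N)
    (hJ : Cfsg.IsPComponent 2 (J.subgroupOf N)) : J ≤ Cfsg.layer G := by
  have : Fact (Nat.Prime 2) := ⟨Nat.prime_two⟩
  subst hN
  obtain ⟨hperf, hJQ, hJR', _, _⟩ := isPComponent_normalizer_sup_pCore 2 R hR hJN hJ
  obtain ⟨N, hNdef⟩ : ∃ N : Subgroup G, N = Subgroup.normalizer (R : Set G) := ⟨_, rfl⟩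
  rw [← hNdef] at hJN hJ
  obtain ⟨E, hE⟩ : ∃ E : Subgroup G, E = Cfsg.layer G := ⟨_, rfl⟩
  rw [← hE]
  haveI hEn : E.Normal := by rw [hE]; exact layer_normal
  have htopE : ∀ X : Subgroup G, X ≤ normalizer (E : Set G) := fun X => by
    rw [Subgroup.normalizer_eq_top_iff.mpr hEn]; exact le_top
  obtain ⟨V, hV⟩ : ∃ V : Subgroup G, V = E ⊓ N := ⟨_, rfl⟩
  have hVN : V ≤ N := by rw [hV]; exact inf_le_right
  have hVE : V ≤ E := by rw [hV]; exact inf_le_left
  haveI hVn : (V.subgroupOf N).Normal := by
    rw [Subgroup.normal_subgroupOf_iff_le_normalizer hVN, hV]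
    refine le_trans ?_ Subgroup.inf_normalizer_le_normalizer_inf
    exact le_inf (htopE N) Subgroup.le_normalizer
  rcases IsPComponent.le_or_commutator_le 2 hJ (V.subgroupOf N) with h | h
  · exact ((subgroupOf_le_subgroupOf_iff hJN).mp h).trans hVE
  · have hJV : ⁅J, V⁆ ≤ oc N := by
      rw [commutator_subgroupOf' hJN hVN] at h
      have hJVN : ⁅J, V⁆ ≤ N :=
        (Subgroup.commutator_mono hJN hVN).trans (Subgroup.commutator_le_self N)
      have h2 := Subgroup.map_mono (f := N.subtype) h
      rw [Subgroup.map_subgroupOf_eq_of_le hJVN] at h2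
      exact h2
    have hJR : J ≤ centralizer (R : Set G) :=
      hJR'.trans (Subgroup.centralizer_le
        (SetLike.coe_subset_coe.mpr (le_sup_left : R ≤ R ⊔ Cfsg.pCore 2 G)))
    have hgen : Cfsg.pElementClosure 2 J = J := by
      have h1 := map_pElementClosure_of_injective 2 N.subtype N.subtype_injective
        (J.subgroupOf N)
      rw [IsPComponent.pElementClosure_eq 2 hJ, Subgroup.map_subgroupOf_eq_of_le hJN] at h1
      exact h1.symm
    have hgood : Good J := ⟨hperf, hgen⟩
    obtain ⟨C, hC⟩ : ∃ C : Subgroup G, C = E ⊓ centralizer (R : Set G) := ⟨_, rfl⟩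
    have hCV : C ≤ V := by
      rw [hC, hV, hNdef]
      exact inf_le_inf_left _ (Subgroup.centralizer_le_normalizer _)
    have hJC : J ≤ normalizer (C : Set G) := by
      rw [hC]
      refine le_trans ?_ Subgroup.inf_normalizer_le_normalizer_inf
      exact le_inf (htopE J) (hJR.trans Subgroup.le_normalizer)
    have hCJ : ⁅C, J⁆ ≤ C := commutator_le_of_le_normalizer hJC
    have hCJ' : ⁅C, J⁆ ≤ oc N := by
      rw [Subgroup.commutator_comm]
      exact (Subgroup.commutator_mono le_rfl hCV).trans hJV
    have hH : ⁅C, J⁆ ≤ oc C := by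
      refine (le_inf hCJ' hCJ).trans ?_
      apply le_oc inf_le_right
      · refine le_trans ?_ Subgroup.inf_normalizer_le_normalizer_inf
        exact le_inf ((hCV.trans hVN).trans (le_normalizer_oc N)) Subgroup.le_normalizer
      · exact Nat.Coprime.coprime_dvd_left (Subgroup.card_dvd_of_le inf_le_left)
          (card_oc_coprime N)
    rw [hC] at hH
    have h1 : ⁅E, J⁆ ≤ oc E := g5_main E R J hR hgood hJR hH
    have hocE : oc E = ⊥ := by
      haveI := oc_normal E
      have h2 := Cfsg.Agent.Helper22.le_pPrimeCore 2 (oc E) inferInstance (card_oc_coprime E)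
      rwa [hO, le_bot_iff] at h2
    rw [hocE, le_bot_iff, Subgroup.commutator_comm,
      Subgroup.commutator_eq_bot_iff_le_centralizer] at h1
    have hF : Cfsg.fittingSubgroup G = Cfsg.pCore 2 G :=
      Cfsg.Agent.Helper1.fittingSubgroup_eq_pCore 2 hO
    have hswap : ∀ A B : Subgroup G, A ≤ centralizer (B : Set G) → B ≤ centralizer (A : Set G) := by
      intro A B hAB
      rw [← Subgroup.commutator_eq_bot_iff_le_centralizer, Subgroup.commutator_comm,
        Subgroup.commutator_eq_bot_iff_le_centralizer]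
      exact hAB
    have h3 : Cfsg.generalizedFittingSubgroup G ≤ centralizer (J : Set G) := by
      unfold Cfsg.generalizedFittingSubgroup
      rw [hF, ← hE]
      exact sup_le (hswap J E h1) (hswap J _ hJQ)
    have hJF : J ≤ centralizer (Cfsg.generalizedFittingSubgroup G : Set G) := hswap _ J h3
    have hJFs : J ≤ Cfsg.generalizedFittingSubgroup G :=
      hJF.trans centralizer_generalizedFittingSubgroup_le
    have hJbot : J = ⊥ := by
      apply hgood.eq_bot_of_comm
      intro a ha b hb
      exact (Subgroup.mem_centralizer_iff.mp (hJF ha) b (hJFs hb)).symm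
    rw [hJbot]; exact bot_le

end Cfsg.Agent.Helper7.Glaub
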