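import Mathlib
import Cfsg.Prelude.Def_Local
import Cfsg.Prelude.Def_Amalgam
import Cfsg.Agent.Lib.Helper7.LpB1
import Cfsg.Agent.Lib.Helper7.PComp3
import Cfsg.Agent.Lib.Helper7.PComp4
import Cfsg.Agent.Lib.Helper7.Layer3
import Cfsg.Agent.Lib.Helper22.SelfCent
import Cfsg.Agent.S1301

/-!
# Maximal components of involution centralizers, part 1 (helper7's library)

Components of even order are `2`-components; under the `B`-property the `2`-layer is the layer;
hence (by `L`-balance) a component of even order of an involution centralizer lies in the layer.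
-/

set_option autoImplicit false

namespace Cfsg.Agent.Helper7.MaxComp

open Subgroup Cfsg.Agent.Helper7
open scoped commutatorElement

universe u

variable {X : Type u} [Group X] [Finite X]

/-- a component whose order is divisible by `p` is a `p`-component -/
theorem isPComponent_of_isComponent_of_dvd (p : ℕ) [hp : Fact p.Prime] {K : Subgroup X}
    (hK : Cfsg.IsComponent K) (hdvd : p ∣ Nat.card K) : Cfsg.IsPComponent p K := by
  have hperf : ⁅K, K⁆ = K := component_perfect hK
  have hgen : Cfsg.pElementClosure p K = K := by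
    apply le_antisymm (pElementClosure_le' p K)
    by_contra hnot
    have hnorm : K ≤ normalizer ((Cfsg.pElementClosure p K : Subgroup X) : Set X) :=
      Subgroup.le_normalizer.trans (normalizer_le_normalizer_pElementClosure p K)
    have hc := component_inf_le_center hK hnorm hnot
    have hcop : (Nat.card K).Coprime p := by
      apply coprime_card_of_perfect_of_pElements_central p hK.2.1.commutator_eq_top
      intro x hx
      rw [Subgroup.mem_center_iff]
      intro y
      have hxN : (x : X) ∈ K ⊓ Cfsg.pElementClosure p K := by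
        refine ⟨x.2, mem_pElementClosure x.2 ?_⟩
        obtain ⟨k, hk⟩ := hx
        exact ⟨k, by rw [Subgroup.orderOf_coe]; exact hk⟩
      have h1 := (Subgroup.commutator_eq_bot_iff_le_centralizer.mp hc) hxN
      have h2 := Subgroup.mem_centralizer_iff.mp h1 y y.2
      exact Subtype.ext h2
    exact (Nat.Prime.coprime_iff_not_dvd hp.out).mp hcop.symm hdvd
  haveI : (Cfsg.pPrimeCore p ↥K).Normal := Cfsg.Agent.Helper22.pPrimeCore_normal p
  have hle : Cfsg.pPrimeCore p ↥K ≤ center ↥K := by
    rcases quasisimple_normal_eq_top_or_le_center hK.2 (Cfsg.pPrimeCore p ↥K) with h | h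
    · exfalso
      have h2 := Cfsg.Agent.Helper22.card_pPrimeCore_coprime (G := ↥K) p
      rw [h, Subgroup.card_top] at h2
      exact (Nat.Prime.coprime_iff_not_dvd hp.out).mp h2.symm hdvd
    · exact h
  have hq : Cfsg.IsQuasisimple (↥K ⧸ Cfsg.pPrimeCore p ↥K) :=
    isQuasisimple_quotient_of_le_center hK.2 _ hle
  exact isPComponent_of_intrinsic p hK.1 hperf hgen hq

/-- a `p`-component centralizing `O_{p'}` is a component -/
theorem isComponent_of_isPComponent_of_commutator_eq_bot (p : ℕ) [Fact p.Prime] {J : Subgroup X}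
    (hJ : Cfsg.IsPComponent p J) (h : ⁅J, Cfsg.pPrimeCore p X⁆ = ⊥) : Cfsg.IsComponent J := by
  refine ⟨hJ.1, (IsPComponent.isQuasisimple_iff p hJ).mpr ?_⟩
  rw [eq_bot_iff, ← h]
  apply Subgroup.commutator_mono le_rfl
  rw [map_subtype_pPrimeCore_of_isSubnormal p hJ.1]
  exact inf_le_left

/-- under the `B`-property the `p`-layer lies in the layer -/
theorem pLayer_le_layer_of_commutator_eq_bot (p : ℕ) [Fact p.Prime]
    (h : ⁅Cfsg.pLayer p X, Cfsg.pPrimeCore p X⁆ = ⊥) : Cfsg.pLayer p X ≤ Cfsg.layer X := by
  unfold Cfsg.pLayer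
  apply sSup_le
  intro J hJ
  have hJ' : Cfsg.IsPComponent p J := hJ
  apply component_le_layer
  apply isComponent_of_isPComponent_of_commutator_eq_bot p hJ'
  rw [eq_bot_iff, ← h]
  exact Subgroup.commutator_mono (IsPComponent.le_pLayer p hJ') le_rfl

/-- `L`-balance for components: under the `B`-property, a component of even order of the
centralizer of an involution lies in the layer. -/
theorem le_layer_of_isComponent_centralizer
    (hB : ⁅Cfsg.pLayer 2 X, Cfsg.pPrimeCore 2 X⁆ = ⊥) {a : X} (ha : orderOf a = 2)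
    {K : Subgroup X} (hKa : K ≤ centralizer ({a} : Set X))
    (hK : Cfsg.IsComponent (K.subgroupOf (centralizer ({a} : Set X))))
    (heven : 2 ∣ Nat.card K) : K ≤ Cfsg.layer X := by
  haveI : Fact (Nat.Prime 2) := ⟨Nat.prime_two⟩
  have hT : IsPGroup 2 ↥(zpowers a) := by
    apply IsPGroup.of_card (n := 1)
    rw [Nat.card_zpowers, ha, pow_one]
  have h1 := Cfsg.Agent.S1301.result (zpowers a) hT
  rw [Cfsg.Agent.Helper22.centralizer_zpowers_eq a] at h1
  obtain ⟨C, hC⟩ : ∃ C : Subgroup X, C = centralizer ({a} : Set X) := ⟨_, rfl⟩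
  rw [← hC] at h1 hKa hK
  have hcard : Nat.card ↥(K.subgroupOf C) = Nat.card ↥K :=
    Nat.card_congr (Subgroup.subgroupOfEquivOfLe hKa).toEquiv
  have hP : Cfsg.IsPComponent 2 (K.subgroupOf C) :=
    isPComponent_of_isComponent_of_dvd 2 hK (by rw [hcard]; exact heven)
  have h2 : (K.subgroupOf C).map C.subtype ≤ Cfsg.pLayer 2 X :=
    (Subgroup.map_mono (IsPComponent.le_pLayer 2 hP)).trans h1
  rw [Subgroup.map_subgroupOf_eq_of_le hKa] at h2
  exact h2.trans (pLayer_le_layer_of_commutator_eq_bot 2 hB)

end Cfsg.Agent.Helper7.MaxComp
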