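import Mathlib
import Cfsg.Agent.Lib.Helper7.MaxComp1
import Cfsg.Agent.Lib.Helper7.MaxComp2
import Cfsg.Agent.Lib.Helper7.LpB4
import Cfsg.Agent.Lib.Helper7.LpB6
import Cfsg.Agent.Lib.Helper7.Layer2
import Cfsg.Agent.Lib.Helper7.Basic

/-!
# Maximal components of involution centralizers, part 3 (helper7's library)

A component `K` of even order of `C_X(a)` (`a` an involution, `X` with the `B`-property) whose
order is at least that of every component of `X` is a component of `X`, or the diagonal of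
`J J^a` for a component `J ≠ J^a` of `X`.
-/

set_option autoImplicit false

namespace Cfsg.Agent.Helper7.MaxComp

open Subgroup Cfsg.Agent.Helper7
open scoped commutatorElement Pointwise

universe u

variable {X : Type u} [Group X] [Finite X]

/-- component versus subnormal subgroup, inside a subgroup `C` -/
theorem le_or_commutator_eq_bot_of_isComponent_subgroupOf {L H C : Subgroup X} (hLC : L ≤ C)
    (hHC : H ≤ C) (hL : Cfsg.IsComponent (L.subgroupOf C))
    (hH : (H.subgroupOf C).IsSubnormal) : L ≤ H ∨ ⁅L, H⁆ = ⊥ := by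
  rcases component_le_or_commutator_eq_bot' _ _ hL hH with h | h
  · left
    exact (subgroupOf_le_subgroupOf_iff hLC).mp h
  · right
    exact (commutator_subgroupOf_eq_bot_iff hLC hHC).mp h

/-- `H ⊴ M ⊴ C` gives subnormality of `H` in `C` -/
theorem isSubnormal_subgroupOf_of_two_step {H M C : Subgroup X} (hHM : H ≤ M) (hMC : M ≤ C)
    (hCM : C ≤ normalizer (M : Set X)) (hMH : M ≤ normalizer (H : Set X)) :
    (H.subgroupOf C).IsSubnormal := by
  have hMn : (M.subgroupOf C).Normal :=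
    (Subgroup.normal_subgroupOf_iff_le_normalizer hMC).mpr hCM
  apply isSubnormal_of_le_of_le_normalizer (H' := H.subgroupOf C) (H := M.subgroupOf C)
    (Subgroup.comap_mono hHM) ?_ hMn.isSubnormal
  intro g hg
  rw [Subgroup.mem_normalizer_iff]
  intro h
  rw [Subgroup.mem_subgroupOf, Subgroup.mem_subgroupOf]
  have := Subgroup.mem_normalizer_iff.mp (hMH (Subgroup.mem_subgroupOf.mp hg)) (h : X)
  simpa only [Subgroup.coe_mul, Subgroup.coe_inv] using this

/-- an element normalizing `J` and `J'` normalizes `J ⊔ J'` -/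
theorem mem_normalizer_sup {J J' : Subgroup X} {g : X} (h1 : g ∈ normalizer (J : Set X))
    (h2 : g ∈ normalizer (J' : Set X)) : g ∈ normalizer ((J ⊔ J' : Subgroup X) : Set X) := by
  apply mem_normalizer_of_conj_smul_eq
  rw [Subgroup.smul_sup, conj_smul_eq_of_mem_normalizer h1, conj_smul_eq_of_mem_normalizer h2]

/-- **Maximal component dichotomy.** -/
theorem isComponent_or_diagonal
    (hBX : ⁅Cfsg.pLayer 2 X, Cfsg.pPrimeCore 2 X⁆ = ⊥) {a : X} (ha : orderOf a = 2)
    {K : Subgroup X} (hKa : K ≤ centralizer ({a} : Set X))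
    (hK : Cfsg.IsComponent (K.subgroupOf (centralizer ({a} : Set X))))
    (heven : 2 ∣ Nat.card K)
    (hmax : ∀ J : Subgroup X, Cfsg.IsComponent J → Nat.card J ≤ Nat.card K) :
    Cfsg.IsComponent K ∨ ∃ J : Subgroup X, Cfsg.IsComponent J ∧ MulAut.conj a • J ≠ J ∧
      (∀ k ∈ K, ∃ x ∈ J, k = x * (a * x * a⁻¹)) ∧ (∀ x ∈ J, x * (a * x * a⁻¹) ∈ K) ∧
      (∀ x ∈ J, x * (a * x * a⁻¹) = 1 → x = 1) := by
  have ha2 : a * a = 1 := by
    have := pow_orderOf_eq_one a
    rwa [ha, pow_two] at this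
  have ainv : a⁻¹ = a := inv_eq_of_mul_eq_one_left ha2
  have hKE : K ≤ Cfsg.layer X := le_layer_of_isComponent_centralizer hBX ha hKa hK heven
  have hperf : ⁅K, K⁆ = K := perfect_of_subgroupOf_perfect hKa (component_perfect hK)
  have hKne : K ≠ ⊥ := by
    intro h
    apply component_ne_bot hK
    rw [h, Subgroup.bot_subgroupOf]
  have hKa' : ∀ k ∈ K, a * k = k * a := fun k hk =>
    (Subgroup.mem_centralizer_singleton_iff.mp (hKa hk)).symm
  -- a component not centralized by `K`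
  obtain ⟨J, hJ, hKJ⟩ : ∃ J : Subgroup X, Cfsg.IsComponent J ∧ ⁅K, J⁆ ≠ ⊥ := by
    by_contra hcon
    push_neg at hcon
    have h1 : Cfsg.layer X ≤ centralizer (K : Set X) := by
      unfold Cfsg.layer
      apply sSup_le
      intro J hJ
      have := hcon J hJ
      rw [Subgroup.commutator_comm, Subgroup.commutator_eq_bot_iff_le_centralizer] at this
      exact this
    have h2 : ⁅K, K⁆ = ⊥ := by
      rw [Subgroup.commutator_eq_bot_iff_le_centralizer]
      exact hKE.trans h1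
    rw [hperf] at h2
    exact hKne h2
  obtain ⟨Ja, hJadef⟩ : ∃ Ja : Subgroup X, Ja = MulAut.conj a • J := ⟨_, rfl⟩
  have hJa : Cfsg.IsComponent Ja := by rw [hJadef]; exact isComponent_conj_smul hJ a
  have hJaa : MulAut.conj a • Ja = J := by
    rw [hJadef, conj_smul_conj_smul, ha2, conj_one_smul]
  have hmemJa : ∀ x ∈ J, a * x * a⁻¹ ∈ Ja := fun x hx => by
    rw [hJadef]; exact conj_mem_conj_smul J a x hx
  have hmemJ : ∀ y ∈ Ja, a * y * a⁻¹ ∈ J := fun y hy => by
    rw [← hJaa]; exact conj_mem_conj_smul Ja a y hy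
  obtain ⟨E, hE⟩ : ∃ E : Subgroup X, E = Cfsg.layer X := ⟨_, rfl⟩
  haveI hEn : E.Normal := by rw [hE]; exact layer_normal
  have hJE : J ≤ E := by rw [hE]; exact component_le_layer hJ
  have hJaE : Ja ≤ E := by rw [hE]; exact component_le_layer hJa
  obtain ⟨N₁, hN₁⟩ : ∃ N₁ : Subgroup X, N₁ = J ⊔ Ja := ⟨_, rfl⟩
  obtain ⟨N₂, hN₂⟩ : ∃ N₂ : Subgroup X, N₂ = E ⊓ centralizer (N₁ : Set X) := ⟨_, rfl⟩
  have hJN₁ : J ≤ N₁ := by rw [hN₁]; exact le_sup_left
  have hJaN₁ : Ja ≤ N₁ := by rw [hN₁]; exact le_sup_right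
  have hN₁E : N₁ ≤ E := by rw [hN₁]; exact sup_le hJE hJaE
  have h12 : ∀ x ∈ N₁, ∀ y ∈ N₂, x * y = y * x := by
    intro x hx y hy
    rw [hN₂] at hy
    exact Subgroup.mem_centralizer_iff.mp hy.2 x hx
  have hconjN₁ : MulAut.conj a • N₁ = N₁ := by
    rw [hN₁, Subgroup.smul_sup, ← hJadef, hJaa, sup_comm]
  have haN₁ : ∀ x ∈ N₁, a * x * a⁻¹ ∈ N₁ := fun x hx => by
    have := conj_mem_conj_smul N₁ a x hx
    rwa [hconjN₁] at this
  have haN₂ : ∀ y ∈ N₂, a * y * a⁻¹ ∈ N₂ := by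
    intro y hy
    rw [hN₂] at hy ⊢
    refine ⟨hEn.conj_mem y hy.1 a, ?_⟩
    show a * y * a⁻¹ ∈ centralizer (N₁ : Set X)
    rw [Subgroup.mem_centralizer_iff]
    intro w hw
    have hw' : a⁻¹ * w * a ∈ N₁ := by
      have e : a⁻¹ * w * a = a * w * a⁻¹ := by rw [ainv]
      rw [e]; exact haN₁ w hw
    have hc := Subgroup.mem_centralizer_iff.mp hy.2 _ hw'
    calc w * (a * y * a⁻¹) = a * ((a⁻¹ * w * a) * y) * a⁻¹ := by group
      _ = a * (y * (a⁻¹ * w * a)) * a⁻¹ := by rw [hc]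
      _ = a * y * a⁻¹ * w := by group
  have hE12 : E ≤ N₁ ⊔ N₂ := by
    rw [hE]
    unfold Cfsg.layer
    apply sSup_le
    intro J' hJ'
    have hJ'c : Cfsg.IsComponent J' := hJ'
    by_cases h1 : J' = J
    · rw [h1]; exact hJN₁.trans le_sup_left
    by_cases h2 : J' = Ja
    · rw [h2]; exact hJaN₁.trans le_sup_left
    have c1 : ⁅J, J'⁆ = ⊥ := component_commutator_eq_bot_of_ne hJ hJ'c (Ne.symm h1)
    have c2 : ⁅Ja, J'⁆ = ⊥ := component_commutator_eq_bot_of_ne hJa hJ'c (Ne.symm h2)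
    rw [Subgroup.commutator_eq_bot_iff_le_centralizer] at c1 c2
    have h3 : J' ≤ N₂ := by
      rw [hN₂]
      refine le_inf ?_ ?_
      · rw [hE]; exact component_le_layer hJ'c
      · rw [Subgroup.le_centralizer_iff, hN₁]
        exact sup_le c1 c2
    exact h3.trans le_sup_right
  have hKsplit : ∀ k ∈ K, ∃ x ∈ N₁, ∃ y ∈ N₂, k = x * y := fun k hk =>
    exists_mul_of_mem_sup_comm h12 (hE12 (by rw [hE]; exact hKE hk))
  -- the dichotomy
  obtain ⟨C, hC⟩ : ∃ C : Subgroup X, C = centralizer ({a} : Set X) := ⟨_, rfl⟩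
  rw [← hC] at hKa hK
  obtain ⟨C₁, hC₁⟩ : ∃ C₁ : Subgroup X, C₁ = N₁ ⊓ C := ⟨_, rfl⟩
  have hC₁C : C₁ ≤ C := by rw [hC₁]; exact inf_le_right
  have htopE : ∀ Y : Subgroup X, Y ≤ normalizer (E : Set X) := fun Y => by
    rw [Subgroup.normalizer_eq_top_iff.mpr hEn]; exact le_top
  have hEN₁ : E ≤ normalizer (N₁ : Set X) := by
    intro g hg
    rw [hN₁]
    apply mem_normalizer_sup
    · exact layer_le_normalizer_component hJ (by rw [← hE]; exact hg)
    · exact layer_le_normalizer_component hJa (by rw [← hE]; exact hg)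
  have hsub : (C₁.subgroupOf C).IsSubnormal := by
    apply isSubnormal_subgroupOf_of_two_step (M := E ⊓ C)
    · rw [hC₁]; exact inf_le_inf_right C hN₁E
    · exact inf_le_right
    · exact le_trans (le_inf (htopE C) Subgroup.le_normalizer)
        Subgroup.inf_normalizer_le_normalizer_inf
    · rw [hC₁]
      exact le_trans (le_inf (inf_le_left.trans hEN₁) (inf_le_right.trans Subgroup.le_normalizer))
        Subgroup.inf_normalizer_le_normalizer_inf
  have hKN₁ : K ≤ N₁ := by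
    rcases le_or_commutator_eq_bot_of_isComponent_subgroupOf hKa hC₁C hK hsub with h | h
    · rw [hC₁] at h; exact h.trans inf_le_left
    · exfalso
      apply hKJ
      have hKC : ∀ k ∈ K, ∀ c ∈ N₁, a * c = c * a → k * c = c * k := by
        intro k hk c hc hac
        have hcC₁ : c ∈ C₁ := by
          rw [hC₁, hC]
          exact ⟨hc, Subgroup.mem_centralizer_singleton_iff.mpr hac.symm⟩
        have := Subgroup.commutator_eq_bot_iff_le_centralizer.mp h hk
        exact (Subgroup.mem_centralizer_iff.mp this c hcC₁).symm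
      have h3 := le_centralizer_of_centralizes_fixed a N₁ N₂ K h12 haN₁ haN₂ hKsplit hKa' hKC hperf
      rw [Subgroup.commutator_eq_bot_iff_le_centralizer]
      exact h3.trans (Subgroup.centralizer_le (SetLike.coe_subset_coe.mpr hJN₁))
  by_cases hne : Ja = J
  · left
    have hKJ' : K ≤ J := by
      rw [hN₁, hne, sup_idem] at hKN₁
      exact hKN₁
    have : K = J := Subgroup.eq_of_le_of_card_ge hKJ' (hmax J hJ)
    rw [this]; exact hJ
  · right
    refine ⟨J, hJ, by rw [← hJadef]; exact hne, ?_⟩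
    have hcomm : ⁅J, Ja⁆ = ⊥ := component_commutator_eq_bot_of_ne hJ hJa (Ne.symm hne)
    rw [Subgroup.commutator_eq_bot_iff_le_centralizer] at hcomm
    have hJJa : ∀ x ∈ J, ∀ y ∈ Ja, x * y = y * x := fun x hx y hy =>
      (Subgroup.mem_centralizer_iff.mp (hcomm hx) y hy).symm
    -- the diagonal homomorphism
    let δ : ↥J →* X :=
      { toFun := fun x => (x : X) * (a * (x : X) * a⁻¹)
        map_one' := by simp
        map_mul' := by
          intro x y
          have h := hJJa (y : X) y.2 (a * (x : X) * a⁻¹) (hmemJa _ x.2)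
          simp only [Subgroup.coe_mul]
          calc (x : X) * y * (a * ((x : X) * y) * a⁻¹)
              = x * ((y : X) * (a * (x : X) * a⁻¹)) * (a * y * a⁻¹) := by group
            _ = x * ((a * (x : X) * a⁻¹) * y) * (a * y * a⁻¹) := by rw [h]
            _ = x * (a * x * a⁻¹) * (y * (a * y * a⁻¹)) := by group }
    have hδ : ∀ x : ↥J, δ x = (x : X) * (a * (x : X) * a⁻¹) := fun _ => rfl
    obtain ⟨Z, hZ⟩ : ∃ Z : Subgroup X, Z = J ⊓ Ja := ⟨_, rfl⟩
    have hZN₁ : ∀ z ∈ Z, ∀ n ∈ N₁, z * n = n * z := by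
      intro z hz n hn
      rw [hZ] at hz
      rw [hN₁] at hn
      obtain ⟨x, hx, u, hu, rfl⟩ := exists_mul_of_mem_sup_comm hJJa hn
      have e1 : x * z = z * x := hJJa x hx z hz.2
      have e2 : z * u = u * z := hJJa z hz.1 u hu
      calc z * (x * u) = (z * x) * u := by group
        _ = (x * z) * u := by rw [e1]
        _ = x * (z * u) := by group
        _ = x * (u * z) := by rw [e2]
        _ = x * u * z := by group
    have hΔN₁ : δ.range ≤ N₁ := by
      rintro _ ⟨x, rfl⟩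
      rw [hδ]
      exact N₁.mul_mem (hJN₁ x.2) (hJaN₁ (hmemJa _ x.2))
    have hZleN₁ : Z ≤ N₁ := by rw [hZ]; exact inf_le_left.trans hJN₁
    have hΔZ : ∀ d ∈ δ.range, ∀ z ∈ Z, d * z = z * d := fun d hd z hz =>
      (hZN₁ z hz d (hΔN₁ hd)).symm
    have hKΔZ : K ≤ δ.range ⊔ Z := by
      intro k hk
      have hkN := hKN₁ hk
      rw [hN₁] at hkN
      obtain ⟨x, hx, u, hu, rfl⟩ := exists_mul_of_mem_sup_comm hJJa hkN
      -- `y = a u a⁻¹ ∈ J`, `z = x⁻¹ y ∈ J ⊓ Ja`
      have hy : a * u * a⁻¹ ∈ J := hmemJ u hu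
      have hfix : a * (x * u) * a⁻¹ = x * u := by rw [hKa' _ hk]; group
      have hcomm2 := hJJa (a * u * a⁻¹) hy (a * x * a⁻¹) (hmemJa x hx)
      have hz2 : x⁻¹ * (a * u * a⁻¹) = u * (a * x * a⁻¹)⁻¹ := by
        rw [eq_mul_inv_iff_mul_eq]
        calc x⁻¹ * (a * u * a⁻¹) * (a * x * a⁻¹)
            = x⁻¹ * ((a * u * a⁻¹) * (a * x * a⁻¹)) := by group
          _ = x⁻¹ * ((a * x * a⁻¹) * (a * u * a⁻¹)) := by rw [hcomm2]
          _ = x⁻¹ * (a * (x * u) * a⁻¹) := by group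
          _ = x⁻¹ * (x * u) := by rw [hfix]
          _ = u := by group
      have hzZ : x⁻¹ * (a * u * a⁻¹) ∈ Z := by
        rw [hZ]
        refine ⟨J.mul_mem (J.inv_mem hx) hy, ?_⟩
        rw [hz2]
        exact Ja.mul_mem hu (Ja.inv_mem (hmemJa x hx))
      have hazZ : a * (x⁻¹ * (a * u * a⁻¹)) * a⁻¹ ∈ Z := by
        rw [hZ] at hzZ ⊢
        exact ⟨hmemJ _ hzZ.2, hmemJa _ hzZ.1⟩
      have hk' : x * u = δ ⟨x, hx⟩ * (a * (x⁻¹ * (a * u * a⁻¹)) * a⁻¹) := by
        rw [hδ]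
        have e : a * (a * u * a⁻¹) * a⁻¹ = u := by
          calc a * (a * u * a⁻¹) * a⁻¹ = (a * a) * u * (a * a)⁻¹ := by group
            _ = u := by rw [ha2]; group
        calc x * u = x * (a * (a * u * a⁻¹) * a⁻¹) := by rw [e]
          _ = x * (a * x * a⁻¹) * (a * (x⁻¹ * (a * u * a⁻¹)) * a⁻¹) := by group
      rw [hk']
      exact Subgroup.mul_mem _ (Subgroup.mem_sup_left ⟨⟨x, hx⟩, rfl⟩) (Subgroup.mem_sup_right hazZ)
    have hKΔ : K ≤ δ.range := by
      rw [← hperf]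
      refine le_trans (Subgroup.commutator_mono hKΔZ hKΔZ) ?_
      rw [Subgroup.commutator_le]
      intro g₁ hg₁ g₂ hg₂
      obtain ⟨d₁, hd₁, z₁, hz₁, rfl⟩ := exists_mul_of_mem_sup_comm hΔZ hg₁
      obtain ⟨d₂, hd₂, z₂, hz₂, rfl⟩ := exists_mul_of_mem_sup_comm hΔZ hg₂
      rw [commutatorElement_mul_mul (hΔZ d₂ hd₂ z₁ hz₁).symm (hΔZ d₁ hd₁ z₂ hz₂).symm
        (hZN₁ z₁ hz₁ z₂ (hZleN₁ hz₂))]
      rw [commutatorElement_def]
      exact Subgroup.mul_mem _ (Subgroup.mul_mem _ (Subgroup.mul_mem _ hd₁ hd₂)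
        (Subgroup.inv_mem _ hd₁)) (Subgroup.inv_mem _ hd₂)
    have hc1 : Nat.card ↥δ.range ≤ Nat.card ↥J :=
      Nat.card_le_card_of_surjective δ.rangeRestrict δ.rangeRestrict_surjective
    have hc2 : Nat.card ↥K ≤ Nat.card ↥δ.range := Subgroup.card_le_of_le hKΔ
    have hc3 : Nat.card ↥J ≤ Nat.card ↥K := hmax J hJ
    have hKeq : K = δ.range := Subgroup.eq_of_le_of_card_ge hKΔ (hc1.trans hc3)
    have hbij : Function.Bijective δ.rangeRestrict :=
      δ.rangeRestrict_surjective.bijective_of_nat_card_le (hc3.trans hc2)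
    have hinj : Function.Injective δ := by
      intro x y hxy
      apply hbij.1
      exact Subtype.ext hxy
    refine ⟨?_, ?_, ?_⟩
    · intro k hk
      rw [hKeq] at hk
      obtain ⟨x, rfl⟩ := hk
      exact ⟨(x : X), x.2, hδ x⟩
    · intro x hx
      rw [hKeq]
      exact ⟨⟨x, hx⟩, rfl⟩
    · intro x hx h1
      have : δ ⟨x, hx⟩ = δ 1 := by rw [map_one, hδ]; exact h1
      have := hinj this
      exact congrArg Subtype.val this

end Cfsg.Agent.Helper7.MaxComp
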