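import Mathlib
import Cfsg.Agent.Lib.Helper7.MaxComp3
import Cfsg.Agent.Lib.Helper7.Cores

/-!
# Maximal components of involution centralizers, part 4 (helper7's library)

In the diagonal case `K = {x x^a : x ∈ J}`, `J ≠ J^a`, the centralizer of `J^a` has a larger
elementary abelian `2`-subgroup than the centralizer of `K` in `C(a)`, provided `m_2(K) ≥ 2`.
-/

set_option autoImplicit false

namespace Cfsg.Agent.Helper7.MaxComp

open Subgroup Cfsg.Agent.Helper7
open scoped commutatorElement Pointwise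

universe u

variable {X : Type u} [Group X] [Finite X]

theorem exists_large_of_diagonal {a : X} (ha : orderOf a = 2) {J K B U : Subgroup X}
    (hJ : Cfsg.IsComponent J) (hne : MulAut.conj a • J ≠ J)
    (h1 : ∀ k ∈ K, ∃ x ∈ J, k = x * (a * x * a⁻¹)) (h2 : ∀ x ∈ J, x * (a * x * a⁻¹) ∈ K)
    (h3 : ∀ x ∈ J, x * (a * x * a⁻¹) = 1 → x = 1)
    (hperf : ⁅K, K⁆ = K) (hKne : K ≠ ⊥)
    (hBa : B ≤ centralizer ({a} : Set X)) (hBK : B ≤ centralizer (K : Set X))
    (hBc : IsMulCommutative ↥B) (hB2 : ∀ b ∈ B, b ^ 2 = 1)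
    (hUK : U ≤ K) (hUc : IsMulCommutative ↥U) (hU2 : ∀ u ∈ U, u ^ 2 = 1)
    (hU4 : 4 ≤ Nat.card ↥U) :
    Nat.card ↥J = Nat.card ↥K ∧
      ∃ W : Subgroup X, W ≤ centralizer ((MulAut.conj a • J : Subgroup X) : Set X) ∧
        IsMulCommutative ↥W ∧ (∀ w ∈ W, w ^ 2 = 1) ∧ Nat.card ↥B < Nat.card ↥W := by
  have ha2 : a * a = 1 := by
    have := pow_orderOf_eq_one a
    rwa [ha, pow_two] at this
  obtain ⟨Ja, hJadef⟩ : ∃ Ja : Subgroup X, Ja = MulAut.conj a • J := ⟨_, rfl⟩
  rw [← hJadef]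
  have hJa : Cfsg.IsComponent Ja := by rw [hJadef]; exact isComponent_conj_smul hJ a
  have hJaa : MulAut.conj a • Ja = J := by
    rw [hJadef, conj_smul_conj_smul, ha2, conj_one_smul]
  have hmemJa : ∀ x ∈ J, a * x * a⁻¹ ∈ Ja := fun x hx => by
    rw [hJadef]; exact conj_mem_conj_smul J a x hx
  have hmemJ : ∀ y ∈ Ja, a * y * a⁻¹ ∈ J := fun y hy => by
    rw [← hJaa]; exact conj_mem_conj_smul Ja a y hy
  have hne' : Ja ≠ J := by rw [hJadef]; exact hne
  have hcomm : ⁅J, Ja⁆ = ⊥ := component_commutator_eq_bot_of_ne hJ hJa (Ne.symm hne')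
  rw [Subgroup.commutator_eq_bot_iff_le_centralizer] at hcomm
  have hJJa : ∀ x ∈ J, ∀ y ∈ Ja, x * y = y * x := fun x hx y hy =>
    (Subgroup.mem_centralizer_iff.mp (hcomm hx) y hy).symm
  let δ : ↥J →* X :=
    { toFun := fun x => (x : X) * (a * (x : X) * a⁻¹)
      map_one' := by simp
      map_mul' := by
        intro x y
        have h := hJJa (y : X) y.2 (a * (x : X) * a⁻¹) (hmemJa _ x.2)
        simp only [Subgroup.coe_mul]
        calc (x : X) * y * (a * ((x : X) * y) * a⁻¹)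
            = x * ((y : X) * (a * (x : X) * a⁻¹)) * (a * y * a⁻¹) := by group
          _ = x * ((a * (x : X) * a⁻¹) * y) * (a * y * a⁻¹) := by rw [h]
          _ = x * (a * x * a⁻¹) * (y * (a * y * a⁻¹)) := by group }
  have hδ : ∀ x : ↥J, δ x = (x : X) * (a * (x : X) * a⁻¹) := fun _ => rfl
  have hinj : Function.Injective δ := by
    intro x y hxy
    have h4 : δ (x⁻¹ * y) = 1 := by rw [map_mul, map_inv, hxy, inv_mul_cancel]
    have h5 := h3 ((x⁻¹ * y : ↥J) : X) (x⁻¹ * y).2 (by rw [← hδ]; exact h4)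
    have h6 : x⁻¹ * y = 1 := Subtype.ext h5
    exact inv_mul_eq_one.mp h6
  have hrange : δ.range = K := by
    ext k
    constructor
    · rintro ⟨x, rfl⟩
      rw [hδ]; exact h2 _ x.2
    · intro hk
      obtain ⟨x, hx, rfl⟩ := h1 k hk
      exact ⟨⟨x, hx⟩, rfl⟩
  have hcardJK : Nat.card ↥J = Nat.card ↥K := by
    rw [← hrange]; exact Nat.card_congr (δ.ofInjective hinj).toEquiv
  refine ⟨hcardJK, ?_⟩
  have hKJJa : K ≤ J ⊔ Ja := by
    intro k hk
    obtain ⟨x, hx, rfl⟩ := h1 k hk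
    exact Subgroup.mul_mem _ (Subgroup.mem_sup_left hx) (Subgroup.mem_sup_right (hmemJa x hx))
  -- `B` permutes `{J, Ja}`
  have hBact : ∀ c ∈ B, MulAut.conj c • J = J ∨ MulAut.conj c • J = Ja := by
    intro c hc
    by_contra hcon
    push_neg at hcon
    obtain ⟨hc1, hc2⟩ := hcon
    have hca : c * a = a * c := Subgroup.mem_centralizer_singleton_iff.mp (hBa hc)
    have hcK : ∀ k ∈ K, c * k * c⁻¹ = k := by
      intro k hk
      have := Subgroup.mem_centralizer_iff.mp (hBK hc) k hk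
      rw [← this]; group
    obtain ⟨Jc, hJc⟩ : ∃ Jc : Subgroup X, Jc = MulAut.conj c • J := ⟨_, rfl⟩
    obtain ⟨Jca, hJca⟩ : ∃ Jca : Subgroup X, Jca = MulAut.conj c • Ja := ⟨_, rfl⟩
    have hJcC : Cfsg.IsComponent Jc := by rw [hJc]; exact isComponent_conj_smul hJ c
    have hJcaC : Cfsg.IsComponent Jca := by rw [hJca]; exact isComponent_conj_smul hJa c
    have e1 : MulAut.conj a • Jc = Jca := by
      rw [hJc, hJca, hJadef, conj_smul_conj_smul, conj_smul_conj_smul, hca]
    have e2 : MulAut.conj a • Jca = Jc := by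
      rw [← e1, conj_smul_conj_smul, ha2, conj_one_smul]
    have n1 : Jc ≠ J := by rw [hJc]; exact hc1
    have n2 : Jc ≠ Ja := by rw [hJc]; exact hc2
    have n3 : Jca ≠ J := by
      intro h
      apply n2
      rw [← e2, h, hJadef]
    have n4 : Jca ≠ Ja := by
      intro h
      apply n1
      rw [← e2, h, hJaa]
    have d1 : ⁅J, Jc⁆ = ⊥ := component_commutator_eq_bot_of_ne hJ hJcC (Ne.symm n1)
    have d2 : ⁅Ja, Jc⁆ = ⊥ := component_commutator_eq_bot_of_ne hJa hJcC (Ne.symm n2)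
    have d3 : ⁅J, Jca⁆ = ⊥ := component_commutator_eq_bot_of_ne hJ hJcaC (Ne.symm n3)
    have d4 : ⁅Ja, Jca⁆ = ⊥ := component_commutator_eq_bot_of_ne hJa hJcaC (Ne.symm n4)
    rw [Subgroup.commutator_eq_bot_iff_le_centralizer] at d1 d2 d3 d4
    have hle1 : Jc ⊔ Jca ≤ centralizer ((J ⊔ Ja : Subgroup X) : Set X) := by
      apply sup_le
      · rw [Subgroup.le_centralizer_iff]; exact sup_le d1 d2
      · rw [Subgroup.le_centralizer_iff]; exact sup_le d3 d4
    have hle2 : K ≤ Jc ⊔ Jca := by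
      intro k hk
      have := conj_mem_conj_smul (J ⊔ Ja) c k (hKJJa hk)
      rw [hcK k hk, Subgroup.smul_sup, ← hJc, ← hJca] at this
      exact this
    have : ⁅K, K⁆ = ⊥ := by
      rw [Subgroup.commutator_eq_bot_iff_le_centralizer]
      exact (hle2.trans hle1).trans (Subgroup.centralizer_le (SetLike.coe_subset_coe.mpr hKJJa))
    rw [hperf] at this
    exact hKne this
  obtain ⟨B₀, hB₀⟩ : ∃ B₀ : Subgroup X, B₀ = B ⊓ normalizer (J : Set X) := ⟨_, rfl⟩
  have hB₀B : B₀ ≤ B := by rw [hB₀]; exact inf_le_left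
  have hB₀J : ∀ c ∈ B₀, ∀ x ∈ J, c * x * c⁻¹ = x := by
    intro c hc x hx
    rw [hB₀] at hc
    have hcx : c * x * c⁻¹ ∈ J := (Subgroup.mem_normalizer_iff.mp hc.2 x).mp hx
    have hca : c * a = a * c := Subgroup.mem_centralizer_singleton_iff.mp (hBa hc.1)
    have hck : c * (x * (a * x * a⁻¹)) * c⁻¹ = x * (a * x * a⁻¹) := by
      have := Subgroup.mem_centralizer_iff.mp (hBK hc.1) _ (h2 x hx)
      rw [← this]; group
    have h4 : δ ⟨c * x * c⁻¹, hcx⟩ = δ ⟨x, hx⟩ := by
      rw [hδ, hδ]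
      have e : a * (c * x * c⁻¹) * a⁻¹ = c * (a * x * a⁻¹) * c⁻¹ := by
        calc a * (c * x * c⁻¹) * a⁻¹ = (a * c) * x * (a * c)⁻¹ := by group
          _ = (c * a) * x * (c * a)⁻¹ := by rw [hca]
          _ = c * (a * x * a⁻¹) * c⁻¹ := by group
      show c * x * c⁻¹ * (a * (c * x * c⁻¹) * a⁻¹) = x * (a * x * a⁻¹)
      rw [e, ← hck]; group
    exact congrArg Subtype.val (hinj h4)
  have hB₀Ja : ∀ c ∈ B₀, ∀ y ∈ Ja, c * y * c⁻¹ = y := by
    intro c hc y hy
    have hx := hmemJ y hy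
    have hca : c * a = a * c := Subgroup.mem_centralizer_singleton_iff.mp (hBa (hB₀B hc))
    have e := hB₀J c hc _ hx
    have e2 : a * (c * y * c⁻¹) * a⁻¹ = a * y * a⁻¹ := by
      calc a * (c * y * c⁻¹) * a⁻¹ = (a * c) * y * (a * c)⁻¹ := by group
        _ = (c * a) * y * (c * a)⁻¹ := by rw [hca]
        _ = c * (a * y * a⁻¹) * c⁻¹ := by group
        _ = a * y * a⁻¹ := e
    exact mul_left_cancel (mul_right_cancel e2)
  have hidx : Nat.card ↥B ≤ 2 * Nat.card ↥B₀ := by
    by_cases hall : B ≤ normalizer (J : Set X)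
    · have : B₀ = B := by rw [hB₀]; exact inf_eq_left.mpr hall
      rw [this]; omega
    · obtain ⟨c₀, hc₀B, hc₀N⟩ := SetLike.not_le_iff_exists.mp hall
      have hc₀J : MulAut.conj c₀ • J = Ja := by
        rcases hBact c₀ hc₀B with h | h
        · exact absurd (mem_normalizer_of_conj_smul_eq h) hc₀N
        · exact h
      have hsub : (B : Set X) ⊆ (B₀ : Set X) ∪ (fun x => c₀ * x) '' (B₀ : Set X) := by
        intro c hc
        by_cases hcN : c ∈ normalizer (J : Set X)
        · left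
          show c ∈ B₀
          rw [hB₀]; exact ⟨hc, hcN⟩
        · right
          have hcJ : MulAut.conj c • J = Ja := by
            rcases hBact c hc with h | h
            · exact absurd (mem_normalizer_of_conj_smul_eq h) hcN
            · exact h
          refine ⟨c₀⁻¹ * c, ?_, by group⟩
          show c₀⁻¹ * c ∈ B₀
          rw [hB₀]
          refine ⟨B.mul_mem (B.inv_mem hc₀B) hc, ?_⟩
          apply mem_normalizer_of_conj_smul_eq
          rw [← conj_smul_conj_smul, hcJ, ← hc₀J, conj_smul_conj_smul, inv_mul_cancel,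
            conj_one_smul]
      have h1' : Nat.card ↥B = (B : Set X).ncard := Nat.card_coe_set_eq (B : Set X)
      have h2' : Nat.card ↥B₀ = (B₀ : Set X).ncard := Nat.card_coe_set_eq (B₀ : Set X)
      rw [h1', h2']
      calc (B : Set X).ncard ≤ ((B₀ : Set X) ∪ (fun x => c₀ * x) '' (B₀ : Set X)).ncard :=
            Set.ncard_le_ncard hsub (Set.toFinite _)
        _ ≤ (B₀ : Set X).ncard + ((fun x => c₀ * x) '' (B₀ : Set X)).ncard :=
            Set.ncard_union_le _ _
        _ ≤ (B₀ : Set X).ncard + (B₀ : Set X).ncard := by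
            apply Nat.add_le_add_left
            exact Set.ncard_image_le (Set.toFinite _)
        _ = 2 * (B₀ : Set X).ncard := by ring
  -- the elementary abelian subgroup of `J`
  obtain ⟨U', hU'⟩ : ∃ U' : Subgroup X, U' = (U.comap δ).map J.subtype := ⟨_, rfl⟩
  have hU'mem : ∀ u ∈ U', ∃ x : ↥J, δ x ∈ U ∧ (x : X) = u := by
    intro u hu
    rw [hU'] at hu
    obtain ⟨x, hx, rfl⟩ := hu
    exact ⟨x, hx, rfl⟩
  have hU'J : U' ≤ J := by rw [hU']; exact Subgroup.map_subtype_le _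
  have hU'card : Nat.card ↥U' = Nat.card ↥U := by
    rw [hU', card_map_subtype]
    have e : (U.comap δ).map δ = U := by
      rw [Subgroup.map_comap_eq, hrange]; exact inf_eq_right.mpr hUK
    calc Nat.card ↥(U.comap δ) = Nat.card ↥((U.comap δ).map δ) :=
          Nat.card_congr ((U.comap δ).equivMapOfInjective δ hinj).toEquiv
      _ = Nat.card ↥U := by rw [e]
  have hUcomm : ∀ u ∈ U, ∀ v ∈ U, u * v = v * u := by
    have := Subgroup.le_centralizer_iff_isMulCommutative.mpr hUc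
    intro u hu v hv
    exact (Subgroup.mem_centralizer_iff.mp (this hu) v hv).symm
  have hBcomm : ∀ u ∈ B, ∀ v ∈ B, u * v = v * u := by
    have := Subgroup.le_centralizer_iff_isMulCommutative.mpr hBc
    intro u hu v hv
    exact (Subgroup.mem_centralizer_iff.mp (this hu) v hv).symm
  have hU'comm : ∀ u ∈ U', ∀ v ∈ U', u * v = v * u := by
    intro u hu v hv
    obtain ⟨x, hx, rfl⟩ := hU'mem u hu
    obtain ⟨y, hy, rfl⟩ := hU'mem v hv
    have h4 : δ (x * y) = δ (y * x) := by rw [map_mul, map_mul]; exact hUcomm _ hx _ hy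
    exact congrArg Subtype.val (hinj h4)
  have hU'2 : ∀ u ∈ U', u ^ 2 = 1 := by
    intro u hu
    obtain ⟨x, hx, rfl⟩ := hU'mem u hu
    have h4 : δ (x ^ 2) = δ 1 := by rw [map_pow, hU2 _ hx, map_one]
    have h5 := congrArg Subtype.val (hinj h4)
    simpa using h5
  have hB₀U' : ∀ c ∈ B₀, ∀ u ∈ U', c * u = u * c := fun c hc u hu =>
    mul_inv_eq_iff_eq_mul.mp (hB₀J c hc u (hU'J hu))
  obtain ⟨W, hW⟩ : ∃ W : Subgroup X, W = B₀ ⊔ U' := ⟨_, rfl⟩
  have hB₀W : B₀ ≤ W := by rw [hW]; exact le_sup_left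
  have hU'W : U' ≤ W := by rw [hW]; exact le_sup_right
  have hWcent : W ≤ centralizer (Ja : Set X) := by
    rw [hW]
    apply sup_le
    · intro c hc
      rw [Subgroup.mem_centralizer_iff]
      intro y hy
      exact (mul_inv_eq_iff_eq_mul.mp (hB₀Ja c hc y hy)).symm
    · exact hU'J.trans hcomm
  have hWself : W ≤ centralizer (W : Set X) := by
    have a1 : B₀ ≤ centralizer (B₀ : Set X) := by
      intro x hx
      rw [Subgroup.mem_centralizer_iff]
      intro y hy
      exact hBcomm y (hB₀B hy) x (hB₀B hx)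
    have a2 : U' ≤ centralizer (B₀ : Set X) := by
      intro x hx
      rw [Subgroup.mem_centralizer_iff]
      intro y hy
      exact hB₀U' y hy x hx
    have a3 : B₀ ≤ centralizer (U' : Set X) := by
      intro x hx
      rw [Subgroup.mem_centralizer_iff]
      intro y hy
      exact (hB₀U' x hx y hy).symm
    have a4 : U' ≤ centralizer (U' : Set X) := by
      intro x hx
      rw [Subgroup.mem_centralizer_iff]
      intro y hy
      exact hU'comm y hy x hx
    rw [hW]
    apply sup_le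
    · rw [Subgroup.le_centralizer_iff]; exact sup_le a1 a2
    · rw [Subgroup.le_centralizer_iff]; exact sup_le a3 a4
  have hW2 : ∀ w ∈ W, w ^ 2 = 1 := by
    intro w hw
    rw [hW] at hw
    obtain ⟨c, hc, u, hu, rfl⟩ := exists_mul_of_mem_sup_comm hB₀U' hw
    have hcu : Commute c u := hB₀U' c hc u hu
    rw [hcu.mul_pow, hB2 c (hB₀B hc), hU'2 u hu, one_mul]
  have hdisj : ∀ w, w ∈ B₀ → w ∈ U' → w = 1 := by
    intro w hwB hwU
    have hwJ := hU'J hwU
    have hwa : w * a = a * w := Subgroup.mem_centralizer_singleton_iff.mp (hBa (hB₀B hwB))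
    apply h3 w hwJ
    have e : a * w * a⁻¹ = w := by rw [← hwa]; group
    rw [e, ← pow_two]; exact hB2 w (hB₀B hwB)
  have hinjf : Function.Injective (fun p : ↥B₀ × ↥U' => ((p.1 : X) * (p.2 : X))) := by
    rintro ⟨c, u⟩ ⟨c', u'⟩ h
    simp only at h
    have h4 : (c' : X)⁻¹ * c = u' * (u : X)⁻¹ := by
      calc (c' : X)⁻¹ * c = (c' : X)⁻¹ * (c * u) * (u : X)⁻¹ := by group
        _ = (c' : X)⁻¹ * (c' * u') * (u : X)⁻¹ := by rw [h]
        _ = u' * (u : X)⁻¹ := by group
    have h5 : (c' : X)⁻¹ * c = 1 := hdisj _ (B₀.mul_mem (B₀.inv_mem c'.2) c.2)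
      (by rw [h4]; exact U'.mul_mem u'.2 (U'.inv_mem u.2))
    have hcc : (c : X) = c' := (inv_mul_eq_one.mp h5).symm
    have huu : (u : X) = u' := by
      rw [hcc] at h; exact mul_left_cancel h
    exact Prod.ext (Subtype.ext hcc) (Subtype.ext huu)
  have hcardW : Nat.card ↥B₀ * Nat.card ↥U' ≤ Nat.card ↥W := by
    rw [← Nat.card_prod]
    let f : ↥B₀ × ↥U' → ↥W :=
      fun p => ⟨(p.1 : X) * (p.2 : X), W.mul_mem (hB₀W p.1.2) (hU'W p.2.2)⟩
    apply Nat.card_le_card_of_injective f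
    intro p q hpq
    apply hinjf
    exact congrArg Subtype.val hpq
  refine ⟨W, hWcent, Subgroup.le_centralizer_iff_isMulCommutative.mp hWself, hW2, ?_⟩
  have hpos : 0 < Nat.card ↥B := Nat.card_pos
  have h4 : 4 * Nat.card ↥B₀ ≤ Nat.card ↥B₀ * Nat.card ↥U' := by
    rw [mul_comm]
    exact Nat.mul_le_mul_left _ (by rw [hU'card]; exact hU4)
  omega

end Cfsg.Agent.Helper7.MaxComp
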