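import Mathlib
import Cfsg.Agent.Lib.Helper7.MaxComp4

/-!
# Maximal components of involution centralizers, part 5 (helper7's library)

The plumbing between a group `G`, a subgroup `C` (a second involution centralizer) regarded as a
group, and the elementary abelian subgroups of either.
-/

set_option autoImplicit false

namespace Cfsg.Agent.Helper7.MaxComp

open Subgroup Cfsg.Agent.Helper7
open scoped commutatorElement Pointwise

universe u

variable {G : Type u} [Group G]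

theorem comm_of_isMulCommutative {H : Subgroup G} (h : IsMulCommutative ↥H) :
    ∀ u ∈ H, ∀ v ∈ H, u * v = v * u := by
  have := Subgroup.le_centralizer_iff_isMulCommutative.mpr h
  intro u hu v hv
  exact (Subgroup.mem_centralizer_iff.mp (this hu) v hv).symm

theorem isMulCommutative_of_comm {H : Subgroup G} (h : ∀ u ∈ H, ∀ v ∈ H, u * v = v * u) :
    IsMulCommutative ↥H := by
  apply Subgroup.le_centralizer_iff_isMulCommutative.mp
  intro x hx
  rw [Subgroup.mem_centralizer_iff]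
  intro y hy
  exact h y hy x hx

theorem elemAb_subgroupOf {H C : Subgroup G} (hHC : H ≤ C)
    (hc : ∀ u ∈ H, ∀ v ∈ H, u * v = v * u) (h2 : ∀ u ∈ H, u ^ 2 = 1) :
    IsMulCommutative ↥(H.subgroupOf C) ∧ (∀ x ∈ H.subgroupOf C, x ^ 2 = 1) ∧
      Nat.card ↥(H.subgroupOf C) = Nat.card ↥H := by
  refine ⟨?_, ?_, card_subgroupOf_of_le hHC⟩
  · apply isMulCommutative_of_comm
    intro x hx y hy
    apply Subtype.ext
    exact hc x.1 (Subgroup.mem_subgroupOf.mp hx) y.1 (Subgroup.mem_subgroupOf.mp hy)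
  · intro x hx
    apply Subtype.ext
    rw [Subgroup.coe_pow, Subgroup.coe_one]
    exact h2 x.1 (Subgroup.mem_subgroupOf.mp hx)

theorem elemAb_map_subtype {C : Subgroup G} (W : Subgroup ↥C)
    (hc : IsMulCommutative ↥W) (h2 : ∀ w ∈ W, w ^ 2 = 1) :
    (∀ u ∈ W.map C.subtype, ∀ v ∈ W.map C.subtype, u * v = v * u) ∧
      (∀ u ∈ W.map C.subtype, u ^ 2 = 1) ∧
      Nat.card ↥(W.map C.subtype) = Nat.card ↥W := by
  have hc' := comm_of_isMulCommutative hc
  refine ⟨?_, ?_, card_map_subtype W⟩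
  · rintro u ⟨x, hx, rfl⟩ v ⟨y, hy, rfl⟩
    exact congrArg Subtype.val (hc' x hx y hy)
  · rintro u ⟨x, hx, rfl⟩
    have := congrArg Subtype.val (h2 x hx)
    rwa [Subgroup.coe_pow, Subgroup.coe_one] at this

/-- An elementary abelian `2`-group whose order exceeds `2` has order at least `4` and even
order. -/
theorem four_le_card_of_two_lt [Finite G] {A : Subgroup G} (h2 : ∀ u ∈ A, u ^ 2 = 1)
    (hlt : 2 ^ 1 < Nat.card ↥A) : 4 ≤ Nat.card ↥A ∧ 2 ∣ Nat.card ↥A := by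
  haveI : Fact (Nat.Prime 2) := ⟨Nat.prime_two⟩
  have hp : IsPGroup 2 ↥A := by
    intro x
    refine ⟨1, ?_⟩
    apply Subtype.ext
    rw [pow_one, Subgroup.coe_pow, Subgroup.coe_one]
    exact h2 x.1 x.2
  obtain ⟨n, hn⟩ := IsPGroup.iff_card.mp hp
  rw [hn] at hlt ⊢
  have hn2 : 2 ≤ n := by
    by_contra hcon
    push_neg at hcon
    interval_cases n <;> simp at hlt
  obtain ⟨m, rfl⟩ : ∃ m, n = m + 2 := ⟨n - 2, by omega⟩
  constructor
  · have : 1 ≤ 2 ^ m := Nat.one_le_two_pow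
    rw [pow_add]; omega
  · exact ⟨2 ^ (m + 1), by ring⟩

theorem card_eq_two_pow [Finite G] {B : Subgroup G} (h2 : ∀ u ∈ B, u ^ 2 = 1) :
    ∃ k : ℕ, Nat.card ↥B = 2 ^ k := by
  haveI : Fact (Nat.Prime 2) := ⟨Nat.prime_two⟩
  have hp : IsPGroup 2 ↥B := by
    intro x
    refine ⟨1, ?_⟩
    apply Subtype.ext
    rw [pow_one, Subgroup.coe_pow, Subgroup.coe_one]
    exact h2 x.1 x.2
  exact IsPGroup.iff_card.mp hp

/-- **The maximal component lemma, relative to a subgroup `C`** (which will be `C_G(b)`). -/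
theorem isComponent_subgroupOf_of_maximal [Finite G] {C : Subgroup G} {a : G} (haC : a ∈ C)
    (ha : orderOf a = 2) {K : Subgroup G} (hKC : K ≤ C)
    (hKa : K ≤ centralizer ({a} : Set G))
    (hK : Cfsg.IsComponent (K.subgroupOf (centralizer ({a} : Set G))))
    (hBX : ⁅Cfsg.pLayer 2 ↥C, Cfsg.pPrimeCore 2 ↥C⁆ = ⊥)
    (hmax : ∀ K' : Subgroup G, K' ≤ C → Cfsg.IsComponent (K'.subgroupOf C) →
      Nat.card ↥K' ≤ Nat.card ↥K ∧ (Nat.card ↥K' = Nat.card ↥K → ∀ k : ℕ,
        Cfsg.PRankLE 2 k ↥(centralizer ({a} : Set G) ⊓ centralizer (K : Set G)) →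
        Cfsg.PRankLE 2 k ↥(C ⊓ centralizer (K' : Set G))))
    (hrk : ¬ Cfsg.PRankLE 2 1 ↥K) {B : Subgroup G}
    (hBle : B ≤ centralizer ({a} : Set G) ⊓ centralizer (K : Set G))
    (hBel : Cfsg.IsElementaryAbelian 2 B)
    (hBmax : ∀ B' : Subgroup G, B' ≤ centralizer ({a} : Set G) ⊓ centralizer (K : Set G) →
      Cfsg.IsElementaryAbelian 2 B' → Nat.card ↥B' ≤ Nat.card ↥B)
    (hBC : B ≤ C) : Cfsg.IsComponent (K.subgroupOf C) := by
  obtain ⟨hBc, hB2⟩ := hBel
  have hBcomm := comm_of_isMulCommutative hBc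
  -- the rank hypothesis
  unfold Cfsg.PRankLE at hrk
  push_neg at hrk
  obtain ⟨A, hAc, hA2, hAcard⟩ := hrk
  obtain ⟨hAGc, hAG2, hAGcard⟩ := elemAb_map_subtype A hAc hA2
  obtain ⟨AG, hAG⟩ : ∃ AG : Subgroup G, AG = A.map K.subtype := ⟨_, rfl⟩
  rw [← hAG] at hAGc hAG2 hAGcard
  have hAGK : AG ≤ K := by rw [hAG]; exact Subgroup.map_subtype_le A
  rw [← hAGcard] at hAcard
  obtain ⟨hAG4, hAGeven⟩ := four_le_card_of_two_lt hAG2 hAcard
  have hKeven : 2 ∣ Nat.card ↥K := hAGeven.trans (Subgroup.card_dvd_of_le hAGK)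
  -- the group `X = C`
  obtain ⟨a', ha'def⟩ : ∃ a' : ↥C, a' = ⟨a, haC⟩ := ⟨_, rfl⟩
  have ha'val : (a' : G) = a := by rw [ha'def]
  have ha' : orderOf a' = 2 := by rw [ha'def, Subgroup.orderOf_mk]; exact ha
  obtain ⟨K', hK'def⟩ : ∃ K' : Subgroup ↥C, K' = K.subgroupOf C := ⟨_, rfl⟩
  have hK'mem : ∀ x : ↥C, x ∈ K' ↔ (x : G) ∈ K := fun x => by
    rw [hK'def]; exact Subgroup.mem_subgroupOf
  have hK'card : Nat.card ↥K' = Nat.card ↥K := by rw [hK'def]; exact card_subgroupOf_of_le hKC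
  have hcentmem : ∀ x : ↥C, x ∈ centralizer ({a'} : Set ↥C) ↔
      (x : G) ∈ centralizer ({a} : Set G) := by
    intro x
    rw [Subgroup.mem_centralizer_singleton_iff, Subgroup.mem_centralizer_singleton_iff,
      ← ha'val]
    constructor
    · intro h; exact congrArg Subtype.val h
    · intro h; exact Subtype.ext h
  have hK'a : K' ≤ centralizer ({a'} : Set ↥C) := fun x hx =>
    (hcentmem x).mpr (hKa ((hK'mem x).mp hx))
  have hK'comp : Cfsg.IsComponent (K'.subgroupOf (centralizer ({a'} : Set ↥C))) := by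
    constructor
    · let φ : ↥(centralizer ({a'} : Set ↥C)) →* ↥(centralizer ({a} : Set G)) :=
        (C.subtype.comp (centralizer ({a'} : Set ↥C)).subtype).codRestrict
          (centralizer ({a} : Set G)) (fun x => (hcentmem x.1).mp x.2)
      have h := hK.1.comap φ
      convert h using 1
      ext x
      rw [Subgroup.mem_subgroupOf, hK'mem]
      rfl
    · rw [isQuasisimple_subgroupOf hK'a, hK'def, isQuasisimple_subgroupOf hKC]
      exact (isQuasisimple_subgroupOf hKa).mp hK.2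
  have heven' : 2 ∣ Nat.card ↥K' := by rw [hK'card]; exact hKeven
  have hmaxX : ∀ J : Subgroup ↥C, Cfsg.IsComponent J → Nat.card ↥J ≤ Nat.card ↥K' := by
    intro J hJ
    have h := (hmax (J.map C.subtype) (Subgroup.map_subtype_le J)
      (by rw [subgroupOf_map_subtype_self]; exact hJ)).1
    rw [card_map_subtype] at h
    rw [hK'card]; exact h
  rcases isComponent_or_diagonal hBX ha' hK'a hK'comp heven' hmaxX with
    h | ⟨J, hJ, hne, h1, h2, h3⟩
  · rw [← hK'def]; exact h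
  exfalso
  have hperf : ⁅K', K'⁆ = K' := by
    have h := component_perfect hK'comp
    have h' := congrArg (Subgroup.map (centralizer ({a'} : Set ↥C)).subtype) h
    rwa [Subgroup.map_commutator, Subgroup.map_subgroupOf_eq_of_le hK'a] at h'
  have hKne : K' ≠ ⊥ := by
    intro h
    rw [h, Subgroup.card_bot] at heven'
    omega
  -- `B` and `U` inside `X`
  obtain ⟨hB'c, hB'2, hB'card⟩ := elemAb_subgroupOf hBC hBcomm hB2
  obtain ⟨B', hB'def⟩ : ∃ B' : Subgroup ↥C, B' = B.subgroupOf C := ⟨_, rfl⟩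
  rw [← hB'def] at hB'c hB'2 hB'card
  have hB'mem : ∀ x : ↥C, x ∈ B' ↔ (x : G) ∈ B := fun x => by
    rw [hB'def]; exact Subgroup.mem_subgroupOf
  have hB'a : B' ≤ centralizer ({a'} : Set ↥C) := fun x hx =>
    (hcentmem x).mpr (hBle ((hB'mem x).mp hx)).1
  have hB'K : B' ≤ centralizer (K' : Set ↥C) := by
    intro x hx
    rw [Subgroup.mem_centralizer_iff]
    intro k hk
    apply Subtype.ext
    exact Subgroup.mem_centralizer_iff.mp (hBle ((hB'mem x).mp hx)).2 k.1 ((hK'mem k).mp hk)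
  obtain ⟨hUc, hU2, hUcard⟩ := elemAb_subgroupOf (hAGK.trans hKC) hAGc hAG2
  obtain ⟨U, hUdef⟩ : ∃ U : Subgroup ↥C, U = AG.subgroupOf C := ⟨_, rfl⟩
  rw [← hUdef] at hUc hU2 hUcard
  have hUK : U ≤ K' := by
    intro x hx
    rw [hUdef] at hx
    exact (hK'mem x).mpr (hAGK (Subgroup.mem_subgroupOf.mp hx))
  have hU4 : 4 ≤ Nat.card ↥U := by rw [hUcard]; exact hAG4
  obtain ⟨hcardJK, W, hWcent, hWc, hW2, hWcard⟩ :=
    exists_large_of_diagonal ha' hJ hne h1 h2 h3 hperf hKne hB'a hB'K hB'c hB'2 hUK hUc hU2 hU4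
  -- the component `J^a` of `C`
  obtain ⟨Ja, hJadef⟩ : ∃ Ja : Subgroup ↥C, Ja = MulAut.conj a' • J := ⟨_, rfl⟩
  rw [← hJadef] at hWcent
  have hJa : Cfsg.IsComponent Ja := by rw [hJadef]; exact isComponent_conj_smul hJ a'
  have hJacard : Nat.card ↥Ja = Nat.card ↥J := by
    rw [hJadef]
    exact (Nat.card_congr (Subgroup.equivSMul (MulAut.conj a') J).toEquiv).symm
  obtain ⟨JaG, hJaGdef⟩ : ∃ JaG : Subgroup G, JaG = Ja.map C.subtype := ⟨_, rfl⟩
  have hJaGC : JaG ≤ C := by rw [hJaGdef]; exact Subgroup.map_subtype_le Ja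
  have hJaGcomp : Cfsg.IsComponent (JaG.subgroupOf C) := by
    rw [hJaGdef, subgroupOf_map_subtype_self]; exact hJa
  have hJaGcard : Nat.card ↥JaG = Nat.card ↥K := by
    rw [hJaGdef, card_map_subtype, hJacard, hcardJK, hK'card]
  obtain ⟨k, hk⟩ := card_eq_two_pow hB2
  have hrankA : Cfsg.PRankLE 2 k ↥(centralizer ({a} : Set G) ⊓ centralizer (K : Set G)) := by
    intro A₁ hA₁c hA₁2
    obtain ⟨e1, e2, e3⟩ := elemAb_map_subtype A₁ hA₁c hA₁2
    rw [← hk, ← e3]
    exact hBmax _ (Subgroup.map_subtype_le A₁) ⟨isMulCommutative_of_comm e1, e2⟩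
  have hrankB := (hmax JaG hJaGC hJaGcomp).2 hJaGcard k hrankA
  -- the large elementary abelian subgroup
  obtain ⟨f1, f2, f3⟩ := elemAb_map_subtype W hWc hW2
  obtain ⟨WG, hWGdef⟩ : ∃ WG : Subgroup G, WG = W.map C.subtype := ⟨_, rfl⟩
  rw [← hWGdef] at f1 f2 f3
  have hWGle : WG ≤ C ⊓ centralizer (JaG : Set G) := by
    refine le_inf (by rw [hWGdef]; exact Subgroup.map_subtype_le W) ?_
    intro w hw
    rw [hWGdef] at hw
    obtain ⟨w', hw', rfl⟩ := hw
    rw [Subgroup.mem_centralizer_iff]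
    intro y hy
    rw [hJaGdef] at hy
    obtain ⟨y', hy', rfl⟩ := hy
    exact congrArg Subtype.val (Subgroup.mem_centralizer_iff.mp (hWcent hw') y' hy')
  obtain ⟨g1, g2, g3⟩ := elemAb_subgroupOf hWGle f1 f2
  have := hrankB _ g1 g2
  rw [g3, f3, ← hk, ← hB'card] at this
  omega

end Cfsg.Agent.Helper7.MaxComp
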