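import Mathlib
import Cfsg.Prelude.Def_OddOrderLocal
import Cfsg.Agent.Lib.Helper16.OddUnique
import Cfsg.Agent.Lib.Helper7.MaxComp2
import Cfsg.Agent.Lib.Helper7.MaxComp5
import Cfsg.Agent.Lib.Helper7.LpB4

/-!
# Generic lemmas for BG Lemma 12.1 (helper7's library)

* `le_of_coprime_card_index`: a subgroup whose order is coprime to the index of a normal subgroup
  lies in it;
* `normal_of_isNilpotent_of_hall`: Hall subgroups of nilpotent groups are normal;
* `isCyclic_of_pRankLE_one`: for `p` odd, a `p`-group of `p`-rank at most `1` is cyclic;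
* `pRankLE_of_injective`.
-/

set_option autoImplicit false

namespace Cfsg.Agent.Helper7.BG12

open Subgroup Cfsg.Agent.Helper7 Cfsg.Agent.Helper7.MaxComp
open scoped commutatorElement Pointwise

universe u v

theorem le_of_coprime_card_index {G : Type u} [Group G] [Finite G] (N : Subgroup G) [N.Normal]
    (H : Subgroup G) (h : (Nat.card ↥H).Coprime N.index) : H ≤ N := by
  intro x hx
  have h1 : orderOf (QuotientGroup.mk' N x) ∣ Nat.card ↥H :=
    (orderOf_map_dvd _ x).trans (Subgroup.orderOf_dvd_natCard H hx)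
  have h2 : orderOf (QuotientGroup.mk' N x) ∣ N.index := by
    rw [Subgroup.index_eq_card]; exact orderOf_dvd_natCard _
  have h3 : orderOf (QuotientGroup.mk' N x) = 1 := Nat.eq_one_of_dvd_coprimes h h1 h2
  rw [orderOf_eq_one_iff, QuotientGroup.mk'_apply, QuotientGroup.eq_one_iff] at h3
  exact h3

theorem card_conj_smul {G : Type u} [Group G] (g : G) (H : Subgroup G) :
    Nat.card ↥(MulAut.conj g • H) = Nat.card ↥H :=
  (Nat.card_congr (Subgroup.equivSMul (MulAut.conj g) H).toEquiv).symm

/-- In a finite group, `g H g⁻¹ ≤ H` forces `g ∈ N(H)`. -/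
theorem mem_normalizer_of_conj_smul_le {G : Type u} [Group G] [Finite G] {H : Subgroup G} {g : G}
    (h : MulAut.conj g • H ≤ H) : g ∈ normalizer (H : Set G) := by
  apply mem_normalizer_of_conj_smul_eq
  exact Subgroup.eq_of_le_of_card_ge h (by rw [card_conj_smul])

theorem coprime_of_forall_prime {a b : ℕ} (h : ∀ p : ℕ, p.Prime → p ∣ a → ¬ p ∣ b) :
    a.Coprime b := by
  by_contra hcon
  obtain ⟨p, hp, hpa, hpb⟩ := Nat.Prime.not_coprime_iff_dvd.mp hcon
  exact h p hp hpa hpb

/-- Hall subgroups of finite nilpotent groups are normal. -/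
theorem normal_of_isNilpotent_of_hall {G : Type u} [Group G] [Finite G] [Group.IsNilpotent G]
    (H : Subgroup G) (h : (Nat.card ↥H).Coprime H.index) : H.Normal := by
  by_contra hnot
  have hN : normalizer (H : Set G) ≠ ⊤ := fun htop =>
    hnot (Subgroup.normalizer_eq_top_iff.mp htop)
  have hlt := normalizerCondition_of_isNilpotent (normalizer (H : Set G))
    (lt_top_iff_ne_top.mpr hN)
  obtain ⟨g, hg, hgN⟩ := SetLike.exists_of_lt hlt
  apply hgN
  obtain ⟨N, hNdef⟩ : ∃ N : Subgroup G, N = normalizer (H : Set G) := ⟨_, rfl⟩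
  rw [← hNdef] at hg ⊢
  have hHN : H ≤ N := by rw [hNdef]; exact Subgroup.le_normalizer
  have hnorm : (H.subgroupOf N).Normal := by
    rw [hNdef]; exact Subgroup.normal_in_normalizer
  -- `g H g⁻¹ ≤ N`
  have hconjN : MulAut.conj g • H ≤ N := by
    have h1 : MulAut.conj g • H ≤ MulAut.conj g • N := by
      intro x hx
      rw [Subgroup.mem_pointwise_smul_iff_inv_smul_mem] at hx ⊢
      exact hHN hx
    rw [conj_smul_eq_of_mem_normalizer hg] at h1
    exact h1
  -- coprimality inside `N`
  have hidx : (H.subgroupOf N).index ∣ H.index := by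
    have := Subgroup.relIndex_dvd_index_of_le hHN
    exact this
  have hcop : (Nat.card ↥((MulAut.conj g • H).subgroupOf N)).Coprime (H.subgroupOf N).index := by
    rw [card_subgroupOf_of_le hconjN, card_conj_smul]
    exact Nat.Coprime.coprime_dvd_right hidx h
  have hle := le_of_coprime_card_index (H.subgroupOf N) ((MulAut.conj g • H).subgroupOf N) hcop
  have hle' : MulAut.conj g • H ≤ H := (subgroupOf_le_subgroupOf_iff hconjN).mp hle
  rw [hNdef]
  exact mem_normalizer_of_conj_smul_le hle'

theorem pRankLE_of_injective {K : Type u} {H : Type v} [Group K] [Group H] {p k : ℕ}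
    (f : K →* H) (hf : Function.Injective f) (h : Cfsg.PRankLE p k H) : Cfsg.PRankLE p k K := by
  intro A hAc hAp
  have hc := comm_of_isMulCommutative hAc
  have h1 : IsMulCommutative ↥(A.map f) := by
    apply isMulCommutative_of_comm
    rintro _ ⟨x, hx, rfl⟩ _ ⟨y, hy, rfl⟩
    rw [← map_mul, ← map_mul, hc x hx y hy]
  have h2 : ∀ a ∈ A.map f, a ^ p = 1 := by
    rintro _ ⟨x, hx, rfl⟩
    rw [← map_pow, hAp x hx, map_one]
  have h3 := h (A.map f) h1 h2
  have h4 : Nat.card ↥(A.map f) = Nat.card ↥A :=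
    (Nat.card_congr (A.equivMapOfInjective f hf).toEquiv).symm
  rw [h4] at h3
  exact h3

/-- For `p` odd, a finite `p`-group of `p`-rank at most `1` is cyclic. -/
theorem isCyclic_of_pRankLE_one {P : Type u} [Group P] [Finite P] {p : ℕ} [hp : Fact p.Prime]
    (hodd : Odd p) (hP : IsPGroup p P) (hr : Cfsg.PRankLE p 1 P) : IsCyclic P := by
  apply Cfsg.Agent.Helper16.isCyclic_of_uniqueOrderP_odd hodd hP
  intro x y hx hy
  have hx1 : x ≠ 1 := by
    intro h
    rw [h, orderOf_one] at hx
    exact hp.out.one_lt.ne hx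
  haveI : Nontrivial P := ⟨⟨x, 1, hx1⟩⟩
  haveI := hP.center_nontrivial
  -- an element of order `p` in the centre
  have hdvd : p ∣ Nat.card ↥(center P) := by
    have hc : IsPGroup p ↥(center P) := hP.to_subgroup _
    obtain ⟨n, hn⟩ := IsPGroup.iff_card.mp hc
    have hn0 : n ≠ 0 := by
      intro h0
      rw [h0, pow_zero] at hn
      have : Subsingleton ↥(center P) := (Nat.card_eq_one_iff_unique.mp hn).1
      exact not_subsingleton _ this
    rw [hn]
    exact dvd_pow_self p hn0
  obtain ⟨z', hz'⟩ := exists_prime_orderOf_dvd_card' p hdvd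
  obtain ⟨z, hzc⟩ := z'
  rw [Subgroup.orderOf_mk] at hz'
  have hz1 : z ≠ 1 := by
    intro h
    rw [h, orderOf_one] at hz'
    exact hp.out.one_lt.ne hz'
  -- every element of order `p` generates the same subgroup as `z`
  have key : ∀ u : P, orderOf u = p → zpowers z = zpowers u := by
    intro u hu
    obtain ⟨A, hA⟩ : ∃ A : Subgroup P, A = zpowers u ⊔ zpowers z := ⟨_, rfl⟩
    have hcomm : ∀ a ∈ zpowers u, ∀ b ∈ zpowers z, a * b = b * a := by
      intro a _ b hb
      have hbc : b ∈ center P := (Subgroup.zpowers_le.mpr hzc) hb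
      exact (Subgroup.mem_center_iff.mp hbc a)
    have hupow : ∀ a ∈ zpowers u, a ^ p = 1 := by
      rintro a ⟨i, rfl⟩
      rw [← zpow_natCast, ← zpow_mul, mul_comm, zpow_mul, zpow_natCast, ← hu,
        pow_orderOf_eq_one, one_zpow]
    have hzpow : ∀ b ∈ zpowers z, b ^ p = 1 := by
      rintro b ⟨i, rfl⟩
      rw [← zpow_natCast, ← zpow_mul, mul_comm, zpow_mul, zpow_natCast, ← hz',
        pow_orderOf_eq_one, one_zpow]
    have hAcomm : ∀ a ∈ A, ∀ b ∈ A, a * b = b * a := by
      intro a ha b hb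
      rw [hA] at ha hb
      obtain ⟨a1, ha1, a2, ha2, rfl⟩ := exists_mul_of_mem_sup_comm hcomm ha
      obtain ⟨b1, hb1, b2, hb2, rfl⟩ := exists_mul_of_mem_sup_comm hcomm hb
      have e1 : a1 * b1 = b1 * a1 := by
        obtain ⟨i, rfl⟩ := ha1
        obtain ⟨j, rfl⟩ := hb1
        exact (Commute.zpow_zpow_self u i j).eq
      have e2 : ∀ b : P, a2 * b = b * a2 := fun b => by
        have hbc : a2 ∈ center P := (Subgroup.zpowers_le.mpr hzc) ha2
        exact (Subgroup.mem_center_iff.mp hbc b).symm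
      have e3 : ∀ a : P, b2 * a = a * b2 := fun a => by
        have hbc : b2 ∈ center P := (Subgroup.zpowers_le.mpr hzc) hb2
        exact (Subgroup.mem_center_iff.mp hbc a).symm
      calc a1 * a2 * (b1 * b2) = a1 * (a2 * b1) * b2 := by group
        _ = a1 * (b1 * a2) * b2 := by rw [e2 b1]
        _ = (a1 * b1) * (a2 * b2) := by group
        _ = (b1 * a1) * (b2 * a2) := by rw [e1, e2 b2]
        _ = b1 * (a1 * b2) * a2 := by group
        _ = b1 * (b2 * a1) * a2 := by rw [← e3 a1]
        _ = b1 * b2 * (a1 * a2) := by group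
    have hApow : ∀ a ∈ A, a ^ p = 1 := by
      intro a ha
      rw [hA] at ha
      obtain ⟨a1, ha1, a2, ha2, rfl⟩ := exists_mul_of_mem_sup_comm hcomm ha
      have hc : Commute a1 a2 := hcomm a1 ha1 a2 ha2
      rw [hc.mul_pow, hupow a1 ha1, hzpow a2 ha2, one_mul]
    have hcard := hr A (isMulCommutative_of_comm hAcomm) hApow
    rw [pow_one] at hcard
    have huA : zpowers u ≤ A := by rw [hA]; exact le_sup_left
    have hzA : zpowers z ≤ A := by rw [hA]; exact le_sup_right
    have hcu : Nat.card ↥(zpowers u) = p := by rw [Nat.card_zpowers, hu]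
    have hcz : Nat.card ↥(zpowers z) = p := by rw [Nat.card_zpowers, hz']
    have e1 : zpowers u = A := Subgroup.eq_of_le_of_card_ge huA (by rw [hcu]; exact hcard)
    have e2 : zpowers z = A := Subgroup.eq_of_le_of_card_ge hzA (by rw [hcz]; exact hcard)
    rw [e1, e2]
  rw [← key x hx, key y hy]
  exact Subgroup.mem_zpowers y

end Cfsg.Agent.Helper7.BG12
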