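import Mathlib
import Cfsg.Prelude.Def_OddOrderLocal
import Cfsg.Agent.Lib.Helper7.BG121a
import Cfsg.Agent.Lib.Helper7.Layer
import Cfsg.Agent.Lib.Helper7.Components

/-!
# BG Lemma 12.1 (helper7's library)

For a complement `E` of `M_σ` in `M`: `E'` is nilpotent, Hall `τ₁(M)`-subgroups of `E` are
cyclic, Hall `τ₃(M)`-subgroups of `E` are cyclic, lie in `E'` and are normal in `E`.  The only
input from the theory of maximal subgroups is BG Theorem 10.2 (`M_α ≤ M_σ`, `M'/M_α` nilpotent).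
-/

set_option autoImplicit false

namespace Cfsg.Agent.Helper7.BG12

open Subgroup Cfsg.Agent.Helper7 Cfsg.Agent.Helper7.MaxComp
open scoped commutatorElement Pointwise

universe u

theorem dvd_card_of_isPGroup_of_nontrivial {X : Type u} [Group X] [Finite X] {p : ℕ}
    [hp : Fact p.Prime] (hX : IsPGroup p X) [Nontrivial X] : p ∣ Nat.card X := by
  obtain ⟨n, hn⟩ := IsPGroup.iff_card.mp hX
  have hn0 : n ≠ 0 := by
    intro h0
    rw [h0, pow_zero] at hn
    have : Subsingleton X := (Nat.card_eq_one_iff_unique.mp hn).1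
    exact not_subsingleton _ this
  rw [hn]
  exact dvd_pow_self p hn0

variable {G : Type u} [Group G] [Finite G]

theorem conj_smul_le_of_le_of_mem_normalizer {H K : Subgroup G} {g : G} (hHK : H ≤ K)
    (hg : g ∈ normalizer (K : Set G)) : MulAut.conj g • H ≤ K := by
  have h1 : MulAut.conj g • H ≤ MulAut.conj g • K := by
    intro x hx
    rw [Subgroup.mem_pointwise_smul_iff_inv_smul_mem] at hx ⊢
    exact hHK hx
  rw [conj_smul_eq_of_mem_normalizer hg] at h1
  exact h1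

theorem isCyclic_of_pRankLE_one_of_injective (hodd : Odd (Nat.card G)) {M : Subgroup G} {p : ℕ}
    [Fact p.Prime] (hr : Cfsg.PRankLE p 1 ↥M) {X : Type u} [Group X] [Finite X] (f : X →* ↥M)
    (hf : Function.Injective f) (hX : IsPGroup p X) [Nontrivial X] : IsCyclic X := by
  have h1 : p ∣ Nat.card X := dvd_card_of_isPGroup_of_nontrivial hX
  have h2 : Nat.card X ∣ Nat.card ↥M := Subgroup.card_dvd_of_injective f hf
  have h3 : Nat.card ↥M ∣ Nat.card G := Subgroup.card_subgroup_dvd_card M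
  have hpodd : Odd p := Odd.of_dvd_nat hodd (h1.trans (h2.trans h3))
  exact isCyclic_of_pRankLE_one hpodd hX (pRankLE_of_injective f hf hr)

theorem isZGroup_of_pRankLE_one (hodd : Odd (Nat.card G)) {M H : Subgroup G} (hHM : H ≤ M)
    (h : ∀ p : ℕ, p.Prime → p ∣ Nat.card ↥H → Cfsg.PRankLE p 1 ↥M) : IsZGroup ↥H := by
  refine ⟨fun p hp P => ?_⟩
  haveI : Fact p.Prime := ⟨hp⟩
  by_cases hP1 : Nontrivial ↥(P : Subgroup ↥H)
  · have hpd : p ∣ Nat.card ↥H :=
      (dvd_card_of_isPGroup_of_nontrivial P.2).trans (Subgroup.card_subgroup_dvd_card _)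
    have hc : IsCyclic ↥(P : Subgroup ↥H) :=
      isCyclic_of_pRankLE_one_of_injective hodd (h p hp hpd)
        ((Subgroup.inclusion hHM).comp (P : Subgroup ↥H).subtype)
        ((Subgroup.inclusion_injective hHM).comp (Subgroup.subtype_injective _)) P.2
    exact hc
  · rw [not_nontrivial_iff_subsingleton] at hP1
    have hc : IsCyclic ↥(P : Subgroup ↥H) := isCyclic_of_subsingleton
    exact hc

theorem le_normalizer_commutator_self (M : Subgroup G) : M ≤ normalizer ((⁅M, M⁆ : Subgroup G) : Set G) := by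
  have h1 := Subgroup.le_normalizer_map M.subtype (H := commutator ↥M)
  rw [Subgroup.normalizer_eq_top_iff.mpr inferInstance, ← MonoidHom.range_eq_map,
    Subgroup.range_subtype, Subgroup.map_subtype_commutator] at h1
  exact h1

/-- **BG Lemma 12.1**, parts on `E'`, `E₁`, `E₃`. -/
theorem lemma_12_1 (hodd : Odd (Nat.card G)) (M E : Subgroup G)
    (hE : Cfsg.IsComplIn E (Cfsg.sigmaCore M) M)
    (hασ : Cfsg.alphaCore M ≤ Cfsg.sigmaCore M)
    (hnil : Group.IsNilpotent ↥((commutator ↥M).map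
      (QuotientGroup.mk' (Cfsg.piCore (Cfsg.alpha M) ↥M)))) :
    Group.IsNilpotent ↥⁅E, E⁆ ∧
      (∀ E₁ : Subgroup G, Cfsg.IsPiHallOf (Cfsg.tau1 M) E₁ E → IsCyclic E₁) ∧
      ∀ E₃ : Subgroup G, Cfsg.IsPiHallOf (Cfsg.tau3 M) E₃ E →
        IsCyclic E₃ ∧ E₃ ≤ ⁅E, E⁆ ∧ E ≤ Subgroup.normalizer (E₃ : Set G) := by
  classical
  obtain ⟨hEM, hσM, hEσ, hprod⟩ := hE
  obtain ⟨S, hS⟩ : ∃ S : Subgroup ↥M, S = Cfsg.piCore (Cfsg.sigma M) ↥M := ⟨_, rfl⟩
  haveI hSn : S.Normal := by rw [hS]; infer_instance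
  have hσdef : Cfsg.sigmaCore M = S.map M.subtype := by rw [hS]; rfl
  have hAS : Cfsg.piCore (Cfsg.alpha M) ↥M ≤ S := by
    have h1 : (Cfsg.piCore (Cfsg.alpha M) ↥M).map M.subtype ≤ S.map M.subtype := by
      rw [← hσdef]; exact hασ
    exact (Subgroup.map_le_map_iff_of_injective M.subtype_injective).mp h1
  have hEEM : ⁅E, E⁆ ≤ M := (Subgroup.commutator_le_self E).trans hEM
  -- every element of `M` is congruent to an element of `E` modulo `S`
  have hrep : ∀ g : ↥M, ∃ a : ↥M, (a : G) ∈ E ∧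
      QuotientGroup.mk' S g = QuotientGroup.mk' S a := by
    intro g
    obtain ⟨a, ha, b, hb, hab⟩ := hprod g.1 g.2
    refine ⟨⟨a, hEM ha⟩, ha, ?_⟩
    rw [QuotientGroup.mk'_apply, QuotientGroup.mk'_apply, QuotientGroup.eq]
    rw [hσdef] at hb
    obtain ⟨b', hb', hbb⟩ := hb
    have hbb' : (b' : G) = b := hbb
    have h1 : (g⁻¹ * ⟨a, hEM ha⟩ : ↥M) = b'⁻¹ := by
      apply Subtype.ext
      simp only [Subgroup.coe_mul, Subgroup.coe_inv]
      rw [hab, hbb']
      group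
    rw [h1]; exact S.inv_mem hb'
  -- `E ∩ M' ≤ E'`
  have hEM' : E ⊓ ⁅M, M⁆ ≤ ⁅E, E⁆ := by
    obtain ⟨E'M, hE'M⟩ : ∃ E'M : Subgroup ↥M, E'M = (⁅E, E⁆).subgroupOf M := ⟨_, rfl⟩
    have hcomm_le : commutator ↥M ≤
        (E'M.map (QuotientGroup.mk' S)).comap (QuotientGroup.mk' S) := by
      rw [commutator_def, Subgroup.commutator_le]
      intro g₁ _ g₂ _
      obtain ⟨a₁, ha₁, h₁⟩ := hrep g₁
      obtain ⟨a₂, ha₂, h₂⟩ := hrep g₂
      rw [Subgroup.mem_comap, map_commutatorElement, h₁, h₂, ← map_commutatorElement]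
      apply Subgroup.mem_map_of_mem
      rw [hE'M, Subgroup.mem_subgroupOf]
      exact Subgroup.commutator_mem_commutator ha₁ ha₂
    intro x hx
    obtain ⟨hxE, hxM'⟩ := hx
    have hxM : x ∈ M := hEM hxE
    have hx' : (⟨x, hxM⟩ : ↥M) ∈ commutator ↥M := by
      rw [← Subgroup.map_subtype_commutator] at hxM'
      obtain ⟨y, hy, hyx⟩ := hxM'
      have : y = ⟨x, hxM⟩ := Subtype.ext hyx
      rw [← this]; exact hy
    obtain ⟨c, hc, hcx⟩ := Subgroup.mem_map.mp (Subgroup.mem_comap.mp (hcomm_le hx'))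
    rw [QuotientGroup.mk'_apply, QuotientGroup.mk'_apply, QuotientGroup.eq] at hcx
    have hcE' : (c : G) ∈ ⁅E, E⁆ := by rw [hE'M] at hc; exact Subgroup.mem_subgroupOf.mp hc
    have h1 : (c : G)⁻¹ * x ∈ E :=
      E.mul_mem (E.inv_mem (Subgroup.commutator_le_self E hcE')) hxE
    have h2 : (c : G)⁻¹ * x ∈ Cfsg.sigmaCore M := by
      rw [hσdef]; exact ⟨c⁻¹ * ⟨x, hxM⟩, hcx, rfl⟩
    have h3 : (c : G)⁻¹ * x ∈ E ⊓ Cfsg.sigmaCore M := ⟨h1, h2⟩
    rw [hEσ, Subgroup.mem_bot, inv_mul_eq_one] at h3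
    rw [← h3]; exact hcE'
  -- part (a)
  have hpartA : Group.IsNilpotent ↥⁅E, E⁆ := by
    let q : (↥M ⧸ Cfsg.piCore (Cfsg.alpha M) ↥M) →* (↥M ⧸ S) :=
      QuotientGroup.map _ S (MonoidHom.id ↥M) (fun x hx => hAS hx)
    have hq : q.comp (QuotientGroup.mk' (Cfsg.piCore (Cfsg.alpha M) ↥M)) = QuotientGroup.mk' S :=
      MonoidHom.ext (fun _ => rfl)
    have hmapq : ((commutator ↥M).map
        (QuotientGroup.mk' (Cfsg.piCore (Cfsg.alpha M) ↥M))).map q =
        (commutator ↥M).map (QuotientGroup.mk' S) := by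
      rw [Subgroup.map_map, hq]
    haveI := hnil
    have h2 : Group.IsNilpotent ↥(((commutator ↥M).map
        (QuotientGroup.mk' (Cfsg.piCore (Cfsg.alpha M) ↥M))).map q) :=
      nilpotent_of_surjective (q.subgroupMap _) (q.subgroupMap_surjective _)
    rw [hmapq] at h2
    have hmem : ∀ x : ↥⁅E, E⁆, Subgroup.inclusion hEEM x ∈ commutator ↥M := by
      intro x
      have hx : (x : G) ∈ ⁅M, M⁆ := Subgroup.commutator_mono hEM hEM x.2
      rw [← Subgroup.map_subtype_commutator] at hx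
      obtain ⟨y, hy, hyx⟩ := hx
      have : y = Subgroup.inclusion hEEM x := Subtype.ext hyx
      rw [← this]; exact hy
    let ψ : ↥⁅E, E⁆ →* ↥((commutator ↥M).map (QuotientGroup.mk' S)) :=
      ((QuotientGroup.mk' S).comp (Subgroup.inclusion hEEM)).codRestrict _
        (fun x => ⟨Subgroup.inclusion hEEM x, hmem x, rfl⟩)
    have hinj : Function.Injective ψ := by
      rw [injective_iff_map_eq_one]
      intro x hx
      have h3 := congrArg Subtype.val hx
      have h4 : QuotientGroup.mk' S (Subgroup.inclusion hEEM x) = 1 := h3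
      rw [QuotientGroup.mk'_apply, QuotientGroup.eq_one_iff] at h4
      have h5 : (x : G) ∈ E ⊓ Cfsg.sigmaCore M := by
        refine ⟨Subgroup.commutator_le_self E x.2, ?_⟩
        rw [hσdef]
        exact ⟨Subgroup.inclusion hEEM x, h4, rfl⟩
      rw [hEσ, Subgroup.mem_bot] at h5
      exact Subtype.ext h5
    haveI := h2
    exact _root_.isNilpotent_of_ker_le_center ψ
      (by rw [(MonoidHom.ker_eq_bot_iff ψ).mpr hinj]; exact bot_le)
  refine ⟨hpartA, ?_, ?_⟩
  · -- `E₁`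
    intro E₁ hE₁
    obtain ⟨hE₁E, hE₁π, -⟩ := hE₁
    have hE₁M : E₁ ≤ M := hE₁E.trans hEM
    have hint : E₁ ⊓ ⁅M, M⁆ = ⊥ := by
      by_contra hne
      have hcard : Nat.card ↥(E₁ ⊓ ⁅M, M⁆ : Subgroup G) ≠ 1 := fun h1 =>
        hne (Subgroup.card_eq_one.mp h1)
      obtain ⟨p, hp, hpd⟩ := Nat.exists_prime_and_dvd hcard
      have h1 : p ∣ Nat.card ↥E₁ := hpd.trans (Subgroup.card_dvd_of_le inf_le_left)
      have h2 : p ∣ Nat.card ↥⁅M, M⁆ := hpd.trans (Subgroup.card_dvd_of_le inf_le_right)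
      exact (hE₁π p hp h1).2.2.2.1 h2
    have hcomm : ∀ a ∈ E₁, ∀ b ∈ E₁, a * b = b * a := by
      intro a ha b hb
      have hE : ⁅a, b⁆ ∈ E₁ := by
        rw [commutatorElement_def]
        exact E₁.mul_mem (E₁.mul_mem (E₁.mul_mem ha hb) (E₁.inv_mem ha)) (E₁.inv_mem hb)
      have h1 : ⁅a, b⁆ ∈ E₁ ⊓ ⁅M, M⁆ :=
        ⟨hE, Subgroup.commutator_mem_commutator (hE₁M ha) (hE₁M hb)⟩
      rw [hint, Subgroup.mem_bot] at h1
      exact commutatorElement_eq_one_iff_mul_comm.mp h1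
    haveI : IsMulCommutative ↥E₁ := isMulCommutative_of_comm hcomm
    haveI : Group.IsNilpotent ↥E₁ := isNilpotent_of_isMulCommutative _
    haveI : IsZGroup ↥E₁ :=
      isZGroup_of_pRankLE_one hodd hE₁M (fun p hp hpd => (hE₁π p hp hpd).2.2.2.2)
    infer_instance
  · -- `E₃`
    intro E₃ hE₃
    obtain ⟨hE₃E, hE₃π, hE₃idx⟩ := hE₃
    have hE₃M : E₃ ≤ M := hE₃E.trans hEM
    have hE₃M' : E₃ ≤ ⁅M, M⁆ := by
      have hcop : (Nat.card ↥(E₃.subgroupOf M)).Coprime (commutator ↥M).index := by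
        rw [card_subgroupOf_of_le hE₃M]
        apply coprime_of_forall_prime
        intro p hp hpd
        haveI : Fact p.Prime := ⟨hp⟩
        obtain ⟨-, -, hpM', hrk⟩ := hE₃π p hp hpd
        have hpM : p ∣ Nat.card ↥M :=
          hpM'.trans (Subgroup.card_dvd_of_le (Subgroup.commutator_le_self M))
        let Pm : Sylow p ↥M := default
        have hPne : (Pm : Subgroup ↥M) ≠ ⊥ := Sylow.ne_bot_of_dvd_card Pm hpM
        haveI : Nontrivial ↥(Pm : Subgroup ↥M) := (Subgroup.nontrivial_iff_ne_bot _).mpr hPne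
        have hc : IsCyclic ↥(Pm : Subgroup ↥M) :=
          isCyclic_of_pRankLE_one_of_injective hodd hrk (Pm : Subgroup ↥M).subtype
            (Subgroup.subtype_injective _) Pm.2
        haveI : IsCyclic Pm := hc
        rcases Sylow.not_dvd_card_commutator_or_not_dvd_index_commutator Pm with h | h
        · exfalso
          apply h
          rw [← card_map_subtype, Subgroup.map_subtype_commutator]
          exact hpM'
        · exact h
      have hle := le_of_coprime_card_index (commutator ↥M) (E₃.subgroupOf M) hcop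
      have h1 := Subgroup.map_mono (f := M.subtype) hle
      rwa [Subgroup.map_subgroupOf_eq_of_le hE₃M, Subgroup.map_subtype_commutator] at h1
    have hE₃E' : E₃ ≤ ⁅E, E⁆ := fun x hx => hEM' ⟨hE₃E hx, hE₃M' hx⟩
    haveI := hpartA
    have hnil3 : Group.IsNilpotent ↥E₃ := by
      haveI : Group.IsNilpotent ↥(E₃.subgroupOf ⁅E, E⁆) := inferInstance
      exact Group.nilpotent_of_mulEquiv (Subgroup.subgroupOfEquivOfLe hE₃E')
    haveI := hnil3
    haveI : IsZGroup ↥E₃ :=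
      isZGroup_of_pRankLE_one hodd hE₃M (fun p hp hpd => (hE₃π p hp hpd).2.2.2)
    refine ⟨inferInstance, hE₃E', ?_⟩
    have hHall : (Nat.card ↥(E₃.subgroupOf ⁅E, E⁆)).Coprime (E₃.subgroupOf ⁅E, E⁆).index := by
      rw [card_subgroupOf_of_le hE₃E']
      apply coprime_of_forall_prime
      intro p hp hpd hidx
      have hτ := hE₃π p hp hpd
      apply hE₃idx p hp hτ
      have h1 := Subgroup.relIndex_mul_relIndex E₃ ⁅E, E⁆ E hE₃E' (Subgroup.commutator_le_self E)
      rw [← h1]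
      exact Dvd.dvd.mul_right hidx _
    haveI hn3 : (E₃.subgroupOf ⁅E, E⁆).Normal := normal_of_isNilpotent_of_hall _ hHall
    intro e he
    apply mem_normalizer_of_conj_smul_le
    have hK1 : MulAut.conj e • E₃ ≤ E :=
      conj_smul_le_of_le_of_mem_normalizer hE₃E (Subgroup.le_normalizer he)
    have hK2 : MulAut.conj e • E₃ ≤ ⁅M, M⁆ :=
      conj_smul_le_of_le_of_mem_normalizer hE₃M' (le_normalizer_commutator_self M (hEM he))
    have hK : MulAut.conj e • E₃ ≤ ⁅E, E⁆ := fun x hx => hEM' ⟨hK1 hx, hK2 hx⟩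
    have hcop : (Nat.card ↥((MulAut.conj e • E₃).subgroupOf ⁅E, E⁆)).Coprime
        (E₃.subgroupOf ⁅E, E⁆).index := by
      rw [card_subgroupOf_of_le hK, card_conj_smul, ← card_subgroupOf_of_le hE₃E']
      exact hHall
    have hle := le_of_coprime_card_index (E₃.subgroupOf ⁅E, E⁆)
      ((MulAut.conj e • E₃).subgroupOf ⁅E, E⁆) hcop
    exact (subgroupOf_le_subgroupOf_iff hK).mp hle

end Cfsg.Agent.Helper7.BG12
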