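import Mathlib
import Cfsg.Prelude.Def_OddOrderLocal
import Cfsg.Agent.Lib.Helper1.Permutable
import Cfsg.Agent.Lib.Helper22.CyclicChain
import Cfsg.Agent.Lib.Helper22.PPrimeCore
import Cfsg.Agent.Lib.Helper15.CyclicSylow
import Cfsg.Agent.Lib.Helper1.Coprime
import Cfsg.Agent.Lib.Helper7.Fitting2
import Cfsg.Agent.Lib.Helper7.Cores
import Cfsg.Agent.Lib.Helper7.CoprimeGen2

/-!
# Type-P data lemmas (helper7)
-/

set_option autoImplicit false

namespace Cfsg.Agent.Helper7

open Subgroup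

variable {G : Type*} [Group G]

/-- Elements of a cyclic subgroup commute. -/
theorem comm_of_mem_isCyclic (H : Subgroup G) (hH : IsCyclic H) {a b : G} (ha : a ∈ H)
    (hb : b ∈ H) : a * b = b * a := by
  obtain ⟨g, hg⟩ := hH.exists_generator
  obtain ⟨m, hm⟩ := Subgroup.mem_zpowers_iff.mp (hg ⟨a, ha⟩)
  obtain ⟨n, hn⟩ := Subgroup.mem_zpowers_iff.mp (hg ⟨b, hb⟩)
  have h1 : ((g : G)) ^ m = a := by
    have := congrArg Subtype.val hm
    simpa using this
  have h2 : ((g : G)) ^ n = b := by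
    have := congrArg Subtype.val hn
    simpa using this
  rw [← h1, ← h2, ← zpow_add, ← zpow_add, add_comm]

theorem pow_card_eq_one_of_mem {K : Subgroup G} {x : G} (hx : x ∈ K) : x ^ Nat.card K = 1 := by
  have h1 : (⟨x, hx⟩ : K) ^ Nat.card K = 1 := pow_card_eq_one'
  have h2 := congrArg Subtype.val h1
  rw [Subgroup.coe_pow, Subgroup.coe_one] at h2
  exact h2

/-- Cardinality of the join of two elementwise commuting subgroups with trivial intersection. -/
theorem card_sup_of_commute_of_disjoint {H K : Subgroup G}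
    (hc : ∀ a ∈ H, ∀ b ∈ K, a * b = b * a) (hd : H ⊓ K = ⊥) :
    Nat.card (H ⊔ K : Subgroup G) = Nat.card H * Nat.card K := by
  apply Cfsg.Agent.Helper1.card_sup_of_mul_comm _ hd
  ext x
  constructor
  · rintro ⟨a, ha, b, hb, rfl⟩
    exact ⟨b, hb, a, ha, (hc a ha b hb).symm⟩
  · rintro ⟨b, hb, a, ha, rfl⟩
    exact ⟨a, ha, b, hb, hc a ha b hb⟩

/-- In a cyclic subgroup, two subgroups of the same order coincide. -/
theorem eq_of_card_eq_of_le_isCyclic [Finite G] (W : Subgroup G) (hW : IsCyclic W)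
    {A B : Subgroup G} (hA : A ≤ W) (hB : B ≤ W) (h : Nat.card A = Nat.card B) : A = B := by
  have key : ∀ {A B : Subgroup G}, A ≤ W → B ≤ W → Nat.card A = Nat.card B → A ≤ B := by
    intro A B hA hB h x hx
    have h1 : A.subgroupOf W ≤ B.subgroupOf W := by
      apply Cfsg.Agent.Helper22.le_of_card_dvd_of_isCyclic
      rw [Nat.card_congr (Subgroup.subgroupOfEquivOfLe hA).toEquiv,
        Nat.card_congr (Subgroup.subgroupOfEquivOfLe hB).toEquiv, h]
    have h2 : (⟨x, hA hx⟩ : W) ∈ A.subgroupOf W := by rw [Subgroup.mem_subgroupOf]; exact hx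
    have h3 := h1 h2
    rw [Subgroup.mem_subgroupOf] at h3
    exact h3
  exact le_antisymm (key hA hB h) (key hB hA h.symm)

/-- S1386 core: the second factor of a self-normalizing cyclic pair is determined. -/
theorem typeP_W₂_eq [Finite G] (W₁ W₂ S U W₂' : Subgroup G)
    (hW : Cfsg.IsSelfNormalizingCyclic W₁ W₂)
    (hSW : Cfsg.IsComplIn ⁅S, S⁆ W₁ S) (hW₂S : W₂ ≤ S) (hP : Cfsg.IsTypePWith S W₁ U W₂') :
    W₂' = W₂ := by
  obtain ⟨hW1ne, hW2ne, hW12, hcomm, hcyc, hN⟩ := hW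
  obtain ⟨-, -, hW12', hcomm', hcyc', -⟩ := hP.selfNormalizing
  obtain ⟨hS'S, hW1S, hS'W1, hSfac⟩ := hSW
  obtain ⟨x, hx, hx1⟩ := (Subgroup.bot_or_exists_ne_one W₁).resolve_left hW1ne
  obtain ⟨b, hb, hb1⟩ := (Subgroup.bot_or_exists_ne_one W₂).resolve_left hW2ne
  -- W₂ ≤ W₁ ⊔ W₂'
  have h1 : W₂ ≤ W₁ ⊔ W₂' := by
    intro c hc
    obtain ⟨s, hs, a, ha, hsa⟩ := hSfac c (hW₂S hc)
    have hax : a * x = x * a := comm_of_mem_isCyclic W₁ hP.W₁_cyclic ha hx
    have hcx : x * c = c * x := hcomm x hx c hc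
    have hs' : s ∈ ⁅S, S⁆ ⊓ Subgroup.centralizer ({x} : Set G) := by
      refine ⟨hs, Subgroup.mem_centralizer_singleton_iff.mpr ?_⟩
      have hs2 : s = c * a⁻¹ := by rw [hsa]; group
      rw [hs2]
      have hax' : a⁻¹ * x = x * a⁻¹ :=
        comm_of_mem_isCyclic W₁ hP.W₁_cyclic (W₁.inv_mem ha) hx
      first
        | (rw [mul_assoc, hax', ← mul_assoc, ← hcx, mul_assoc])
        | (rw [mul_assoc, ← hax', ← mul_assoc, hcx, mul_assoc])
    rw [hP.W₂_centralizer x hx hx1] at hs'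
    rw [hsa]
    exact mul_mem (Subgroup.mem_sup_right hs') (Subgroup.mem_sup_left ha)
  have hWW' : W₁ ⊔ W₂ ≤ W₁ ⊔ W₂' := sup_le le_sup_left h1
  -- the element y = x * b
  have hyW : x * b ∈ W₁ ⊔ W₂ := mul_mem (Subgroup.mem_sup_left hx) (Subgroup.mem_sup_right hb)
  have hy1 : x * b ∉ W₁ := by
    intro h
    have hb' : b ∈ W₁ := by
      have := W₁.mul_mem (W₁.inv_mem hx) h
      rwa [inv_mul_cancel_left] at this
    have : b ∈ W₁ ⊓ W₂ := ⟨hb', hb⟩
    rw [hW12, Subgroup.mem_bot] at this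
    exact hb1 this
  have hy2 : x * b ∉ W₂ := by
    intro h
    have hx' : x ∈ W₂ := by
      have := W₂.mul_mem h (W₂.inv_mem hb)
      rwa [mul_inv_cancel_right] at this
    have : x ∈ W₁ ⊓ W₂ := ⟨hx, hx'⟩
    rw [hW12, Subgroup.mem_bot] at this
    exact hx1 this
  have hNy : Subgroup.normalizer ({x * b} : Set G) = W₁ ⊔ W₂ := by
    apply hN
    · intro z hz
      rw [Set.mem_singleton_iff] at hz
      subst hz
      exact ⟨hyW, fun h => h.elim hy1 hy2⟩
    · exact Set.singleton_nonempty _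
  have hW'W : W₁ ⊔ W₂' ≤ W₁ ⊔ W₂ := by
    intro w hw
    rw [← hNy, Subgroup.mem_set_normalizer_iff]
    have hwy : w * (x * b) = (x * b) * w :=
      comm_of_mem_isCyclic (W₁ ⊔ W₂') hcyc' hw (hWW' hyW)
    intro z
    simp only [Set.mem_singleton_iff]
    constructor
    · intro hz
      rw [hz, hwy, mul_inv_cancel_right]
    · intro hz
      have : z = w⁻¹ * (x * b) * w := by rw [← hz]; group
      rw [this, mul_assoc, ← hwy, inv_mul_cancel_left]
  have hEq : W₁ ⊔ W₂' = W₁ ⊔ W₂ := le_antisymm hW'W hWW'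
  have hc1 := card_sup_of_commute_of_disjoint hcomm hW12
  have hc2 := card_sup_of_commute_of_disjoint hcomm' hW12'
  rw [hEq, hc1] at hc2
  have hpos : 0 < Nat.card W₁ := Nat.card_pos
  have hcard : Nat.card W₂' = Nat.card W₂ := (Nat.eq_of_mul_eq_mul_left hpos hc2).symm
  exact eq_of_card_eq_of_le_isCyclic (W₁ ⊔ W₂) hcyc
    ((le_sup_right : W₂' ≤ W₁ ⊔ W₂').trans hW'W) le_sup_right hcard


/-! ### The normal nilpotent Hall subgroup `M_F` -/

/-- `M_F` is a Hall subgroup. -/
theorem fittingHall_coprime (M : Type*) [Group M] [Finite M] :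
    (Nat.card (Cfsg.fittingHall M)).Coprime (Cfsg.fittingHall M).index := by
  apply Nat.coprime_of_dvd
  intro p hp hpc hpi
  have hle : Cfsg.fittingHall M ≤ Cfsg.pPrimeCore p M := by
    unfold Cfsg.fittingHall
    apply sSup_le
    rintro N ⟨hNn, hNnil, hNc⟩
    apply Cfsg.Agent.Helper22.le_pPrimeCore p N hNn
    have hNK : N ≤ Cfsg.fittingHall M := le_sSup ⟨hNn, hNnil, hNc⟩
    have h1 : p ∣ N.index := hpi.trans (Subgroup.index_dvd_of_le hNK)
    rw [Nat.coprime_comm, Nat.Prime.coprime_iff_not_dvd hp]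
    intro h2
    have h3 : p ∣ Nat.gcd (Nat.card N) N.index := Nat.dvd_gcd h2 h1
    rw [hNc.gcd_eq_one] at h3
    exact hp.one_lt.ne' (Nat.dvd_one.mp h3)
  exact Cfsg.Agent.Helper22.not_dvd_card_pPrimeCore p hp
    (hpc.trans (Subgroup.card_dvd_of_le hle))

/-- `M_F` is nilpotent. -/
theorem fittingHall_isNilpotent (M : Type*) [Group M] [Finite M] :
    Group.IsNilpotent ↥(Cfsg.fittingHall M) := by
  have hle : Cfsg.fittingHall M ≤ Cfsg.fittingSubgroup M := by
    unfold Cfsg.fittingHall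
    apply sSup_le
    rintro N ⟨hNn, hNnil, -⟩
    haveI := hNn
    exact le_fittingSubgroup N hNnil
  haveI := fittingSubgroup_isNilpotent (G := M)
  haveI : Group.IsNilpotent ↥((Cfsg.fittingHall M).subgroupOf (Cfsg.fittingSubgroup M)) :=
    inferInstance
  exact Group.nilpotent_of_mulEquiv (Subgroup.subgroupOfEquivOfLe hle)

theorem le_fittingHall {M : Type*} [Group M] (N : Subgroup M) (hN : N.Normal)
    (hnil : Group.IsNilpotent ↥N) (hc : (Nat.card N).Coprime N.index) :
    N ≤ Cfsg.fittingHall M :=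
  le_sSup ⟨hN, hnil, hc⟩

variable [Finite G]

theorem fittingHallOf_le (M : Subgroup G) : Cfsg.fittingHallOf M ≤ M := by
  unfold Cfsg.fittingHallOf
  exact Subgroup.map_subtype_le _

theorem relIndex_map_subtype {M : Subgroup G} (K : Subgroup M) :
    (K.map M.subtype).relIndex M = K.index := by
  unfold Subgroup.relIndex Subgroup.subgroupOf
  rw [Subgroup.comap_map_eq_self_of_injective M.subtype_injective]

theorem fittingHallOf_coprime (M : Subgroup G) :
    (Nat.card (Cfsg.fittingHallOf M)).Coprime ((Cfsg.fittingHallOf M).relIndex M) := by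
  unfold Cfsg.fittingHallOf
  rw [card_map_subtype, relIndex_map_subtype]
  exact fittingHall_coprime M

theorem le_normalizer_fittingHallOf (M : Subgroup G) :
    M ≤ Subgroup.normalizer (Cfsg.fittingHallOf M : Set G) := by
  intro m hm
  rw [Subgroup.mem_set_normalizer_iff]
  intro h
  have key : ∀ (m : G) (hm : m ∈ M) (h : G), h ∈ Cfsg.fittingHallOf M →
      m * h * m⁻¹ ∈ Cfsg.fittingHallOf M := by
    intro m hm h hh
    unfold Cfsg.fittingHallOf at hh ⊢
    obtain ⟨k, hk, rfl⟩ := hh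
    refine ⟨(⟨m, hm⟩ : M) * k * (⟨m, hm⟩ : M)⁻¹, ?_, rfl⟩
    exact (Cfsg.fittingHall_normal M).conj_mem k hk _
  constructor
  · exact key m hm h
  · intro hh
    have := key m⁻¹ (M.inv_mem hm) _ hh
    rw [inv_inv] at this
    have e : m⁻¹ * (m * h * m⁻¹) * m = h := by group
    rwa [e] at this

theorem le_fittingHallOf {M U : Subgroup G} (hUM : U ≤ M)
    (hn : M ≤ Subgroup.normalizer (U : Set G)) (hnil : Group.IsNilpotent ↥U)
    (hc : (Nat.card U).Coprime (U.relIndex M)) : U ≤ Cfsg.fittingHallOf M := by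
  have h1 : U.subgroupOf M ≤ Cfsg.fittingHall M := by
    apply le_fittingHall
    · exact (Subgroup.normal_subgroupOf_iff_le_normalizer hUM).mpr hn
    · exact isNilpotent_subgroupOf hUM hnil
    · rw [card_subgroupOf_of_le hUM]
      exact hc
  have h2 := Subgroup.map_mono (f := M.subtype) h1
  rw [Subgroup.map_subgroupOf_eq_of_le hUM] at h2
  exact h2

/-- Order of a complemented subgroup. -/
theorem IsComplIn.card_eq {A B M : Subgroup G} (h : Cfsg.IsComplIn A B M) :
    Nat.card M = Nat.card A * Nat.card B := by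
  obtain ⟨hA, hB, hAB, hfac⟩ := h
  rw [← Nat.card_prod]
  symm
  apply Nat.card_congr
  refine Equiv.ofBijective (fun x : A × B => (⟨(x.1 : G) * (x.2 : G),
    M.mul_mem (hA x.1.2) (hB x.2.2)⟩ : M)) ⟨?_, ?_⟩
  · rintro ⟨⟨a, ha⟩, ⟨b, hb⟩⟩ ⟨⟨a', ha'⟩, ⟨b', hb'⟩⟩ hxy
    have hxy' : a * b = a' * b' := by
      have := congrArg Subtype.val hxy
      exact this
    have h1 : a'⁻¹ * a = b' * b⁻¹ := by
      have : a'⁻¹ * (a * b) * b⁻¹ = a'⁻¹ * (a' * b') * b⁻¹ := by rw [hxy']
      rw [show a'⁻¹ * (a * b) * b⁻¹ = a'⁻¹ * a by group,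
        show a'⁻¹ * (a' * b') * b⁻¹ = b' * b⁻¹ by group] at this
      exact this
    have h2 : a'⁻¹ * a ∈ A ⊓ B := by
      refine ⟨A.mul_mem (A.inv_mem ha') ha, ?_⟩
      rw [h1]
      exact B.mul_mem hb' (B.inv_mem hb)
    rw [hAB, Subgroup.mem_bot] at h2
    have h3 : a = a' := by
      have := congrArg (fun t => a' * t) h2
      simpa using this
    have h4 : b' * b⁻¹ = 1 := by rw [← h1, h2]
    have h5 : b = b' := by
      have := congrArg (fun t => t * b) h4
      simpa using this.symm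
    subst h3
    subst h5
    rfl
  · rintro ⟨m, hm⟩
    obtain ⟨a, ha, b, hb, rfl⟩ := hfac m hm
    exact ⟨(⟨a, ha⟩, ⟨b, hb⟩), rfl⟩

/-- The numerical consequences of type-P data. -/
theorem IsTypePWith.card_facts {M W₁ U W₂ : Subgroup G} (hP : Cfsg.IsTypePWith M W₁ U W₂) :
    (Nat.card U).Coprime (Nat.card (Cfsg.fittingHallOf M)) ∧
    (Nat.card U).Coprime (Nat.card W₁) ∧
    Nat.card M = Nat.card (Cfsg.fittingHallOf M) * Nat.card U * Nat.card W₁ := by
  have h1 := IsComplIn.card_eq hP.W₁_compl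
  have h2 := IsComplIn.card_eq hP.U_compl
  have hM : Nat.card M = Nat.card (Cfsg.fittingHallOf M) * Nat.card U * Nat.card W₁ := by
    rw [h1, h2]
  have hH := fittingHallOf_coprime M
  have hHi : (Cfsg.fittingHallOf M).relIndex M = Nat.card U * Nat.card W₁ := by
    have := relIndex_mul_card_of_le (fittingHallOf_le M)
    rw [hM] at this
    have hpos : 0 < Nat.card (Cfsg.fittingHallOf M) := Nat.card_pos
    apply Nat.eq_of_mul_eq_mul_right hpos
    rw [this]; ring
  have hWi : W₁.relIndex M = Nat.card (Cfsg.fittingHallOf M) * Nat.card U := by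
    have := relIndex_mul_card_of_le hP.W₁_compl.2.1
    rw [hM] at this
    have hpos : 0 < Nat.card W₁ := Nat.card_pos
    exact Nat.eq_of_mul_eq_mul_right hpos this
  refine ⟨?_, ?_, hM⟩
  · rw [hHi] at hH
    exact (Nat.Coprime.coprime_mul_right_right hH).symm
  · have := hP.W₁_hall
    rw [hWi] at this
    exact (Nat.Coprime.coprime_mul_left_right this).symm

/-- S1387 core. -/
theorem typeP_fittingOf_eq {M W₁ U W₂ : Subgroup G} (hP : Cfsg.IsTypePWith M W₁ U W₂) :
    Cfsg.fittingOf M = Cfsg.fittingHallOf M ⊔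
      (U ⊓ Subgroup.centralizer (Cfsg.fittingHallOf M : Set G)) := by
  obtain ⟨hcop, -, -⟩ := IsTypePWith.card_facts hP
  obtain ⟨hHM', hUM', hHU, hfac⟩ := hP.U_compl
  have hM'M : ⁅M, M⁆ ≤ M :=
    Subgroup.commutator_le.mpr (fun a ha b hb => M.mul_mem (M.mul_mem (M.mul_mem ha hb)
      (M.inv_mem ha)) (M.inv_mem hb))
  rw [← hP.fitting_eq]
  apply le_antisymm
  · apply sup_le le_sup_left
    intro c hc
    have hcF : c ∈ Cfsg.fittingOf M := by
      rw [← hP.fitting_eq]
      exact Subgroup.mem_sup_right hc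
    obtain ⟨h, hh, u, hu, rfl⟩ := hfac c (hP.fitting_le hcF)
    have hcent : h * u ∈ Subgroup.centralizer (Cfsg.fittingHallOf M : Set G) := hc.2
    rw [Subgroup.mem_centralizer_iff] at hcent
    have hch : h * (h * u) = (h * u) * h := hcent h hh
    have huh : h * u = u * h := by
      have := congrArg (fun t => h⁻¹ * t) hch
      simp only [inv_mul_cancel_left] at this
      rw [this]; group
    have hpow : (h * u) ^ Nat.card (Cfsg.fittingHallOf M) = u ^ Nat.card (Cfsg.fittingHallOf M) := by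
      rw [(show Commute h u from huh).mul_pow]
      rw [pow_card_eq_one_of_mem hh, one_mul]
    have hu1 : u ^ Nat.card U = 1 := pow_card_eq_one_of_mem hu
    have hucent : u ∈ Subgroup.centralizer (Cfsg.fittingHallOf M : Set G) := by
      apply Cfsg.Agent.Helper15.mem_of_pow_mem_of_coprime hcop.symm
      · rw [← hpow]
        exact Subgroup.pow_mem _ hc.2 _
      · rw [hu1]; exact Subgroup.one_mem _
    exact Subgroup.mul_mem _ (Subgroup.mem_sup_left hh) (Subgroup.mem_sup_right ⟨hu, hucent⟩)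
  · apply sup_le_sup_left
    exact inf_le_inf_right _ (hUM'.trans hM'M)


theorem commutator_self_le (M : Subgroup G) : ⁅M, M⁆ ≤ M :=
  Subgroup.commutator_le.mpr (fun a ha b hb => M.mul_mem (M.mul_mem (M.mul_mem ha hb)
    (M.inv_mem ha)) (M.inv_mem hb))

/-- S1388 core, first part. -/
theorem typeP_derived_U_le {M W₁ U W₂ : Subgroup G} (hP : Cfsg.IsTypePWith M W₁ U W₂) :
    ⁅U, U⁆ ≤ Subgroup.centralizer (Cfsg.fittingHallOf M : Set G) := by
  obtain ⟨hHM', hUM', hHU, hfac⟩ := hP.U_compl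
  have hM'M : ⁅M, M⁆ ≤ M := commutator_self_le M
  intro z hz
  have hzU : z ∈ U := commutator_self_le U hz
  have hz2 : z ∈ ⁅⁅M, M⁆, ⁅M, M⁆⁆ := Subgroup.commutator_mono hUM' hUM' hz
  have hz3 := hP.derived_two_le hz2
  rw [hP.fitting_eq, typeP_fittingOf_eq hP] at hz3
  have hnorm : U ⊓ Subgroup.centralizer (Cfsg.fittingHallOf M : Set G) ≤
      Subgroup.normalizer (Cfsg.fittingHallOf M : Set G) :=
    inf_le_left.trans ((hUM'.trans hM'M).trans (le_normalizer_fittingHallOf M))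
  obtain ⟨h, hh, c, hc, hzc⟩ := Cfsg.Agent.Helper1.exists_mul_of_mem_sup hnorm hz3
  have hhU : h ∈ U := by
    have : h = z * c⁻¹ := by rw [hzc]; group
    rw [this]
    exact U.mul_mem hzU (U.inv_mem hc.1)
  have h1 : h ∈ Cfsg.fittingHallOf M ⊓ U := ⟨hh, hhU⟩
  rw [hHU, Subgroup.mem_bot] at h1
  rw [hzc, h1, one_mul]
  exact hc.2

/-- S1388 core, second part. -/
theorem typeP_U_not_le {M W₁ U W₂ : Subgroup G} (hP : Cfsg.IsTypePWith M W₁ U W₂)
    (hU : U ≠ ⊥) : ¬ U ≤ Subgroup.centralizer (Cfsg.fittingHallOf M : Set G) := by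
  intro hcent
  obtain ⟨hHM', hUM', hHU, hfac⟩ := hP.U_compl
  obtain ⟨hM'M, hW1M, -, hfacM⟩ := hP.W₁_compl
  obtain ⟨hc1, hc2, hM⟩ := IsTypePWith.card_facts hP
  have hUM : U ≤ M := hUM'.trans hM'M
  -- M normalizes U
  have hHN : Cfsg.fittingHallOf M ≤ Subgroup.normalizer (U : Set G) := by
    intro h hh
    have : h ∈ Subgroup.centralizer (U : Set G) := by
      rw [Subgroup.mem_centralizer_iff]
      intro u hu
      have := hcent hu
      rw [Subgroup.mem_centralizer_iff] at this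
      exact (this h hh).symm
    exact Subgroup.centralizer_le_normalizer _ this
  have hMN : M ≤ Subgroup.normalizer (U : Set G) := by
    intro m hm
    obtain ⟨s, hs, a, ha, rfl⟩ := hfacM m hm
    obtain ⟨h, hh, u, hu, rfl⟩ := hfac s hs
    exact Subgroup.mul_mem _ (Subgroup.mul_mem _ (hHN hh) (Subgroup.le_normalizer hu))
      (hP.U_normal ha)
  have hi : U.relIndex M = Nat.card (Cfsg.fittingHallOf M) * Nat.card W₁ := by
    have := relIndex_mul_card_of_le hUM
    rw [hM] at this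
    have hpos : 0 < Nat.card U := Nat.card_pos
    apply Nat.eq_of_mul_eq_mul_right hpos
    rw [this]; ring
  have hle : U ≤ Cfsg.fittingHallOf M := by
    apply le_fittingHallOf hUM hMN hP.U_nilpotent
    rw [hi]
    exact Nat.Coprime.mul_right hc1 hc2
  apply hU
  rw [eq_bot_iff, ← hHU]
  exact le_inf hle le_rfl

end Cfsg.Agent.Helper7
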