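import Mathlib
import Cfsg.Prelude.Def_OddOrder
import Cfsg.Prelude.Def_OddOrderLocal
import Cfsg.Agent.Lib.Helper7.TypeP
import Cfsg.Agent.Lib.Helper7.Signalizer
import Cfsg.Agent.Lib.Helper7.BG121a
import Cfsg.Agent.Lib.Helper14.BGTransA
import Cfsg.Agent.Lib.Lead.BGThmC
import Cfsg.Agent.Lib.Lead.BGThmC2

/-!
# Bender–Glauberman, the standard factorisation `M = K U M_σ` (helper7)

Formal consequences of BG 10.2 and BG 14.2, which are taken as explicit hypotheses: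
existence of `U`, normality of `U M_σ`, `C_U(k) = 1`, `C_M(k) = K × K*`, `M_σ ≠ 1`.
-/

set_option autoImplicit false

namespace Cfsg.Agent.Helper7.BG16

open Cfsg Subgroup
open scoped Pointwise

variable {G : Type*} [Group G]

/-- If `K` normalizes `A` and `B` then it normalizes `A ⊔ B`. -/
theorem le_normalizer_sup {K A B : Subgroup G} (hA : K ≤ normalizer (A : Set G))
    (hB : K ≤ normalizer (B : Set G)) : K ≤ normalizer ((A ⊔ B : Subgroup G) : Set G) := by
  have key : ∀ k ∈ K, ∀ x ∈ A ⊔ B, k * x * k⁻¹ ∈ A ⊔ B := by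
    intro k hk x hx
    have h1 : (A ⊔ B).map (MulAut.conj k).toMonoidHom ≤ A ⊔ B := by
      rw [Subgroup.map_sup]
      apply sup_le_sup
      · rintro _ ⟨a, ha, rfl⟩
        exact ((Subgroup.mem_set_normalizer_iff).mp (hA hk) a).mp ha
      · rintro _ ⟨b, hb, rfl⟩
        exact ((Subgroup.mem_set_normalizer_iff).mp (hB hk) b).mp hb
    exact h1 ⟨x, hx, rfl⟩
  intro k hk
  rw [Subgroup.mem_set_normalizer_iff]
  intro h
  constructor
  · exact key k hk h
  · intro hh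
    have := key k⁻¹ (K.inv_mem hk) _ hh
    rw [inv_inv] at this
    have e : k⁻¹ * (k * h * k⁻¹) * k = h := by group
    rwa [e] at this

theorem le_normalizer_sigmaCore (M : Subgroup G) : M ≤ normalizer (sigmaCore M : Set G) :=
  Cfsg.Agent.Helper14.BGTrans.le_normalizer_piCoreOf (sigma M) M

theorem sigmaCore_le (M : Subgroup G) : sigmaCore M ≤ M :=
  Cfsg.Agent.Helper14.BGTrans.piCoreOf_le (sigma M) M

/-- `U M_σ` is normal in `M` for every standard factorisation `M = K U M_σ`. -/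
theorem le_normalizer_sup_sigmaCore {M K U : Subgroup G} (hKU : IsSigmaDecomposition M K U) :
    M ≤ normalizer ((U ⊔ sigmaCore M : Subgroup G) : Set G) := by
  have hK : K ≤ normalizer ((U ⊔ sigmaCore M : Subgroup G) : Set G) :=
    le_normalizer_sup hKU.normal (hKU.hall.1.trans (le_normalizer_sigmaCore M))
  have hKσ : K ⊔ sigmaCore M ≤ normalizer ((U ⊔ sigmaCore M : Subgroup G) : Set G) :=
    sup_le hK (le_sup_right.trans Subgroup.le_normalizer)
  intro m hm
  obtain ⟨a, ha, b, hb, rfl⟩ := hKU.compl.2.2.2 m hm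
  exact Subgroup.mul_mem _
    (Subgroup.le_normalizer (le_sup_left (a := U) (b := sigmaCore M) ha)) (hKσ hb)

/-- Prime divisors of `#(K M_σ)` lie in `κ(M) ∪ σ(M)`. -/
theorem prime_dvd_card_sup_sigmaCore [Finite G] {M K : Subgroup G}
    (hK : IsPiHallOf (kappa M) K M)
    {p : ℕ} (hp : p.Prime) (hpd : p ∣ Nat.card ↥(K ⊔ sigmaCore M)) :
    p ∈ kappa M ∪ sigma M := by
  have hn : K ≤ normalizer (sigmaCore M : Set G) := hK.1.trans (le_normalizer_sigmaCore M)
  have h1 : Nat.card ↥(K ⊔ sigmaCore M) ∣ Nat.card (sigmaCore M) * Nat.card K := by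
    rw [sup_comm]
    exact Cfsg.Agent.Helper7.card_sup_dvd_mul_of_le_normalizer hn
  rcases (Nat.Prime.dvd_mul hp).mp (hpd.trans h1) with h | h
  · exact Or.inr (Cfsg.Agent.Helper14.BGTrans.card_piCoreOf (sigma M) M p hp h)
  · exact Or.inl (hK.2.1 p hp h)

/-- A `K`-invariant Hall `(κ(M) ∪ σ(M))'`-subgroup of `M` gives a standard factorisation. -/
theorem isSigmaDecomposition_of_hall [Finite G] {M K U₀ : Subgroup G} (hKc : IsCyclic K)
    (hK : IsPiHallOf (kappa M) K M) (hhall : IsPiHallOf (sigma M) (sigmaCore M) M)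
    (hU₀ : IsPiHallOf {q | q.Prime ∧ q ∉ kappa M ∧ q ∉ sigma M} U₀ M)
    (hn : K ≤ normalizer (U₀ : Set G)) : IsSigmaDecomposition M K U₀ := by
  have hLM : K ⊔ sigmaCore M ≤ M := sup_le hK.1 (sigmaCore_le M)
  have hLpi : ∀ p : ℕ, p.Prime → p ∣ Nat.card ↥(K ⊔ sigmaCore M) → p ∈ kappa M ∪ sigma M :=
    fun p hp h => prime_dvd_card_sup_sigmaCore hK hp h
  have hUpi : ∀ p : ℕ, p.Prime → p ∣ Nat.card ↥U₀ → p ∉ kappa M ∪ sigma M := by
    intro p hp h hmem
    have h1 := hU₀.2.1 p hp h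
    rcases hmem with h2 | h2
    · exact h1.2.1 h2
    · exact h1.2.2 h2
  have hdisj : U₀ ⊓ (K ⊔ sigmaCore M) = ⊥ := by
    apply (Subgroup.disjoint_of_coprime_natCard _).eq_bot
    exact BG12.coprime_of_forall_prime (fun p hp h1 h2 => hUpi p hp h1 (hLpi p hp h2))
  have hidxL : ∀ p : ℕ, p.Prime → p ∣ (K ⊔ sigmaCore M).relIndex M →
      p ∉ kappa M ∪ sigma M := by
    intro p hp h hmem
    rcases hmem with h2 | h2
    · exact hK.2.2 p hp h2 (h.trans (Subgroup.relIndex_dvd_of_le_left M le_sup_left))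
    · exact hhall.2.2 p hp h2 (h.trans (Subgroup.relIndex_dvd_of_le_left M le_sup_right))
  have hidxU : ∀ p : ℕ, p.Prime → p ∣ U₀.relIndex M → p ∈ kappa M ∪ sigma M := by
    intro p hp h
    by_contra hnot
    exact hU₀.2.2 p hp ⟨hp, fun h2 => hnot (Or.inl h2), fun h2 => hnot (Or.inr h2)⟩ h
  have hc1 : Nat.card M = Nat.card U₀ * U₀.relIndex M :=
    Cfsg.Agent.Lead.BGThmC2.card_eq_mul_relIndex hU₀.1
  have hc2 : Nat.card M = Nat.card ↥(K ⊔ sigmaCore M) * (K ⊔ sigmaCore M).relIndex M :=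
    Cfsg.Agent.Lead.BGThmC2.card_eq_mul_relIndex hLM
  have heq : Nat.card U₀ = (K ⊔ sigmaCore M).relIndex M :=
    Cfsg.Agent.Lead.BGThmC2.eq_of_hall_numbers (π := kappa M ∪ sigma M)
      (a := Nat.card U₀) (b := U₀.relIndex M) (c := (K ⊔ sigmaCore M).relIndex M)
      (d := Nat.card ↥(K ⊔ sigmaCore M)) (by rw [← hc1, hc2, mul_comm]) hUpi hidxL hidxU hLpi
  have hcard : Nat.card ↥(U₀.subgroupOf M) * Nat.card ↥((K ⊔ sigmaCore M).subgroupOf M)
      = Nat.card M := by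
    rw [Nat.card_congr (Subgroup.subgroupOfEquivOfLe hU₀.1).toEquiv,
      Nat.card_congr (Subgroup.subgroupOfEquivOfLe hLM).toEquiv, heq, hc2, mul_comm]
  have hdisj' : Disjoint (U₀.subgroupOf M) ((K ⊔ sigmaCore M).subgroupOf M) := by
    rw [Subgroup.disjoint_def]
    intro x hx1 hx2
    have : (x : G) ∈ U₀ ⊓ (K ⊔ sigmaCore M) :=
      ⟨Subgroup.mem_subgroupOf.mp hx1, Subgroup.mem_subgroupOf.mp hx2⟩
    rw [hdisj, Subgroup.mem_bot] at this
    exact Subtype.ext this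
  have hcompl := Subgroup.isComplement'_of_card_mul_and_disjoint hcard hdisj'
  refine ⟨hKc, hK, ⟨hU₀.1, hLM, hdisj, ?_⟩, hn⟩
  intro m hm
  obtain ⟨⟨⟨a, ha⟩, ⟨b, hb⟩⟩, hab, -⟩ :=
    (Subgroup.isComplement'_def.mp hcompl).existsUnique ⟨m, hm⟩
  refine ⟨(a : G), Subgroup.mem_subgroupOf.mp ha, (b : G), Subgroup.mem_subgroupOf.mp hb, ?_⟩
  have := congrArg Subtype.val hab
  simpa using this.symm

/-- BG Theorem A, existence of the standard factorisation and normality of `U M_σ`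
(from `M_σ` Hall and BG 14.2(b)). -/
theorem s1352_core [Finite G] {M K : Subgroup G} (hKc : IsCyclic K)
    (hK : IsPiHallOf (kappa M) K M) (hhall : IsPiHallOf (sigma M) (sigmaCore M) M)
    (h1430 : K ≠ ⊥ → ∃ U : Subgroup G, IsMulCommutative U ∧
      IsPiHallOf {q | q.Prime ∧ q ∉ kappa M ∧ q ∉ sigma M} U M ∧
      K ≤ normalizer (U : Set G) ∧ ∀ k ∈ K, k ≠ 1 → U ⊓ centralizer ({k} : Set G) = ⊥) :
    (∃ U : Subgroup G, IsSigmaDecomposition M K U) ∧
      ∀ U : Subgroup G, IsSigmaDecomposition M K U →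
        M ≤ normalizer ((U ⊔ sigmaCore M : Subgroup G) : Set G) := by
  refine ⟨?_, fun U hU => le_normalizer_sup_sigmaCore hU⟩
  by_cases hK0 : K = ⊥
  · obtain ⟨E, hE⟩ := Cfsg.Agent.Lead.BGThmC.exists_compl_sigmaCore M hhall
    refine ⟨E, hKc, hK, ?_, ?_⟩
    · rw [hK0, bot_sup_eq]; exact hE
    · rw [hK0]; exact bot_le
  · obtain ⟨U, -, hU, hn, -⟩ := h1430 hK0
    exact ⟨U, isSigmaDecomposition_of_hall hKc hK hhall hU hn⟩

/-- `C_U(k) = 1` for `k ∈ K#` in every standard factorisation, from BG 14.2(b). -/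
theorem s1353_core [Finite G] {M K U : Subgroup G} (hKU : IsSigmaDecomposition M K U)
    (hhall : IsPiHallOf (sigma M) (sigmaCore M) M)
    {U₀ : Subgroup G} (hU₀ : IsPiHallOf {q | q.Prime ∧ q ∉ kappa M ∧ q ∉ sigma M} U₀ M)
    (hn : K ≤ normalizer (U₀ : Set G))
    (hfree : ∀ k ∈ K, k ≠ 1 → U₀ ⊓ centralizer ({k} : Set G) = ⊥) :
    ∀ k ∈ K, k ≠ 1 → U ⊓ centralizer ({k} : Set G) = ⊥ := by
  have hKU₀ : IsSigmaDecomposition M K U₀ :=
    isSigmaDecomposition_of_hall hKU.cyclic hKU.hall hhall hU₀ hn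
  have hUM : U ≤ M := hKU.compl.1
  have hσn := le_normalizer_sigmaCore M
  have hN₀M : U₀ ⊔ sigmaCore M ≤ M := sup_le hU₀.1 (sigmaCore_le M)
  have hN₀n : M ≤ normalizer ((U₀ ⊔ sigmaCore M : Subgroup G) : Set G) :=
    le_normalizer_sup_sigmaCore hKU₀
  haveI : ((U₀ ⊔ sigmaCore M).subgroupOf M).Normal :=
    (Subgroup.normal_subgroupOf_iff_le_normalizer hN₀M).mpr hN₀n
  have hcop : (Nat.card ↥(U.subgroupOf M)).Coprime ((U₀ ⊔ sigmaCore M).subgroupOf M).index := by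
    rw [Nat.card_congr (Subgroup.subgroupOfEquivOfLe hUM).toEquiv]
    apply BG12.coprime_of_forall_prime
    intro p hp hpU hpN
    have h1 : p ∣ U₀.relIndex M := hpN.trans (Subgroup.relIndex_dvd_of_le_left M le_sup_left)
    exact hU₀.2.2 p hp ⟨hp, Cfsg.Agent.Lead.BGThmC2.not_mem_kappa_of_dvd_card M K U hKU hp hpU,
      Cfsg.Agent.Lead.BGThmC.not_mem_sigma_of_dvd_card M K U hKU hhall hp hpU⟩ h1
  have hle' : U.subgroupOf M ≤ (U₀ ⊔ sigmaCore M).subgroupOf M :=
    BG12.le_of_coprime_card_index _ _ hcop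
  have hle : U ≤ U₀ ⊔ sigmaCore M := by
    intro u hu
    have : (⟨u, hUM hu⟩ : M) ∈ (U₀ ⊔ sigmaCore M).subgroupOf M :=
      hle' (Subgroup.mem_subgroupOf.mpr hu)
    exact Subgroup.mem_subgroupOf.mp this
  intro k hk hk1
  rw [eq_bot_iff]
  rintro u ⟨huU, huc⟩
  rw [Subgroup.mem_bot]
  have huc' : u * k = k * u := Subgroup.mem_centralizer_singleton_iff.mp huc
  have hu' : u ∈ ((U₀ : Set G) * (sigmaCore M : Set G)) := by
    rw [← Subgroup.coe_mul_of_left_le_normalizer_right U₀ (sigmaCore M) (hU₀.1.trans hσn)]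
    exact hle huU
  obtain ⟨a, ha, s, hs, rfl⟩ := Set.mem_mul.mp hu'
  have ha' : k * a * k⁻¹ ∈ U₀ := ((Subgroup.mem_set_normalizer_iff).mp (hn hk) a).mp ha
  have hs' : k * s * k⁻¹ ∈ sigmaCore M :=
    ((Subgroup.mem_set_normalizer_iff).mp (hσn (hKU.hall.1 hk)) s).mp hs
  have hconj : (k * a * k⁻¹) * (k * s * k⁻¹) = a * s := by
    calc (k * a * k⁻¹) * (k * s * k⁻¹) = k * (a * s) * k⁻¹ := by group
      _ = a * s * k * k⁻¹ := by rw [← huc']
      _ = a * s := by group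
  have key : ∀ a' s' : G, a' * s' = a * s → a⁻¹ * a' = s * s'⁻¹ := by
    intro a' s' h
    have h2 : a' = a * s * s'⁻¹ := by rw [← h]; group
    rw [h2]; group
  have hmem : a⁻¹ * (k * a * k⁻¹) ∈ U₀ ⊓ (K ⊔ sigmaCore M) := by
    refine ⟨U₀.mul_mem (U₀.inv_mem ha) ha', ?_⟩
    rw [key _ _ hconj]
    exact le_sup_right (a := K) ((sigmaCore M).mul_mem hs ((sigmaCore M).inv_mem hs'))
  rw [hKU₀.compl.2.2.1, Subgroup.mem_bot] at hmem
  have hak : k * a * k⁻¹ = a := (inv_mul_eq_one.mp hmem).symm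
  have ha1 : a ∈ U₀ ⊓ centralizer ({k} : Set G) :=
    ⟨ha, Subgroup.mem_centralizer_singleton_iff.mpr (mul_inv_eq_iff_eq_mul.mp hak).symm⟩
  rw [hfree k hk hk1, Subgroup.mem_bot] at ha1
  subst ha1
  rw [one_mul] at huU ⊢
  have h3 : s ∈ U ⊓ (K ⊔ sigmaCore M) := ⟨huU, le_sup_right (a := K) hs⟩
  rw [hKU.compl.2.2.1, Subgroup.mem_bot] at h3
  exact h3

/-- `C_M(k) = K K*` for `k ∈ K#`, from BG 14.2(c). -/
theorem s1354_centralizer [Finite G] {M K : Subgroup G} (hKc : IsCyclic K) (hKM : K ≤ M)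
    (h3 : ∀ X : Subgroup G, X ≤ K → (Nat.card X).Prime →
      M ⊓ normalizer (X : Set G) = K ⊔ (sigmaCore M ⊓ centralizer (K : Set G))) :
    ∀ k ∈ K, k ≠ 1 →
      M ⊓ centralizer ({k} : Set G) = K ⊔ (sigmaCore M ⊓ centralizer (K : Set G)) := by
  intro k hk hk1
  apply le_antisymm
  · rintro g ⟨hgM, hgc⟩
    have hgk : g * k = k * g := Subgroup.mem_centralizer_singleton_iff.mp hgc
    have hord1 : orderOf k ≠ 1 := fun h => hk1 (orderOf_eq_one_iff.mp h)
    obtain ⟨p, hp, hpk⟩ := Nat.exists_prime_and_dvd hord1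
    have hord0 : orderOf k ≠ 0 := (orderOf_pos k).ne'
    have hx : orderOf (k ^ (orderOf k / p)) = p := orderOf_pow_orderOf_div hord0 hpk
    have hXK : zpowers (k ^ (orderOf k / p)) ≤ K :=
      (Subgroup.zpowers_le).mpr (K.pow_mem hk _)
    have hXp : (Nat.card ↥(zpowers (k ^ (orderOf k / p)))).Prime := by
      rw [Nat.card_zpowers, hx]; exact hp
    rw [← h3 _ hXK hXp]
    refine ⟨hgM, Subgroup.centralizer_le_normalizer _ ?_⟩
    rw [Subgroup.mem_centralizer_iff]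
    intro h hh
    obtain ⟨n, rfl⟩ := Subgroup.mem_zpowers_iff.mp hh
    have hc : Commute g k := hgk
    exact ((hc.pow_right _).zpow_right n).eq.symm
  · apply sup_le
    · intro a ha
      exact ⟨hKM ha, Subgroup.mem_centralizer_singleton_iff.mpr
        (Cfsg.Agent.Helper7.comm_of_mem_isCyclic K hKc ha hk)⟩
    · intro a ha
      exact ⟨sigmaCore_le M ha.1, Subgroup.mem_centralizer_singleton_iff.mpr
        (Subgroup.mem_centralizer_iff.mp ha.2 k hk).symm⟩

/-- `K* ≠ 1` when `K ≠ 1`, from the definition of `κ(M)` and BG 14.2(a). -/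
theorem s1354_ne_bot_of_ne_bot [Finite G] {M K : Subgroup G} (hK : IsPiHallOf (kappa M) K M)
    (hK1 : K ≠ ⊥)
    (h1 : ∀ k ∈ K, k ≠ 1 → sigmaCore M ⊓ centralizer ({k} : Set G)
      = sigmaCore M ⊓ centralizer (K : Set G)) :
    sigmaCore M ⊓ centralizer (K : Set G) ≠ ⊥ := by
  have hcard1 : Nat.card K ≠ 1 := fun h => hK1 (Subgroup.card_eq_one.mp h)
  obtain ⟨p, hp, hpK⟩ := Nat.exists_prime_and_dvd hcard1
  haveI : Fact p.Prime := ⟨hp⟩
  have hpκ : p ∈ kappa M := hK.2.1 p hp hpK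
  obtain ⟨k₀, hk₀⟩ := exists_prime_orderOf_dvd_card' p hpK
  have hk₀M : (k₀ : G) ∈ M := hK.1 k₀.2
  have hk₀G : orderOf (k₀ : G) = p := (Subgroup.orderOf_coe k₀).trans hk₀
  have hk₀ne : (k₀ : G) ≠ 1 := by
    intro h
    rw [h, orderOf_one] at hk₀G
    exact hp.one_lt.ne hk₀G
  have hk₀ord : orderOf (⟨(k₀ : G), hk₀M⟩ : M) = p :=
    (Subgroup.orderOf_coe (⟨(k₀ : G), hk₀M⟩ : M)).symm.trans hk₀G
  have hpg : IsPGroup p ↥(zpowers (⟨(k₀ : G), hk₀M⟩ : M)) := by
    apply IsPGroup.of_card (n := 1)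
    rw [Nat.card_zpowers, hk₀ord, pow_one]
  obtain ⟨P, hP⟩ := hpg.exists_le_sylow
  obtain ⟨hPc, x, hxP, hx1, y, hy, hy1, hxy⟩ := hpκ.2.2.2 P
  -- `p ∣ o(x)`
  have hpx : p ∣ orderOf x := by
    obtain ⟨n, hn⟩ := (IsPGroup.iff_orderOf.mp P.isPGroup') ⟨x, hxP⟩
    have hn' : orderOf x = p ^ n := (Subgroup.orderOf_coe (⟨x, hxP⟩ : (P : Subgroup M))).trans hn
    have hn0 : n ≠ 0 := by
      intro h0
      rw [h0, pow_zero] at hn'
      exact hx1 (orderOf_eq_one_iff.mp hn')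
    rw [hn']
    exact dvd_pow_self p hn0
  have hz : orderOf (x ^ (orderOf x / p)) = p :=
    orderOf_pow_orderOf_div (orderOf_pos x).ne' hpx
  have hBW : zpowers (x ^ (orderOf x / p)) ≤ (P : Subgroup M) :=
    (Subgroup.zpowers_le).mpr ((P : Subgroup M).pow_mem hxP _)
  have hAB : zpowers (⟨(k₀ : G), hk₀M⟩ : M) = zpowers (x ^ (orderOf x / p)) := by
    apply Cfsg.Agent.Helper7.eq_of_card_eq_of_le_isCyclic (P : Subgroup M) hPc hP hBW
    rw [Nat.card_zpowers, Nat.card_zpowers, hk₀ord, hz]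
  have hk₀mem : (⟨(k₀ : G), hk₀M⟩ : M) ∈ zpowers (x ^ (orderOf x / p)) := by
    rw [← hAB]; exact Subgroup.mem_zpowers _
  obtain ⟨n, hn⟩ := Subgroup.mem_zpowers_iff.mp hk₀mem
  have hn' : (((x : G) ^ (orderOf x / p)) ^ n : G) = (k₀ : G) := by
    have := congrArg Subtype.val hn
    simpa using this
  have hc : Commute y (x : G) := hxy.symm
  have hyk : y * (k₀ : G) = (k₀ : G) * y := by
    rw [← hn']
    exact ((hc.pow_right _).zpow_right n).eq
  have hmem : y ∈ sigmaCore M ⊓ centralizer ({(k₀ : G)} : Set G) :=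
    ⟨hy, Subgroup.mem_centralizer_singleton_iff.mpr hyk⟩
  rw [h1 (k₀ : G) k₀.2 hk₀ne] at hmem
  intro hbot
  rw [hbot, Subgroup.mem_bot] at hmem
  exact hy1 hmem

/-- A maximal subgroup of a minimal simple group is nontrivial. -/
theorem coatom_ne_bot (hG : IsMinSimpleOddOrder G) {M : Subgroup G} (hM : IsCoatom M) :
    M ≠ ⊥ := by
  intro h0
  apply hG.2.2.1
  rw [isMulCommutative_iff]
  intro a b
  by_cases ha : a = 1
  · rw [ha, one_mul, mul_one]
  · have htop : zpowers a = ⊤ := by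
      apply hM.2
      rw [h0]
      exact bot_lt_iff_ne_bot.mpr (Subgroup.zpowers_ne_bot.mpr ha)
    have hb : b ∈ zpowers a := by rw [htop]; exact Subgroup.mem_top b
    obtain ⟨n, rfl⟩ := Subgroup.mem_zpowers_iff.mp hb
    exact ((Commute.refl a).zpow_right n).eq

/-- `M_σ ≠ 1` (BG 10.2(e)?), from BG 10.2(a),(b) and the Sylow tower of groups of rank `≤ 2`. -/
theorem sigmaCore_ne_bot [Finite G] (hG : IsMinSimpleOddOrder G) (M : Subgroup G)
    (hM : IsCoatom M)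
    (hαhall : IsPiHallOf (alpha M) (alphaCore M) M) (hασ : alphaCore M ≤ sigmaCore M)
    (h1451 : (∀ p : ℕ, p.Prime → PRankLE p 2 M) → ∀ p : ℕ, ∃ N : Subgroup M,
      N.Characteristic ∧ IsPiHall {q | q.Prime ∧ p < q} N) :
    sigmaCore M ≠ ⊥ := by
  by_cases hα : ∃ p, p ∈ alpha M
  · obtain ⟨p, hpα⟩ := hα
    have hp : p.Prime := hpα.1
    haveI : Fact p.Prime := ⟨hp⟩
    have hpM : p ∣ Nat.card M := by
      have hnr := hpα.2
      unfold PRankLE at hnr
      push_neg at hnr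
      obtain ⟨A, hAc, hAp, hAcard⟩ := hnr
      have hA1 : A ≠ ⊥ := by
        intro h
        rw [h, Subgroup.card_bot] at hAcard
        have : 1 ≤ p ^ 2 := Nat.one_le_pow _ _ hp.pos
        omega
      obtain ⟨a, ha1⟩ := (Subgroup.ne_bot_iff_exists_ne_one).mp hA1
      have ha2 : (a : M) ≠ 1 := fun h => ha1 (Subtype.ext h)
      have hord : orderOf (a : M) = p := orderOf_eq_prime (hAp a a.2) ha2
      rw [← hord]
      exact orderOf_dvd_natCard _
    have hnd : ¬ p ∣ (alphaCore M).relIndex M := hαhall.2.2 p hp hpα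
    have hc := Cfsg.Agent.Lead.BGThmC2.card_eq_mul_relIndex hαhall.1
    have hpα' : p ∣ Nat.card (alphaCore M) := by
      rw [hc] at hpM
      exact ((Nat.Prime.dvd_mul hp).mp hpM).resolve_right hnd
    intro hbot
    have h0 : alphaCore M = ⊥ := by rw [eq_bot_iff, ← hbot]; exact hασ
    rw [h0, Subgroup.card_bot] at hpα'
    exact hp.one_lt.ne' (Nat.dvd_one.mp hpα')
  · push_neg at hα
    have hr : ∀ p : ℕ, p.Prime → PRankLE p 2 M := by
      intro p hp
      by_contra h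
      exact hα p ⟨hp, h⟩
    have hM1 : M ≠ ⊥ := coatom_ne_bot hG hM
    have hcardM : Nat.card M ≠ 1 := fun h => hM1 (Subgroup.card_eq_one.mp h)
    have hne : (Nat.card M).primeFactors.Nonempty := by
      obtain ⟨p, hp, hpd⟩ := Nat.exists_prime_and_dvd hcardM
      exact ⟨p, Nat.mem_primeFactors.mpr ⟨hp, hpd, Nat.card_pos.ne'⟩⟩
    obtain ⟨q₀, hq₀⟩ : ∃ q₀, q₀ = (Nat.card M).primeFactors.max' hne := ⟨_, rfl⟩
    have hq₀mem : q₀ ∈ (Nat.card M).primeFactors := by rw [hq₀]; exact Finset.max'_mem _ _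
    obtain ⟨hq₀p, hq₀d, -⟩ := Nat.mem_primeFactors.mp hq₀mem
    have hq₀max : ∀ q : ℕ, q.Prime → q ∣ Nat.card M → q ≤ q₀ := by
      intro q hq hqd
      rw [hq₀]
      exact Finset.le_max' _ _ (Nat.mem_primeFactors.mpr ⟨hq, hqd, Nat.card_pos.ne'⟩)
    haveI : Fact q₀.Prime := ⟨hq₀p⟩
    obtain ⟨N, hNchar, hNpi, hNidx⟩ := h1451 hr (q₀ - 1)
    haveI := hNchar
    haveI hNn : N.Normal := Subgroup.normal_of_characteristic N
    have hNprime : ∀ {d : ℕ}, d.Prime → d ∣ Nat.card N → d = q₀ := by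
      intro d hd hdN
      have h1 : q₀ - 1 < d := (hNpi d hd hdN).2
      have h2 : d ≤ q₀ := hq₀max d hd (hdN.trans (Subgroup.card_subgroup_dvd_card N))
      omega
    have hNcard : Nat.card N = q₀ ^ (Nat.card N).primeFactorsList.length :=
      Nat.eq_prime_pow_of_unique_prime_dvd Nat.card_pos.ne' hNprime
    have hq₀idx : ¬ q₀ ∣ N.index :=
      hNidx q₀ hq₀p ⟨hq₀p, by have := hq₀p.pos; omega⟩
    have hq₀N : q₀ ∣ Nat.card N := by
      have h := N.card_mul_index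
      rw [← h] at hq₀d
      exact ((Nat.Prime.dvd_mul hq₀p).mp hq₀d).resolve_right hq₀idx
    have hNpg : IsPGroup q₀ N := IsPGroup.of_card hNcard
    obtain ⟨P, hNP⟩ := hNpg.exists_le_sylow
    have hPN : (P : Subgroup M) = N := by
      symm
      apply Subgroup.eq_of_le_of_card_ge hNP
      obtain ⟨a, ha⟩ := IsPGroup.iff_card.mp P.isPGroup'
      have h1 : Nat.card (P : Subgroup M) ∣ Nat.card N * N.index := by
        rw [N.card_mul_index]; exact Subgroup.card_subgroup_dvd_card _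
      have h2 : (Nat.card (P : Subgroup M)).Coprime N.index := by
        rw [ha]
        exact Nat.Coprime.pow_left _ ((Nat.Prime.coprime_iff_not_dvd hq₀p).mpr hq₀idx)
      exact Nat.le_of_dvd Nat.card_pos (h2.dvd_of_dvd_mul_right h1)
    obtain ⟨N', hN'⟩ : ∃ N' : Subgroup G, N' = N.map M.subtype := ⟨_, rfl⟩
    have hN'M : N' ≤ M := by rw [hN']; exact Subgroup.map_subtype_le _
    have hN'card : Nat.card N' = Nat.card N := by
      rw [hN']; exact Subgroup.card_map_of_injective M.subtype_injective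
    have hN'1 : N' ≠ ⊥ := by
      intro h
      rw [h, Subgroup.card_bot] at hN'card
      rw [← hN'card] at hq₀N
      exact hq₀p.one_lt.ne' (Nat.dvd_one.mp hq₀N)
    have hMN' : M ≤ normalizer (N' : Set G) := by
      rw [← Subgroup.normal_subgroupOf_iff_le_normalizer hN'M]
      have : N'.subgroupOf M = N := by
        rw [hN']; unfold Subgroup.subgroupOf
        exact Subgroup.comap_map_eq_self_of_injective M.subtype_injective _
      rw [this]; exact hNn
    have hnorm : normalizer (N' : Set G) = M := by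
      by_contra hne'
      have hlt : M < normalizer (N' : Set G) := lt_of_le_of_ne hMN' (Ne.symm hne')
      have htop : normalizer (N' : Set G) = ⊤ := hM.2 _ hlt
      have hnormal : N'.Normal := Subgroup.normalizer_eq_top_iff.mp htop
      haveI := hG.2.1
      rcases IsSimpleGroup.eq_bot_or_eq_top_of_normal N' hnormal with h | h
      · exact hN'1 h
      · apply hM.1
        rw [eq_top_iff, ← h]; exact hN'M
    have hq₀σ : q₀ ∈ sigma M := by
      refine ⟨hq₀p, hq₀d, P, ?_⟩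
      rw [hPN, ← hN']; exact hnorm.le
    have hle : N' ≤ sigmaCore M := by
      apply Cfsg.Agent.Helper14.BGTrans.le_piCoreOf (sigma M) hN'M hMN'
      intro d hd hdN
      rw [hN'card] at hdN
      rw [hNprime hd hdN]; exact hq₀σ
    intro hbot
    apply hN'1
    rw [eq_bot_iff, ← hbot]; exact hle

end Cfsg.Agent.Helper7.BG16
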