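import Mathlib

/-!
# The Baer trick (helper7)

For a finite group `D` of odd order in which all commutators are central, the operation
`x ∘ y = x * y * ⁅y, x⁆ ^ (1/2)` makes `D` into an abelian group with the same powers and the same
automorphisms.
-/

set_option autoImplicit false

namespace Cfsg.Agent.Helper7

open scoped commutatorElement

/-- All commutators are central (nilpotency class at most two). -/
def CommCentral (D : Type*) [Group D] : Prop := ∀ x y : D, ⁅x, y⁆ ∈ Subgroup.center D

/-- The underlying set of `D`, to be given the Baer group structure. -/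
structure BaerGroup (D : Type*) where
  /-- the underlying element -/
  val : D

namespace BaerGroup

variable {D : Type*} [Group D]

theorem ext' {x y : BaerGroup D} (h : x.val = y.val) : x = y := by
  cases x; cases y; simp_all

/-- The square root in a group of odd order. -/
noncomputable def half (x : D) : D := x ^ ((Nat.card D + 1) / 2)

theorem half_one : half (1 : D) = 1 := one_pow _

theorem half_inv (x : D) : half x⁻¹ = (half x)⁻¹ := inv_pow _ _

theorem half_mul_of_commute {x y : D} (h : Commute x y) : half (x * y) = half x * half y :=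
  h.mul_pow _

theorem half_mem_center {x : D} (hx : x ∈ Subgroup.center D) : half x ∈ Subgroup.center D :=
  Subgroup.pow_mem _ hx _

theorem half_mul_half [Finite D] (hodd : Odd (Nat.card D)) (x : D) : half x * half x = x := by
  unfold half
  rw [← pow_add]
  obtain ⟨k, hk⟩ := hodd
  have : (Nat.card D + 1) / 2 + (Nat.card D + 1) / 2 = Nat.card D + 1 := by omega
  rw [this, pow_succ, pow_card_eq_one', one_mul]

section central

variable (h2 : CommCentral D)
include h2

theorem central_comm (x y g : D) : g * ⁅x, y⁆ = ⁅x, y⁆ * g :=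
  Subgroup.mem_center_iff.mp (h2 x y) g

theorem comm_mul_left (x y z : D) : ⁅x * y, z⁆ = ⁅x, z⁆ * ⁅y, z⁆ := by
  have e : ⁅x * y, z⁆ = x * ⁅y, z⁆ * x⁻¹ * ⁅x, z⁆ := by
    simp only [commutatorElement_def]; group
  rw [e, central_comm h2 y z x, mul_inv_cancel_right]
  exact central_comm h2 x z ⁅y, z⁆

theorem comm_mul_right (x y z : D) : ⁅x, y * z⁆ = ⁅x, y⁆ * ⁅x, z⁆ := by
  have e : ⁅x, y * z⁆ = ⁅x, y⁆ * (y * ⁅x, z⁆ * y⁻¹) := by
    simp only [commutatorElement_def]; group
  rw [e, central_comm h2 x z y, mul_inv_cancel_right]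

omit h2 in
theorem comm_of_mem_center_right (x : D) {w : D} (hw : w ∈ Subgroup.center D) : ⁅x, w⁆ = 1 := by
  rw [commutatorElement_def, mul_assoc x w, ← Subgroup.mem_center_iff.mp hw x⁻¹]
  group

omit h2 in
theorem comm_of_mem_center_left (x : D) {w : D} (hw : w ∈ Subgroup.center D) : ⁅w, x⁆ = 1 := by
  rw [commutatorElement_def, ← Subgroup.mem_center_iff.mp hw x]
  group

end central

/-- The Baer product on `D`. -/
noncomputable def bmul (x y : D) : D := x * y * half ⁅y, x⁆

theorem bmul_one (x : D) : bmul x 1 = x := by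
  unfold bmul
  rw [commutatorElement_one_left, half_one, mul_one, mul_one]

theorem one_bmul (x : D) : bmul 1 x = x := by
  unfold bmul
  rw [commutatorElement_one_right, half_one, mul_one, one_mul]

theorem inv_bmul (x : D) : bmul x⁻¹ x = 1 := by
  unfold bmul
  have : ⁅x, x⁻¹⁆ = 1 := by rw [commutatorElement_def]; group
  rw [this, half_one, mul_one, inv_mul_cancel]

section central2

variable (h2 : CommCentral D)
include h2

theorem half_comm_central (x y g : D) : g * half ⁅x, y⁆ = half ⁅x, y⁆ * g :=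
  Subgroup.mem_center_iff.mp (half_mem_center (h2 x y)) g

theorem bmul_comm [Finite D] (hodd : Odd (Nat.card D)) (x y : D) : bmul x y = bmul y x := by
  unfold bmul
  have e1 : y * x = ⁅y, x⁆ * (x * y) := by rw [commutatorElement_def]; group
  have e2 : ⁅x, y⁆ = ⁅y, x⁆⁻¹ := (commutatorElement_inv y x).symm
  rw [e1, e2, half_inv]
  have hs := half_mul_half hodd ⁅y, x⁆
  have hc := half_comm_central h2 y x
  generalize half ⁅y, x⁆ = s at hs hc ⊢
  rw [← hs]
  calc x * y * s = s * (x * y * s) * s⁻¹ := by rw [← hc (x * y * s)]; group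
    _ = s * (s * (x * y)) * s⁻¹ := by rw [hc (x * y)]
    _ = s * s * (x * y) * s⁻¹ := by group

theorem bmul_assoc (x y z : D) : bmul (bmul x y) z = bmul x (bmul y z) := by
  unfold bmul
  have ha := half_comm_central h2 y x
  have hb := half_comm_central h2 z x
  have hc := half_comm_central h2 z y
  have e1 : ⁅z, x * y * half ⁅y, x⁆⁆ = ⁅z, x⁆ * ⁅z, y⁆ := by
    rw [comm_mul_right h2, comm_mul_right h2,
      comm_of_mem_center_right z (half_mem_center (h2 y x)), mul_one]
  have e2 : ⁅y * z * half ⁅z, y⁆, x⁆ = ⁅y, x⁆ * ⁅z, x⁆ := by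
    rw [comm_mul_left h2, comm_mul_left h2,
      comm_of_mem_center_left x (half_mem_center (h2 z y)), mul_one]
  have e3 : half (⁅z, x⁆ * ⁅z, y⁆) = half ⁅z, x⁆ * half ⁅z, y⁆ :=
    half_mul_of_commute (central_comm h2 z y ⁅z, x⁆)
  have e4 : half (⁅y, x⁆ * ⁅z, x⁆) = half ⁅y, x⁆ * half ⁅z, x⁆ :=
    half_mul_of_commute (central_comm h2 z x ⁅y, x⁆)
  rw [e1, e2, e3, e4]
  generalize half ⁅y, x⁆ = a at ha ⊢
  generalize half ⁅z, x⁆ = b at hb ⊢
  generalize half ⁅z, y⁆ = c at hc ⊢
  calc x * y * a * z * (b * c) = x * y * (a * z) * (b * c) := by group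
    _ = x * y * (z * a) * (b * c) := by rw [← ha z]
    _ = x * y * z * (a * (b * c)) := by group
    _ = x * y * z * ((b * c) * a) := by rw [ha (b * c)]
    _ = x * y * z * (b * (c * a)) := by group
    _ = x * y * z * ((c * a) * b) := by rw [hb (c * a)]
    _ = x * (y * z * c) * (a * b) := by group

end central2

/-- The Baer abelian group structure. -/
noncomputable def commGroup [Finite D] (hodd : Odd (Nat.card D)) (h2 : CommCentral D) :
    CommGroup (BaerGroup D) where
  mul x y := ⟨bmul x.val y.val⟩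
  one := ⟨1⟩
  inv x := ⟨x.val⁻¹⟩
  mul_assoc x y z := ext' (bmul_assoc h2 x.val y.val z.val)
  one_mul x := ext' (one_bmul x.val)
  mul_one x := ext' (bmul_one x.val)
  inv_mul_cancel x := ext' (inv_bmul x.val)
  mul_comm x y := ext' (bmul_comm h2 hodd x.val y.val)

section structure_lemmas

variable [Finite D] (hodd : Odd (Nat.card D)) (h2 : CommCentral D)

theorem val_mul (x y : BaerGroup D) :
    (letI := commGroup hodd h2; (x * y).val) = bmul x.val y.val := rfl

theorem val_one : (letI := commGroup hodd h2; (1 : BaerGroup D).val) = 1 := rfl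

theorem val_pow (x : BaerGroup D) (n : ℕ) :
    (letI := commGroup hodd h2; (x ^ n).val) = x.val ^ n := by
  letI := commGroup hodd h2
  induction n with
  | zero => rw [pow_zero, pow_zero]; rfl
  | succ n ih =>
    rw [pow_succ, pow_succ, val_mul, ih]
    unfold bmul
    have : ⁅x.val, x.val ^ n⁆ = 1 :=
      commutatorElement_eq_one_iff_commute.mpr ((Commute.refl x.val).pow_right n)
    rw [this, half_one, mul_one]

omit [Group D] [Finite D] in
theorem card_eq : Nat.card (BaerGroup D) = Nat.card D :=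
  Nat.card_congr ⟨BaerGroup.val, BaerGroup.mk, fun _ => rfl, fun _ => rfl⟩

instance : Finite (BaerGroup D) :=
  Finite.of_equiv D ⟨BaerGroup.mk, BaerGroup.val, fun _ => rfl, fun _ => rfl⟩

end structure_lemmas

section action

variable {Γ : Type*} [Group Γ] [MulDistribMulAction Γ D]

theorem smul_commutatorElement (g : Γ) (x y : D) : g • ⁅x, y⁆ = ⁅g • x, g • y⁆ := by
  simp only [commutatorElement_def, smul_mul', smul_inv']

theorem smul_half (g : Γ) (x : D) : g • half x = half (g • x) := by
  unfold half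
  rw [smul_pow']

theorem smul_bmul (g : Γ) (x y : D) : g • bmul x y = bmul (g • x) (g • y) := by
  unfold bmul
  rw [smul_mul', smul_mul', smul_half, smul_commutatorElement]

/-- The action on the Baer group. -/
noncomputable def mulDistribMulAction [Finite D] (hodd : Odd (Nat.card D)) (h2 : CommCentral D) :
    letI := commGroup hodd h2
    MulDistribMulAction Γ (BaerGroup D) :=
  letI := commGroup hodd h2
  { smul := fun g x => ⟨g • x.val⟩
    one_smul := fun x => ext' (one_smul Γ x.val)
    mul_smul := fun g h x => ext' (mul_smul g h x.val)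
    smul_mul := fun g x y => ext' (smul_bmul g x.val y.val)
    smul_one := fun g => ext' (smul_one g) }

end action

end BaerGroup

open BaerGroup in
/-- **Baer trick, applied.** Let a `p'`-group `Q` and a `p`-group `A` normalizing `Q` act on a
`p`-group `D` of class at most two, `p` odd.  If `Q` acts nontrivially on `D`, then some element of
order `p` of `D` is fixed by `A` and moved by `Q`. -/
theorem exists_fixed_not_fixed_of_commCentral {D : Type*} [Group D] [Finite D]
    {Γ : Type*} [Group Γ] [Finite Γ] [MulDistribMulAction Γ D]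
    (p : ℕ) [hp : Fact p.Prime] (hp2 : p ≠ 2) (hD : IsPGroup p D) (h2 : CommCentral D)
    (Q A : Subgroup Γ) (hQ : ¬ p ∣ Nat.card Q) (hA : IsPGroup p A)
    (hAQ : ∀ a ∈ A, ∀ q ∈ Q, a⁻¹ * q * a ∈ Q)
    (hmove : ∃ q ∈ Q, ∃ x : D, q • x ≠ x) :
    ∃ t : D, t ≠ 1 ∧ t ^ p = 1 ∧ (∀ a ∈ A, a • t = t) ∧ ∃ q ∈ Q, q • t ≠ t := by
  classical
  have hodd : Odd (Nat.card D) := by
    obtain ⟨n, hn⟩ := hD.exists_card_eq
    rw [hn]
    exact (hp.out.odd_of_ne_two hp2).pow
  letI := commGroup hodd h2
  letI := mulDistribMulAction (Γ := Γ) hodd h2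
  letI : Fintype Q := Fintype.ofFinite Q
  have hsmul_val : ∀ (g : Γ) (x : BaerGroup D), (g • x).val = g • x.val := fun _ _ => rfl
  -- the norm map
  let πf : BaerGroup D → BaerGroup D := fun x => ∏ q : Q, (q : Γ) • x
  have hπmul : ∀ x y, πf (x * y) = πf x * πf y := by
    intro x y
    show ∏ q : Q, (q : Γ) • (x * y) = (∏ q : Q, (q : Γ) • x) * ∏ q : Q, (q : Γ) • y
    rw [← Finset.prod_mul_distrib]
    exact Finset.prod_congr rfl (fun q _ => smul_mul' _ _ _)
  let π : BaerGroup D →* BaerGroup D := MonoidHom.mk' πf hπmul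
  have hπ : ∀ x, π x = ∏ q : Q, (q : Γ) • x := fun _ => rfl
  have hπq : ∀ q₀ ∈ Q, ∀ x, π (q₀ • x) = π x := by
    intro q₀ hq₀ x
    rw [hπ, hπ]
    simp only [smul_smul]
    exact Fintype.prod_equiv (Equiv.mulRight (⟨q₀, hq₀⟩ : Q)) _ _ (fun q => rfl)
  have hπa : ∀ a ∈ A, ∀ x, π (a • x) = a • π x := by
    intro a ha x
    rw [hπ, hπ, Finset.smul_prod']
    simp only [smul_smul]
    let σ : Q ≃ Q :=
      { toFun := fun q => ⟨a⁻¹ * (q : Γ) * a, hAQ a ha _ q.2⟩
        invFun := fun q => ⟨a * (q : Γ) * a⁻¹, by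
          have := hAQ a⁻¹ (A.inv_mem ha) _ q.2
          rwa [inv_inv] at this⟩
        left_inv := fun q => Subtype.ext (by simp only []; group)
        right_inv := fun q => Subtype.ext (by simp only []; group) }
    refine Fintype.prod_equiv σ _ _ (fun q => ?_)
    show ((q : Γ) * a) • x = (a * (a⁻¹ * (q : Γ) * a)) • x
    congr 1
    group
  have hπfix : ∀ t : BaerGroup D, (∀ q ∈ Q, q • t = t) → π t = t ^ Nat.card Q := by
    intro t ht
    rw [hπ]
    have : ∀ q : Q, (q : Γ) • t = t := fun q => ht _ q.2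
    simp only [this]
    rw [Finset.prod_const, Finset.card_univ, Nat.card_eq_fintype_card]
  -- the kernel
  set K : Subgroup (BaerGroup D) := π.ker with hK
  have hBp : IsPGroup p (BaerGroup D) := by
    obtain ⟨n, hn⟩ := hD.exists_card_eq
    exact IsPGroup.of_card (n := n) (by rw [card_eq, hn])
  have hKne : K ≠ ⊥ := by
    obtain ⟨q₀, hq₀, x, hx⟩ := hmove
    intro hbot
    have hy : (q₀ • (⟨x⟩ : BaerGroup D)) * (⟨x⟩ : BaerGroup D)⁻¹ ∈ K := by
      rw [hK, MonoidHom.mem_ker, map_mul, map_inv, hπq q₀ hq₀, mul_inv_cancel]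
    rw [hbot, Subgroup.mem_bot, mul_inv_eq_one] at hy
    apply hx
    have := congrArg BaerGroup.val hy
    exact this
  have hpK : p ∣ Nat.card K := by
    rcases (hBp.to_subgroup K).card_eq_or_dvd with h | h
    · exact absurd (Subgroup.card_eq_one.mp h) hKne
    · exact h
  have hKinv : ∀ a ∈ A, ∀ x ∈ K, a • x ∈ K := by
    intro a ha x hx
    rw [hK, MonoidHom.mem_ker] at hx ⊢
    rw [hπa a ha, hx, smul_one]
  let _ : MulAction A K :=
    { smul := fun a x => ⟨(a : Γ) • (x : BaerGroup D), hKinv a a.2 x x.2⟩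
      one_smul := fun x => Subtype.ext (one_smul Γ (x : BaerGroup D))
      mul_smul := fun a b x => Subtype.ext (mul_smul (a : Γ) (b : Γ) (x : BaerGroup D)) }
  have h1fix : (1 : K) ∈ MulAction.fixedPoints A K := by
    intro a
    exact Subtype.ext (smul_one (a : Γ))
  obtain ⟨t, htfix, ht1⟩ := hA.exists_fixed_point_of_prime_dvd_card_of_fixed_point K hpK h1fix
  have ht1' : (t : BaerGroup D) ≠ 1 := by
    intro h
    apply ht1
    exact Subtype.ext h.symm
  have htfix' : ∀ a ∈ A, a • (t : BaerGroup D) = t := by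
    intro a ha
    have := htfix ⟨a, ha⟩
    exact congrArg Subtype.val this
  obtain ⟨k, hk⟩ := (IsPGroup.iff_orderOf.mp hBp) (t : BaerGroup D)
  have hk0 : k ≠ 0 := by
    intro h0
    rw [h0, pow_zero, orderOf_eq_one_iff] at hk
    exact ht1' hk
  obtain ⟨j, rfl⟩ := Nat.exists_eq_succ_of_ne_zero hk0
  set t' : BaerGroup D := (t : BaerGroup D) ^ (p ^ j) with ht'
  have ht'K : t' ∈ K := K.pow_mem t.2 _
  have ht'1 : t' ≠ 1 := by
    apply pow_ne_one_of_lt_orderOf (pow_pos hp.out.pos j).ne'
    rw [hk]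
    exact Nat.pow_lt_pow_right hp.out.one_lt (Nat.lt_succ_self j)
  have ht'p : t' ^ p = 1 := by
    rw [ht', ← pow_mul, ← pow_succ, ← hk, pow_orderOf_eq_one]
  have ht'fix : ∀ a ∈ A, a • t' = t' := by
    intro a ha
    rw [ht', smul_pow', htfix' a ha]
  refine ⟨t'.val, ?_, ?_, ?_, ?_⟩
  · intro h
    apply ht'1
    exact ext' h
  · have := congrArg BaerGroup.val ht'p
    rw [val_pow hodd h2] at this
    exact this
  · intro a ha
    have := congrArg BaerGroup.val (ht'fix a ha)
    exact this
  · by_contra hcon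
    push_neg at hcon
    have hfixQ : ∀ q ∈ Q, q • t' = t' := fun q hq => ext' (hcon q hq)
    have h3 := hπfix t' hfixQ
    rw [MonoidHom.mem_ker.mp ht'K] at h3
    have hord : orderOf t' = p := orderOf_eq_prime ht'p ht'1
    have := orderOf_dvd_of_pow_eq_one h3.symm
    rw [hord] at this
    exact hQ this

end Cfsg.Agent.Helper7
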