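import Mathlib
import Cfsg.Agent.Lib.Helper7.Baer
import Cfsg.Agent.Lib.Helper7.Coprime
import Cfsg.Agent.Lib.Helper7.Cores

/-!
# An application of the Baer trick (helper7)

`p` odd; a `p'`-group `Q` and a `p`-group `A` normalizing `Q` act on a `p`-group `R`.  If `Q`
centralizes every element of order `p` of `C_R(A)`, then `Q` centralizes `R`.
-/

set_option autoImplicit false

namespace Cfsg.Agent.Helper7

open Subgroup
open scoped commutatorElement

variable {X : Type*} [Group X] [Finite X]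

theorem card_lt_of_lt' {H K : Subgroup X} (h : H < K) : Nat.card H < Nat.card K := by
  have h1 : Nat.card H ∣ Nat.card K := Subgroup.card_dvd_of_le h.le
  have h2 : Nat.card H ≤ Nat.card K := Nat.le_of_dvd Nat.card_pos h1
  rcases lt_or_eq_of_le h2 with h3 | h3
  · exact h3
  · exact absurd (Subgroup.eq_of_le_of_card_ge h.le h3.ge) h.ne

theorem le_centralizer_of_forall_orderOf_fixed_aux (p : ℕ) [hp : Fact p.Prime] (hp2 : p ≠ 2)
    (Q A : Subgroup X) (hQ : ¬ p ∣ Nat.card Q) (hA : IsPGroup p A)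
    (hAQ : A ≤ normalizer (Q : Set X)) :
    ∀ (n : ℕ) (R : Subgroup X), Nat.card R = n → IsPGroup p R → Q ≤ normalizer (R : Set X) →
      A ≤ normalizer (R : Set X) →
      (∀ x ∈ R, x ∈ centralizer (A : Set X) → orderOf x = p → x ∈ centralizer (Q : Set X)) →
      R ≤ centralizer (Q : Set X) := by
  intro n
  induction n using Nat.strong_induction_on with
  | _ n ih =>
  intro R hn hR hQR hAR hH
  subst hn
  by_contra hnot
  -- induction hypothesis for proper invariant subgroups
  have step : ∀ R₁ : Subgroup X, R₁ < R → Q ≤ normalizer (R₁ : Set X) →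
      A ≤ normalizer (R₁ : Set X) → R₁ ≤ centralizer (Q : Set X) := by
    intro R₁ hlt hQ₁ hA₁
    exact ih (Nat.card R₁) (card_lt_of_lt' hlt) R₁ rfl (hR.to_le hlt.le) hQ₁ hA₁
      (fun x hx => hH x (hlt.le hx))
  have hcop : (Nat.card Q).Coprime (Nat.card R) := by
    obtain ⟨k, hk⟩ := hR.exists_card_eq
    rw [hk]
    exact Nat.Coprime.pow_right k ((Nat.Prime.coprime_iff_not_dvd hp.out).mpr hQ).symm
  have hRbot : R ≠ ⊥ := by
    intro h
    apply hnot
    rw [h]
    exact bot_le
  -- Step 1: `⁅R, Q⁆ = R`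
  have h1 : ⁅R, Q⁆ = R := by
    by_contra hne
    have hle : ⁅R, Q⁆ ≤ R := commutator_le_of_le_normalizer hQR
    have hQn : Q ≤ normalizer ((⁅R, Q⁆ : Subgroup X) : Set X) :=
      (le_inf hQR Subgroup.le_normalizer).trans
        (normalizer_inf_normalizer_le_normalizer_commutator R Q)
    have hAn : A ≤ normalizer ((⁅R, Q⁆ : Subgroup X) : Set X) :=
      (le_inf hAR hAQ).trans (normalizer_inf_normalizer_le_normalizer_commutator R Q)
    have hc := step ⁅R, Q⁆ (lt_of_le_of_ne hle hne) hQn hAn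
    have hc' : ⁅⁅R, Q⁆, Q⁆ = ⊥ := Subgroup.commutator_eq_bot_iff_le_centralizer.mpr hc
    exact hnot (le_centralizer_of_commutator_commutator_eq_bot hcop hQR hc')
  -- Step 2: `Q` centralizes `R'`
  have hnil : Group.IsNilpotent ↥(R ⊔ R) := by
    rw [sup_idem]
    exact hR.isNilpotent
  have h2ne : ⁅R, R⁆ ≠ R := commutator_ne_self_of_isNilpotent_sup hnil hRbot
  have h2le : ⁅R, R⁆ ≤ R := commutator_le_of_le_normalizer Subgroup.le_normalizer
  have hQn' : Q ≤ normalizer ((⁅R, R⁆ : Subgroup X) : Set X) :=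
    (le_inf hQR hQR).trans (normalizer_inf_normalizer_le_normalizer_commutator R R)
  have hAn' : A ≤ normalizer ((⁅R, R⁆ : Subgroup X) : Set X) :=
    (le_inf hAR hAR).trans (normalizer_inf_normalizer_le_normalizer_commutator R R)
  have h2 : ⁅⁅R, R⁆, Q⁆ = ⊥ :=
    Subgroup.commutator_eq_bot_iff_le_centralizer.mpr
      (step ⁅R, R⁆ (lt_of_le_of_ne h2le h2ne) hQn' hAn')
  -- Step 3: `R'` is central in `R`
  have h3 : ⁅R, ⁅R, R⁆⁆ = ⊥ := by
    have ha : ⁅⁅R, ⁅R, R⁆⁆, Q⁆ = ⊥ := by
      have hRn : R ≤ normalizer ((⁅R, R⁆ : Subgroup X) : Set X) :=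
        (le_inf Subgroup.le_normalizer Subgroup.le_normalizer).trans
          (normalizer_inf_normalizer_le_normalizer_commutator R R)
      have : ⁅R, ⁅R, R⁆⁆ ≤ ⁅R, R⁆ := by
        rw [Subgroup.commutator_comm]
        exact commutator_le_of_le_normalizer hRn
      rw [eq_bot_iff, ← h2]
      exact Subgroup.commutator_mono this le_rfl
    have hb : ⁅⁅⁅R, R⁆, Q⁆, R⁆ = ⊥ := by
      rw [h2, Subgroup.commutator_bot_left]
    have := Subgroup.commutator_commutator_eq_bot_of_rotate ha hb
    rw [Subgroup.commutator_comm Q R, h1] at this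
    exact this
  -- Step 4: the Baer trick
  have hcc : CommCentral ↥R := by
    intro x y
    rw [Subgroup.mem_center_iff]
    intro g
    apply Subtype.ext
    have hxy : ((⁅x, y⁆ : ↥R) : X) ∈ ⁅R, R⁆ := by
      have : ((⁅x, y⁆ : ↥R) : X) = ⁅(x : X), (y : X)⁆ := by
        simp [commutatorElement_def]
      rw [this]
      exact Subgroup.commutator_mem_commutator x.2 y.2
    have hg : (g : X) ∈ centralizer ((⁅R, R⁆ : Subgroup X) : Set X) :=
      (Subgroup.commutator_eq_bot_iff_le_centralizer.mp h3) g.2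
    have := (Subgroup.mem_centralizer_iff.mp hg) _ hxy
    simpa using this.symm
  set N : Subgroup X := normalizer (R : Set X) with hN
  have hmove : ∃ q ∈ Q.subgroupOf N, ∃ x : ↥R, q • x ≠ x := by
    have : ∃ x ∈ R, x ∉ centralizer (Q : Set X) := by
      by_contra hcon
      push Not at hcon
      exact hnot hcon
    obtain ⟨x, hxR, hx⟩ := this
    rw [Subgroup.mem_centralizer_iff] at hx
    push Not at hx
    obtain ⟨q, hq, hqx⟩ := hx
    refine ⟨⟨q, hQR hq⟩, Subgroup.mem_subgroupOf.mpr hq, ⟨x, hxR⟩, ?_⟩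
    intro h
    have h' := congrArg Subtype.val h
    have h'' : q * x * q⁻¹ = x := h'
    apply hqx
    calc q * x = q * x * q⁻¹ * q := by group
      _ = x * q := by rw [h'']
  have hQ' : ¬ p ∣ Nat.card (Q.subgroupOf N) := by
    rw [card_subgroupOf_of_le hQR]
    exact hQ
  have hA' : IsPGroup p (A.subgroupOf N) := hA.comap_subtype
  have hAQ' : ∀ a ∈ A.subgroupOf N, ∀ q ∈ Q.subgroupOf N, a⁻¹ * q * a ∈ Q.subgroupOf N := by
    intro a ha q hq
    rw [Subgroup.mem_subgroupOf] at ha hq ⊢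
    have hn := hAQ (A.inv_mem ha)
    rw [Subgroup.mem_set_normalizer_iff] at hn
    have := (hn (q : X)).mp hq
    simpa using this
  obtain ⟨t, ht1, htp, htA, q, hq, hqt⟩ :=
    exists_fixed_not_fixed_of_commCentral (D := ↥R) (Γ := ↥N) p hp2 hR hcc
      (Q.subgroupOf N) (A.subgroupOf N) hQ' hA' hAQ' hmove
  have htA' : (t : X) ∈ centralizer (A : Set X) := by
    rw [Subgroup.mem_centralizer_iff]
    intro a ha
    have := htA ⟨a, hAR ha⟩ (Subgroup.mem_subgroupOf.mpr ha)
    have h' : a * (t : X) * a⁻¹ = t := congrArg Subtype.val this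
    calc a * (t : X) = a * (t : X) * a⁻¹ * a := by group
      _ = (t : X) * a := by rw [h']
  have hord : orderOf (t : X) = p := by
    apply orderOf_eq_prime
    · have := congrArg Subtype.val htp
      simpa using this
    · intro h
      exact ht1 (Subtype.ext h)
  have htQ := hH t t.2 htA' hord
  apply hqt
  apply Subtype.ext
  show (q : X) * (t : X) * (q : X)⁻¹ = t
  have := (Subgroup.mem_centralizer_iff.mp htQ) (q : X) (Subgroup.mem_subgroupOf.mp hq)
  rw [this]
  group

/-- `p` odd; a `p'`-group `Q` and a `p`-group `A` normalizing `Q` act on a `p`-group `R`.  If `Q`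
centralizes every element of order `p` of `C_R(A)`, then `Q` centralizes `R`. -/
theorem le_centralizer_of_forall_orderOf_fixed (p : ℕ) [Fact p.Prime] (hp2 : p ≠ 2)
    (R Q A : Subgroup X) (hR : IsPGroup p R) (hQ : ¬ p ∣ Nat.card Q) (hA : IsPGroup p A)
    (hAQ : A ≤ normalizer (Q : Set X)) (hQR : Q ≤ normalizer (R : Set X))
    (hAR : A ≤ normalizer (R : Set X))
    (hH : ∀ x ∈ R, x ∈ centralizer (A : Set X) → orderOf x = p → x ∈ centralizer (Q : Set X)) :
    R ≤ centralizer (Q : Set X) :=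
  le_centralizer_of_forall_orderOf_fixed_aux p hp2 Q A hQ hA hAQ _ R rfl hR hQR hAR hH

end Cfsg.Agent.Helper7
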