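import Mathlib
import Cfsg.Prelude.Def_Local
import Cfsg.Agent.Lib.Helper7.BaerApp
import Cfsg.Agent.Lib.Helper7.PConstrained
import Cfsg.Agent.Lib.Helper1.Coprime

/-!
# Invariant `p'`-subgroups in `p`-constrained groups (helper7)
-/

set_option autoImplicit false

namespace Cfsg.Agent.Helper7

open Subgroup
open scoped commutatorElement

variable {X : Type*} [Group X] [Finite X]

/-- In a `p`-constrained group, `p` odd, let `A` be a `p`-subgroup containing every element of
order `p` of `C_X(A)`.  Then every `A`-invariant `p'`-subgroup lies in `O_{p'}(X)`. -/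
theorem le_pPrimeCore_of_isPConstrained (p : ℕ) [hp : Fact p.Prime] (hp2 : p ≠ 2)
    (hX : Cfsg.IsPConstrained p X) (A : Subgroup X) (hAp : IsPGroup p ↥A)
    (hΩ : ∀ x ∈ Subgroup.centralizer (A : Set X), orderOf x = p → x ∈ A) (Q : Subgroup X)
    (hQ : ¬ p ∣ Nat.card ↥Q) (hAQ : A ≤ Subgroup.normalizer (Q : Set X)) :
    Q ≤ Cfsg.pPrimeCore p X := by
  haveI hKn : (Cfsg.pPrimeCore p X).Normal := Cfsg.Agent.Helper22.pPrimeCore_normal p
  set K := Cfsg.pPrimeCore p X with hK
  set φ := QuotientGroup.mk' K with hφ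
  have hKcop : (Nat.card ↥K).Coprime p := Cfsg.Agent.Helper22.card_pPrimeCore_coprime p
  set Rb := Cfsg.pCore p (X ⧸ K) with hRb
  haveI hRbn : Rb.Normal := by
    rw [hRb]; unfold Cfsg.pCore
    exact Subgroup.sSup_normal _ (fun _ h => h.1)
  have hRbp : IsPGroup p ↥Rb := pCore_isPGroup p
  have hcent := (isPConstrained_iff_centralizer_le (X := X) p).mp hX
  have hQb : ¬ p ∣ Nat.card ↥(Q.map φ) := fun h => hQ (h.trans (Subgroup.card_map_dvd _ φ))
  have hQbcop : (Nat.card ↥(Q.map φ)).Coprime p :=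
    ((Nat.Prime.coprime_iff_not_dvd hp.out).mpr hQb).symm
  have hAb : IsPGroup p ↥(A.map φ) := hAp.map φ
  have hAQb : A.map φ ≤ normalizer ((Q.map φ : Subgroup (X ⧸ K)) : Set (X ⧸ K)) :=
    (Subgroup.map_mono hAQ).trans (Subgroup.le_normalizer_map φ)
  have htop : normalizer ((Rb : Subgroup (X ⧸ K)) : Set (X ⧸ K)) = ⊤ :=
    Subgroup.normalizer_eq_top Rb
  have hdisj : Rb ⊓ Q.map φ = ⊥ := inf_eq_bot_of_isPGroup_of_coprime hRbp hQbcop
  have key : Rb ≤ centralizer ((Q.map φ : Subgroup (X ⧸ K)) : Set (X ⧸ K)) := by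
    apply le_centralizer_of_forall_orderOf_fixed p hp2 Rb (Q.map φ) (A.map φ) hRbp hQb hAb hAQb
      (htop ▸ le_top) (htop ▸ le_top)
    intro xb hxR hxA hxord
    obtain ⟨x, rfl⟩ : ∃ x, φ x = xb := QuotientGroup.mk'_surjective K xb
    -- lift to the centralizer of `A`
    have hAK : A ≤ normalizer (K : Set X) := by
      rw [Subgroup.normalizer_eq_top K]; exact le_top
    have hcopAK : (Nat.card ↥A).Coprime (Nat.card ↥K) := by
      obtain ⟨k, hk⟩ := hAp.exists_card_eq
      rw [hk]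
      exact (Nat.Coprime.pow_right k hKcop).symm
    have hsolv : Group.IsSolvable ↥A ∨ Group.IsSolvable ↥K := by
      left
      have := hAp.isNilpotent
      infer_instance
    have hxa : ∀ a ∈ A, x⁻¹ * a * x * a⁻¹ ∈ K := by
      intro a ha
      have h1 := (Subgroup.mem_centralizer_iff.mp hxA) (φ a) (Subgroup.mem_map_of_mem φ ha)
      have h2 : φ (x⁻¹ * a * x * a⁻¹) = 1 := by
        rw [map_mul, map_mul, map_mul, map_inv, map_inv, mul_assoc (φ x)⁻¹, h1]
        group
      exact (QuotientGroup.eq_one_iff _).mp h2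
    obtain ⟨c, hcA, hcx⟩ :=
      Cfsg.Agent.Helper1.exists_centralizer_mem_coset K A hAK hcopAK hsolv x hxa
    have hφc : φ c = φ x := by
      have : φ (x⁻¹ * c) = 1 := (QuotientGroup.eq_one_iff _).mpr hcx
      rw [map_mul, map_inv, inv_mul_eq_one] at this
      exact this.symm
    obtain ⟨u, -, hu⟩ := Nat.exists_mul_mod_eq_one_of_coprime hKcop hp.out.one_lt
    set y := c ^ (Nat.card ↥K * u) with hy
    have hφy : φ y = φ x := by
      rw [hy, map_pow, hφc, ← pow_mod_orderOf, hxord, hu, pow_one]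
    have hyp : y ^ p = 1 := by
      have hcp : c ^ p ∈ K := by
        have : φ (c ^ p) = 1 := by
          rw [map_pow, hφc]
          have := pow_orderOf_eq_one (φ x)
          rwa [hxord] at this
        exact (QuotientGroup.eq_one_iff _).mp this
      have h1 : (c ^ p) ^ Nat.card ↥K = 1 := by
        have h2 : (⟨c ^ p, hcp⟩ : ↥K) ^ Nat.card ↥K = 1 := pow_card_eq_one'
        have h3 := congrArg Subtype.val h2
        rw [Subgroup.coe_pow, Subgroup.coe_one] at h3
        exact h3
      rw [hy, ← pow_mul, mul_comm (Nat.card ↥K * u) p, ← mul_assoc, pow_mul, pow_mul, h1, one_pow]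
    have hy1 : y ≠ 1 := by
      intro h
      rw [h, map_one] at hφy
      have : orderOf (φ x) = 1 := by rw [← hφy, orderOf_one]
      rw [hxord] at this
      exact hp.out.one_lt.ne' this
    have hyA : y ∈ A := hΩ y (Subgroup.pow_mem _ hcA _) (orderOf_eq_prime hyp hy1)
    have hxAb : φ x ∈ A.map φ := hφy ▸ Subgroup.mem_map_of_mem φ hyA
    -- now `φ x ∈ Ā ∩ R̄` centralizes `Q̄`
    rw [Subgroup.mem_centralizer_iff]
    intro qb hqb
    have hn := hAQb hxAb
    rw [Subgroup.mem_set_normalizer_iff] at hn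
    have h1 : φ x * qb * (φ x)⁻¹ ∈ Q.map φ := (hn qb).mp hqb
    have h2 : ⁅φ x, qb⁆ ∈ Rb ⊓ Q.map φ := by
      constructor
      · have : ⁅φ x, qb⁆ = φ x * (qb * (φ x)⁻¹ * qb⁻¹) := by
          rw [commutatorElement_def]; group
        rw [this]
        exact Rb.mul_mem hxR (hRbn.conj_mem _ (Rb.inv_mem hxR) qb)
      · have : ⁅φ x, qb⁆ = (φ x * qb * (φ x)⁻¹) * qb⁻¹ := by
          rw [commutatorElement_def]
        rw [this]
        exact (Q.map φ).mul_mem h1 ((Q.map φ).inv_mem hqb)
    rw [hdisj, Subgroup.mem_bot, commutatorElement_eq_one_iff_commute] at h2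
    exact h2.eq.symm
  -- conclusion
  have hQR : Q.map φ ≤ Rb := by
    refine le_trans ?_ hcent
    intro qb hqb
    rw [Subgroup.mem_centralizer_iff]
    intro r hr
    exact ((Subgroup.mem_centralizer_iff.mp (key hr)) qb hqb).symm
  have hQbot : Q.map φ = ⊥ := by
    rw [eq_bot_iff, ← hdisj]
    exact le_inf hQR le_rfl
  intro q hq
  have : φ q ∈ Q.map φ := Subgroup.mem_map_of_mem φ hq
  rw [hQbot, Subgroup.mem_bot] at this
  exact (QuotientGroup.eq_one_iff _).mp this

end Cfsg.Agent.Helper7
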