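import Mathlib
import Cfsg.Agent.Lib.Helper7.CoprimeGen2
import Cfsg.Agent.Lib.Helper27.Timmesfeld
import Cfsg.Agent.S0022
import Cfsg.Agent.Lib.Helper1.Coprime
import Cfsg.Agent.Lib.Helper7.Signalizer

set_option autoImplicit false

namespace Cfsg.Agent.Helper7

open Subgroup
open scoped commutatorElement

variable {H : Type*} [Group H]

/-- `C_K(g)` -/
def cent1 (K : Subgroup H) (g : H) : Subgroup H := K ⊓ Subgroup.centralizer {g}

/-- `C_K(a) ∩ C_K(b)` -/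
def cent2 (K : Subgroup H) (a b : H) : Subgroup H :=
  K ⊓ Subgroup.centralizer {a} ⊓ Subgroup.centralizer {b}

/-- the `p + 1` representatives `a b^j` (`j < p`) and `b` -/
def gfam (p : ℕ) (a b : H) (j : ℕ) : H := if j < p then a * b ^ j else b

/-- left side of the Brauer–Wielandt formula -/
noncomputable def bwL (p : ℕ) (K : Subgroup H) (a b : H) : ℕ :=
  Nat.card ↥K * Nat.card ↥(cent2 K a b) ^ p

/-- right side of the Brauer–Wielandt formula -/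
noncomputable def bwR (p : ℕ) (K : Subgroup H) (a b : H) : ℕ :=
  ∏ j ∈ Finset.range (p + 1), Nat.card ↥(cent1 K (gfam p a b j))

theorem cent1_le (K : Subgroup H) (g : H) : cent1 K g ≤ K := inf_le_left

theorem cent2_le (K : Subgroup H) (a b : H) : cent2 K a b ≤ K := inf_le_left.trans inf_le_left

theorem mem_cent1 {K : Subgroup H} {g x : H} : x ∈ cent1 K g ↔ x ∈ K ∧ g * x = x * g := by
  unfold cent1
  rw [Subgroup.mem_inf, Subgroup.mem_centralizer_singleton_iff]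
  constructor
  · rintro ⟨h1, h2⟩; exact ⟨h1, h2.symm⟩
  · rintro ⟨h1, h2⟩; exact ⟨h1, h2.symm⟩

theorem mem_cent2 {K : Subgroup H} {a b x : H} :
    x ∈ cent2 K a b ↔ x ∈ K ∧ a * x = x * a ∧ b * x = x * b := by
  unfold cent2
  rw [Subgroup.mem_inf, Subgroup.mem_inf, Subgroup.mem_centralizer_singleton_iff,
    Subgroup.mem_centralizer_singleton_iff]
  constructor
  · rintro ⟨⟨h1, h2⟩, h3⟩; exact ⟨h1, h2.symm, h3.symm⟩
  · rintro ⟨h1, h2, h3⟩; exact ⟨⟨h1, h2.symm⟩, h3.symm⟩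

theorem cent1_inf_eq {Q N : Subgroup H} (hNQ : N ≤ Q) (g : H) : cent1 Q g ⊓ N = cent1 N g := by
  ext x
  rw [Subgroup.mem_inf, mem_cent1, mem_cent1]
  constructor
  · rintro ⟨⟨_, h2⟩, h3⟩; exact ⟨h3, h2⟩
  · rintro ⟨h1, h2⟩; exact ⟨⟨hNQ h1, h2⟩, h1⟩

theorem cent2_inf_eq {Q N : Subgroup H} (hNQ : N ≤ Q) (a b : H) :
    cent2 Q a b ⊓ N = cent2 N a b := by
  ext x
  rw [Subgroup.mem_inf, mem_cent2, mem_cent2]
  constructor
  · rintro ⟨⟨_, h2⟩, h3⟩; exact ⟨h3, h2⟩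
  · rintro ⟨h1, h2⟩; exact ⟨⟨hNQ h1, h2⟩, h1⟩

/-- the elements normalizing `N` and acting trivially on `Q` modulo `N` -/
def trivOn (Q N : Subgroup H) : Subgroup H where
  carrier := {g | g ∈ Subgroup.normalizer (N : Set H) ∧ ∀ k ∈ Q, g * k * g⁻¹ * k⁻¹ ∈ N}
  one_mem' := ⟨Subgroup.one_mem _, fun k _ => by simp⟩
  mul_mem' := by
    rintro g g' ⟨hg, hgQ⟩ ⟨hg', hg'Q⟩
    refine ⟨Subgroup.mul_mem _ hg hg', fun k hk => ?_⟩
    have h1 : g * g' * k * (g * g')⁻¹ * k⁻¹ =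
        g * (g' * k * g'⁻¹ * k⁻¹) * g⁻¹ * (g * k * g⁻¹ * k⁻¹) := by group
    rw [h1]
    exact N.mul_mem ((Subgroup.mem_normalizer_iff.mp hg _).mp (hg'Q k hk)) (hgQ k hk)
  inv_mem' := by
    rintro g ⟨hg, hgQ⟩
    refine ⟨Subgroup.inv_mem _ hg, fun k hk => ?_⟩
    have h1 : g⁻¹ * k * g⁻¹⁻¹ * k⁻¹ = g⁻¹ * (g * k * g⁻¹ * k⁻¹)⁻¹ * g⁻¹⁻¹ := by group
    rw [h1]
    exact (Subgroup.mem_normalizer_iff.mp (Subgroup.inv_mem _ hg) _).mp (N.inv_mem (hgQ k hk))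

theorem mem_trivOn {Q N : Subgroup H} {g : H} :
    g ∈ trivOn Q N ↔ g ∈ Subgroup.normalizer (N : Set H) ∧ ∀ k ∈ Q, g * k * g⁻¹ * k⁻¹ ∈ N :=
  Iff.rfl

/-- if `C_Q(g) N = Q` then `g` acts trivially on `Q / N` -/
theorem mem_trivOn_of_sup_eq {Q N : Subgroup H} {g : H} (hQN : Q ≤ Subgroup.normalizer (N : Set H))
    (hgN : g ∈ Subgroup.normalizer (N : Set H)) (h : N ⊔ cent1 Q g = Q) : g ∈ trivOn Q N := by
  refine ⟨hgN, fun k hk => ?_⟩
  rw [← h] at hk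
  obtain ⟨n, hn, c, hc, rfl⟩ :=
    Cfsg.Agent.Helper1.exists_mul_of_mem_sup ((cent1_le Q g).trans hQN) hk
  have hgc : g * c = c * g := (mem_cent1.mp hc).2
  have h1 : g * (n * c) * g⁻¹ * (n * c)⁻¹ = (g * n * g⁻¹) * ((g * c) * g⁻¹ * c⁻¹) * n⁻¹ := by group
  rw [h1, hgc]
  have h2 : c * g * g⁻¹ * c⁻¹ = 1 := by group
  rw [h2, mul_one]
  exact N.mul_mem ((Subgroup.mem_normalizer_iff.mp hgN n).mp hn) (N.inv_mem hn)

theorem coprime_card_zpowers_of_pow_eq_one [Finite H] {p : ℕ} [hp : Fact p.Prime] {Q : Subgroup H}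
    (hQp : ¬ p ∣ Nat.card ↥Q) {g : H} (hgp : g ^ p = 1) :
    (Nat.card ↥(Subgroup.zpowers g)).Coprime (Nat.card ↥Q) := by
  rw [Nat.card_zpowers]
  exact Nat.Coprime.coprime_dvd_left (orderOf_dvd_of_pow_eq_one hgp)
    ((Nat.Prime.coprime_iff_not_dvd hp.out).mpr hQp)

/-- if `g` acts trivially on `Q / N` then `C_Q(g) N = Q` (coprime action) -/
theorem sup_cent1_eq_of_mem_trivOn [Finite H] {p : ℕ} [hp : Fact p.Prime] {Q N : Subgroup H}
    {g : H} (hNQ : N ≤ Q) (hQN : Q ≤ Subgroup.normalizer (N : Set H))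
    (hQp : ¬ p ∣ Nat.card ↥Q) (hQs : Group.IsSolvable ↥Q)
    (hgQ : g ∈ Subgroup.normalizer (Q : Set H)) (hgp : g ^ p = 1) (hg : g ∈ trivOn Q N) :
    N ⊔ cent1 Q g = Q := by
  apply le_antisymm (sup_le hNQ (cent1_le Q g))
  intro k hk
  have hzT : Subgroup.zpowers g ≤ trivOn Q N := (Subgroup.zpowers_le).mpr hg
  obtain ⟨c, hc, hkc⟩ := Cfsg.Agent.S0022.result (Subgroup.zpowers g) Q
    ((Subgroup.zpowers_le).mpr hgQ) (coprime_card_zpowers_of_pow_eq_one hQp hgp) (Or.inr hQs)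
    N hNQ hQN ((Subgroup.zpowers_le).mpr hg.1) k hk (fun a' ha' => (hzT ha').2 k hk)
  have hc1 : c ∈ cent1 Q g := by
    rw [mem_cent1]
    refine ⟨hc.1, ?_⟩
    exact (Subgroup.mem_centralizer_iff.mp hc.2) g (Subgroup.mem_zpowers g)
  have h2 : k = c * (k⁻¹ * c)⁻¹ := by group
  rw [h2]
  -- c * n with n ∈ N: rewrite as n' * c using normality
  have hcN : c ∈ Subgroup.normalizer (N : Set H) := hQN hc.1
  have h3 : c * (k⁻¹ * c)⁻¹ = (c * (k⁻¹ * c)⁻¹ * c⁻¹) * c := by group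
  rw [h3]
  exact Subgroup.mul_mem _
    (Subgroup.mem_sup_left ((Subgroup.mem_normalizer_iff.mp hcN _).mp (N.inv_mem hkc)))
    (Subgroup.mem_sup_right hc1)

/-- pair version -/
theorem sup_cent2_eq_of_mem_trivOn [Finite H] {p : ℕ} [hp : Fact p.Prime] {Q N : Subgroup H}
    {a b : H} (hNQ : N ≤ Q) (hQN : Q ≤ Subgroup.normalizer (N : Set H))
    (hQp : ¬ p ∣ Nat.card ↥Q) (hQs : Group.IsSolvable ↥Q)
    (haQ : a ∈ Subgroup.normalizer (Q : Set H)) (hbQ : b ∈ Subgroup.normalizer (Q : Set H))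
    (hab : a * b = b * a) (hap : a ^ p = 1) (hbp : b ^ p = 1)
    (ha : a ∈ trivOn Q N) (hb : b ∈ trivOn Q N) :
    N ⊔ cent2 Q a b = Q := by
  apply le_antisymm (sup_le hNQ (cent2_le Q a b))
  intro k hk
  set A : Subgroup H := Subgroup.zpowers a ⊔ Subgroup.zpowers b with hA
  have hAT : A ≤ trivOn Q N := sup_le ((Subgroup.zpowers_le).mpr ha) ((Subgroup.zpowers_le).mpr hb)
  have hAQ : A ≤ Subgroup.normalizer (Q : Set H) :=
    sup_le ((Subgroup.zpowers_le).mpr haQ) ((Subgroup.zpowers_le).mpr hbQ)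
  have hcop : (Nat.card ↥A).Coprime (Nat.card ↥Q) := by
    have hn : Subgroup.zpowers b ≤ Subgroup.normalizer (Subgroup.zpowers a : Set H) := by
      rw [Subgroup.zpowers_le]
      apply Subgroup.centralizer_le_normalizer
      rw [Subgroup.mem_centralizer_iff]
      intro h hh
      obtain ⟨z, rfl⟩ := Subgroup.mem_zpowers_iff.mp hh
      have : Commute a b := hab
      exact (this.zpow_left z).eq
    have h1 := card_sup_dvd_mul_of_le_normalizer hn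
    exact Nat.Coprime.coprime_dvd_left h1
      (Nat.Coprime.mul_left (coprime_card_zpowers_of_pow_eq_one hQp hap)
        (coprime_card_zpowers_of_pow_eq_one hQp hbp))
  obtain ⟨c, hc, hkc⟩ := Cfsg.Agent.S0022.result A Q hAQ hcop (Or.inr hQs)
    N hNQ hQN (fun x hx => (hAT hx).1) k hk (fun a' ha' => (hAT ha').2 k hk)
  have hc2 : c ∈ cent2 Q a b := by
    rw [mem_cent2]
    refine ⟨hc.1, ?_, ?_⟩
    · exact (Subgroup.mem_centralizer_iff.mp hc.2) a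
        (Subgroup.mem_sup_left (Subgroup.mem_zpowers a))
    · exact (Subgroup.mem_centralizer_iff.mp hc.2) b
        (Subgroup.mem_sup_right (Subgroup.mem_zpowers b))
  have h2 : k = c * (k⁻¹ * c)⁻¹ := by group
  rw [h2]
  have hcN : c ∈ Subgroup.normalizer (N : Set H) := hQN hc.1
  have h3 : c * (k⁻¹ * c)⁻¹ = (c * (k⁻¹ * c)⁻¹ * c⁻¹) * c := by group
  rw [h3]
  exact Subgroup.mul_mem _
    (Subgroup.mem_sup_left ((Subgroup.mem_normalizer_iff.mp hcN _).mp (N.inv_mem hkc)))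
    (Subgroup.mem_sup_right hc2)

end Cfsg.Agent.Helper7
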