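import Mathlib
import Cfsg.Agent.Lib.Helper7.BW1

set_option autoImplicit false

namespace Cfsg.Agent.Helper7

open Subgroup
open scoped commutatorElement

variable {H : Type*} [Group H]

theorem gfam_of_lt {p : ℕ} (a b : H) {j : ℕ} (hj : j < p) : gfam p a b j = a * b ^ j := by
  unfold gfam; rw [if_pos hj]

theorem gfam_self (p : ℕ) (a b : H) : gfam p a b p = b := by
  unfold gfam; rw [if_neg (lt_irrefl p)]

theorem gfam_eq_pow_mul_pow (p : ℕ) (a b : H) (j : ℕ) :
    ∃ i k : ℕ, gfam p a b j = a ^ i * b ^ k := by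
  unfold gfam
  split_ifs
  · exact ⟨1, j, by rw [pow_one]⟩
  · exact ⟨0, 1, by rw [pow_zero, one_mul, pow_one]⟩

/-- exactly one of the `p + 1` representatives lies in `T` -/
theorem exists_unique_gfam_mem (p : ℕ) [hp : Fact p.Prime] (T : Subgroup H) {a b : H}
    (hab : a * b = b * a) (hap : a ^ p = 1) (hbp : b ^ p = 1) (hnot : ¬ (a ∈ T ∧ b ∈ T)) {i j : ℕ}
    (hij : ¬ (p ∣ i ∧ p ∣ j)) (hmem : a ^ i * b ^ j ∈ T) :
    ∃ j₀ ∈ Finset.range (p + 1), gfam p a b j₀ ∈ T ∧
      ∀ j ∈ Finset.range (p + 1), j ≠ j₀ → gfam p a b j ∉ T := by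
  have hpp := hp.out
  have haT_of : ∀ k : ℕ, a * b ^ k ∈ T → b ∈ T → a ∈ T := by
    intro k h1 h2
    have : a = (a * b ^ k) * (b ^ k)⁻¹ := by group
    rw [this]
    exact T.mul_mem h1 (T.inv_mem (T.pow_mem h2 k))
  by_cases hi : p ∣ i
  · have hj : ¬ p ∣ j := fun h => hij ⟨hi, h⟩
    rw [pow_eq_one_of_dvd hap hi, one_mul] at hmem
    have hbT : b ∈ T := mem_of_pow_mem_of_not_dvd hpp hbp hj hmem
    refine ⟨p, Finset.mem_range.mpr (Nat.lt_succ_self p), by rw [gfam_self]; exact hbT, ?_⟩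
    intro j' hj' hne hmem'
    have hlt : j' < p := by
      have := Finset.mem_range.mp hj'; omega
    rw [gfam_of_lt a b hlt] at hmem'
    exact hnot ⟨haT_of j' hmem' hbT, hbT⟩
  · have hcop : Nat.Coprime i p := ((Nat.Prime.coprime_iff_not_dvd hpp).mpr hi).symm
    obtain ⟨m, -, hm⟩ := Nat.exists_mul_mod_eq_one_of_coprime hcop hpp.one_lt
    have hpow : (a ^ i * b ^ j) ^ m ∈ T := T.pow_mem hmem m
    have hcomm : Commute (a ^ i) (b ^ j) := (Commute.pow_pow (show Commute a b from hab) i j)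
    rw [hcomm.mul_pow, ← pow_mul, ← pow_mul] at hpow
    have hmodpow : ∀ (x : H) (n : ℕ), x ^ p = 1 → x ^ n = x ^ (n % p) := by
      intro x n hx
      conv_lhs => rw [← Nat.div_add_mod n p, pow_add, pow_mul, hx, one_pow, one_mul]
    rw [hmodpow a (i * m) hap, hm, pow_one, hmodpow b (j * m) hbp] at hpow
    set j₀ := (j * m) % p with hj₀
    have hj₀lt : j₀ < p := Nat.mod_lt _ hpp.pos
    have hbT : b ∉ T := fun h => hnot ⟨haT_of j₀ hpow h, h⟩
    refine ⟨j₀, Finset.mem_range.mpr (by omega), by rw [gfam_of_lt a b hj₀lt]; exact hpow, ?_⟩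
    intro j' hj' hne hmem'
    by_cases hj'p : j' = p
    · rw [hj'p, gfam_self] at hmem'
      exact hbT hmem'
    · have hlt : j' < p := by
        have := Finset.mem_range.mp hj'; omega
      rw [gfam_of_lt a b hlt] at hmem'
      rcases Nat.lt_or_gt_of_ne hne with h | h
      · -- j' < j₀
        have h1 : b ^ (j₀ - j') ∈ T := by
          have : b ^ (j₀ - j') = (a * b ^ j')⁻¹ * (a * b ^ j₀) := by
            have e : b ^ j₀ = b ^ j' * b ^ (j₀ - j') := by
              rw [← pow_add]; congr 1; omega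
            rw [e]; group
          rw [this]
          exact T.mul_mem (T.inv_mem hmem') hpow
        have hnd : ¬ p ∣ (j₀ - j') := by
          intro hd
          have := Nat.le_of_dvd (by omega) hd
          omega
        exact hbT (mem_of_pow_mem_of_not_dvd hpp hbp hnd h1)
      · have h1 : b ^ (j' - j₀) ∈ T := by
          have : b ^ (j' - j₀) = (a * b ^ j₀)⁻¹ * (a * b ^ j') := by
            have e : b ^ j' = b ^ j₀ * b ^ (j' - j₀) := by
              rw [← pow_add]; congr 1; omega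
            rw [e]; group
          rw [this]
          exact T.mul_mem (T.inv_mem hpow) hmem'
        have hnd : ¬ p ∣ (j' - j₀) := by
          intro hd
          have := Nat.le_of_dvd (by omega) hd
          omega
        exact hbT (mem_of_pow_mem_of_not_dvd hpp hbp hnd h1)

theorem bw_arith_all (p r s X0 Y0 : ℕ) (X Y : ℕ → ℕ) (hs : 0 < s)
    (h : ∀ j ∈ Finset.range (p + 1), X j * s = r * Y j) (h0 : X0 * s = r * Y0) :
    (r * X0 ^ p) * ∏ j ∈ Finset.range (p + 1), Y j =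
      (s * Y0 ^ p) * ∏ j ∈ Finset.range (p + 1), X j := by
  have hP : (∏ j ∈ Finset.range (p + 1), X j) * s ^ (p + 1) =
      r ^ (p + 1) * ∏ j ∈ Finset.range (p + 1), Y j := by
    have h1 : ∏ j ∈ Finset.range (p + 1), (X j * s) = ∏ j ∈ Finset.range (p + 1), (r * Y j) :=
      Finset.prod_congr rfl h
    rw [Finset.prod_mul_distrib, Finset.prod_mul_distrib, Finset.prod_const, Finset.prod_const,
      Finset.card_range] at h1
    exact h1
  have h0' : X0 ^ p * s ^ p = r ^ p * Y0 ^ p := by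
    rw [← mul_pow, ← mul_pow, h0]
  set P := ∏ j ∈ Finset.range (p + 1), X j with hPdef
  set P' := ∏ j ∈ Finset.range (p + 1), Y j with hP'def
  have hk : 0 < s ^ p * s ^ (p + 1) := by positivity
  apply Nat.eq_of_mul_eq_mul_right hk
  calc r * X0 ^ p * P' * (s ^ p * s ^ (p + 1)) = r * (X0 ^ p * s ^ p) * P' * s ^ (p + 1) := by ring
    _ = r * (r ^ p * Y0 ^ p) * P' * s ^ (p + 1) := by rw [h0']
    _ = s * Y0 ^ p * (r ^ (p + 1) * P') * s ^ p := by ring
    _ = s * Y0 ^ p * (P * s ^ (p + 1)) * s ^ p := by rw [hP]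
    _ = s * Y0 ^ p * P * (s ^ p * s ^ (p + 1)) := by ring

theorem bw_arith_one (p r s X0 Y0 : ℕ) (X Y : ℕ → ℕ) (j₀ : ℕ) (hj₀ : j₀ ∈ Finset.range (p + 1))
    (h : X j₀ * s = r * Y j₀) (hne : ∀ j ∈ Finset.range (p + 1), j ≠ j₀ → X j = Y j)
    (h0 : X0 = Y0) :
    (r * X0 ^ p) * ∏ j ∈ Finset.range (p + 1), Y j =
      (s * Y0 ^ p) * ∏ j ∈ Finset.range (p + 1), X j := by
  rw [← Finset.mul_prod_erase _ _ hj₀, ← Finset.mul_prod_erase _ _ hj₀]
  have hE : ∏ j ∈ (Finset.range (p + 1)).erase j₀, X j = ∏ j ∈ (Finset.range (p + 1)).erase j₀, Y j := by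
    apply Finset.prod_congr rfl
    intro j hj
    exact hne j (Finset.mem_of_mem_erase hj) (Finset.ne_of_mem_erase hj)
  rw [hE, h0]
  set E := ∏ j ∈ (Finset.range (p + 1)).erase j₀, Y j
  calc r * Y0 ^ p * (Y j₀ * E) = Y0 ^ p * (r * Y j₀) * E := by ring
    _ = Y0 ^ p * (X j₀ * s) * E := by rw [h]
    _ = s * Y0 ^ p * (X j₀ * E) := by ring

end Cfsg.Agent.Helper7
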