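import Mathlib
import Cfsg.Agent.Lib.Helper7.BW2
import Cfsg.Agent.Lib.Helper7.CoprimeGen1

set_option autoImplicit false

namespace Cfsg.Agent.Helper7

open Subgroup
open scoped commutatorElement

variable {H : Type*} [Group H]

/-- the Brauer–Wielandt formula for an irreducible section `Q / N` -/
theorem bw_section [Finite H] (p : ℕ) [hp : Fact p.Prime] {Q N : Subgroup H} {a b : H}
    (hNQ : N ≤ Q) (hne : N ≠ Q) (hQN : Q ≤ Subgroup.normalizer (N : Set H))
    (hQp : ¬ p ∣ Nat.card ↥Q) (hQs : Group.IsSolvable ↥Q) (hcomm : ⁅Q, Q⁆ ≤ N)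
    (haQ : a ∈ Subgroup.normalizer (Q : Set H)) (hbQ : b ∈ Subgroup.normalizer (Q : Set H))
    (haN : a ∈ Subgroup.normalizer (N : Set H)) (hbN : b ∈ Subgroup.normalizer (N : Set H))
    (hab : a * b = b * a) (hap : a ^ p = 1) (hbp : b ^ p = 1)
    (hmax : ∀ U : Subgroup H, N ≤ U → U ≤ Q → a ∈ Subgroup.normalizer (U : Set H) →
      b ∈ Subgroup.normalizer (U : Set H) → U = N ∨ U = Q) :
    bwL p Q a b * bwR p N a b = bwL p N a b * bwR p Q a b := by
  classical
  have hpp := hp.out
  have hcab : Commute a b := hab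
  set T := trivOn Q N with hT
  -- properties of elements a^i b^k
  have hprops : ∀ i k : ℕ, (a ^ i * b ^ k) ∈ Subgroup.normalizer (Q : Set H) ∧
      (a ^ i * b ^ k) ∈ Subgroup.normalizer (N : Set H) ∧ (a ^ i * b ^ k) ^ p = 1 ∧
      a * (a ^ i * b ^ k) = (a ^ i * b ^ k) * a ∧ b * (a ^ i * b ^ k) = (a ^ i * b ^ k) * b := by
    intro i k
    refine ⟨Subgroup.mul_mem _ (Subgroup.pow_mem _ haQ i) (Subgroup.pow_mem _ hbQ k),
      Subgroup.mul_mem _ (Subgroup.pow_mem _ haN i) (Subgroup.pow_mem _ hbN k), ?_, ?_, ?_⟩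
    · rw [(hcab.pow_pow i k).mul_pow, ← pow_mul, ← pow_mul, mul_comm i p, mul_comm k p, pow_mul,
        pow_mul, hap, hbp, one_pow, one_pow, one_mul]
    · exact (((Commute.refl a).pow_right i).mul_right (hcab.pow_right k)).eq
    · exact ((hcab.symm.pow_right i).mul_right ((Commute.refl b).pow_right k)).eq
  -- the dichotomy for a single element
  have hdich : ∀ g : H, g ∈ Subgroup.normalizer (Q : Set H) → g ∈ Subgroup.normalizer (N : Set H) →
      g ^ p = 1 → a * g = g * a → b * g = g * b →
      (g ∈ T → Nat.card ↥(cent1 Q g) * Nat.card ↥N = Nat.card ↥Q * Nat.card ↥(cent1 N g)) ∧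
      (g ∉ T → cent1 Q g ≤ N ∧ Nat.card ↥(cent1 Q g) = Nat.card ↥(cent1 N g)) := by
    intro g hgQ hgN hgp hag hbg
    have hcard := Cfsg.Agent.Helper27.card_sup_mul_card_inf (cent1 Q g) N
      ((cent1_le Q g).trans hQN)
    rw [cent1_inf_eq hNQ g, sup_comm] at hcard
    constructor
    · intro hgT
      rw [sup_cent1_eq_of_mem_trivOn hNQ hQN hQp hQs hgQ hgp hgT] at hcard
      exact hcard.symm
    · intro hgT
      have hU : N ⊔ cent1 Q g = N ∨ N ⊔ cent1 Q g = Q := by
        apply hmax _ le_sup_left (sup_le hNQ (cent1_le Q g))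
        · exact mem_normalizer_sup haN (mem_normalizer_inf_centralizer_singleton haQ hag)
        · exact mem_normalizer_sup hbN (mem_normalizer_inf_centralizer_singleton hbQ hbg)
      rcases hU with h | h
      · have hle : cent1 Q g ≤ N := by rw [← h]; exact le_sup_right
        refine ⟨hle, ?_⟩
        have : cent1 Q g = cent1 N g := by
          rw [← cent1_inf_eq hNQ g]
          exact (inf_eq_left.mpr hle).symm
        rw [this]
      · exact absurd (mem_trivOn_of_sup_eq hQN hgN h) hgT
  -- some nontrivial element acts trivially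
  have hex : ∃ i k : ℕ, ¬ (p ∣ i ∧ p ∣ k) ∧ a ^ i * b ^ k ∈ T := by
    by_contra hcon
    push Not at hcon
    apply hne
    apply le_antisymm hNQ
    apply le_of_forall_centralizer_le p Q N hNQ hcomm hQp a b haQ hbQ haN hbN hab hap hbp
    intro i k hik
    obtain ⟨h1, h2, h3, h4, h5⟩ := hprops i k
    have hnT : a ^ i * b ^ k ∉ T := by
      by_contra hmem
      have := hcon i k
      rw [not_and] at hik
      exact this (fun hi => hik hi) hmem |>.elim
    exact ((hdich _ h1 h2 h3 h4 h5).2 hnT).1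
  have hgprops : ∀ j : ℕ, (gfam p a b j) ∈ Subgroup.normalizer (Q : Set H) ∧
      (gfam p a b j) ∈ Subgroup.normalizer (N : Set H) ∧ (gfam p a b j) ^ p = 1 ∧
      a * (gfam p a b j) = (gfam p a b j) * a ∧ b * (gfam p a b j) = (gfam p a b j) * b := by
    intro j
    obtain ⟨i, k, h⟩ := gfam_eq_pow_mul_pow p a b j
    rw [h]
    exact hprops i k
  have hN0 : 0 < Nat.card ↥N := Nat.card_pos
  unfold bwL bwR
  by_cases hall : a ∈ T ∧ b ∈ T
  · -- everything acts trivially
    apply bw_arith_all p (Nat.card ↥Q) (Nat.card ↥N) _ _ _ _ hN0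
    · intro j _
      obtain ⟨h1, h2, h3, h4, h5⟩ := hgprops j
      apply (hdich _ h1 h2 h3 h4 h5).1
      obtain ⟨i, k, h⟩ := gfam_eq_pow_mul_pow p a b j
      rw [h]
      exact T.mul_mem (T.pow_mem hall.1 i) (T.pow_mem hall.2 k)
    · have hcard := Cfsg.Agent.Helper27.card_sup_mul_card_inf (cent2 Q a b) N
        ((cent2_le Q a b).trans hQN)
      rw [cent2_inf_eq hNQ a b, sup_comm,
        sup_cent2_eq_of_mem_trivOn hNQ hQN hQp hQs haQ hbQ hab hap hbp hall.1 hall.2] at hcard
      exact hcard.symm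
  · obtain ⟨i, k, hik, hmem⟩ := hex
    obtain ⟨j₀, hj₀, hj₀T, hj₀u⟩ := exists_unique_gfam_mem p T hab hap hbp hall hik hmem
    apply bw_arith_one p (Nat.card ↥Q) (Nat.card ↥N) _ _ _ _ j₀ hj₀
    · obtain ⟨h1, h2, h3, h4, h5⟩ := hgprops j₀
      exact (hdich _ h1 h2 h3 h4 h5).1 hj₀T
    · intro j hj hjne
      obtain ⟨h1, h2, h3, h4, h5⟩ := hgprops j
      exact ((hdich _ h1 h2 h3 h4 h5).2 (hj₀u j hj hjne)).2
    · -- the pair
      have hU : N ⊔ cent2 Q a b = N ∨ N ⊔ cent2 Q a b = Q := by
        apply hmax _ le_sup_left (sup_le hNQ (cent2_le Q a b))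
        · apply mem_normalizer_sup haN
          unfold cent2
          exact mem_normalizer_inf_centralizer_singleton
            (mem_normalizer_inf_centralizer_singleton haQ rfl) hab
        · apply mem_normalizer_sup hbN
          unfold cent2
          exact mem_normalizer_inf_centralizer_singleton
            (mem_normalizer_inf_centralizer_singleton hbQ hab.symm) rfl
      rcases hU with h | h
      · have hle : cent2 Q a b ≤ N := by rw [← h]; exact le_sup_right
        have : cent2 Q a b = cent2 N a b := by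
          rw [← cent2_inf_eq hNQ a b]
          exact (inf_eq_left.mpr hle).symm
        rw [this]
      · exfalso
        apply hall
        have hle1 : cent2 Q a b ≤ cent1 Q a := by
          intro x hx
          rw [mem_cent2] at hx
          exact mem_cent1.mpr ⟨hx.1, hx.2.1⟩
        have hle2 : cent2 Q a b ≤ cent1 Q b := by
          intro x hx
          rw [mem_cent2] at hx
          exact mem_cent1.mpr ⟨hx.1, hx.2.2⟩
        constructor
        · apply mem_trivOn_of_sup_eq hQN haN
          apply le_antisymm (sup_le hNQ (cent1_le Q a))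
          exact h.symm.le.trans (sup_le_sup_left hle1 N)
        · apply mem_trivOn_of_sup_eq hQN hbN
          apply le_antisymm (sup_le hNQ (cent1_le Q b))
          exact h.symm.le.trans (sup_le_sup_left hle2 N)

end Cfsg.Agent.Helper7
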