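import Mathlib
import Cfsg.Agent.Lib.Helper7.BW3

set_option autoImplicit false

namespace Cfsg.Agent.Helper7

open Subgroup
open scoped commutatorElement

variable {H : Type*} [Group H]

theorem bwR_pos [Finite H] (p : ℕ) (K : Subgroup H) (a b : H) : 0 < bwR p K a b := by
  unfold bwR
  apply Finset.prod_pos
  intro j _
  exact Nat.card_pos

theorem bw_bot [Finite H] (p : ℕ) (a b : H) : bwL p (⊥ : Subgroup H) a b = bwR p ⊥ a b := by
  have h2 : cent2 (⊥ : Subgroup H) a b = ⊥ := le_bot_iff.mp (cent2_le ⊥ a b)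
  have h1 : ∀ g : H, cent1 (⊥ : Subgroup H) g = ⊥ := fun g => le_bot_iff.mp (cent1_le ⊥ g)
  unfold bwL bwR
  rw [h2, Subgroup.card_bot, one_pow, one_mul]
  symm
  apply Finset.prod_eq_one
  intro j _
  rw [h1, Subgroup.card_bot]

/-- **Brauer–Wielandt** for nilpotent `p'`-groups. -/
theorem bw_nilpotent [Finite H] (p : ℕ) [hp : Fact p.Prime] {a b : H} (hab : a * b = b * a)
    (hap : a ^ p = 1) (hbp : b ^ p = 1) :
    ∀ n : ℕ, ∀ Q : Subgroup H, Nat.card ↥Q = n → Group.IsNilpotent ↥Q → ¬ p ∣ Nat.card ↥Q →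
      a ∈ Subgroup.normalizer (Q : Set H) → b ∈ Subgroup.normalizer (Q : Set H) →
      bwL p Q a b = bwR p Q a b := by
  classical
  intro n
  induction n using Nat.strong_induction_on with
  | _ n ih =>
  intro Q hQn hQnil hQp haQ hbQ
  by_cases hQ1 : Q = ⊥
  · rw [hQ1]; exact bw_bot p a b
  let S : Set (Subgroup H) := {N | N ≤ Q ∧ N ≠ Q ∧ Q ≤ Subgroup.normalizer (N : Set H) ∧
    a ∈ Subgroup.normalizer (N : Set H) ∧ b ∈ Subgroup.normalizer (N : Set H)}
  have hbotS : (⊥ : Subgroup H) ∈ S := by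
    refine ⟨bot_le, fun h => hQ1 h.symm, ?_, ?_, ?_⟩
    · intro g _
      apply mem_normalizer_of_forall_conj_mem
      intro u hu
      rw [Subgroup.mem_bot] at hu ⊢
      rw [hu]; group
    · apply mem_normalizer_of_forall_conj_mem
      intro u hu
      rw [Subgroup.mem_bot] at hu ⊢
      rw [hu]; group
    · apply mem_normalizer_of_forall_conj_mem
      intro u hu
      rw [Subgroup.mem_bot] at hu ⊢
      rw [hu]; group
  obtain ⟨N, hN⟩ := Set.Finite.exists_maximal (s := S) (Set.toFinite _) ⟨⊥, hbotS⟩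
  obtain ⟨⟨hNQ, hNne, hQN, haN, hbN⟩, hNmax⟩ := hN
  have hQs : Group.IsSolvable ↥Q := by
    haveI := hQnil
    infer_instance
  -- Q/N abelian
  have hnormC : ∀ g : H, g ∈ Subgroup.normalizer (Q : Set H) →
      g ∈ Subgroup.normalizer ((⁅Q, Q⁆ : Subgroup H) : Set H) := fun g hg =>
    normalizer_inf_normalizer_le_normalizer_commutator Q Q (Subgroup.mem_inf.mpr ⟨hg, hg⟩)
  have hcomm : ⁅Q, Q⁆ ≤ N := by
    have hmem : N ⊔ ⁅Q, Q⁆ ∈ S := by
      refine ⟨sup_le hNQ (Subgroup.commutator_le_self Q), ?_, ?_, ?_, ?_⟩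
      · intro h
        apply hNne
        apply le_antisymm hNQ
        exact le_of_le_sup_commutator hQnil hNQ h.symm.le
      · intro g hg
        exact mem_normalizer_sup (hQN hg) (hnormC g (Subgroup.le_normalizer hg))
      · exact mem_normalizer_sup haN (hnormC a haQ)
      · exact mem_normalizer_sup hbN (hnormC b hbQ)
    exact le_sup_right.trans (hNmax hmem le_sup_left)
  have hmax : ∀ U : Subgroup H, N ≤ U → U ≤ Q → a ∈ Subgroup.normalizer (U : Set H) →
      b ∈ Subgroup.normalizer (U : Set H) → U = N ∨ U = Q := by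
    intro U hNU hUQ haU hbU
    by_cases hUQ' : U = Q
    · exact Or.inr hUQ'
    · left
      have hmem : U ∈ S := by
        refine ⟨hUQ, hUQ', ?_, haU, hbU⟩
        intro q hq
        apply mem_normalizer_of_forall_conj_mem
        intro u hu
        have h1 : q * u * q⁻¹ * u⁻¹ ∈ ⁅Q, Q⁆ := by
          have : q * u * q⁻¹ * u⁻¹ = ⁅q, u⁆ := by simp only [commutatorElement_def]
          rw [this]
          exact Subgroup.commutator_mem_commutator hq (hUQ hu)
        have h2 : q * u * q⁻¹ = (q * u * q⁻¹ * u⁻¹) * u := by group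
        rw [h2]
        exact U.mul_mem (hNU (hcomm h1)) hu
      exact le_antisymm (hNmax hmem hNU) hNU
  have hNlt : Nat.card ↥N < n := by
    rw [← hQn]
    apply Nat.lt_of_le_of_ne (Subgroup.card_le_of_le hNQ)
    intro h
    exact hNne (Subgroup.eq_of_le_of_card_ge hNQ h.symm.le)
  have hNnil : Group.IsNilpotent ↥N := by
    haveI := hQnil
    haveI : Group.IsNilpotent ↥(N.subgroupOf Q) := inferInstance
    exact (Group.isNilpotent_congr (Subgroup.subgroupOfEquivOfLe hNQ)).mp inferInstance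
  have hNp : ¬ p ∣ Nat.card ↥N := fun h => hQp (h.trans (Subgroup.card_dvd_of_le hNQ))
  have hBN := ih (Nat.card ↥N) hNlt N rfl hNnil hNp haN hbN
  have hsec := bw_section p hNQ hNne hQN hQp hQs hcomm haQ hbQ haN hbN hab hap hbp hmax
  rw [hBN, mul_comm] at hsec
  exact Nat.eq_of_mul_eq_mul_left (bwR_pos p N a b) hsec

end Cfsg.Agent.Helper7
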