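import Mathlib
import Cfsg.Agent.Lib.Helper7.BW4
import Cfsg.Agent.S0023
import Cfsg.Agent.S0024
import Cfsg.Agent.S0025

set_option autoImplicit false

namespace Cfsg.Agent.Helper7

open Subgroup
open scoped commutatorElement Pointwise

variable {H : Type*} [Group H]

/-- fixed points of an invariant Sylow subgroup form a Sylow subgroup of the fixed points -/
theorem card_sylow_inf_eq [Finite H] (A K C : Subgroup H)
    (hAK : A ≤ Subgroup.normalizer (K : Set H)) (hcop : (Nat.card ↥A).Coprime (Nat.card ↥K))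
    (hsolv : Group.IsSolvable ↥A) (hAC : A ≤ Subgroup.normalizer (C : Set H))
    (hCC : Subgroup.centralizer (A : Set H) ≤ Subgroup.normalizer (C : Set H))
    (q : ℕ) [hq : Fact q.Prime] (Q : Sylow q ↥K)
    (hQ : A ≤ Subgroup.normalizer (((Q : Subgroup ↥K).map K.subtype : Subgroup H) : Set H)) :
    Nat.card ↥((Q : Subgroup ↥K).map K.subtype ⊓ C) =
      q ^ (Nat.card ↥(K ⊓ C : Subgroup H)).factorization q := by
  classical
  set K' : Subgroup H := K ⊓ C with hK'
  have hAK' : A ≤ Subgroup.normalizer (K' : Set H) := fun x hx =>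
    Subgroup.inf_normalizer_le_normalizer_inf (Subgroup.mem_inf.mpr ⟨hAK hx, hAC hx⟩)
  have hcop' : (Nat.card ↥A).Coprime (Nat.card ↥K') :=
    Nat.Coprime.coprime_dvd_right (Subgroup.card_dvd_of_le inf_le_left) hcop
  obtain ⟨P', hP'⟩ := Cfsg.Agent.S0023.result A K' hAK' hcop' (Or.inl hsolv) q
  set U : Subgroup H := (P' : Subgroup ↥K').map K'.subtype with hU
  have hUK' : U ≤ K' := Subgroup.map_subtype_le _
  have hUq : IsPGroup q ↥U := P'.isPGroup'.map _
  obtain ⟨P, hUP, hPA⟩ := Cfsg.Agent.S0025.result A K hAK hcop (Or.inl hsolv) q U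
    (hUK'.trans inf_le_left) hUq hP'
  obtain ⟨c, hcA, hcPQ⟩ := Cfsg.Agent.S0024.result A K hAK hcop (Or.inl hsolv) q P Q hPA hQ
  set V : Subgroup H := (Q : Subgroup ↥K).map K.subtype ⊓ C with hV
  have hcardU : Nat.card ↥U = q ^ (Nat.card ↥K').factorization q := by
    rw [hU, card_map_subtype]
    exact P'.card_eq_multiplicity
  -- lower bound
  have hge : Nat.card ↥U ≤ Nat.card ↥V := by
    have hmap : U.map (MulAut.conj (c : H)).toMonoidHom ≤ V := by
      rintro _ ⟨u, hu, rfl⟩
      refine ⟨?_, ?_⟩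
      · obtain ⟨u', hu', rfl⟩ := hUP hu
        refine ⟨c * u' * c⁻¹, ?_, by simp⟩
        rw [← hcPQ]
        have : c * u' * c⁻¹ = (MulAut.conj c) • u' := by
          rw [MulAut.smul_def, MulAut.conj_apply]
        rw [this]
        exact Subgroup.smul_mem_pointwise_smul _ _ _ hu'
      · have huC : u ∈ C := (hUK' hu).2
        exact (Subgroup.mem_normalizer_iff.mp (hCC hcA) u).mp huC
    calc Nat.card ↥U = Nat.card ↥(U.map (MulAut.conj (c : H)).toMonoidHom) :=
          (Subgroup.card_map_of_injective (MulAut.conj (c : H)).injective).symm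
      _ ≤ Nat.card ↥V := Subgroup.card_le_of_le hmap
  -- upper bound
  have hVq : IsPGroup q ↥V := (Q.isPGroup'.map K.subtype).to_le inf_le_left
  have hVK' : V ≤ K' := inf_le_inf_right C (Subgroup.map_subtype_le _)
  obtain ⟨e, he⟩ := hVq.exists_card_eq
  have hdvd : q ^ e ∣ Nat.card ↥K' := by rw [← he]; exact Subgroup.card_dvd_of_le hVK'
  have hK'0 : Nat.card ↥K' ≠ 0 := Nat.card_pos.ne'
  have hele : e ≤ (Nat.card ↥K').factorization q :=
    (hq.out.pow_dvd_iff_le_factorization hK'0).mp hdvd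
  apply le_antisymm
  · rw [he]
    exact Nat.pow_le_pow_right hq.out.pos hele
  · rw [← hcardU]; exact hge

end Cfsg.Agent.Helper7
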