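import Mathlib
import Cfsg.Agent.Lib.Helper7.BW5

set_option autoImplicit false

namespace Cfsg.Agent.Helper7

open Subgroup
open scoped commutatorElement Pointwise

variable {H : Type*} [Group H]

theorem gfam_mem_sup_zpowers (p : ℕ) (a b : H) (j : ℕ) :
    gfam p a b j ∈ Subgroup.zpowers a ⊔ Subgroup.zpowers b := by
  obtain ⟨i, k, h⟩ := gfam_eq_pow_mul_pow p a b j
  rw [h]
  exact Subgroup.mul_mem _
    (Subgroup.mem_sup_left (Subgroup.pow_mem _ (Subgroup.mem_zpowers a) i))
    (Subgroup.mem_sup_right (Subgroup.pow_mem _ (Subgroup.mem_zpowers b) k))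

/-- **The Brauer–Wielandt formula** for an arbitrary `p'`-group `K` normalized by the commuting
elements `a, b` of order dividing `p`. -/
theorem bw_general [Finite H] (p : ℕ) [hp : Fact p.Prime] {a b : H} (hab : a * b = b * a)
    (hap : a ^ p = 1) (hbp : b ^ p = 1) (K : Subgroup H) (hKp : ¬ p ∣ Nat.card ↥K)
    (haK : a ∈ Subgroup.normalizer (K : Set H)) (hbK : b ∈ Subgroup.normalizer (K : Set H)) :
    bwL p K a b = bwR p K a b := by
  classical
  have hpp := hp.out
  set A : Subgroup H := Subgroup.zpowers a ⊔ Subgroup.zpowers b with hA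
  have haA : a ∈ A := Subgroup.mem_sup_left (Subgroup.mem_zpowers a)
  have hbA : b ∈ A := Subgroup.mem_sup_right (Subgroup.mem_zpowers b)
  have hAK : A ≤ Subgroup.normalizer (K : Set H) :=
    sup_le ((Subgroup.zpowers_le).mpr haK) ((Subgroup.zpowers_le).mpr hbK)
  -- A is abelian
  have hAcomm : ∀ x ∈ A, ∀ y ∈ A, x * y = y * x := by
    have h1 : A ≤ Subgroup.centralizer ({a} : Set H) ⊓ Subgroup.centralizer ({b} : Set H) := by
      refine sup_le ?_ ?_
      · rw [Subgroup.zpowers_le]
        refine ⟨?_, ?_⟩
        · show a ∈ Subgroup.centralizer ({a} : Set H)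
          rw [Subgroup.mem_centralizer_singleton_iff]
        · show a ∈ Subgroup.centralizer ({b} : Set H)
          rw [Subgroup.mem_centralizer_singleton_iff]; exact hab
      · rw [Subgroup.zpowers_le]
        refine ⟨?_, ?_⟩
        · show b ∈ Subgroup.centralizer ({a} : Set H)
          rw [Subgroup.mem_centralizer_singleton_iff]; exact hab.symm
        · show b ∈ Subgroup.centralizer ({b} : Set H)
          rw [Subgroup.mem_centralizer_singleton_iff]
    have h2 : A ≤ Subgroup.centralizer (A : Set H) := by
      intro x hx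
      have hxa := (Subgroup.mem_centralizer_singleton_iff.mp (h1 hx).1)
      have hxb := (Subgroup.mem_centralizer_singleton_iff.mp (h1 hx).2)
      have : A ≤ Subgroup.centralizer ({x} : Set H) := by
        refine sup_le ?_ ?_
        · rw [Subgroup.zpowers_le, Subgroup.mem_centralizer_singleton_iff]; exact hxa.symm
        · rw [Subgroup.zpowers_le, Subgroup.mem_centralizer_singleton_iff]; exact hxb.symm
      rw [Subgroup.mem_centralizer_iff]
      intro y hy
      exact (Subgroup.mem_centralizer_singleton_iff.mp (this hy))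
    intro x hx y hy
    exact ((Subgroup.mem_centralizer_iff.mp (h2 hy)) x hx)
  have hcardA : Nat.card ↥A ∣ p * p := by
    have hn : Subgroup.zpowers b ≤ Subgroup.normalizer (Subgroup.zpowers a : Set H) := by
      rw [Subgroup.zpowers_le]
      apply Subgroup.centralizer_le_normalizer
      rw [Subgroup.mem_centralizer_iff]
      intro h hh
      obtain ⟨z, rfl⟩ := Subgroup.mem_zpowers_iff.mp hh
      have : Commute a b := hab
      exact (this.zpow_left z).eq
    refine (card_sup_dvd_mul_of_le_normalizer hn).trans ?_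
    rw [Nat.card_zpowers, Nat.card_zpowers]
    exact Nat.mul_dvd_mul (orderOf_dvd_of_pow_eq_one hap) (orderOf_dvd_of_pow_eq_one hbp)
  have hcop : (Nat.card ↥A).Coprime (Nat.card ↥K) := by
    have h1 : (p * p).Coprime (Nat.card ↥K) := by
      have := (Nat.Prime.coprime_iff_not_dvd hpp).mpr hKp
      exact Nat.Coprime.mul_left this this
    exact Nat.Coprime.coprime_dvd_left hcardA h1
  have hAsolv : Group.IsSolvable ↥A := by
    have hAp : IsPGroup p ↥A := by
      have : Nat.card ↥A ∣ p ^ 2 := by rw [pow_two]; exact hcardA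
      obtain ⟨k, _, hk⟩ := (Nat.dvd_prime_pow hpp).mp this
      exact IsPGroup.of_card hk
    haveI := hAp.isNilpotent
    infer_instance
  -- normalizing the centralizers
  have hnormC : ∀ g ∈ A, A ≤ Subgroup.normalizer ((Subgroup.centralizer ({g} : Set H) : Subgroup H) : Set H) ∧
      Subgroup.centralizer (A : Set H) ≤
        Subgroup.normalizer ((Subgroup.centralizer ({g} : Set H) : Subgroup H) : Set H) := by
    intro g hg
    constructor
    · intro x hx
      apply Subgroup.le_normalizer
      rw [Subgroup.mem_centralizer_singleton_iff]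
      exact hAcomm x hx g hg
    · intro x hx
      apply Subgroup.le_normalizer
      rw [Subgroup.mem_centralizer_singleton_iff]
      exact ((Subgroup.mem_centralizer_iff.mp hx) g hg).symm
  apply Nat.eq_of_factorization_eq
  · unfold bwL
    exact (Nat.mul_pos Nat.card_pos (pow_pos Nat.card_pos p)).ne'
  · exact (bwR_pos p K a b).ne'
  intro q
  by_cases hq : q.Prime
  · haveI : Fact q.Prime := ⟨hq⟩
    obtain ⟨Q, hQ⟩ := Cfsg.Agent.S0023.result A K hAK hcop (Or.inl hAsolv) q
    set Qm : Subgroup H := (Q : Subgroup ↥K).map K.subtype with hQm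
    have hQmK : Qm ≤ K := Subgroup.map_subtype_le _
    have hQmq : IsPGroup q ↥Qm := Q.isPGroup'.map _
    have hQmp : ¬ p ∣ Nat.card ↥Qm := fun h => hKp (h.trans (Subgroup.card_dvd_of_le hQmK))
    have hBW := bw_nilpotent p hab hap hbp (Nat.card ↥Qm) Qm rfl hQmq.isNilpotent hQmp
      (hQ haA) (hQ hbA)
    -- cardinalities
    have hc0 : Nat.card ↥Qm = q ^ (Nat.card ↥K).factorization q := by
      rw [hQm, card_map_subtype]
      exact Q.card_eq_multiplicity
    have hc1 : ∀ j : ℕ, Nat.card ↥(cent1 Qm (gfam p a b j)) =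
        q ^ (Nat.card ↥(cent1 K (gfam p a b j))).factorization q := by
      intro j
      have hg := gfam_mem_sup_zpowers p a b j
      exact card_sylow_inf_eq A K _ hAK hcop hAsolv (hnormC _ hg).1 (hnormC _ hg).2 q Q hQ
    have hc2 : Nat.card ↥(cent2 Qm a b) = q ^ (Nat.card ↥(cent2 K a b)).factorization q := by
      have h1 : cent2 Qm a b = Qm ⊓ (Subgroup.centralizer ({a} : Set H) ⊓
          Subgroup.centralizer ({b} : Set H)) := by
        unfold cent2; rw [inf_assoc]
      have h2 : cent2 K a b = K ⊓ (Subgroup.centralizer ({a} : Set H) ⊓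
          Subgroup.centralizer ({b} : Set H)) := by
        unfold cent2; rw [inf_assoc]
      rw [h1, h2]
      apply card_sylow_inf_eq A K _ hAK hcop hAsolv _ _ q Q hQ
      · intro x hx
        exact Subgroup.inf_normalizer_le_normalizer_inf
          (Subgroup.mem_inf.mpr ⟨(hnormC a haA).1 hx, (hnormC b hbA).1 hx⟩)
      · intro x hx
        exact Subgroup.inf_normalizer_le_normalizer_inf
          (Subgroup.mem_inf.mpr ⟨(hnormC a haA).2 hx, (hnormC b hbA).2 hx⟩)
    unfold bwL bwR at hBW
    rw [hc0, hc2, Finset.prod_congr rfl (fun j _ => hc1 j), Finset.prod_pow_eq_pow_sum,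
      ← pow_mul, ← pow_add] at hBW
    have hexp := Nat.pow_right_injective hq.two_le hBW
    unfold bwL bwR
    rw [Nat.factorization_mul Nat.card_pos.ne' (pow_pos Nat.card_pos p).ne',
      Nat.factorization_pow, Nat.factorization_prod (fun j _ => Nat.card_pos.ne')]
    simp only [Finsupp.coe_add, Finsupp.coe_smul, Pi.add_apply, Pi.smul_apply, smul_eq_mul,
      Finsupp.coe_finset_sum, Finset.sum_apply]
    rw [mul_comm p]
    exact hexp
  · rw [Nat.factorization_eq_zero_of_not_prime _ hq, Nat.factorization_eq_zero_of_not_prime _ hq]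

end Cfsg.Agent.Helper7
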