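import Mathlib
import Cfsg.Agent.Lib.Helper17.GLkDefs

/-!
S2478 farm-out, PIECE GLK-EX (helper7): existence of a primary decomposition with positive exponents.
-/

open Polynomial

namespace Cfsg.Agent.Helper17.GLk

universe u

section pieces
variable {F : Type u} [Field F]

/-- restricting a function on `ι` to a subtype whose complement carries only subsingleton fibres -/
noncomputable def glk_ex_restrict {R : Type*} [Semiring R] {ι : Type*} (Q : ι → Type*)
    [∀ i, AddCommMonoid (Q i)] [∀ i, Module R (Q i)] (s : ι → Prop)
    (hs : ∀ i, ¬ s i → Subsingleton (Q i)) :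
    ((i : ι) → Q i) ≃ₗ[R] ((i : {i // s i}) → Q i.1) := by
  classical
  exact
  { toFun := fun f i => f i.1
    map_add' := fun f g => rfl
    map_smul' := fun c f => rfl
    invFun := fun g i => if h : s i then g ⟨i, h⟩ else 0
    left_inv := by
      intro f
      funext i
      by_cases h : s i
      · simp [h]
      · have := hs i h
        exact Subsingleton.elim _ _
    right_inv := by
      intro g
      funext i
      simp [i.2] }

variable {V : Type u} [AddCommGroup V] [Module F V]

/-- PIECE GLK-EX: `Module.equiv_directSum_of_isTorsion` + `Module.AEval.isTorsion_of_finiteDimensional`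
+ `DirectSum.linearEquivFunOnFintype`; drop the summands with `e i = 0` (restrict to the subtype
`{i // e i ≠ 0}`; the dropped factors are `F[X] ⧸ ⊤`, subsingletons). -/
theorem exists_decomp [FiniteDimensional F V] (a : Module.End F V) :
    ∃ (ι : Type u) (_ : Fintype ι) (p : ι → F[X]) (e : ι → ℕ), IsDecomp a ι p e := by
  classical
  have htor : Module.IsTorsion F[X] (Module.AEval' a) :=
    Module.AEval.isTorsion_of_finiteDimensional F V a
  obtain ⟨ι, hι, p, hp, e, ⟨φ⟩⟩ := Module.equiv_directSum_of_isTorsion htor
  refine ⟨{i : ι // e i ≠ 0}, inferInstance, fun i => p i.1, fun i => e i.1, ?_, ?_, ?_⟩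
  · intro i
    exact hp i.1
  · intro i
    exact Nat.one_le_iff_ne_zero.mpr i.2
  · have hsub : ∀ i : ι, ¬ (e i ≠ 0) → Subsingleton (F[X] ⧸ Ideal.span {p i ^ e i}) := by
      intro i hi
      have h0 : e i = 0 := not_not.mp hi
      rw [h0, pow_zero, Ideal.span_singleton_one]
      exact Submodule.Quotient.subsingleton_iff.mpr rfl
    let ψ := DirectSum.linearEquivFunOnFintype F[X] ι (fun i => F[X] ⧸ Ideal.span {p i ^ e i})
    let ρ := glk_ex_restrict (R := F[X]) (fun i : ι => F[X] ⧸ Ideal.span {p i ^ e i})
      (fun i => e i ≠ 0) hsub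
    exact ⟨(φ.trans ψ).trans ρ⟩

end pieces

end Cfsg.Agent.Helper17.GLk
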