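import Mathlib
import Cfsg.Prelude.Def_Classical
import Cfsg.Agent.Lib.Helper10.EODefs

/-!
# S2264/S2265 piece EO-GRAMODD (helper7): the Gram matrix of `quadFormOdd`
-/

set_option autoImplicit false

open Polynomial Matrix

namespace Cfsg.Agent.Helper10.EO

section mat
variable {F : Type*} [Field F]

/-- the hyperbolic block -/
def eo_gramodd_hyp (m : ℕ) (F : Type*) [Field F] : Matrix (Fin m ⊕ Fin m) (Fin m ⊕ Fin m) F :=
  fromBlocks (0 : Matrix (Fin m) (Fin m) F) (1 : Matrix (Fin m) (Fin m) F)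
    (1 : Matrix (Fin m) (Fin m) F) (0 : Matrix (Fin m) (Fin m) F)

/-- the hyperbolic block squares to one -/
theorem eo_gramodd_hyp_sq (m : ℕ) : eo_gramodd_hyp m F * eo_gramodd_hyp m F = 1 := by
  unfold eo_gramodd_hyp
  rw [fromBlocks_multiply]
  simp [fromBlocks_one]

/-- the entry of the scalar matrix `2` -/
theorem eo_gramodd_two_apply : ((2 : Matrix Unit Unit F) () ()) = 2 := by
  have h : (2 : Matrix Unit Unit F) = (1 : Matrix Unit Unit F) + 1 := one_add_one_eq_two.symm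
  rw [h, Matrix.add_apply, Matrix.one_apply_eq]
  exact one_add_one_eq_two

/-- the polar form of `quadFormOdd` -/
theorem eo_gramodd_polar (m : ℕ) (u v : Unit ⊕ (Fin m ⊕ Fin m) → F) :
    Cfsg.quadFormOdd m F (u + v) - Cfsg.quadFormOdd m F u - Cfsg.quadFormOdd m F v =
      u ⬝ᵥ ((fromBlocks (2 : Matrix Unit Unit F) 0 0 (eo_gramodd_hyp m F)) *ᵥ v) := by
  unfold Cfsg.quadFormOdd eo_gramodd_hyp
  simp only [dotProduct, Matrix.mulVec, Fintype.sum_sum_type, Finset.univ_unique,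
    Finset.sum_singleton, fromBlocks_apply₁₁, fromBlocks_apply₁₂, fromBlocks_apply₂₁,
    fromBlocks_apply₂₂, Matrix.zero_apply, Matrix.one_apply, zero_mul, Finset.sum_const_zero,
    add_zero, zero_add, ite_mul, one_mul, Finset.sum_ite_eq, Finset.mem_univ, if_true,
    Pi.add_apply]
  rw [show (default : Unit) = () from rfl, eo_gramodd_two_apply]
  have e : ∀ i : Fin m, (u (.inr (.inl i)) + v (.inr (.inl i))) * (u (.inr (.inr i)) + v (.inr (.inr i)))
      = u (.inr (.inl i)) * u (.inr (.inr i)) + v (.inr (.inl i)) * v (.inr (.inr i)) +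
        (u (.inr (.inl i)) * v (.inr (.inr i)) + u (.inr (.inr i)) * v (.inr (.inl i))) := by
    intro i; ring
  simp only [e, Finset.sum_add_distrib]
  ring

/-- PIECE EO-GRAMODD. -/
theorem gram_odd (m : ℕ) (h2 : (2 : F) ≠ 0) :
    ∃ G : Matrix (Unit ⊕ (Fin m ⊕ Fin m)) (Unit ⊕ (Fin m ⊕ Fin m)) F, IsUnit G.det ∧
      ∀ u v, Cfsg.quadFormOdd m F (u + v) - Cfsg.quadFormOdd m F u - Cfsg.quadFormOdd m F v =
        u ⬝ᵥ (G *ᵥ v) := by
  refine ⟨fromBlocks (2 : Matrix Unit Unit F) 0 0 (eo_gramodd_hyp m F), ?_, eo_gramodd_polar m⟩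
  rw [det_fromBlocks_zero₂₁]
  apply IsUnit.mul
  · rw [det_unique, show (default : Unit) = () from rfl, eo_gramodd_two_apply]
    exact isUnit_iff_ne_zero.2 h2
  · have h := congrArg Matrix.det (eo_gramodd_hyp_sq (F := F) m)
    rw [det_mul, det_one] at h
    exact IsUnit.of_mul_eq_one _ h

end mat

end Cfsg.Agent.Helper10.EO
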