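import Mathlib
import Cfsg.Agent.S0071

/-!
S4017 PIECE C1 (helper7): case 1 (helper16's proof): `q^a - 1 < p`.
-/

set_option autoImplicit false

namespace Cfsg.Agent.Helper7.MixC1

open scoped Pointwise

variable {G : Type*} [Group G] [Finite G]

theorem card_sup_le_mul {A B : Subgroup G} (h : A ≤ Subgroup.normalizer (B : Set G)) :
    Nat.card (A ⊔ B : Subgroup G) ≤ Nat.card A * Nat.card B := by
  have h1 : ((A ⊔ B : Subgroup G) : Set G) = (A : Set G) * (B : Set G) :=
    Subgroup.coe_mul_of_left_le_normalizer_right A B h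
  calc Nat.card (A ⊔ B : Subgroup G) = Nat.card ((A ⊔ B : Subgroup G) : Set G) := rfl
    _ = Nat.card ((A : Set G) * (B : Set G) : Set G) := by rw [h1]
    _ ≤ Nat.card (A : Set G) * Nat.card (B : Set G) := Set.natCard_mul_le
    _ = Nat.card A * Nat.card B := rfl

/-- the basic contradiction: a product `A B` of coprime orders prime to `p`, containing
`q`-elements but not a `q`-group -/
theorem mix_false {p q : ℕ} (hp : p.Prime) (hpG : p ∣ Nat.card G)
    (hmix : ∀ H : Subgroup G, H ≠ ⊤ → ¬ IsPGroup q H → q ∣ Nat.card H → p ∣ Nat.card H)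
    {A B : Subgroup G} (hAB : A ≤ Subgroup.normalizer (B : Set G))
    (hcop : Nat.Coprime (Nat.card A) (Nat.card B))
    (hpA : ¬ p ∣ Nat.card A) (hpB : ¬ p ∣ Nat.card B)
    (hqX : q ∣ Nat.card (A ⊔ B : Subgroup G)) (hnq : ¬ IsPGroup q (A ⊔ B : Subgroup G)) :
    False := by
  have hpX : p ∣ Nat.card (A ⊔ B : Subgroup G) := by
    by_cases hX : (A ⊔ B : Subgroup G) = ⊤
    · rw [hX, Subgroup.card_top]; exact hpG
    · exact hmix _ hX hnq hqX
  have h1 : Nat.card A * Nat.card B ∣ Nat.card (A ⊔ B : Subgroup G) :=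
    Nat.Coprime.mul_dvd_of_dvd_of_dvd hcop (Subgroup.card_dvd_of_le le_sup_left)
      (Subgroup.card_dvd_of_le le_sup_right)
  have h2 : Nat.Coprime p (Nat.card A * Nat.card B) :=
    Nat.Coprime.mul_right ((Nat.Prime.coprime_iff_not_dvd hp).2 hpA)
      ((Nat.Prime.coprime_iff_not_dvd hp).2 hpB)
  have h3 : p * (Nat.card A * Nat.card B) ∣ Nat.card (A ⊔ B : Subgroup G) :=
    Nat.Coprime.mul_dvd_of_dvd_of_dvd h2 hpX h1
  have h4 : p * (Nat.card A * Nat.card B) ≤ Nat.card A * Nat.card B :=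
    (Nat.le_of_dvd Nat.card_pos h3).trans (card_sup_le_mul hAB)
  have h5 : 0 < Nat.card A * Nat.card B := Nat.mul_pos Nat.card_pos Nat.card_pos
  have h6 := hp.two_le
  nlinarith

/-- a `p`-element normalizing a `q`-group of order `q^j`, `q^j - 1 < p`, centralizes it -/
theorem pelt_centralizes {p q : ℕ} (hp : p.Prime) (hq : q.Prime) (hpq : p ≠ q)
    (Q0 : Subgroup G) {j b : ℕ} (hj : Nat.card Q0 = q ^ j) (hjb : j ≤ b) (hb : q ^ b - 1 < p)
    {g : G} {k : ℕ} (hg : orderOf g = p ^ k)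
    (hgN : g ∈ Subgroup.normalizer (Q0 : Set G)) :
    g ∈ Subgroup.centralizer (Q0 : Set G) := by
  classical
  by_contra hgC
  haveI : Fact p.Prime := ⟨hp⟩
  have hzN : ∀ x ∈ Subgroup.zpowers g, ∀ s ∈ Q0, x * s * x⁻¹ ∈ Q0 := by
    intro x hx s hs
    have hxN : x ∈ Subgroup.normalizer (Q0 : Set G) :=
      (Subgroup.zpowers_le.2 hgN) hx
    exact (Subgroup.mem_normalizer_iff.1 hxN s).1 hs
  letI act : MulAction (Subgroup.zpowers g) Q0 :=
    { smul := fun x s => ⟨(x : G) * (s : G) * (x : G)⁻¹, hzN x x.2 s s.2⟩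
      one_smul := by
        intro s
        apply Subtype.ext
        show (1 : G) * (s : G) * (1 : G)⁻¹ = s
        simp
      mul_smul := by
        intro x y s
        apply Subtype.ext
        show ((x : G) * (y : G)) * (s : G) * ((x : G) * (y : G))⁻¹ =
          (x : G) * ((y : G) * (s : G) * (y : G)⁻¹) * (x : G)⁻¹
        group }
  have hsmul : ∀ (x : Subgroup.zpowers g) (s : Q0), ((x • s : Q0) : G) = (x : G) * (s : G) * (x : G)⁻¹ :=
    fun x s => rfl
  have hPG : IsPGroup p (Subgroup.zpowers g) := by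
    apply IsPGroup.of_card (n := k)
    rw [Nat.card_zpowers, hg]
  have hmod := hPG.card_modEq_card_fixedPoints (Q0)
  -- fixed points = centralizer of g in Q0
  set C0 : Subgroup Q0 := (Subgroup.centralizer ({g} : Set G)).subgroupOf Q0 with hC0
  have hfixeq : (MulAction.fixedPoints (Subgroup.zpowers g) Q0 : Set Q0) = (C0 : Set Q0) := by
    ext s
    rw [MulAction.mem_fixedPoints, SetLike.mem_coe, hC0, Subgroup.mem_subgroupOf,
      Subgroup.mem_centralizer_singleton_iff]
    constructor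
    · intro h
      have h1 := congrArg Subtype.val (h ⟨g, Subgroup.mem_zpowers g⟩)
      rw [hsmul] at h1
      have h2 : g * (s : G) * g⁻¹ = s := h1
      have h3 := congrArg (fun t => t * g) h2
      simp only [inv_mul_cancel_right] at h3
      exact h3.symm
    · intro h x
      apply Subtype.ext
      rw [hsmul]
      have hx : Commute (x : G) (s : G) := by
        obtain ⟨i, hi⟩ := Subgroup.mem_zpowers_iff.1 x.2
        rw [← hi]
        exact (Commute.zpow_left (show Commute g (s : G) from h.symm) i)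
      rw [hx.eq, mul_inv_cancel_right]
  have hcardfix : Nat.card (MulAction.fixedPoints (Subgroup.zpowers g) Q0) = Nat.card C0 := by
    rw [hfixeq]
    rfl
  -- C0 is a proper subgroup of Q0
  have hC0card : ∃ c : ℕ, c ≤ j ∧ Nat.card C0 = q ^ c := by
    have h1 : Nat.card C0 ∣ q ^ j := by
      rw [← hj]; exact Subgroup.card_subgroup_dvd_card C0
    exact (Nat.dvd_prime_pow hq).1 h1
  obtain ⟨c, hcj, hc⟩ := hC0card
  have hclt : c < j := by
    rcases Nat.lt_or_ge c j with h | h
    · exact h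
    · exfalso
      have hcj' : c = j := le_antisymm hcj h
      have h1 : C0 = ⊤ := by
        apply Subgroup.eq_top_of_card_eq
        rw [hc, hcj', hj]
      apply hgC
      rw [Subgroup.mem_centralizer_iff]
      intro s hs
      have h2 : (⟨s, hs⟩ : Q0) ∈ C0 := by rw [h1]; exact Subgroup.mem_top _
      rw [hC0, Subgroup.mem_subgroupOf, Subgroup.mem_centralizer_singleton_iff] at h2
      exact h2
  rw [hcardfix, hj, hc] at hmod
  have hdvd : p ∣ q ^ j - q ^ c :=
    (Nat.modEq_iff_dvd' (Nat.pow_le_pow_right hq.pos hcj)).1 hmod.symm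
  have hfac : q ^ j - q ^ c = q ^ c * (q ^ (j - c) - 1) := by
    have : q ^ j = q ^ c * q ^ (j - c) := by rw [← pow_add]; congr 1; omega
    rw [this, Nat.mul_sub, mul_one]
  rw [hfac] at hdvd
  have hpqc : ¬ p ∣ q ^ c := by
    intro h
    exact hpq ((Nat.prime_dvd_prime_iff_eq hp hq).1 (hp.dvd_of_dvd_pow h))
  have hdvd2 : p ∣ q ^ (j - c) - 1 := (hp.dvd_mul.1 hdvd).resolve_left hpqc
  have hpos : 0 < q ^ (j - c) - 1 := by
    have h1 : q ^ 1 ≤ q ^ (j - c) := Nat.pow_le_pow_right hq.pos (by omega)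
    have h2 := hq.two_le
    rw [pow_one] at h1
    omega
  have hle : q ^ (j - c) - 1 ≤ q ^ b - 1 := by
    have h1 : q ^ (j - c) ≤ q ^ b := Nat.pow_le_pow_right hq.pos (by omega)
    omega
  have := Nat.le_of_dvd hpos hdvd2
  omega

end Cfsg.Agent.Helper7.MixC1

namespace Cfsg.Agent.Helper10.Mix

open Cfsg.Agent.Helper7.MixC1

universe u

/-! ### PIECE C1 : case 1 (helper16's proof) -/
theorem case1 {G : Type u} [Group G] [Finite G] {p q : ℕ} (hp : p.Prime) (hq : q.Prime)
    (hpq : p ≠ q) (hpG : p ∣ Nat.card G) (hqG : q ∣ Nat.card G)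
    (hmix : ∀ H : Subgroup G, H ≠ ⊤ → ¬ IsPGroup q H → q ∣ Nat.card H → p ∣ Nat.card H)
    (hlarge : q ^ (Nat.card G).factorization q - 1 < p) :
    ∀ r : ℕ, r.Prime → r ∣ Nat.card G → r = p ∨ r = q := by
  classical
  haveI : Fact q.Prime := ⟨hq⟩
  set a := (Nat.card G).factorization q with ha
  have ha1 : 1 ≤ a := (Nat.Prime.factorization_pos_of_dvd hq Nat.card_pos.ne' hqG)
  obtain ⟨Q⟩ : Nonempty (Sylow q G) := inferInstance
  have hQcard : Nat.card Q = q ^ a := Sylow.card_eq_multiplicity Q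
  have hpq' : ¬ p ∣ q := fun h => hpq ((Nat.prime_dvd_prime_iff_eq hp hq).1 h)
  -- Claim A
  have claimA : ∀ (Q0 : Subgroup G), Q0 ≠ ⊥ → IsPGroup q Q0 →
      ∀ x ∈ Subgroup.normalizer (Q0 : Set G), ∀ l : ℕ, l.Prime → l ≠ q → orderOf x = l → l = p := by
    intro Q0 hQ0 hQ0q x hxN l hl hlq hox
    by_contra hlp
    obtain ⟨j, hj⟩ := IsPGroup.iff_card.1 hQ0q
    have hj1 : j ≠ 0 := by
      intro h0
      rw [h0, pow_zero] at hj
      exact hQ0 (Subgroup.card_eq_one.1 hj)
    have hcz : Nat.card (Subgroup.zpowers x) = l := by rw [Nat.card_zpowers, hox]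
    refine mix_false hp hpG hmix (A := Subgroup.zpowers x) (B := Q0) (Subgroup.zpowers_le.2 hxN)
      ?_ ?_ ?_ ?_ ?_
    · rw [hcz, hj]
      exact Nat.Coprime.pow_right _ ((Nat.coprime_primes hl hq).2 hlq)
    · rw [hcz]
      intro h
      exact hlp ((Nat.prime_dvd_prime_iff_eq hp hl).1 h).symm
    · rw [hj]
      intro h
      exact hpq' (hp.dvd_of_dvd_pow h)
    · have h1 : q ∣ Nat.card Q0 := by rw [hj]; exact dvd_pow_self q hj1
      exact h1.trans (Subgroup.card_dvd_of_le le_sup_right)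
    · intro hX
      have h1 : IsPGroup q (Subgroup.zpowers x) := hX.to_le le_sup_left
      obtain ⟨n, hn⟩ := IsPGroup.iff_card.1 h1
      rw [hcz] at hn
      have hn0 : n ≠ 0 := by
        intro h0
        rw [h0, pow_zero] at hn
        exact hl.one_lt.ne' hn
      have h2 : q ∣ l := by rw [hn]; exact dvd_pow_self q hn0
      exact hlq ((Nat.prime_dvd_prime_iff_eq hq hl).1 h2).symm
  -- the Frobenius condition
  have hfrob : ∀ Q0 : Subgroup G, Q0 ≤ (Q : Subgroup G) →
      ∀ g ∈ Subgroup.normalizer (Q0 : Set G), Nat.Coprime (orderOf g) q →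
      g ∈ Subgroup.centralizer (Q0 : Set G) := by
    intro Q0 hQ0Q g hgN hcop
    by_cases hQ0 : Q0 = ⊥
    · rw [hQ0, Subgroup.mem_centralizer_iff]
      intro s hs
      rw [SetLike.mem_coe, Subgroup.mem_bot] at hs
      rw [hs, one_mul, mul_one]
    have hQ0q : IsPGroup q Q0 := Q.isPGroup'.to_le hQ0Q
    obtain ⟨j, hj⟩ := IsPGroup.iff_card.1 hQ0q
    have hja : j ≤ a := by
      have h1 := Subgroup.card_dvd_of_le hQ0Q
      rw [hj, hQcard] at h1
      exact (Nat.pow_dvd_pow_iff_le_right hq.one_lt).1 h1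
    have hgo : ∃ k, orderOf g = p ^ k := by
      refine ⟨_, Nat.eq_prime_pow_of_unique_prime_dvd (orderOf_pos g).ne' ?_⟩
      intro l hl hlg
      have hlq : l ≠ q := by
        intro h
        rw [h] at hlg
        have h2 : q ∣ Nat.gcd (orderOf g) q := Nat.dvd_gcd hlg dvd_rfl
        rw [hcop] at h2
        exact hq.one_lt.ne' (Nat.dvd_one.1 h2)
      have hox : orderOf (g ^ (orderOf g / l)) = l :=
        orderOf_pow_orderOf_div (orderOf_pos g).ne' hlg
      exact claimA Q0 hQ0 hQ0q _ (Subgroup.pow_mem _ hgN _) l hl hlq hox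
    obtain ⟨k, hk⟩ := hgo
    exact pelt_centralizes hp hq hpq Q0 hj hja hlarge hk hgN
  obtain ⟨K, hKn, hKc⟩ := (Cfsg.Agent.S0071.result Q).2 hfrob
  intro r hr hrG
  by_cases hrq : r = q
  · right; exact hrq
  left
  by_contra hrp
  haveI : Fact r.Prime := ⟨hr⟩
  haveI := hKn
  have hcard : Nat.card K * Nat.card (Q : Subgroup G) = Nat.card G := hKc.card_mul_card
  have hrK : r ∣ Nat.card K := by
    rw [← hcard] at hrG
    have h1 : Nat.Coprime r (Nat.card (Q : Subgroup G)) := by
      have : Nat.card (Q : Subgroup G) = q ^ a := hQcard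
      rw [this]
      exact Nat.Coprime.pow_right _ ((Nat.coprime_primes hr hq).2 hrq)
    exact (Nat.Coprime.dvd_mul_right h1).1 hrG
  obtain ⟨P⟩ : Nonempty (Sylow r K) := inferInstance
  set R : Subgroup G := (P : Subgroup K).map K.subtype with hR
  have hfrat : Subgroup.normalizer (R : Set G) ⊔ K = ⊤ := Sylow.normalizer_sup_eq_top P
  set M : Subgroup G := Subgroup.normalizer (R : Set G) with hM
  have hrel : K.relIndex M = K.index := by
    rw [← Subgroup.relIndex_sup_right (H := M) (K := K), hfrat, Subgroup.relIndex_top_right]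
  have hindex : K.index = Nat.card (Q : Subgroup G) := hKc.symm.index_eq_card
  have hqM : q ∣ Nat.card M := by
    have h1 : K.relIndex M ∣ Nat.card M := Subgroup.relIndex_dvd_card K M
    have h2 : Nat.card (Q : Subgroup G) = q ^ a := hQcard
    rw [hrel, hindex, h2] at h1
    exact (dvd_pow_self q (by omega)).trans h1
  obtain ⟨y', hy'⟩ := exists_prime_orderOf_dvd_card' q hqM
  have hyM : (y' : G) ∈ M := y'.2
  have hoy : orderOf (y' : G) = q := by rw [Subgroup.orderOf_coe]; exact hy'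
  have hcz : Nat.card (Subgroup.zpowers (y' : G)) = q := by rw [Nat.card_zpowers, hoy]
  set b := (Nat.card K).factorization r with hb
  have hb1 : b ≠ 0 := (Nat.Prime.factorization_pos_of_dvd hr Nat.card_pos.ne' hrK).ne'
  have hRcard : Nat.card R = r ^ b := by
    rw [hR, Subgroup.card_map_of_injective K.subtype_injective]
    exact Sylow.card_eq_multiplicity P
  have hpr' : ¬ p ∣ r := fun h => hrp ((Nat.prime_dvd_prime_iff_eq hp hr).1 h).symm
  refine mix_false hp hpG hmix (A := Subgroup.zpowers (y' : G)) (B := R)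
    (Subgroup.zpowers_le.2 hyM) ?_ ?_ ?_ ?_ ?_
  · rw [hcz, hRcard]
    exact Nat.Coprime.pow_right _ ((Nat.coprime_primes hq hr).2 (Ne.symm hrq))
  · rw [hcz]; exact hpq'
  · rw [hRcard]
    intro h
    exact hpr' (hp.dvd_of_dvd_pow h)
  · have h1 : q ∣ Nat.card (Subgroup.zpowers (y' : G)) := by rw [hcz]
    exact h1.trans (Subgroup.card_dvd_of_le le_sup_left)
  · intro hX
    have h1 : IsPGroup q R := hX.to_le le_sup_right
    obtain ⟨n, hn⟩ := IsPGroup.iff_card.1 h1
    rw [hRcard] at hn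
    have h2 : r ∣ q ^ n := by rw [← hn]; exact dvd_pow_self r hb1
    exact hrq ((Nat.prime_dvd_prime_iff_eq hr hq).1 (hr.dvd_of_dvd_pow h2))

end Cfsg.Agent.Helper10.Mix
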