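import Mathlib
import Cfsg.Agent.Lib.Helper10.MixDefs

/-!
Auxiliary lemmas for the S4017 pieces NC and C1 (helper7).
-/

set_option autoImplicit false

namespace Cfsg.Agent.Helper7.MixAux

open Cfsg.Agent.Helper10.Mix

/-- a natural number whose prime divisors are among `2, p` is `2^i * p^j` -/
theorem two_p_form {p : ℕ} (hp : p.Prime) (n : ℕ) (hn : n ≠ 0)
    (h : ∀ r : ℕ, r.Prime → r ∣ n → r = 2 ∨ r = p) : ∃ i j : ℕ, n = 2 ^ i * p ^ j := by
  refine ⟨n.factorization 2, ?_⟩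
  have h1 : ordProj[2] n * ordCompl[2] n = n := Nat.ordProj_mul_ordCompl_eq_self n 2
  have h2 : ordCompl[2] n ≠ 0 := (Nat.ordCompl_pos 2 hn).ne'
  have h3 : ∀ {d : ℕ}, d.Prime → d ∣ ordCompl[2] n → d = p := by
    intro d hd hdn
    rcases h d hd (hdn.trans (Nat.ordCompl_dvd n 2)) with h4 | h4
    · exfalso
      subst h4
      exact Nat.not_dvd_ordCompl Nat.prime_two hn hdn
    · exact h4
  have h4 := Nat.eq_prime_pow_of_unique_prime_dvd h2 h3
  exact ⟨_, by rw [← h4, h1]⟩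

/-- weak 2-part / p-part decomposition -/
theorem parts_weak {G : Type*} [Group G] {g : G} {m n : ℕ} (hmn : Nat.Coprime m n)
    (h : orderOf g = m * n) :
    ∃ e1 e2 : ℕ, g = g ^ e1 * g ^ e2 ∧ (g ^ e1) ^ m = 1 ∧ (g ^ e2) ^ n = 1 := by
  obtain ⟨e1, h11, h12⟩ := Nat.chineseRemainder hmn 1 0
  obtain ⟨e2, h21, h22⟩ := Nat.chineseRemainder hmn 0 1
  refine ⟨e1, e2, ?_, ?_, ?_⟩
  · rw [← pow_add]
    conv_lhs => rw [← pow_one g]
    rw [pow_eq_pow_iff_modEq, h]
    apply (Nat.modEq_and_modEq_iff_modEq_mul hmn).1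
    constructor
    · have := Nat.ModEq.add h11 h21
      simpa using this.symm
    · have := Nat.ModEq.add h12 h22
      simpa using this.symm
  · rw [← pow_mul]
    apply orderOf_dvd_iff_pow_eq_one.1
    rw [h, mul_comm e1 m]
    exact Nat.mul_dvd_mul_left m ((Nat.modEq_zero_iff_dvd).1 h12)
  · rw [← pow_mul]
    apply orderOf_dvd_iff_pow_eq_one.1
    rw [h, mul_comm e2 n, mul_comm m n]
    exact Nat.mul_dvd_mul_left n ((Nat.modEq_zero_iff_dvd).1 h21)

variable {G : Type*} [Group G] [Finite G]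

/-- a 2-element normalizing a Sylow 2-subgroup lies in it -/
theorem mem_sylow_of_normalizer {q : ℕ} [Fact q.Prime] (Q : Sylow q G) {g : G} {k : ℕ}
    (hg : g ^ (q ^ k) = 1)
    (hgN : g ∈ Subgroup.normalizer ((Q : Subgroup G) : Set G)) : g ∈ Q := by
  have h1 : IsPGroup q (Subgroup.zpowers g) := by
    apply IsPGroup.of_card (n := (Nat.card (Subgroup.zpowers g)).factorization q)
    have : orderOf g ∣ q ^ k := orderOf_dvd_of_pow_eq_one hg
    obtain ⟨m, -, hm⟩ := (Nat.dvd_prime_pow (Fact.out : q.Prime)).1 this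
    rw [Nat.card_zpowers, hm, Nat.Prime.factorization_pow (Fact.out : q.Prime)]
    simp
  have h2 : Subgroup.zpowers g ≤ Subgroup.normalizer ((Q : Subgroup G) : Set G) := by
    rw [Subgroup.zpowers_le]; exact hgN
  have h3 : IsPGroup q (Subgroup.zpowers g ⊔ (Q : Subgroup G) : Subgroup G) :=
    IsPGroup.to_sup_of_normal_right' h1 Q.isPGroup' h2
  have h4 : (Subgroup.zpowers g ⊔ (Q : Subgroup G) : Subgroup G) = Q :=
    Q.is_maximal' h3 le_sup_right
  have h5 : g ∈ (Subgroup.zpowers g ⊔ (Q : Subgroup G) : Subgroup G) :=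
    Subgroup.mem_sup_left (Subgroup.mem_zpowers g)
  rw [h4] at h5
  exact h5

end Cfsg.Agent.Helper7.MixAux
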