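import Mathlib
import Cfsg.Agent.Lib.Helper10.MixDefs
import Cfsg.Agent.Lib.Helper7.MixAux

/-!
S4017 PIECE NC (helper7): normal 2-complement of `C(t)` by Burnside's transfer theorem.
-/

set_option autoImplicit false

namespace Cfsg.Agent.Helper10.Mix

open Cfsg.Agent.Helper7.MixAux

variable {G : Type*} [Group G] [Finite G] {p a : ℕ}

theorem Cfg.pc_split (c : Cfg G p a) (Q : Sylow 2 G) (hexp : ∀ s ∈ Q, s * s = 1)
    (hfix : ∀ h ∈ Subgroup.normalizer ((Q : Subgroup G) : Set G), IsPElt p h →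
      ∀ t ∈ Q, t ≠ 1 → Commute h t → h ∈ Subgroup.centralizer ((Q : Subgroup G) : Set G))
    {t : G} (ht : t ∈ Q) (ht1 : t ≠ 1) :
    (∀ y z : G, IsPElt p y → IsPElt p z → Commute y t → Commute z t →
      Commute y z ∧ IsPElt p (y * z)) ∧
    (∀ g : G, Commute g t → ∃ y s, IsPElt p y ∧ Commute y t ∧ s ∈ Q ∧ g = y * s) := by
  classical
  haveI : Fact (Nat.Prime 2) := ⟨Nat.prime_two⟩
  have hp : p.Prime := c.hp
  have h4a : 4 ≤ 2 ^ a := by
    calc 4 = 2 ^ 2 := rfl
      _ ≤ 2 ^ a := Nat.pow_le_pow_right (by norm_num) c.ha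
  have hp2 : p ≠ 2 := by
    intro h
    have := c.hpa
    rw [h] at this
    have h8 : 2 ∣ 2 ^ a := dvd_pow_self 2 (by have := c.ha; omega)
    omega
  -- `Q` is abelian
  have hQab : ∀ s ∈ Q, ∀ s' ∈ Q, s * s' = s' * s := by
    intro s hs s' hs'
    have h1 := hexp s hs
    have h2 := hexp s' hs'
    have h3 := hexp (s * s') (Q.mul_mem hs hs')
    calc s * s' = s * (s * s' * (s * s')) * s' := by rw [h3, mul_one]
      _ = (s * s) * (s' * s) * (s' * s') := by group
      _ = s' * s := by rw [h1, h2, one_mul, mul_one]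
  have hot : orderOf t = 2 := orderOf_eq_prime (by rw [pow_two]; exact hexp t ht) ht1
  set H : Subgroup G := Subgroup.centralizer ({t} : Set G) with hH
  have hmemH : ∀ g : G, g ∈ H ↔ Commute g t := by
    intro g
    rw [hH, Subgroup.mem_centralizer_singleton_iff]
    exact ⟨fun h => h, fun h => h.eq⟩
  have hQH : (Q : Subgroup G) ≤ H := fun s hs => (hmemH s).2 (hQab s hs t ht)
  have htH : t ∈ H := hQH ht
  have h2H : 2 ∣ Nat.card H := by
    rw [← hot]
    exact Subgroup.orderOf_dvd_natCard H htH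
  -- `H ≠ ⊤`
  have hcard2 : (Nat.card G).factorization 2 = a := c.card2
  have hHtop : H ≠ ⊤ := by
    intro hcon
    have hcen : ∀ g : G, g * t = t * g := by
      intro g
      have : g ∈ H := by rw [hcon]; exact Subgroup.mem_top g
      exact ((hmemH g).1 this)
    have hnorm : (Subgroup.zpowers t).Normal := by
      refine ⟨fun x hx g => ?_⟩
      obtain ⟨k, rfl⟩ := Subgroup.mem_zpowers_iff.1 hx
      have : g * t ^ k * g⁻¹ = t ^ k := by
        have hc : Commute g t := hcen g
        rw [(hc.zpow_right k).eq, mul_inv_cancel_right]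
      rw [this]
      exact Subgroup.zpow_mem_zpowers t k
    have := c.simple
    rcases hnorm.eq_bot_or_eq_top with h | h
    · exact ht1 (Subgroup.zpowers_eq_bot.1 h)
    · have h5 : Nat.card G = 2 := by
        rw [← Subgroup.card_top (G := G), ← h, Nat.card_zpowers, hot]
      rw [h5, Nat.Prime.factorization_self Nat.prime_two] at hcard2
      have := c.ha
      omega
  -- orders of elements of `H`
  have hord : ∀ g ∈ H, ∃ i j : ℕ, orderOf g = 2 ^ i * p ^ j := by
    intro g hg
    refine two_p_form hp (orderOf g) (orderOf_pos g).ne' ?_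
    intro r hr hrg
    exact c.even H hHtop h2H r hr (hrg.trans (Subgroup.orderOf_dvd_natCard H hg))
  -- normalizer of `Q` in `H` centralizes `Q`
  have hNC : ∀ g ∈ H, g ∈ Subgroup.normalizer ((Q : Subgroup G) : Set G) →
      g ∈ Subgroup.centralizer ((Q : Subgroup G) : Set G) := by
    intro g hgH hgN
    obtain ⟨i, j, hij⟩ := hord g hgH
    have hcop : Nat.Coprime (2 ^ i) (p ^ j) :=
      Nat.Coprime.pow _ _ ((Nat.coprime_primes Nat.prime_two hp).2 (Ne.symm hp2))
    obtain ⟨e1, e2, hg12, hu, hv⟩ := parts_weak hcop hij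
    have huN : g ^ e1 ∈ Subgroup.normalizer ((Q : Subgroup G) : Set G) := Subgroup.pow_mem _ hgN e1
    have hvN : g ^ e2 ∈ Subgroup.normalizer ((Q : Subgroup G) : Set G) := Subgroup.pow_mem _ hgN e2
    have huQ : g ^ e1 ∈ Q := mem_sylow_of_normalizer Q hu huN
    have huC : g ^ e1 ∈ Subgroup.centralizer ((Q : Subgroup G) : Set G) := by
      rw [Subgroup.mem_centralizer_iff]
      intro s hs
      exact hQab s hs _ huQ
    have hvp : IsPElt p (g ^ e2) := by
      obtain ⟨m, -, hm⟩ := (Nat.dvd_prime_pow hp).1 (orderOf_dvd_of_pow_eq_one hv)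
      exact ⟨m, hm⟩
    have hvt : Commute (g ^ e2) t := ((hmemH g).1 hgH).pow_left e2
    have hvC := hfix _ hvN hvp t ht ht1 hvt
    rw [hg12]
    exact Subgroup.mul_mem _ huC hvC
  -- the Sylow 2-subgroup of `H`
  set QH : Sylow 2 H := Q.subtype hQH with hQHdef
  have hQHmem : ∀ x : H, x ∈ QH ↔ (x : G) ∈ Q := by
    intro x
    have h1 : x ∈ QH ↔ x ∈ (QH : Subgroup H) := Iff.rfl
    rw [h1, hQHdef, Sylow.coe_subtype, Subgroup.mem_subgroupOf]
    exact Iff.rfl
  have hP : Subgroup.normalizer ((QH : Subgroup H) : Set H) ≤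
      Subgroup.centralizer ((QH : Subgroup H) : Set H) := by
    intro x hx
    have hxN : (x : G) ∈ Subgroup.normalizer ((Q : Subgroup G) : Set G) := by
      rw [Subgroup.mem_normalizer_iff]
      intro s
      constructor
      · intro hs
        have hsH : s ∈ H := hQH hs
        have h1 := (Subgroup.mem_normalizer_iff.1 hx ⟨s, hsH⟩).1 ((hQHmem _).2 hs)
        exact (hQHmem _).1 h1
      · intro hs
        have hsH : s ∈ H := by
          have h1 : (x : G) * s * (x : G)⁻¹ ∈ H := hQH hs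
          have h2 := H.mul_mem (H.mul_mem (H.inv_mem x.2) h1) x.2
          have h3 : (x : G)⁻¹ * ((x : G) * s * (x : G)⁻¹) * (x : G) = s := by group
          rw [h3] at h2
          exact h2
        have h1 := (Subgroup.mem_normalizer_iff.1 hx ⟨s, hsH⟩).2 ((hQHmem _).2 hs)
        exact (hQHmem _).1 h1
    have hxC := hNC (x : G) x.2 hxN
    rw [Subgroup.mem_centralizer_iff]
    intro s hs
    apply Subtype.ext
    exact (Subgroup.mem_centralizer_iff.1 hxC) (s : G) ((hQHmem s).1 hs)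
  set K : Subgroup H := (MonoidHom.transferSylow QH hP).ker with hK
  have hcomp : K.IsComplement' (QH : Subgroup H) :=
    MonoidHom.ker_transferSylow_isComplement' QH hP
  have hKnd : ¬ 2 ∣ Nat.card K := MonoidHom.not_dvd_card_ker_transferSylow QH hP
  have hKn : K.Normal := MonoidHom.normal_ker _
  -- `K` is a `p`-group
  have hKcard : ∃ m : ℕ, Nat.card K = p ^ m := by
    refine ⟨_, Nat.eq_prime_pow_of_unique_prime_dvd Nat.card_pos.ne' ?_⟩
    intro d hd hdK
    have h1 : d ∣ Nat.card H := hdK.trans (Subgroup.card_subgroup_dvd_card K)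
    rcases c.even H hHtop h2H d hd h1 with h | h
    · exfalso
      rw [h] at hdK
      exact hKnd hdK
    · exact h
  obtain ⟨m, hm⟩ := hKcard
  have hKp : IsPGroup p K := IsPGroup.of_card hm
  have hKmapp : IsPGroup p (K.map H.subtype) :=
    hKp.map H.subtype
  -- every `p`-element of `H` lies in `K`
  have hindex : K.index = Nat.card (QH : Subgroup H) := hcomp.symm.index_eq_card
  have hQHcard : ∃ e : ℕ, Nat.card (QH : Subgroup H) = 2 ^ e := by
    have := (IsPGroup.iff_card (p := 2) (G := (QH : Subgroup H))).1 QH.isPGroup'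
    exact this
  obtain ⟨e, he⟩ := hQHcard
  have hpK : ∀ y : H, IsPElt p (y : G) → y ∈ K := by
    intro y hy
    obtain ⟨k, hk⟩ := hy
    have hoy : orderOf y = p ^ k := by rw [← hk, Subgroup.orderOf_coe]
    have h1 : orderOf (QuotientGroup.mk y : H ⧸ K) ∣ p ^ k := by
      rw [← hoy]
      exact orderOf_map_dvd (QuotientGroup.mk' K) y
    have h2 : orderOf (QuotientGroup.mk y : H ⧸ K) ∣ 2 ^ e := by
      rw [← he, ← hindex, Subgroup.index_eq_card]
      exact orderOf_dvd_natCard _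
    have h3 : Nat.Coprime (p ^ k) (2 ^ e) :=
      Nat.Coprime.pow _ _ ((Nat.coprime_primes hp Nat.prime_two).2 hp2)
    have h4 : orderOf (QuotientGroup.mk y : H ⧸ K) = 1 :=
      Nat.eq_one_of_dvd_coprimes h3 h1 h2
    rw [orderOf_eq_one_iff] at h4
    exact (QuotientGroup.eq_one_iff y).1 h4
  have hKelt : ∀ y : H, y ∈ K → IsPElt p (y : G) := by
    intro y hy
    have h1 : orderOf (⟨y, hy⟩ : K) ∣ p ^ m := by
      rw [← hm]; exact orderOf_dvd_natCard _
    obtain ⟨k, -, hk⟩ := (Nat.dvd_prime_pow hp).1 h1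
    refine ⟨k, ?_⟩
    rw [← hk]
    have e1 : orderOf (⟨y, hy⟩ : K) = orderOf y := Subgroup.orderOf_mk y hy
    rw [e1, Subgroup.orderOf_coe]
  constructor
  · intro y z hy hz hyt hzt
    have hyH : y ∈ H := (hmemH y).2 hyt
    have hzH : z ∈ H := (hmemH z).2 hzt
    have hyK : (⟨y, hyH⟩ : H) ∈ K := hpK ⟨y, hyH⟩ hy
    have hzK : (⟨z, hzH⟩ : H) ∈ K := hpK ⟨z, hzH⟩ hz
    constructor
    · have h1 : y ∈ K.map H.subtype := ⟨⟨y, hyH⟩, hyK, rfl⟩
      have h2 : z ∈ K.map H.subtype := ⟨⟨z, hzH⟩, hzK, rfl⟩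
      exact c.abel _ hKmapp y h1 z h2
    · have := hKelt _ (K.mul_mem hyK hzK)
      exact this
  · intro g hgt
    have hgH : g ∈ H := (hmemH g).2 hgt
    obtain ⟨⟨k, s⟩, hks⟩ := (hcomp : Subgroup.IsComplement (K : Set H) (QH : Set H)).2 ⟨g, hgH⟩
    refine ⟨((k : H) : G), ((s : H) : G), hKelt _ k.2, (hmemH _).1 (k : H).2,
      (hQHmem _).1 s.2, ?_⟩
    have := congrArg (Subtype.val) hks
    exact this.symm
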