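import Mathlib
import Cfsg.Agent.Lib.Helper11.F4IE7

/-!
# S2184 piece REDA2 (helper7 for helper11): `NF t1 0 u2 t3 0 u4 t5 0 0 0 0 0` with `t1 ≠ 0` is conjugate to `U1 t1`.

Chain: `step_4` kills `u2`; `step_7` kills `t5` (changes `t3`); `step_6 s 0` kills `t3` (creates `u2`, changes `u4`);
`step_4` kills `u2`; `step_6 0 v` kills `u4`.
-/

set_option autoImplicit false
set_option linter.unusedSectionVars false
set_option linter.unusedSimpArgs false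
set_option linter.unusedVariables false
set_option maxHeartbeats 1000000

namespace Cfsg.Agent.Helper11.F4I

open Cfsg Cfsg.Lie Cfsg.Agent.Lead.Chev Cfsg.Agent.Lead.Tw

variable {K : Type*} [Field K] [Fintype K] [CharP K 2] {m : ℕ} (hK : Fintype.card K = 2 ^ (2 * m + 1))
  (hperf : ∀ x : K, ∃ y : K, y ^ 2 = x) (f : K ≃+* K) (hf : ∀ t, f t = t ^ (2 ^ m))
include hK hperf hf

/-- kill `u2` by `U4 s 0`, `f s * f t1 = u2` -/
theorem reda2_kill_u2 (t1 u2 t3 u4 t5 : K) (h1 : t1 ≠ 0) :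
    CJ (2 ^ m) (NF f t1 0 u2 t3 0 u4 t5 0 0 0 0 0) (NF f t1 0 0 t3 0 u4 t5 0 0 0 0 0) := by
  have hff := hff hK f hf
  have hff' := hff' hK f hf
  have hf1 : f t1 ≠ 0 := (map_ne_zero f).2 h1
  refine (step_4 hK hperf f hf t1 0 u2 t3 0 u4 t5 0 0 0 0 0 ((f u2) ^ 2 / t1) 0).trans (CJ.of_eq ?_)
  apply NF_congr f
  all_goals simp only [map_zero, mul_zero, zero_mul, add_zero, zero_add, ne_eq, OfNat.ofNat_ne_zero,
    not_false_eq_true, zero_pow, map_div₀, hff']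
  · field_simp
    grind

/-- kill `u4` by `U6 0 v`, `f t1 * v = u4` -/
theorem reda2_kill_u4 (t1 u2 t3 u4 t5 : K) (h1 : t1 ≠ 0) :
    CJ (2 ^ m) (NF f t1 0 u2 t3 0 u4 t5 0 0 0 0 0) (NF f t1 0 u2 t3 0 0 t5 0 0 0 0 0) := by
  have hf1 : f t1 ≠ 0 := (map_ne_zero f).2 h1
  refine (step_6 hK hperf f hf t1 0 u2 t3 0 u4 t5 0 0 0 0 0 0 (u4 / f t1)).trans (CJ.of_eq ?_)
  apply NF_congr f
  all_goals simp only [map_zero, mul_zero, zero_mul, add_zero, zero_add, ne_eq, OfNat.ofNat_ne_zero,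
    not_false_eq_true, zero_pow]
  · field_simp
    grind

/-- kill `t5` by `U7 s`, `(f s)^2 * t1 = t5` (with `u2 = 0`) -/
theorem reda2_kill_t5 (t1 t3 u4 t5 : K) (h1 : t1 ≠ 0) :
    ∃ t3' : K, CJ (2 ^ m) (NF f t1 0 0 t3 0 u4 t5 0 0 0 0 0) (NF f t1 0 0 t3' 0 u4 0 0 0 0 0 0) := by
  have hff := hff hK f hf
  have hff' := hff' hK f hf
  have hf1 : f t1 ≠ 0 := (map_ne_zero f).2 h1
  refine ⟨?_, ?_⟩
  pick_goal 2
  refine (step_7 hK hperf f hf t1 0 0 t3 0 u4 t5 0 0 0 0 0 (f (t5 / t1))).trans (CJ.of_eq ?_)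
  apply NF_congr f
  case h3 => rfl
  all_goals simp only [map_zero, mul_zero, zero_mul, add_zero, zero_add, ne_eq, OfNat.ofNat_ne_zero,
    not_false_eq_true, zero_pow, hff]
  · field_simp
    grind

/-- kill `t3` by `U6 s 0`, `(f s)^2 * t1 = t3` (with `t5 = 0`) -/
theorem reda2_kill_t3 (t1 u2 t3 u4 : K) (h1 : t1 ≠ 0) :
    ∃ u2' u4' : K, CJ (2 ^ m) (NF f t1 0 u2 t3 0 u4 0 0 0 0 0 0) (NF f t1 0 u2' 0 0 u4' 0 0 0 0 0 0) := by
  have hff := hff hK f hf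
  have hff' := hff' hK f hf
  have hf1 : f t1 ≠ 0 := (map_ne_zero f).2 h1
  refine ⟨?_, ?_, ?_⟩
  pick_goal 3
  refine (step_6 hK hperf f hf t1 0 u2 t3 0 u4 0 0 0 0 0 0 (f (t3 / t1)) 0).trans (CJ.of_eq ?_)
  apply NF_congr f
  case h2' => rfl
  case h4' => rfl
  all_goals simp only [map_zero, mul_zero, zero_mul, add_zero, zero_add, ne_eq, OfNat.ofNat_ne_zero,
    not_false_eq_true, zero_pow, hff]
  · field_simp
    grind

/-! ### PIECE REDA2 -/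

theorem red_A2 (t1 u2 t3 u4 t5 : K) (h1 : t1 ≠ 0) :
    CJ (2 ^ m) (NF f t1 0 u2 t3 0 u4 t5 0 0 0 0 0) (U1 f t1) := by
  have k1 := reda2_kill_u2 hK hperf f hf t1 u2 t3 u4 t5 h1
  obtain ⟨t3a, k2⟩ := reda2_kill_t5 hK hperf f hf t1 t3 u4 t5 h1
  obtain ⟨u2b, u4b, k3⟩ := reda2_kill_t3 hK hperf f hf t1 0 t3a u4 h1
  have k4 := reda2_kill_u2 hK hperf f hf t1 u2b 0 u4b 0 h1
  have k5 := reda2_kill_u4 hK hperf f hf t1 0 0 u4b 0 h1
  rw [NF_U1] at k5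
  exact k1.trans (k2.trans (k3.trans (k4.trans k5)))

end Cfsg.Agent.Helper11.F4I
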