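import Mathlib
import Cfsg.Agent.Lib.Helper18.BG13P4
import Cfsg.Agent.Lib.Helper15.CoprimeGen
import Cfsg.Agent.Lib.Helper4.BGSigA

/-!
# Bender-Glauberman 13.7 (S1428): the setting of a "bad triple" (helper7)

A *bad triple* is `(M, E, P, R)` with `p ∈ τ₁(M)`, `P ≤ E` of order `p`, `R ≤ C_E(P)` of prime
order and `C_{M_σ}(P) ≰ C_G(R)`.  This file proves, for any maximal subgroup `H ≥ N_G(P)`:
`H` is not conjugate to `M`, `p ∈ σ(H)`, `M_σ ∩ H = C_{M_σ}(P)`, `|R| ∈ τ₁(H)`, `|R| ≠ p`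
(`setting`), and the existence of an `R`-invariant Sylow subgroup `Q` of `C_{M_σ}(P)` with
`[Q, R] ≠ 1` (`exists_Q`).  It also contains the strong form of helper18's PROP A.
-/

set_option autoImplicit false
set_option linter.style.haveILetI false
set_option linter.unusedSectionVars false
set_option linter.unusedVariables false

namespace Cfsg.Agent.Helper7.BG13R

open Cfsg Subgroup
open scoped commutatorElement
open Cfsg.Agent.Helper14.BGTrans Cfsg.Agent.Helper14.BGUniq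
open Cfsg.Agent.Helper10 (IsPiNum)
open Cfsg.Agent.Helper15 (IsSylowIn isSylowIn_of_sylow_le isSylowIn_map_subtype isSylowIn_top
  map_conj_eq_of_mem_normalizer map_conj_map_conj card_map_conj map_conj_one
  map_conj_map_conj_inv map_conj_inv_map_conj isPGroup_map_conj map_conj_mono
  map_conj_eq_self_of_mem exists_isSylowIn_ge exists_isSylowIn isSylowIn_of_not_dvd_relIndex)
open Cfsg.Agent.Helper22.BG13
open Cfsg.Agent.Helper20.MinInv (comm_le_of_le_normalizer le_centralizer_of_comm_comm_eq_bot)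
open Cfsg.Agent.Helper18.BG13P

universe u

variable {G : Type u} [Group G] [Finite G]

/-- statement of S1408 -/
def H1408 (G : Type u) [Group G] : Prop :=
  ∀ (M : Subgroup G) (_ : IsCoatom M) (p : ℕ) [Fact p.Prime] (_ : p ∉ sigma M)
    (_ : PRankLE p 2 M) (_ : ¬ PRankLE p 1 M),
    ¬ IsIdealPrime p G ∧ ∀ A : Subgroup G, A ≤ M → IsElementaryAbelian p A → Nat.card A = p ^ 2 →
        ∀ B : Subgroup G, IsElementaryAbelian p B → A ≤ B → B = A

/-- **strong PROP A** (BG 13.5(b) under the hypothesis that `M ∩ H` contains a `p`-element):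
`M`, `H` non-conjugate maximal subgroups, `p ∉ σ(M)`, `p ∈ τ₂(H)`, `1 ≠ P₁ ≤ M ∩ H` a `p`-group.
Then `M ∩ H` centralizes `M_σ ∩ H`.  (Proof: helper18's `centralizes_of_mem_tau2`, with the two
non-contradictory branches turned into contradictions.) -/
theorem strong_propA (hG : IsMinSimpleOddOrder G) (h1403 : Hyp1403 G)
    (h1404 : Hyp1404 G) (h1413 : Hyp1413 G) (h1416 : Hyp1416 G) (h1350 : Hyp1350 G)
    (h1414 : Hyp1414 G) (h1417 : Hyp1417 G) (h1418 : Hyp1418 G) (h1415 : H1415 G)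
    (h1408 : H1408 G)
    {M H : Subgroup G} (hM : IsCoatom M) (hH : IsCoatom H)
    (hconj : ∀ g : G, H ≠ M.map (MulAut.conj g).toMonoidHom)
    {p : ℕ} [Fact p.Prime] (hpM : p ∉ sigma M) (hpH : p ∈ tau2 H)
    {P₁ : Subgroup G} (hP₁ : IsPGroup p ↥P₁) (hP₁1 : P₁ ≠ ⊥) (hP₁M : P₁ ≤ M) (hP₁H : P₁ ≤ H) :
    ⁅sigmaCore M ⊓ H, M ⊓ H⁆ = ⊥ := by
  have hp : p.Prime := Fact.out
  -- an elementary abelian subgroup of order `p²` of `H`
  obtain ⟨A₀, hA₀H, hA₀e, hA₀c⟩ := Cfsg.Agent.Helper23.BG10.exists_elemAb_sq hpH.2.2.1 hpH.2.2.2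
  have hnil : Group.IsNilpotent ↥(sigmaCore H) := (h1417 H hH p hpH A₀ ⟨hA₀H, hA₀e, hA₀c⟩).1
  have hdisj := not_dvd_card_sigmaCore_of_nilpotent h1350 hM hH hconj hnil
  set D := sigmaCore M ⊓ H with hD
  have hDσ : D ≤ sigmaCore M := inf_le_left
  have hDH : D ≤ H := inf_le_right
  have hDM : D ≤ M := hDσ.trans (sigmaCore_le M)
  have hcardD : IsPiNum (sigma M) (Nat.card ↥D) :=
    IsPiNum.of_dvd (Subgroup.card_dvd_of_le hDσ) (isPiNum_card_sigmaCore M)
  have hMHD : M ⊓ H ≤ normalizer (D : Set G) :=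
    le_normalizer_inf_of_le (inf_le_left.trans (le_normalizer_sigmaCore M))
      (inf_le_right.trans Subgroup.le_normalizer)
  by_contra hR
  set R := ⁅D, M ⊓ H⁆ with hRdef
  have hRD : R ≤ D := comm_le_of_le_normalizer hMHD
  have hRM : R ≤ M := hRD.trans hDM
  have hRσ : R ≤ sigmaCore M := hRD.trans hDσ
  have hRH' : R ≤ ⁅H, H⁆ := Subgroup.commutator_mono hDH inf_le_right
  have hMHR : M ⊓ H ≤ normalizer (R : Set G) :=
    le_normalizer_commutator_of_le hMHD Subgroup.le_normalizer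
  have hcardR : IsPiNum (sigma M) (Nat.card ↥R) :=
    IsPiNum.of_dvd (Subgroup.card_dvd_of_le hRD) hcardD
  -- `R` has order prime to `p` and to `|H_σ|`
  have hRp : (Nat.card ↥R).Coprime p := by
    rw [Nat.coprime_comm]
    exact (Nat.Prime.coprime_iff_not_dvd hp).mpr (fun h => hpM (hcardR p hp h))
  have hRHσ : (Nat.card ↥R).Coprime (Nat.card ↥(sigmaCore H)) :=
    Nat.coprime_of_dvd (fun r hr h1 h2 => hdisj r (hcardR r hr h1) h2)
  have hpHσ : ¬ p ∣ Nat.card ↥(sigmaCore H) := not_dvd_card_sigmaCore hp hpH.2.1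
  obtain ⟨k, hk⟩ := hP₁.exists_card_eq
  have hP₁Hσ : (Nat.card ↥P₁).Coprime (Nat.card ↥(sigmaCore H)) := by
    rw [hk]
    exact Nat.Coprime.pow_left k ((Nat.Prime.coprime_iff_not_dvd hp).mpr hpHσ)
  have hP₁R : P₁ ≤ normalizer (R : Set G) := (le_inf hP₁M hP₁H).trans hMHR
  have hYcard : (Nat.card ↥(R ⊔ P₁ : Subgroup G)).Coprime (Nat.card ↥(sigmaCore H)) :=
    Nat.Coprime.coprime_dvd_left (Cfsg.Agent.Helper7.card_sup_dvd_mul_of_le_normalizer hP₁R)
      (Nat.Coprime.mul_left hRHσ hP₁Hσ)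
  have hHne : H ≠ ⊤ := hH.1
  have hsolvH : Group.IsSolvable ↥H := isSolvable_of_ne_top hG hHne
  obtain ⟨hHhall, -, -⟩ := h1350 H hH
  have hcopH := coprime_of_isPiHallOf hHhall
  obtain ⟨E, hE, hYE⟩ := exists_isComplIn_ge hsolvH (sigmaCore_le H) hcopH
    (sup_le (hRD.trans hDH) hP₁H) hYcard
  have hRE : R ≤ E := le_sup_left.trans hYE
  -- an elementary abelian subgroup `A` of order `p²` of `E`
  have hA₀Hσ : (Nat.card ↥A₀).Coprime (Nat.card ↥(sigmaCore H)) := by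
    rw [hA₀c]
    exact Nat.Coprime.pow_left 2 ((Nat.Prime.coprime_iff_not_dvd hp).mpr hpHσ)
  obtain ⟨h, hhH, hAE⟩ := exists_conj_le_of_hall hsolvH (sigmaCore_le H)
    (le_normalizer_sigmaCore H) hE.1 hA₀H hcopH
    (fun x hx => by
      obtain ⟨a, ha, b, hb, hab⟩ := hE.2.2.2 x hx
      -- x = a * b with a ∈ E, b ∈ H_σ; rewrite as n * d
      refine ⟨a * b * a⁻¹, ?_, a, ha, by rw [hab]; group⟩
      exact (Subgroup.mem_normalizer_iff.mp (le_normalizer_sigmaCore H (hE.1 ha)) b).mp hb)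
    hA₀Hσ
  set A := A₀.map (MulAut.conj h).toMonoidHom with hAdef
  have hAe : IsElementaryAbelian p A := isElementaryAbelian_map_conj hA₀e h
  have hAc : Nat.card ↥A = p ^ 2 := by rw [hAdef, card_map_conj, hA₀c]
  have hAp : IsPGroup p ↥A := isPGroup_of_isElementaryAbelian hAe
  have hEA : E ≤ normalizer (A : Set G) := (h1418 H hH E hE p hpH A ⟨hAE, hAe, hAc⟩).1.1
  have hE'nil : Group.IsNilpotent ↥⁅E, E⁆ := (h1415 H hH E hE).1
  have hRE' : R ≤ ⁅E, E⁆ :=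
    le_commutator_of_isComplIn hE (le_normalizer_sigmaCore H) hRE hRH'
  have hACR : A ≤ centralizer (R : Set G) :=
    le_centralizer_of_nilpotent_normal (commutator_self_le E)
      (le_normalizer_commutator_of_le Subgroup.le_normalizer Subgroup.le_normalizer) hE'nil hAE hEA hAp hRE' hRp
  -- if `A ≤ M` we are done by (★)
  by_cases hAM : A ≤ M
  · have hne : H ≠ M := fun h' => hconj 1 (by rw [map_conj_one]; exact h')
    have := sigmaCore_inf_eq_bot_of_elemAb hG h1403 h1417 hM hH hne hpM hAM (hAE.trans hE.1)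
      hAe hAc
    apply hR
    rw [hRdef, hD, this, eq_bot_iff, Subgroup.commutator_le]
    intro a ha b _
    rw [Subgroup.mem_bot] at ha
    rw [ha, commutatorElement_def]
    simp
  -- a Sylow subgroup `Q₀` of the nilpotent group `R`
  have hRnil : Group.IsNilpotent ↥R := by
    haveI := hE'nil
    exact Group.nilpotent_of_mulEquiv (Subgroup.subgroupOfEquivOfLe hRE')
  have hR1 : Nat.card ↥R ≠ 1 := fun h' => hR (Subgroup.card_eq_one.mp h')
  obtain ⟨q, hq, hqR⟩ := Nat.exists_prime_and_dvd hR1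
  haveI : Fact q.Prime := ⟨hq⟩
  have hqσ : q ∈ sigma M := hcardR q hq hqR
  obtain ⟨Q₀, hQ₀⟩ := exists_isSylowIn (p := q) R
  have hQ₀1 : Q₀ ≠ ⊥ := by
    intro h'
    have := hQ₀.not_dvd_relIndex
    rw [h', Subgroup.relIndex_bot_left] at this
    exact this hqR
  have hQ₀M : Q₀ ≤ M := hQ₀.le.trans hRM
  have hMHQ₀ : M ⊓ H ≤ normalizer (Q₀ : Set G) :=
    le_normalizer_sylow_of_nilpotent_normal hMHR hRnil hQ₀
  have hAQ₀ : A ≤ normalizer (Q₀ : Set G) :=
    (hACR.trans (Subgroup.centralizer_le hQ₀.le)).trans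
      (Subgroup.centralizer_le_normalizer (Q₀ : Set G))
  have hNtop : normalizer (Q₀ : Set G) ≠ ⊤ := normalizer_ne_top_of_isPGroup hG hQ₀.isPGroup hQ₀1
  obtain ⟨L, hL, hNL⟩ := exists_isCoatom_ge hNtop
  have hLne : L ≠ M := fun h' => hAM (hAQ₀.trans (h' ▸ hNL))
  have hconjL := not_conj_of_normalizer_le h1404 hM hqσ hQ₀.isPGroup hQ₀1 hQ₀M hLne hNL
  have hQ₀L : Q₀ ≤ L := Subgroup.le_normalizer.trans hNL
  have hAL : A ≤ L := hAQ₀.trans hNL
  have hMHL : M ⊓ H ≤ L := hMHQ₀.trans hNL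
  have hQ₀σL : Q₀ ≤ sigmaCore M ⊓ L := le_inf (hQ₀.le.trans hRσ) hQ₀L
  have hqG : q ∣ Nat.card G :=
    (dvd_card_of_mem_sigma hqσ).trans (Subgroup.card_subgroup_dvd_card M)
  have hq2 : q ≠ 2 := Cfsg.Agent.Helper14.BGTrans.prime_ne_two_of_dvd hG hqG
  have hsolvL : Group.IsSolvable ↥L := isSolvable_of_ne_top hG hL.1
  have hpp : p < p ^ 2 := by
    have := hp.one_lt
    nlinarith
  by_cases hpL : p ∈ sigma L
  · exfalso
    have hP₁L : P₁ ≤ L := (le_inf hP₁M hP₁H).trans hMHL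
    have hP₁σL : P₁ ≤ sigmaCore L :=
      le_sigmaCore_of_isPiNum h1350 hL hP₁L (isPiNum_of_isPGroup hpL hP₁)
    obtain ⟨T, hQ₀T, hT⟩ := exists_isSylowIn_ge hQ₀.isPGroup (le_inf hQ₀M hQ₀L)
    have hc := isSylowIn_of_normalizer_le h1404 h1413 hM hqσ hQ₀1 hNL hT hQ₀T
    have hb := normalizer_le_of_normalizer_le hG h1404 h1416 hM hqσ hQ₀1 hNL hT hQ₀T
    by_cases hqL : q ∈ sigma L
    · -- (5c): `L = L_β (M ∩ L)` and `p ∉ β(L)`
      obtain ⟨hfac, -⟩ := factor_case_d hG h1403 h1350 h1414 hM hL hLne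
        (hT.le.trans inf_le_left) hc hb hconjL hqL
      have hpβ : p ∉ beta L := by
        intro hβ
        exact (h1408 H hH p hpH.2.1 hpH.2.2.1 hpH.2.2.2).1 hβ.2
      have hALβ : (Nat.card ↥A).Coprime (Nat.card ↥(piCoreOf (beta L) L)) := by
        rw [hAc]
        apply Nat.Coprime.pow_left 2
        rw [Nat.Prime.coprime_iff_not_dvd hp]
        intro hd
        exact hpβ (card_piCoreOf (beta L) L p hp hd)
      obtain ⟨l, hlL, hAl⟩ := exists_conj_le_of_hall hsolvL (piCoreOf_le _ _)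
        (le_normalizer_piCoreOf _ _) (inf_le_right : M ⊓ L ≤ L) hAL
        (coprime_of_isPiHallOf (h1414 L hL).1) hfac hALβ
      have hbot := sigmaCore_inf_eq_bot_of_elemAb hG h1403 h1417 hM hL hLne hpM
        (hAl.trans inf_le_left) (hAl.trans inf_le_right) (isElementaryAbelian_map_conj hAe l)
        (by rw [card_map_conj, hAc])
      rw [hbot] at hQ₀σL
      exact hQ₀1 (le_bot_iff.mp hQ₀σL)
    · -- (5b): `q ∈ τ₂(L)`, so `L_σ ∩ M = 1`, but `P₁` lies in it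
      have hqLd : q ∣ Nat.card ↥L :=
        (dvd_card_of_isPGroup_ne_bot hQ₀.isPGroup hQ₀1).trans (Subgroup.card_dvd_of_le hQ₀L)
      have hnc : ¬ IsCyclic ↥T := by
        intro hcyc
        apply hqL
        refine ⟨hq, hqLd, hc.toSylow, ?_⟩
        rw [hc.map_toSylow]
        exact (normalizer_le_normalizer_of_le_cyclic hcyc hQ₀T).trans hNL
      obtain ⟨B, hBT, -, hBe, hBc⟩ :=
        Cfsg.Agent.Helper14.BGUniq.exists_normal_elemAb_sq hq2 hT.isPGroup hnc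
      have hBM : B ≤ M := hBT.trans (hT.le.trans inf_le_left)
      have hBL : B ≤ L := hBT.trans (hT.le.trans inf_le_right)
      have hbot := sigmaCore_inf_eq_bot_of_elemAb hG h1403 h1417 hL hM (Ne.symm hLne) hqL
        hBL hBM hBe hBc
      have : P₁ ≤ sigmaCore L ⊓ M := le_inf hP₁σL hP₁M
      rw [hbot] at this
      exact hP₁1 (le_bot_iff.mp this)
  · -- `p ∈ τ₂(L)`: contradiction
    exfalso
    have hr2 : PRankLE p 2 ↥L := by
      by_contra h'
      exact hpL (Cfsg.Agent.Helper23.BG10.alpha_subset_sigma hG h1403 hL ⟨hp, h'⟩)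
    have hr1 : ¬ PRankLE p 1 ↥L := not_pRankLE_of_le hAL hAe (by rw [hAc, pow_one]; exact hpp)
    have hτL : p ∈ tau2 L := ⟨hp, hpL, hr2, hr1⟩
    have hnilL : Group.IsNilpotent ↥(sigmaCore L) := (h1417 L hL p hτL A ⟨hAL, hAe, hAc⟩).1
    have hdisjL := not_dvd_card_sigmaCore_of_nilpotent h1350 hM hL hconjL hnilL
    have hqL : q ∉ sigma L := fun h' => hdisjL q hqσ (dvd_card_sigmaCore h1350 hL h')
    obtain ⟨T, hQ₀T, hT⟩ := exists_isSylowIn_ge hQ₀.isPGroup (le_inf hQ₀M hQ₀L)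
    have hc := isSylowIn_of_normalizer_le h1404 h1413 hM hqσ hQ₀1 hNL hT hQ₀T
    obtain ⟨hfac, -⟩ := factor_case_e hG h1403 h1404 h1416 h1350 h1417 hM hqσ hQ₀.isPGroup hQ₀1
      hL hNL hT hQ₀T hc hconjL hqL
    obtain ⟨hLhall, -, -⟩ := h1350 L hL
    have hALσ : (Nat.card ↥A).Coprime (Nat.card ↥(sigmaCore L)) := by
      rw [hAc]
      exact Nat.Coprime.pow_left 2
        ((Nat.Prime.coprime_iff_not_dvd hp).mpr (not_dvd_card_sigmaCore hp hpL))
    obtain ⟨l, hlL, hAl⟩ := exists_conj_le_of_hall hsolvL (sigmaCore_le L)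
      (le_normalizer_sigmaCore L) (inf_le_right : M ⊓ L ≤ L) hAL (coprime_of_isPiHallOf hLhall)
      hfac hALσ
    have hbot := sigmaCore_inf_eq_bot_of_elemAb hG h1403 h1417 hM hL hLne hpM
      (hAl.trans inf_le_left) (hAl.trans inf_le_right) (isElementaryAbelian_map_conj hAe l)
      (by rw [card_map_conj, hAc])
    rw [hbot] at hQ₀σL
    exact hQ₀1 (le_bot_iff.mp hQ₀σL)

/-- **the setting of a bad triple** `(M, E, P, R)`: for any maximal subgroup `H ≥ N_G(P)`,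
`H` is not conjugate to `M`, `p ∈ σ(H)`, `M_σ ∩ H = C_{M_σ}(P)`, `r := |R| ∈ τ₁(H)`, `r ≠ p` and
`r ∉ σ(M)`. -/
theorem setting (hG : IsMinSimpleOddOrder G) (h1403 : Hyp1403 G)
    (h1404 : Hyp1404 G) (h1413 : Hyp1413 G) (h1416 : Hyp1416 G) (h1350 : Hyp1350 G)
    (h1414 : Hyp1414 G) (h1417 : Hyp1417 G) (h1418 : Hyp1418 G) (h1415 : H1415 G)
    (h1409 : H1409 G) (h1408 : H1408 G)
    {M E P R H : Subgroup G} {p : ℕ} (hM : IsCoatom M) (hE : IsComplIn E (sigmaCore M) M)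
    (hp : p ∈ tau1 M) (hPE : P ≤ E) (hPc : Nat.card ↥P = p)
    (hRE : R ≤ E ⊓ centralizer (P : Set G)) (hRc : (Nat.card ↥R).Prime)
    (hbad : ¬ sigmaCore M ⊓ centralizer (P : Set G) ≤ centralizer (R : Set G))
    (hH : IsCoatom H) (hNH : normalizer (P : Set G) ≤ H) :
    (∀ g : G, H ≠ M.map (MulAut.conj g).toMonoidHom) ∧ p ∈ sigma H ∧
      sigmaCore M ⊓ H = sigmaCore M ⊓ centralizer (P : Set G) ∧
      Nat.card ↥R ∈ tau1 H ∧ Nat.card ↥R ≠ p ∧ Nat.card ↥R ∉ sigma M := by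
  obtain ⟨hpp, hpM, hpdM, hpM', hr1⟩ := hp
  haveI : Fact p.Prime := ⟨hpp⟩
  generalize hr : Nat.card ↥R = r at hRc ⊢
  haveI : Fact r.Prime := ⟨hRc⟩
  have hPM : P ≤ M := hPE.trans hE.1
  have hPH : P ≤ H := Subgroup.le_normalizer.trans hNH
  have hPp : IsPGroup p ↥P := IsPGroup.of_card (n := 1) (by rw [hPc, pow_one])
  have hP1 : P ≠ ⊥ := card_prime_ne_bot hPc
  have hRM : R ≤ M := (hRE.trans inf_le_left).trans hE.1
  have hCPH : centralizer (P : Set G) ≤ H := (Subgroup.centralizer_le_normalizer _).trans hNH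
  have hRH : R ≤ H := (hRE.trans inf_le_right).trans hCPH
  have hRp : IsPGroup r ↥R := IsPGroup.of_card (n := 1) (by rw [hr, pow_one])
  have hR1 : R ≠ ⊥ := card_prime_ne_bot hr
  have hYD : sigmaCore M ⊓ centralizer (P : Set G) ≤ sigmaCore M ⊓ H := inf_le_inf_left _ hCPH
  -- (1) `H` is not conjugate to `M`
  have hconj : ∀ g : G, H ≠ M.map (MulAut.conj g).toMonoidHom := by
    intro g hg
    by_cases hpH : p ∈ sigma H
    · rw [hg] at hpH
      exact hpM (mem_sigma_of_map_conj hpH)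
    · obtain ⟨⟨hr2H, hr1H⟩, -, -⟩ := h1409 H hH p hpH P hPc hNH
      apply hr1H
      rw [hg]
      exact pRankLE_map_conj hr1 g
  -- (2) `p ∈ σ(H)`
  have hpH : p ∈ sigma H := by
    by_contra hpH
    obtain ⟨⟨hr2H, hr1H⟩, -, -⟩ := h1409 H hH p hpH P hPc hNH
    have hτ : p ∈ tau2 H := ⟨hpp, hpH, hr2H, hr1H⟩
    have hs := strong_propA hG h1403 h1404 h1413 h1416 h1350 h1414 h1417 h1418 h1415 h1408 hM hH
      hconj hpM hτ hPp hP1 hPM hPH
    rw [Subgroup.commutator_eq_bot_iff_le_centralizer] at hs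
    apply hbad
    exact (hYD.trans hs).trans (Subgroup.centralizer_le (le_inf hRM hRH))
  -- (3) `M_σ ∩ H = C_{M_σ}(P)`
  have hkey : sigmaCore M ⊓ H ≤ centralizer (P : Set G) :=
    centralizes_of_normalizer_le hG h1403 h1404 h1413 h1416 h1350 h1414 h1417 h1418 h1415 h1409
      hM hH hpM hr1 hPc hNH hPp hPM hPH
  have hDY : sigmaCore M ⊓ H = sigmaCore M ⊓ centralizer (P : Set G) :=
    le_antisymm (le_inf inf_le_left hkey) hYD
  -- (4) `r ∉ σ(M)`
  have hrM : r ∉ sigma M := by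
    intro h
    have hRσ : R ≤ sigmaCore M :=
      le_sigmaCore_of_isPiNum h1350 hM hRM (isPiNum_of_isPGroup h hRp)
    have h2 : R ≤ E ⊓ sigmaCore M := le_inf (hRE.trans inf_le_left) hRσ
    rw [hE.2.2.1] at h2
    exact hR1 (le_bot_iff.mp h2)
  have hDR : ¬ sigmaCore M ⊓ H ≤ centralizer (R : Set G) := by rw [hDY]; exact hbad
  -- (5) `r ≠ p`
  have hrp : r ≠ p := by
    intro h
    by_cases hRP : R ≤ P
    · have h2 : R = P := Subgroup.eq_of_le_of_card_ge hRP (by rw [hPc, hr, h])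
      apply hbad
      rw [h2]
      exact inf_le_right
    · obtain ⟨y, hyR, hyP⟩ := SetLike.not_le_iff_exists.mp hRP
      have hyC : y ∈ centralizer (P : Set G) := (hRE.trans inf_le_right) hyR
      have hyp : y ^ p = 1 := by
        have h1 : (⟨y, hyR⟩ : ↥R) ^ Nat.card ↥R = 1 := pow_card_eq_one'
        rw [hr, h] at h1
        simpa using congrArg Subtype.val h1
      obtain ⟨hAe, hAc⟩ := card_sup_zpowers_eq_sq hPc hyC hyp hyP
      have hAM : P ⊔ zpowers y ≤ M := sup_le hPM (by rw [Subgroup.zpowers_le]; exact hRM hyR)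
      have hlt : p ^ 1 < Nat.card ↥(P ⊔ zpowers y : Subgroup G) := by
        rw [hAc, pow_one]
        have := hpp.one_lt
        nlinarith
      exact not_pRankLE_of_le hAM hAe hlt hr1
  -- (6) `r ∉ σ(H)`
  have hrH : r ∉ sigma H := by
    intro h
    have hRσ : R ≤ sigmaCore H :=
      le_sigmaCore_of_isPiNum h1350 hH hRH (isPiNum_of_isPGroup h hRp)
    exact hDR (centralizes_of_le_normal hG h1403 h1414 hM hH hconj (sigmaCore_le H)
      (le_normalizer_sigmaCore H)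
      (fun q hq hqH hqβ => ((h1414 H hH).2.2.2.2 q hq hqH hqβ).2.1) hrM hRp hRM hRσ)
  have hrdH : r ∣ Nat.card ↥H := by
    rw [← hr]; exact Subgroup.card_dvd_of_le hRH
  have hr2H : PRankLE r 2 ↥H := by
    by_contra h
    exact hrH (Cfsg.Agent.Helper23.BG10.alpha_subset_sigma hG h1403 hH ⟨hRc, h⟩)
  -- (7) `r ∉ τ₂(H)`
  have hr1H : PRankLE r 1 ↥H := by
    by_contra h
    have hτ : r ∈ tau2 H := ⟨hRc, hrH, hr2H, h⟩
    exact hDR (centralizes_of_mem_tau2 hG h1403 h1404 h1413 h1416 h1350 h1414 h1417 h1418 h1415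
      hM hH hconj hrM hτ hRp hRM hRH)
  -- (8) `r ∉ τ₃(H)`
  have hrH' : ¬ r ∣ Nat.card ↥⁅H, H⁆ := by
    intro hd
    have hτ3 : r ∈ tau3 H := ⟨hRc, hrH, hd, hr1H⟩
    have hsolvH : Group.IsSolvable ↥H := isSolvable_of_ne_top hG hH.1
    obtain ⟨hHhall, -, -⟩ := h1350 H hH
    have hcopH := coprime_of_isPiHallOf hHhall
    have hRcop : (Nat.card ↥R).Coprime (Nat.card ↥(sigmaCore H)) := by
      rw [hr]
      exact (Nat.Prime.coprime_iff_not_dvd hRc).mpr (not_dvd_card_sigmaCore hRc hrH)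
    obtain ⟨EH, hEH, hREH⟩ := exists_isComplIn_ge hsolvH (sigmaCore_le H) hcopH hRH hRcop
    have hEHtop : EH ≠ ⊤ := fun h => hH.1 (top_le_iff.mp (h ▸ hEH.1))
    have hsolvE : Group.IsSolvable ↥EH := isSolvable_of_ne_top hG hEHtop
    obtain ⟨E₃, hRE₃, hE₃⟩ := Cfsg.Agent.Helper4.BGSig.exists_isPiHallOf_ge hsolvE (tau3 H) hREH
      (fun s hs hsd => by
        rw [hr] at hsd
        rw [(Nat.prime_dvd_prime_iff_eq hs hRc).mp hsd]
        exact hτ3)
    obtain ⟨-, hE₃', -⟩ := (h1415 H hH EH hEH).2.2 E₃ hE₃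
    have hRH' : R ≤ ⁅H, H⁆ := (hRE₃.trans hE₃').trans (Subgroup.commutator_mono hEH.1 hEH.1)
    exact hDR (centralizes_of_le_normal hG h1403 h1414 hM hH hconj (commutator_self_le H)
      (le_normalizer_commutator_of_le Subgroup.le_normalizer Subgroup.le_normalizer)
      (fun q hq hqH hqβ => ((h1414 H hH).2.2.2.2 q hq hqH hqβ).1) hrM hRp hRM hRH')
  exact ⟨hconj, hpH, hDY, ⟨hRc, hrH, hrdH, hrH', hr1H⟩, hrp, hrM⟩

/-- coprime action: if the `r`-group `R` normalizes `Y`, `r ∤ |Y|` and `R` does not centralize `Y`,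
then some `R`-invariant Sylow subgroup of `Y` is not centralized by `R` -/
theorem exists_invariant_sylow_not_centralized {Y R : Subgroup G} {r : ℕ} [Fact r.Prime]
    (hR : IsPGroup r ↥R) (hcop : (Nat.card ↥Y).Coprime r)
    (hRY : R ≤ normalizer (Y : Set G)) (hbad : ¬ Y ≤ centralizer (R : Set G)) :
    ∃ (q : ℕ) (Q : Subgroup G), q.Prime ∧ IsSylowIn q Q Y ∧ R ≤ normalizer (Q : Set G) ∧
      ⁅Q, R⁆ ≠ ⊥ := by
  by_contra h
  push Not at h
  apply hbad
  have h1 : (Y ⊓ centralizer (R : Set G)).relIndex Y = 1 := by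
    by_contra hne
    obtain ⟨q, hq, hqd⟩ := Nat.exists_prime_and_dvd hne
    haveI : Fact q.Prime := ⟨hq⟩
    obtain ⟨Q, hQY, hQq, hQc, hRQ⟩ :=
      Cfsg.Agent.Helper15.exists_invariant_sylow_of_coprime q hR hcop hRY
    have hQ : IsSylowIn q Q Y := Cfsg.Agent.Helper15.isSylowIn_of_card hQY hQc
    have hc := h q Q hq hQ hRQ
    rw [Subgroup.commutator_eq_bot_iff_le_centralizer] at hc
    have hQL : Q ≤ Y ⊓ centralizer (R : Set G) := le_inf hQY hc
    have h2 : (Y ⊓ centralizer (R : Set G)).relIndex Y ∣ Q.relIndex Y :=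
      Dvd.intro_left _ (Subgroup.relIndex_mul_relIndex Q (Y ⊓ centralizer (R : Set G)) Y hQL
        inf_le_left)
    exact hQ.not_dvd_relIndex (hqd.trans h2)
  exact (Subgroup.relIndex_eq_one.mp h1).trans inf_le_right

/-- in the setting of a bad triple: an `R`-invariant Sylow `q`-subgroup `Q` of
`Y = M_σ ∩ H = C_{M_σ}(P)` with `[Q, R] ≠ 1`; then `q ∈ σ(M)`, `q` divides `|H'|` (so
`q ∉ τ₁(H)`). -/
theorem exists_Q {M P R H : Subgroup G} {r : ℕ} [Fact r.Prime]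
    (hRM : R ≤ M) (hRP : R ≤ centralizer (P : Set G)) (hRH : R ≤ H) (hRc : Nat.card ↥R = r)
    (hrM : r ∉ sigma M)
    (hDY : sigmaCore M ⊓ H = sigmaCore M ⊓ centralizer (P : Set G))
    (hbad : ¬ sigmaCore M ⊓ centralizer (P : Set G) ≤ centralizer (R : Set G)) :
    ∃ (q : ℕ) (Q : Subgroup G), q.Prime ∧ q ∈ sigma M ∧ IsSylowIn q Q (sigmaCore M ⊓ H) ∧
      R ≤ normalizer (Q : Set G) ∧ ⁅Q, R⁆ ≠ ⊥ ∧ q ∣ Nat.card ↥⁅H, H⁆ ∧ q ∉ tau1 H := by
  have hr : r.Prime := Fact.out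
  have hRp : IsPGroup r ↥R := IsPGroup.of_card (n := 1) (by rw [hRc, pow_one])
  have hcardY : IsPiNum (sigma M) (Nat.card ↥(sigmaCore M ⊓ H : Subgroup G)) :=
    IsPiNum.of_dvd (Subgroup.card_dvd_of_le inf_le_left) (isPiNum_card_sigmaCore M)
  have hcop : (Nat.card ↥(sigmaCore M ⊓ H : Subgroup G)).Coprime r := by
    rw [Nat.coprime_comm]
    exact (Nat.Prime.coprime_iff_not_dvd hr).mpr (fun h => hrM (hcardY r hr h))
  have hRY : R ≤ normalizer ((sigmaCore M ⊓ H : Subgroup G) : Set G) :=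
    le_normalizer_inf_of_le (hRM.trans (le_normalizer_sigmaCore M))
      (hRH.trans Subgroup.le_normalizer)
  have hbad' : ¬ sigmaCore M ⊓ H ≤ centralizer (R : Set G) := by rw [hDY]; exact hbad
  obtain ⟨q, Q, hq, hQ, hRQ, hQR⟩ := exists_invariant_sylow_not_centralized hRp hcop hRY hbad'
  haveI : Fact q.Prime := ⟨hq⟩
  have hQR1 : Nat.card ↥⁅Q, R⁆ ≠ 1 := fun h => hQR (Subgroup.card_eq_one.mp h)
  have hQRQ : ⁅Q, R⁆ ≤ Q := comm_le_of_le_normalizer hRQ
  have hQRq : IsPGroup q ↥⁅Q, R⁆ := hQ.isPGroup.to_le hQRQ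
  have hqd : q ∣ Nat.card ↥⁅Q, R⁆ := dvd_card_of_isPGroup_ne_bot hQRq hQR
  have hqσ : q ∈ sigma M :=
    hcardY q hq (hqd.trans (Subgroup.card_dvd_of_le (hQRQ.trans hQ.le)))
  have hQRH' : ⁅Q, R⁆ ≤ ⁅H, H⁆ := Subgroup.commutator_mono (hQ.le.trans inf_le_right) hRH
  have hqH' : q ∣ Nat.card ↥⁅H, H⁆ := hqd.trans (Subgroup.card_dvd_of_le hQRH')
  exact ⟨q, Q, hq, hqσ, hQ, hRQ, hQR, hqH', fun h => h.2.2.2.1 hqH'⟩

end Cfsg.Agent.Helper7.BG13R
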