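import Mathlib
import Cfsg.Agent.Lib.Helper12.LSLDefs
import Cfsg.Agent.Lib.Helper13.Transv
import Cfsg.Agent.Lib.Helper13.LSLCONJ

/-!
# S2332, piece CLASS: the size of the conjugacy class of a transvection of `SL ι F` (helper7)

`|SL : C(xPhi i₀ φ)| * (q - 1) = (q ^ n - 1) * (q ^ (n - 1) - 1)` for `n = |ι| ≥ 3`, `φ ≠ 0`.
The class of `xPhi i₀ φ` is the set of all `1 + v ψᵀ` with `v ≠ 0`, `ψ ≠ 0`, `ψ ⬝ᵥ v = 0`
(piece CONJ), and `(v, ψ) ↦ 1 + v ψᵀ` is `(q - 1)`-to-one on that set of pairs.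
-/

set_option autoImplicit false

namespace Cfsg.Agent.Helper12.LSL

open Matrix Cfsg.Agent.Helper12

variable {F : Type*} [Field F] {ι : Type*} [Fintype ι] [DecidableEq ι]

/-- the functional `ψ ↦ ψ ⬝ᵥ v` -/
def clsDot (v : ι → F) : (ι → F) →ₗ[F] F where
  toFun ψ := ψ ⬝ᵥ v
  map_add' a b := add_dotProduct a b v
  map_smul' c a := smul_dotProduct c a v

theorem clsDot_apply (v ψ : ι → F) : clsDot v ψ = ψ ⬝ᵥ v := rfl

theorem cls_exists_ne {v : ι → F} (hv : v ≠ 0) : ∃ i, v i ≠ 0 := by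
  by_contra hcon
  push Not at hcon
  exact hv (funext hcon)

theorem clsDot_surjective {v : ι → F} (hv : v ≠ 0) : Function.Surjective (clsDot v) := by
  obtain ⟨i, hi⟩ := cls_exists_ne hv
  intro t
  refine ⟨(t / v i) • Pi.single i 1, ?_⟩
  rw [clsDot_apply, smul_dotProduct, single_dotProduct, one_mul, smul_eq_mul, div_mul_cancel₀ t hi]

theorem cls_card_ker [Fintype F] {v : ι → F} (hv : v ≠ 0) :
    Nat.card (LinearMap.ker (clsDot v)) = Fintype.card F ^ (Fintype.card ι - 1) := by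
  rw [Module.natCard_eq_pow_finrank (K := F), Nat.card_eq_fintype_card]
  congr 1
  have h1 := LinearMap.finrank_range_add_finrank_ker (clsDot v)
  have h2 : LinearMap.range (clsDot v) = ⊤ := LinearMap.range_eq_top.mpr (clsDot_surjective hv)
  rw [h2, finrank_top, Module.finrank_self, Module.finrank_fintype_fun_eq_card] at h1
  omega


/-- the set of pairs `(v, ψ)` with `v ≠ 0`, `ψ ≠ 0`, `ψ ⬝ᵥ v = 0` -/
noncomputable def clsT (F : Type*) [Field F] [Fintype F] (ι : Type*) [Fintype ι] [DecidableEq ι] :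
    Finset ((ι → F) × (ι → F)) := by
  classical
  exact Finset.univ.filter (fun p => p.1 ≠ 0 ∧ p.2 ≠ 0 ∧ p.2 ⬝ᵥ p.1 = 0)

theorem mem_clsT [Fintype F] {p : (ι → F) × (ι → F)} :
    p ∈ clsT F ι ↔ p.1 ≠ 0 ∧ p.2 ≠ 0 ∧ p.2 ⬝ᵥ p.1 = 0 := by
  classical
  unfold clsT
  rw [Finset.mem_filter]
  exact ⟨fun h => h.2, fun h => ⟨Finset.mem_univ _, h⟩⟩

theorem cls_card_perp [Fintype F] [DecidableEq F] {v : ι → F} (hv : v ≠ 0) :
    (Finset.univ.filter (fun ψ : ι → F => ψ ≠ 0 ∧ ψ ⬝ᵥ v = 0)).card =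
      Fintype.card F ^ (Fintype.card ι - 1) - 1 := by
  classical
  have h1 : (Finset.univ.filter (fun ψ : ι → F => ψ ⬝ᵥ v = 0)).card =
      Fintype.card F ^ (Fintype.card ι - 1) := by
    rw [← cls_card_ker hv, Nat.card_eq_fintype_card, ← Fintype.card_subtype]
    apply Fintype.card_congr
    exact Equiv.subtypeEquivRight (fun ψ => by rw [LinearMap.mem_ker, clsDot_apply])
  have h2 : Finset.univ.filter (fun ψ : ι → F => ψ ≠ 0 ∧ ψ ⬝ᵥ v = 0) =
      (Finset.univ.filter (fun ψ : ι → F => ψ ⬝ᵥ v = 0)).erase 0 := by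
    ext ψ
    simp only [Finset.mem_filter, Finset.mem_univ, true_and, Finset.mem_erase]
  rw [h2, Finset.card_erase_of_mem, h1]
  rw [Finset.mem_filter]
  exact ⟨Finset.mem_univ _, zero_dotProduct v⟩

theorem card_clsT [Fintype F] :
    (clsT F ι).card =
      (Fintype.card F ^ Fintype.card ι - 1) * (Fintype.card F ^ (Fintype.card ι - 1) - 1) := by
  classical
  have hT : clsT F ι = ((Finset.univ.filter (fun v : ι → F => v ≠ 0)).sigma
      (fun v => Finset.univ.filter (fun ψ : ι → F => ψ ≠ 0 ∧ ψ ⬝ᵥ v = 0))).map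
        ⟨fun x => (x.1, x.2), fun x y h => by
          cases x; cases y; simp only [Prod.mk.injEq] at h; obtain ⟨rfl, rfl⟩ := h; rfl⟩ := by
    ext p
    rw [mem_clsT, Finset.mem_map]
    constructor
    · rintro ⟨h1, h2, h3⟩
      refine ⟨⟨p.1, p.2⟩, ?_, rfl⟩
      rw [Finset.mem_sigma, Finset.mem_filter, Finset.mem_filter]
      exact ⟨⟨Finset.mem_univ _, h1⟩, Finset.mem_univ _, h2, h3⟩
    · rintro ⟨x, hx, rfl⟩
      rw [Finset.mem_sigma, Finset.mem_filter, Finset.mem_filter] at hx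
      exact ⟨hx.1.2, hx.2.2.1, hx.2.2.2⟩
  rw [hT, Finset.card_map, Finset.card_sigma]
  rw [Finset.sum_congr rfl (fun v hv => cls_card_perp (Finset.mem_filter.mp hv).2),
    Finset.sum_const, smul_eq_mul]
  congr 1
  have h2 : Finset.univ.filter (fun v : ι → F => v ≠ 0) = (Finset.univ : Finset (ι → F)).erase 0 := by
    ext ψ
    simp only [Finset.mem_filter, Finset.mem_univ, true_and, Finset.mem_erase, and_true]
  rw [h2, Finset.card_erase_of_mem (Finset.mem_univ _), Finset.card_univ, Fintype.card_fun]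


/-- the transvection matrix `1 + v ψᵀ` -/
def clsF (p : (ι → F) × (ι → F)) : Matrix ι ι F := 1 + vecMulVec p.1 p.2

theorem cls_rank_one_unique {v ψ v₀ ψ₀ : ι → F} (hv : v ≠ 0) (hψ : ψ ≠ 0)
    (h : vecMulVec v ψ = vecMulVec v₀ ψ₀) :
    ∃ c : Fˣ, v = (c : F) • v₀ ∧ ψ = ((c⁻¹ : Fˣ) : F) • ψ₀ := by
  obtain ⟨i₁, hi₁⟩ := cls_exists_ne hv
  obtain ⟨j₁, hj₁⟩ := cls_exists_ne hψ
  have hij : ∀ i j, v i * ψ j = v₀ i * ψ₀ j := fun i j => by
    have := congrFun (congrFun h i) j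
    rwa [vecMulVec_apply, vecMulVec_apply] at this
  have h11 : v₀ i₁ * ψ₀ j₁ ≠ 0 := by
    rw [← hij]
    exact mul_ne_zero hi₁ hj₁
  have hv0 : v₀ i₁ ≠ 0 := left_ne_zero_of_mul h11
  have hp0 : ψ₀ j₁ ≠ 0 := right_ne_zero_of_mul h11
  have hc : ψ₀ j₁ / ψ j₁ ≠ 0 := div_ne_zero hp0 hj₁
  refine ⟨Units.mk0 _ hc, ?_, ?_⟩
  · funext i
    rw [Units.val_mk0, Pi.smul_apply, smul_eq_mul]
    have := hij i j₁
    field_simp
    rw [this, mul_comm]
  · funext j
    rw [Units.val_inv_eq_inv_val, Units.val_mk0, Pi.smul_apply, smul_eq_mul, inv_div]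
    have h1 := hij i₁ j
    have h2 := hij i₁ j₁
    have h3 : ψ j * (v₀ i₁ * ψ₀ j₁) = ψ j₁ * (v₀ i₁ * ψ₀ j) := by
      rw [← h2, ← h1]
      ring
    field_simp
    have h4 : v₀ i₁ * (ψ j * ψ₀ j₁) = v₀ i₁ * (ψ j₁ * ψ₀ j) := by
      rw [← mul_assoc, ← mul_assoc]
      linear_combination h3
    exact mul_left_cancel₀ hv0 h4

theorem cls_card_fiber [Fintype F] [DecidableEq F] {p₀ : (ι → F) × (ι → F)} (hp₀ : p₀ ∈ clsT F ι) :
    ((clsT F ι).filter (fun p => clsF p = clsF p₀)).card = Fintype.card F - 1 := by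
  classical
  rw [mem_clsT] at hp₀
  obtain ⟨hv₀, hψ₀, hd₀⟩ := hp₀
  have hfib : (clsT F ι).filter (fun p => clsF p = clsF p₀) =
      (Finset.univ : Finset (Units F)).image (fun c : Units F => ((c : F) • p₀.1, ((c⁻¹ : Fˣ) : F) • p₀.2)) := by
    ext p
    rw [Finset.mem_filter, mem_clsT, Finset.mem_image]
    constructor
    · rintro ⟨⟨h1, h2, h3⟩, h4⟩
      have h5 : vecMulVec p.1 p.2 = vecMulVec p₀.1 p₀.2 := add_left_cancel h4
      obtain ⟨c, hc1, hc2⟩ := cls_rank_one_unique h1 h2 h5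
      exact ⟨c, Finset.mem_univ _, by rw [← hc1, ← hc2]⟩
    · rintro ⟨c, -, rfl⟩
      refine ⟨⟨smul_ne_zero c.ne_zero hv₀, smul_ne_zero (c⁻¹).ne_zero hψ₀, ?_⟩, ?_⟩
      · show (((c⁻¹ : Fˣ) : F) • p₀.2) ⬝ᵥ ((c : F) • p₀.1) = 0
        rw [smul_dotProduct, dotProduct_smul, hd₀, smul_zero, smul_zero]
      · show 1 + vecMulVec ((c : F) • p₀.1) (((c⁻¹ : Fˣ) : F) • p₀.2) = 1 + vecMulVec p₀.1 p₀.2
        congr 1
        ext i j
        rw [vecMulVec_apply, vecMulVec_apply, Pi.smul_apply, Pi.smul_apply, smul_eq_mul,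
          smul_eq_mul, mul_mul_mul_comm, Units.mul_inv, one_mul]
  rw [hfib, Finset.card_image_of_injective, Finset.card_univ, Fintype.card_units]
  intro c c' hcc
  obtain ⟨i₁, hi₁⟩ := cls_exists_ne hv₀
  have h1 := congrFun (congrArg Prod.fst hcc) i₁
  simp only [Pi.smul_apply, smul_eq_mul] at h1
  exact Units.ext (mul_right_cancel₀ hi₁ h1)

theorem card_clsT_image [Fintype F] [DecidableEq F] :
    ((clsT F ι).image clsF).card * (Fintype.card F - 1) = (clsT F ι).card := by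
  classical
  rw [Finset.card_eq_sum_card_image clsF (clsT F ι)]
  rw [Finset.sum_congr rfl (g := fun _ => Fintype.card F - 1), Finset.sum_const, smul_eq_mul]
  intro b hb
  obtain ⟨p₀, hp₀, rfl⟩ := Finset.mem_image.mp hb
  exact cls_card_fiber hp₀


theorem cls_conj_val (i₀ : ι) (φ : Phi F i₀) (g : Matrix.SpecialLinearGroup ι F) :
    (g * xPhi i₀ φ * g⁻¹).1 =
      clsF (g.1 *ᵥ (Pi.single i₀ 1 : ι → F), φ.1 ᵥ* (g⁻¹).1) := by
  have h1 : g.1 * (g⁻¹).1 = 1 := by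
    rw [← Matrix.SpecialLinearGroup.coe_mul, mul_inv_cancel, Matrix.SpecialLinearGroup.coe_one]
  show g.1 * (1 + vecMulVec (Pi.single i₀ 1) φ.1) * (g⁻¹).1 = 1 + vecMulVec _ _
  rw [mul_add, add_mul, mul_one, h1, mul_vecMulVec, vecMulVec_mul]

theorem cls_conj_mem [Fintype F] (i₀ : ι) (φ : Phi F i₀) (hφ : φ ≠ 0)
    (g : Matrix.SpecialLinearGroup ι F) :
    (g.1 *ᵥ (Pi.single i₀ 1 : ι → F), φ.1 ᵥ* (g⁻¹).1) ∈ clsT F ι := by
  have h1 : (g⁻¹).1 * g.1 = 1 := by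
    rw [← Matrix.SpecialLinearGroup.coe_mul, inv_mul_cancel, Matrix.SpecialLinearGroup.coe_one]
  rw [mem_clsT]
  refine ⟨?_, ?_, ?_⟩
  · intro h
    have h2 : (g⁻¹).1 *ᵥ (g.1 *ᵥ (Pi.single i₀ 1 : ι → F)) = Pi.single i₀ 1 := by
      rw [mulVec_mulVec, h1, one_mulVec]
    have h3 : (g.1 *ᵥ (Pi.single i₀ 1 : ι → F)) = 0 := h
    rw [h3, mulVec_zero] at h2
    have := congrFun h2 i₀
    rw [Pi.zero_apply, Pi.single_eq_same] at this
    exact zero_ne_one this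
  · intro h
    have h2 : (φ.1 ᵥ* (g⁻¹).1) ᵥ* g.1 = φ.1 := by
      rw [vecMul_vecMul, h1, vecMul_one]
    have h3 : φ.1 ᵥ* (g⁻¹).1 = 0 := h
    rw [h3, zero_vecMul] at h2
    exact hφ (Subtype.ext h2.symm)
  · show (φ.1 ᵥ* (g⁻¹).1) ⬝ᵥ (g.1 *ᵥ (Pi.single i₀ 1 : ι → F)) = 0
    rw [← dotProduct_mulVec, mulVec_mulVec, h1, one_mulVec, Phi_dotProduct_single]

theorem cls_det {p : (ι → F) × (ι → F)} (hp : p.2 ⬝ᵥ p.1 = 0) : (clsF p).det = 1 := by
  unfold clsF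
  rw [vecMulVec_eq Unit, det_one_add_replicateCol_mul_replicateRow, hp, add_zero]

/-- the conjugacy class of `xPhi i₀ φ`, as a set of matrices -/
theorem cls_image_eq [Fintype F] (hι : 3 ≤ Fintype.card ι) (i₀ : ι) (φ : Phi F i₀) (hφ : φ ≠ 0) :
    Subtype.val '' {x : Matrix.SpecialLinearGroup ι F | IsConj (xPhi i₀ φ) x} =
      clsF '' (clsT F ι : Set ((ι → F) × (ι → F))) := by
  ext M
  constructor
  · rintro ⟨x, hx, rfl⟩
    obtain ⟨g, hg⟩ := isConj_iff.mp hx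
    refine ⟨_, cls_conj_mem i₀ φ hφ g, ?_⟩
    rw [← cls_conj_val, hg]
  · rintro ⟨p, hp, rfl⟩
    have hp' := mem_clsT.mp (Finset.mem_coe.mp hp)
    refine ⟨⟨clsF p, cls_det hp'.2.2⟩, ?_, rfl⟩
    have he : (Pi.single i₀ 1 : ι → F) ≠ 0 := by
      intro h
      have := congrFun h i₀
      rw [Pi.zero_apply, Pi.single_eq_same] at this
      exact one_ne_zero this
    have hφ1 : φ.1 ≠ 0 := fun h => hφ (Subtype.ext h)
    exact isConj_of_vecMulVec hι (xPhi i₀ φ) ⟨clsF p, cls_det hp'.2.2⟩ (Pi.single i₀ 1) φ.1 p.1 p.2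
      he hφ1 (Phi_dotProduct_single i₀ φ) hp'.1 hp'.2.1 hp'.2.2 rfl rfl


theorem cls_index_eq {G : Type*} [Group G] (t : G) :
    (Subgroup.centralizer ({t} : Set G)).index = Set.ncard {x : G | IsConj t x} := by
  have h1 := Subgroup.index_comap_of_surjective (MulAction.stabilizer (ConjAct G) t)
    (f := (ConjAct.toConjAct (G := G)).toMonoidHom) (ConjAct.toConjAct (G := G)).surjective
  refine (congrArg Subgroup.index (Subgroup.centralizer_eq_comap_stabilizer t)).trans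
    (h1.trans ((MulAction.index_stabilizer (ConjAct G) t).trans ?_))
  congr 1
  ext x
  rw [ConjAct.mem_orbit_conjAct]
  exact isConj_comm

/-- PIECE CLASS. -/
theorem index_centralizer_xPhi [Fintype F] (hι : 3 ≤ Fintype.card ι) (i₀ : ι) (φ : Phi F i₀)
    (hφ : φ ≠ 0) :
    (Subgroup.centralizer ({xPhi i₀ φ} : Set (Matrix.SpecialLinearGroup ι F))).index *
        (Fintype.card F - 1) =
      (Fintype.card F ^ Fintype.card ι - 1) * (Fintype.card F ^ (Fintype.card ι - 1) - 1) := by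
  classical
  have h1 := Set.ncard_image_of_injective {x : Matrix.SpecialLinearGroup ι F | IsConj (xPhi i₀ φ) x}
    Subtype.val_injective
  have h2 : Set.ncard {x : Matrix.SpecialLinearGroup ι F | IsConj (xPhi i₀ φ) x} =
      Set.ncard (clsF '' (clsT F ι : Set ((ι → F) × (ι → F)))) := by
    rw [← cls_image_eq hι i₀ φ hφ]
    exact h1.symm
  rw [cls_index_eq, h2, ← Finset.coe_image, Set.ncard_coe_finset, card_clsT_image, card_clsT]

end Cfsg.Agent.Helper12.LSL
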