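import Mathlib
import Cfsg.Agent.Lib.Helper26.MHDefs

/-!
# S4221 (M. Hall) — piece P3A11 (helper7), dependency-free CORE: Case A with 11 fixed points gives `H = 1`
(section 4, "A11" of `plans/S4221_proof.md`).
-/

set_option autoImplicit false

namespace Cfsg.Agent.Helper26.MH

open MulAction Cfsg.Agent.Helper22.SharpFour

namespace P3A11

section gen

variable {G : Type*} [Group G] {α : Type*} [MulAction G α]

theorem conj_smul (g t : G) (x : α) : (g * t * g⁻¹) • (g • x) = g • (t • x) := by
  rw [← mul_smul, inv_mul_cancel_right, mul_smul]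

theorem conj_mem_St4 {g x : G} {p q r s : α} (hx : x ∈ St4 G p q r s) :
    g * x * g⁻¹ ∈ St4 G (g • p) (g • q) (g • r) (g • s) := by
  rw [mem_St4] at hx ⊢
  obtain ⟨h1, h2, h3, h4⟩ := hx
  refine ⟨?_, ?_, ?_, ?_⟩
  · rw [conj_smul, h1]
  · rw [conj_smul, h2]
  · rw [conj_smul, h3]
  · rw [conj_smul, h4]

/-- an element mapping the 4-set onto itself (as the listed permutation) normalizes `St4` -/
theorem mem_normalizer_of_perm {t : G} {p q r s : α}
    (hperm : St4 G (t • p) (t • q) (t • r) (t • s) = St4 G p q r s)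
    (hperm' : St4 G (t⁻¹ • p) (t⁻¹ • q) (t⁻¹ • r) (t⁻¹ • s) = St4 G p q r s) :
    t ∈ Subgroup.normalizer (St4 G p q r s : Set G) := by
  rw [Subgroup.mem_normalizer_iff]
  intro x
  constructor
  · intro hx
    have := conj_mem_St4 (g := t) hx
    rwa [hperm] at this
  · intro hx
    have := conj_mem_St4 (g := t⁻¹) hx
    rw [hperm'] at this
    have e : t⁻¹ * (t * x * t⁻¹) * t⁻¹⁻¹ = x := by group
    rwa [e] at this

theorem St4_swap12 (p q r s : α) : St4 G q p r s = St4 G p q r s := by
  ext x; simp only [mem_St4]; tauto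

theorem St4_swap34 (p q r s : α) : St4 G p q s r = St4 G p q r s := by
  ext x; simp only [mem_St4]; tauto

theorem inv_eq_self {t : G} (ht : IsInv t) : t⁻¹ = t := inv_eq_of_mul_eq_one_left ht.1

theorem tyA_mem_normalizer {t : G} (ht : IsInv t) {p q r s : α} (hA : TyA t p q r s) :
    t ∈ Subgroup.normalizer (St4 G p q r s : Set G) := by
  obtain ⟨h1, h2, h3, h4⟩ := hA
  apply mem_normalizer_of_perm
  · rw [h1, h2, h3, h4, St4_swap12]
  · rw [inv_eq_self ht, h1, h2, h3, h4, St4_swap12]

theorem tyC_mem_normalizer {t : G} (ht : IsInv t) {p q r s : α} (hC : TyC t p q r s) :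
    t ∈ Subgroup.normalizer (St4 G p q r s : Set G) := by
  obtain ⟨h1, h2, h3, h4⟩ := hC
  apply mem_normalizer_of_perm
  · rw [h1, h2, h3, h4, St4_swap12, St4_swap34]
  · rw [inv_eq_self ht, h1, h2, h3, h4, St4_swap12, St4_swap34]

end gen

variable {G : Type*} [Group G] [Finite G] {α : Type*} [Fintype α] [DecidableEq α] [MulAction G α]

/-- core of `caseA_eleven`: the three needed instances of `card_fix_in_eq`, `St4_eq_of_fixed`, `star` are hypotheses -/
theorem caseA_eleven_core (h : Hall G α) (h8 : 8 ≤ Fintype.card α)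
    (hphi : ∀ t : G, IsInv t → (fixF α t).card = 3) {p q r s : α} {a c : G} (hV : VData p q r s a c)
    {w k k' : α} (hO : Omega3 p q r s a c w k k') (hfix : ∀ g ∈ St4 G p q r s, g • w = w)
    (hcard : Nat.card (Phi α (St4 G p q r s)) = 11)
    (hcntH : a ∈ Subgroup.normalizer (St4 G p q r s : Set G) →
      c ∈ Subgroup.normalizer (St4 G p q r s : Set G) →
      Nat.card {x : α // a • x = x ∧ x ∈ Phi α (St4 G p q r s)} =
        Nat.card {x : α // c • x = x ∧ x ∈ Phi α (St4 G p q r s)})
    (hStH : D4 p q k k' → k ∈ Phi α (St4 G p q r s) → k' ∈ Phi α (St4 G p q r s) →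
      St4 G p q k k' = St4 G p q r s)
    (hstarH : a • r = r → a • s = s → r ≠ s → a • p ≠ p → a • k ≠ k → k ≠ p → k ≠ a • p →
      (fixF α a).card * ((fixF α a).card - 1) * Nat.card (cen (St4 G p (a • p) r s) a) =
        (Fintype.card α - (fixF α a).card - 2) * Nat.card (cen (St4 G p (a • p) k (a • k)) a)) :
    St4 G p q r s = ⊥ := by
  classical
  have hd := hV.d
  obtain ⟨ha1, ha2, ha3, ha4⟩ := hV.ta
  obtain ⟨hc1, hc2, hc3, hc4⟩ := hV.tc
  -- distinctness
  have hrw : r ≠ w := by
    intro e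
    apply hd.cd
    have : c • r = c • w := by rw [e]
    rw [hc3, hO.cw] at this
    rw [e, this]
  have hsw : s ≠ w := by
    intro e
    apply hd.cd
    have : c • s = c • w := by rw [e]
    rw [hc4, hO.cw] at this
    rw [e, this]
  -- r, s, w ∈ Phi0
  have hrP : r ∈ Phi α (St4 G p q r s) := fun g hg => (mem_St4.mp hg).2.2.1
  have hsP : s ∈ Phi α (St4 G p q r s) := fun g hg => (mem_St4.mp hg).2.2.2
  have hpP : p ∈ Phi α (St4 G p q r s) := fun g hg => (mem_St4.mp hg).1
  have hqP : q ∈ Phi α (St4 G p q r s) := fun g hg => (mem_St4.mp hg).2.1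
  have hwP : w ∈ Phi α (St4 G p q r s) := hfix
  -- counting fixed points inside Phi0
  have hcnt := hcntH (tyA_mem_normalizer hV.ia hV.ta) (tyC_mem_normalizer hV.ic hV.tc)
  rw [Nat.card_eq_fintype_card, Nat.card_eq_fintype_card, Fintype.card_subtype,
    Fintype.card_subtype] at hcnt
  have hA3 : 3 ≤ (Finset.univ.filter (fun x : α => a • x = x ∧ x ∈ Phi α (St4 G p q r s))).card := by
    have hsub : ({r, s, w} : Finset α) ⊆
        Finset.univ.filter (fun x : α => a • x = x ∧ x ∈ Phi α (St4 G p q r s)) := by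
      intro x hx
      simp only [Finset.mem_insert, Finset.mem_singleton] at hx
      simp only [Finset.mem_filter, Finset.mem_univ, true_and]
      rcases hx with rfl | rfl | rfl
      · exact ⟨ha3, hrP⟩
      · exact ⟨ha4, hsP⟩
      · exact ⟨hO.aw, hwP⟩
    have h3 : ({r, s, w} : Finset α).card = 3 := by
      rw [Finset.card_insert_of_notMem, Finset.card_insert_of_notMem, Finset.card_singleton]
      · simpa using hsw
      · simp only [Finset.mem_insert, Finset.mem_singleton, not_or]
        exact ⟨hd.cd, hrw⟩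
    calc 3 = ({r, s, w} : Finset α).card := h3.symm
      _ ≤ _ := Finset.card_le_card hsub
  have hCsub : Finset.univ.filter (fun x : α => c • x = x ∧ x ∈ Phi α (St4 G p q r s)) ⊆
      ({w, k, k'} : Finset α) := by
    intro x hx
    simp only [Finset.mem_filter, Finset.mem_univ, true_and] at hx
    simp only [Finset.mem_insert, Finset.mem_singleton]
    exact hO.fc x hx.1
  have hCle : ({w, k, k'} : Finset α).card ≤ 3 := Finset.card_le_three
  have hCeq : Finset.univ.filter (fun x : α => c • x = x ∧ x ∈ Phi α (St4 G p q r s)) =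
      ({w, k, k'} : Finset α) :=
    Finset.eq_of_subset_of_card_le hCsub (by rw [← hcnt]; omega)
  have hkP : k ∈ Phi α (St4 G p q r s) := by
    have : k ∈ Finset.univ.filter (fun x : α => c • x = x ∧ x ∈ Phi α (St4 G p q r s)) := by
      rw [hCeq]; simp
    exact (Finset.mem_filter.mp this).2.2
  have hk'P : k' ∈ Phi α (St4 G p q r s) := by
    have : k' ∈ Finset.univ.filter (fun x : α => c • x = x ∧ x ∈ Phi α (St4 G p q r s)) := by
      rw [hCeq]; simp
    exact (Finset.mem_filter.mp this).2.2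
  -- the 4-set {p,q,k,k'}
  have hpq_ne_fix : ∀ x : α, c • x = x → p ≠ x ∧ q ≠ x := by
    intro x hx
    constructor
    · intro e
      apply hd.ab
      have : c • p = c • x := by rw [e]
      rw [hc1, hx] at this
      rw [this, e]
    · intro e
      apply hd.ab
      have : c • q = c • x := by rw [e]
      rw [hc2, hx] at this
      rw [this, e]
  have hd2 : D4 p q k k' :=
    ⟨hd.ab, (hpq_ne_fix k hO.ck).1, (hpq_ne_fix k' hO.ck').1, (hpq_ne_fix k hO.ck).2,
      (hpq_ne_fix k' hO.ck').2, hO.kk'⟩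
  have hSt : St4 G p q k k' = St4 G p q r s := hStH hd2 hkP hk'P
  -- the relation (*)
  have hak' : a • k' = k := by
    rw [← hO.ak, ← mul_smul, hV.ia.1, one_smul]
  have hstar := hstarH ha3 ha4 hd.cd
    (by rw [ha1]; exact hd.ab.symm) (by rw [hO.ak]; exact hO.kk'.symm)
    (hpq_ne_fix k hO.ck).1.symm (by rw [ha1]; exact (hpq_ne_fix k hO.ck).2.symm)
  rw [ha1, hO.ak, hphi a hV.ia, hSt] at hstar
  have hpos : 0 < Nat.card (cen (St4 G p q r s) a) := Nat.card_pos
  have hn : Fintype.card α = 11 := by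
    have : 3 * (3 - 1) = Fintype.card α - 3 - 2 := Nat.eq_of_mul_eq_mul_right hpos hstar
    omega
  -- Phi0 is everything
  have huniv : Phi α (St4 G p q r s) = Set.univ := by
    rw [Set.eq_univ_iff_ncard, ← Nat.card_coe_set_eq, hcard, Nat.card_eq_fintype_card, hn]
  rw [Subgroup.eq_bot_iff_forall]
  intro g hg
  apply h.faithful
  intro x
  have : x ∈ Phi α (St4 G p q r s) := by rw [huniv]; trivial
  exact this g hg

end P3A11

end Cfsg.Agent.Helper26.MH
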