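import Mathlib
import Cfsg.Agent.Lib.Helper26.MHDefs
import Cfsg.Agent.Lib.Helper7.MHP3A11Core
import Cfsg.Agent.Lib.Helper1.MHWITT
import Cfsg.Agent.Lib.Helper1.MHSTAR

/-!
# S4221 (M. Hall) — piece P3A11 (helper7): Case A with 11 fixed points gives `H = 1`
(section 4, "A11" of `plans/S4221_proof.md`).  The proof is in `MHP3A11Core`.
-/

set_option autoImplicit false

namespace Cfsg.Agent.Helper26.MH

open MulAction Cfsg.Agent.Helper22.SharpFour

variable {G : Type*} [Group G] [Finite G] {α : Type*} [Fintype α] [DecidableEq α] [MulAction G α]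

theorem caseA_eleven (h : Hall G α) (h8 : 8 ≤ Fintype.card α)
    (hphi : ∀ t : G, IsInv t → (fixF α t).card = 3) {p q r s : α} {a c : G} (hV : VData p q r s a c)
    {w k k' : α} (hO : Omega3 p q r s a c w k k') (hfix : ∀ g ∈ St4 G p q r s, g • w = w)
    (hcard : Nat.card (Phi α (St4 G p q r s)) = 11) : St4 G p q r s = ⊥ := by
  refine P3A11.caseA_eleven_core h h8 hphi hV hO hfix hcard ?_ ?_ ?_
  · intro haN hcN
    exact card_fix_in_eq h hV.d (by omega) hV.ia hV.ic haN hcN
  · intro hd2 hk hk'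
    exact St4_eq_of_fixed h hV.d hd2 (fun g hg => (mem_St4.mp hg).1) (fun g hg => (mem_St4.mp hg).2.1)
      hk hk'
  · intro h1 h2 h3 h4 h5 h6 h7
    exact star h h8 hV.ia h1 h2 h3 h4 h5 h6 h7

end Cfsg.Agent.Helper26.MH
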