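import Mathlib
import Cfsg.Agent.Lib.Helper12.MinIdxDefs
import Cfsg.Agent.Lib.Helper20.LSLGEOM

/-!
# S2140 piece CONN (helper7): the row/column groups are connected through elementary transvections
-/

set_option autoImplicit false

namespace Cfsg.Agent.Helper12.MinIdx

open Matrix Cfsg.Agent.Helper12 Cfsg.Agent.Helper12.LSL

variable {F : Type*} [Field F] {ι : Type*} [Fintype ι] [DecidableEq ι]

theorem conn_transvection_ne_one {i j : ι} (h : i ≠ j) :
    Matrix.SpecialLinearGroup.transvection h (1 : F) ≠ 1 := by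
  obtain ⟨φ, hφ, hφ'⟩ := transvection_eq_xPhi (F := F) h 1
  rw [hφ]
  apply xPhi_ne_one
  intro h0
  have h1 : φ.1 j = 0 := by rw [h0]; rfl
  rw [hφ'] at h1
  simp at h1

theorem conn {Ω : Type*} [MulAction (Matrix.SpecialLinearGroup ι F) Ω]
    [MulAction.IsPretransitive (Matrix.SpecialLinearGroup ι F) Ω] [Nontrivial Ω]
    (hι : 3 ≤ Fintype.card ι)
    (hrow : ∀ (i : ι) (ω : Ω),
      rowGrp F i ⊓ MulAction.stabilizer (Matrix.SpecialLinearGroup ι F) ω = ⊥ ∨
        rowGrp F i ≤ MulAction.stabilizer (Matrix.SpecialLinearGroup ι F) ω)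
    (hcol : ∀ (j : ι) (ω : Ω),
      colGrp F j ⊓ MulAction.stabilizer (Matrix.SpecialLinearGroup ι F) ω = ⊥ ∨
        colGrp F j ≤ MulAction.stabilizer (Matrix.SpecialLinearGroup ι F) ω) :
    (∀ (i : ι) (ω : Ω),
      rowGrp F i ⊓ MulAction.stabilizer (Matrix.SpecialLinearGroup ι F) ω = ⊥) ∧
    (∀ (j : ι) (ω : Ω),
      colGrp F j ⊓ MulAction.stabilizer (Matrix.SpecialLinearGroup ι F) ω = ⊥) := by
  classical
  -- row to column
  have hRC : ∀ (ω : Ω) (i j : ι), i ≠ j →
      rowGrp F i ≤ MulAction.stabilizer (Matrix.SpecialLinearGroup ι F) ω →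
      colGrp F j ≤ MulAction.stabilizer (Matrix.SpecialLinearGroup ι F) ω := by
    intro ω i j hij hle
    rcases hcol j ω with h0 | h1
    · exfalso
      have hmem : Matrix.SpecialLinearGroup.transvection hij (1 : F) ∈
          colGrp F j ⊓ MulAction.stabilizer (Matrix.SpecialLinearGroup ι F) ω :=
        ⟨transvection_mem_colGrp hij 1, hle (transvection_mem_rowGrp hij 1)⟩
      rw [h0, Subgroup.mem_bot] at hmem
      exact conn_transvection_ne_one hij hmem
    · exact h1
  have hCR : ∀ (ω : Ω) (j k : ι), k ≠ j →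
      colGrp F j ≤ MulAction.stabilizer (Matrix.SpecialLinearGroup ι F) ω →
      rowGrp F k ≤ MulAction.stabilizer (Matrix.SpecialLinearGroup ι F) ω := by
    intro ω j k hkj hle
    rcases hrow k ω with h0 | h1
    · exfalso
      have hmem : Matrix.SpecialLinearGroup.transvection hkj (1 : F) ∈
          rowGrp F k ⊓ MulAction.stabilizer (Matrix.SpecialLinearGroup ι F) ω :=
        ⟨transvection_mem_rowGrp hkj 1, hle (transvection_mem_colGrp hkj 1)⟩
      rw [h0, Subgroup.mem_bot] at hmem
      exact conn_transvection_ne_one hkj hmem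
    · exact h1
  -- two further indices
  have hex : ∀ a b : ι, ∃ c : ι, c ≠ a ∧ c ≠ b := by
    intro a b
    by_contra hcon
    push Not at hcon
    have hsub : (Finset.univ : Finset ι) ⊆ {a, b} := by
      intro c _
      by_cases hca : c = a
      · simp [hca]
      · simp [hcon c hca]
    have h1 := Finset.card_le_card hsub
    have h2 : ({a, b} : Finset ι).card ≤ 2 := Finset.card_le_two
    rw [Finset.card_univ] at h1
    omega
  -- a stabilizer containing one row group is everything
  have hall_of_row : ∀ (ω : Ω) (i : ι),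
      rowGrp F i ≤ MulAction.stabilizer (Matrix.SpecialLinearGroup ι F) ω →
      MulAction.stabilizer (Matrix.SpecialLinearGroup ι F) ω = ⊤ := by
    intro ω i hle
    obtain ⟨j, hji, -⟩ := hex i i
    obtain ⟨j', hj'i, hj'j⟩ := hex i j
    have hcj := hRC ω i j hji.symm hle
    have hcj' := hRC ω i j' hj'i.symm hle
    have hrows : ∀ k : ι, rowGrp F k ≤ MulAction.stabilizer (Matrix.SpecialLinearGroup ι F) ω := by
      intro k
      by_cases hkj : k = j
      · subst hkj
        exact hCR ω j' k hj'j.symm hcj'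
      · exact hCR ω j k hkj hcj
    have hcols : ∀ l : ι, colGrp F l ≤ MulAction.stabilizer (Matrix.SpecialLinearGroup ι F) ω := by
      intro l
      obtain ⟨k, hkl, -⟩ := hex l l
      exact hRC ω k l hkl (hrows k)
    exact eq_top_of_xPhi_yPhi i _ (fun φ => hrows i (xPhi_mem_rowGrp i φ))
      (fun b => hcols i (yPhi_mem_colGrp i b))
  have hall_of_col : ∀ (ω : Ω) (j : ι),
      colGrp F j ≤ MulAction.stabilizer (Matrix.SpecialLinearGroup ι F) ω →
      MulAction.stabilizer (Matrix.SpecialLinearGroup ι F) ω = ⊤ := by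
    intro ω j hle
    obtain ⟨k, hkj, -⟩ := hex j j
    exact hall_of_row ω k (hCR ω j k hkj hle)
  have hno : ∀ ω : Ω, MulAction.stabilizer (Matrix.SpecialLinearGroup ι F) ω ≠ ⊤ := by
    intro ω htop
    obtain ⟨ω', hω'⟩ := exists_ne ω
    obtain ⟨g, hg⟩ := MulAction.exists_smul_eq (Matrix.SpecialLinearGroup ι F) ω ω'
    have hgm : g ∈ MulAction.stabilizer (Matrix.SpecialLinearGroup ι F) ω := by
      rw [htop]; exact Subgroup.mem_top g
    rw [MulAction.mem_stabilizer_iff] at hgm
    exact hω' (hg.symm.trans hgm)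
  constructor
  · intro i ω
    rcases hrow i ω with h0 | h1
    · exact h0
    · exact absurd (hall_of_row ω i h1) (hno ω)
  · intro j ω
    rcases hcol j ω with h0 | h1
    · exact h0
    · exact absurd (hall_of_col ω j h1) (hno ω)

end Cfsg.Agent.Helper12.MinIdx
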