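import Mathlib
import Cfsg.Agent.Lib.Helper12.MinIdxDefs

/-!
# S2140 piece KILL3 (helper7): the regular case dies for `n = 3` in characteristic `2`
-/

set_option autoImplicit false

namespace Cfsg.Agent.Helper12.MinIdx

open Matrix Cfsg.Agent.Helper12 Cfsg.Agent.Helper12.LSL

variable {F : Type*} [Field F] {ι : Type*} [Fintype ι] [DecidableEq ι]

/-- the action of `h = (xPhi i φ)⁻¹ * transvection j k 1` -/
theorem kill3_smul (i j k : ι) (hjk : j ≠ k) (φ : Phi F i) (v : ι → F) :
    (xPhi i (-φ) * Matrix.SpecialLinearGroup.transvection hjk (1 : F)) • v =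
      v + v k • (Pi.single j 1 : ι → F) -
        (φ.1 ⬝ᵥ v + v k * φ.1 j) • (Pi.single i 1 : ι → F) := by
  rw [mul_smul, transvection_smul, xPhi_smul, Submodule.coe_neg, neg_dotProduct, dotProduct_add,
    dotProduct_smul, dotProduct_single_one, one_mul, smul_eq_mul, neg_smul]
  abel

theorem kill3 {Ω : Type*} [MulAction (Matrix.SpecialLinearGroup ι F) Ω] (h2 : (2 : F) = 0)
    (i j k : ι) (hij : i ≠ j) (hik : i ≠ k) (hjk : j ≠ k) (hall : ∀ l : ι, l = i ∨ l = j ∨ l = k)
    (ω : Ω)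
    (htrans : ∀ g : Matrix.SpecialLinearGroup ι F, ∃ a ∈ rowGrp F i, g • ω = a • ω)
    (hrow : rowGrp F i ⊓ MulAction.stabilizer (Matrix.SpecialLinearGroup ι F) ω = ⊥)
    (hcol : colGrp F k ⊓ MulAction.stabilizer (Matrix.SpecialLinearGroup ι F) ω = ⊥) : False := by
  obtain ⟨a, ⟨φ, rfl⟩, ha⟩ := htrans (Matrix.SpecialLinearGroup.transvection hjk (1 : F))
  set h : Matrix.SpecialLinearGroup ι F :=
    xPhi i (-φ) * Matrix.SpecialLinearGroup.transvection hjk (1 : F) with hh
  have hstab : h ∈ MulAction.stabilizer (Matrix.SpecialLinearGroup ι F) ω := by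
    rw [MulAction.mem_stabilizer_iff, hh, mul_smul, ha, xPhi_neg, inv_smul_smul]
  have hv := kill3_smul i j k hjk φ
  have hEjk : (Pi.single j 1 : ι → F) k = 0 := Pi.single_eq_of_ne hjk.symm 1
  have hEik : (Pi.single i 1 : ι → F) k = 0 := Pi.single_eq_of_ne hik.symm 1
  have hφi : φ.1 i = 0 := Phi_apply i φ
  -- `h * h` is a transvection in the row group
  have hsq : h * h = Matrix.SpecialLinearGroup.transvection hik (φ.1 j) := by
    apply SL_ext_smul
    intro v
    rw [mul_smul, hv (h • v), hv v, transvection_smul]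
    have e1 : (v + v k • (Pi.single j 1 : ι → F) -
        (φ.1 ⬝ᵥ v + v k * φ.1 j) • (Pi.single i 1 : ι → F)) k = v k := by
      simp [hEjk, hEik]
    have e2 : φ.1 ⬝ᵥ (v + v k • (Pi.single j 1 : ι → F) -
        (φ.1 ⬝ᵥ v + v k * φ.1 j) • (Pi.single i 1 : ι → F)) = φ.1 ⬝ᵥ v + v k * φ.1 j := by
      rw [dotProduct_sub, dotProduct_add, dotProduct_smul, dotProduct_smul, dotProduct_single_one,
        dotProduct_single_one, hφi, smul_eq_mul, smul_eq_mul, mul_zero, sub_zero]
    rw [e1, e2]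
    funext l
    simp only [Pi.add_apply, Pi.sub_apply, Pi.smul_apply, smul_eq_mul]
    linear_combination (v k * (Pi.single j 1 : ι → F) l -
      (φ.1 ⬝ᵥ v + v k * φ.1 j + v k * φ.1 j) * (Pi.single i 1 : ι → F) l) * h2
  have hφj : φ.1 j = 0 := by
    by_contra hne
    have hmem : Matrix.SpecialLinearGroup.transvection hik (φ.1 j) ∈
        rowGrp F i ⊓ MulAction.stabilizer (Matrix.SpecialLinearGroup ι F) ω := by
      refine ⟨transvection_mem_rowGrp hik _, ?_⟩
      rw [← hsq]
      exact Subgroup.mul_mem _ hstab hstab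
    rw [hrow, Subgroup.mem_bot] at hmem
    obtain ⟨ψ, hψ, hψ'⟩ := transvection_eq_xPhi (F := F) hik (φ.1 j)
    rw [hψ] at hmem
    refine xPhi_ne_one i ?_ hmem
    intro h0
    have h1 : ψ.1 k = 0 := by rw [h0]; rfl
    rw [hψ'] at h1
    simp at h1
    exact hne h1
  -- now `h` lies in the column group
  have hbmem : (Pi.single j 1 : ι → F) - φ.1 k • (Pi.single i 1 : ι → F) ∈ Phi F k := by
    rw [mem_Phi_iff]
    simp [hEjk, hEik]
  have hdot : ∀ v : ι → F, φ.1 ⬝ᵥ v = φ.1 k * v k := by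
    intro v
    unfold dotProduct
    refine Finset.sum_eq_single k (fun l _ hl => ?_) (by simp)
    rcases hall l with rfl | rfl | rfl
    · rw [hφi, zero_mul]
    · rw [hφj, zero_mul]
    · exact absurd rfl hl
  have hy : h = yPhi k ⟨_, hbmem⟩ := by
    apply SL_ext_smul
    intro v
    rw [hv v, yPhi_smul, hφj, mul_zero, add_zero, hdot v]
    funext l
    simp only [Pi.add_apply, Pi.sub_apply, Pi.smul_apply, smul_eq_mul]
    ring
  have hmem : h ∈ colGrp F k ⊓ MulAction.stabilizer (Matrix.SpecialLinearGroup ι F) ω :=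
    ⟨hy ▸ yPhi_mem_colGrp k _, hstab⟩
  rw [hcol, Subgroup.mem_bot, hy] at hmem
  refine yPhi_ne_one k ?_ hmem
  intro h0
  have h1 : ((Pi.single j 1 : ι → F) - φ.1 k • (Pi.single i 1 : ι → F)) j = 0 := by
    have := congrArg (fun b : Phi F k => b.1 j) h0
    exact this
  simp [Pi.single_eq_of_ne hij.symm] at h1

end Cfsg.Agent.Helper12.MinIdx
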