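import Mathlib
import Cfsg.Agent.Lib.Helper12.MinIdxDefs

/-!
# S2140 piece KILL4 (helper7): the regular case dies for `n = 4` in characteristic `≠ 2`
-/

set_option autoImplicit false

namespace Cfsg.Agent.Helper12.MinIdx

open Matrix Cfsg.Agent.Helper12 Cfsg.Agent.Helper12.LSL

variable {F : Type*} [Field F]

theorem kill4_h12 : (1 : Fin 4) ≠ 2 := by decide
theorem kill4_h23 : (2 : Fin 4) ≠ 3 := by decide
theorem kill4_h03 : (0 : Fin 4) ≠ 3 := by decide

/-- `g₁ = (xPhi 0 α)⁻¹ * t₁₂` -/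
noncomputable def kill4G1 (α : Phi F (0 : Fin 4)) : Matrix.SpecialLinearGroup (Fin 4) F :=
  xPhi 0 (-α) * Matrix.SpecialLinearGroup.transvection kill4_h12 (1 : F)

/-- `g₁⁻¹` -/
noncomputable def kill4G1' (α : Phi F (0 : Fin 4)) : Matrix.SpecialLinearGroup (Fin 4) F :=
  Matrix.SpecialLinearGroup.transvection kill4_h12 (-1 : F) * xPhi 0 α

/-- `g₂ = (xPhi 0 β)⁻¹ * t₂₃` -/
noncomputable def kill4G2 (β : Phi F (0 : Fin 4)) : Matrix.SpecialLinearGroup (Fin 4) F :=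
  xPhi 0 (-β) * Matrix.SpecialLinearGroup.transvection kill4_h23 (1 : F)

/-- `g₂⁻¹` -/
noncomputable def kill4G2' (β : Phi F (0 : Fin 4)) : Matrix.SpecialLinearGroup (Fin 4) F :=
  Matrix.SpecialLinearGroup.transvection kill4_h23 (-1 : F) * xPhi 0 β

theorem kill4_G1_smul (α : Phi F (0 : Fin 4)) (v : Fin 4 → F) :
    kill4G1 α • v =
      ![v 0 - α.1 1 * v 1 - (α.1 1 + α.1 2) * v 2 - α.1 3 * v 3, v 1 + v 2, v 2, v 3] := by
  have h0 : α.1 0 = 0 := Phi_apply 0 α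
  unfold kill4G1
  rw [mul_smul, transvection_smul, xPhi_smul]
  funext l
  fin_cases l <;>
    simp [dotProduct, Fin.sum_univ_four, h0, Pi.single_apply] <;> ring

theorem kill4_G1'_smul (α : Phi F (0 : Fin 4)) (v : Fin 4 → F) :
    kill4G1' α • v =
      ![v 0 + α.1 1 * v 1 + α.1 2 * v 2 + α.1 3 * v 3, v 1 - v 2, v 2, v 3] := by
  have h0 : α.1 0 = 0 := Phi_apply 0 α
  unfold kill4G1'
  rw [mul_smul, xPhi_smul, transvection_smul]
  funext l
  fin_cases l <;>
    simp [dotProduct, Fin.sum_univ_four, h0, Pi.single_apply] <;> ring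

theorem kill4_G2_smul (β : Phi F (0 : Fin 4)) (v : Fin 4 → F) :
    kill4G2 β • v =
      ![v 0 - β.1 1 * v 1 - β.1 2 * v 2 - (β.1 2 + β.1 3) * v 3, v 1, v 2 + v 3, v 3] := by
  have h0 : β.1 0 = 0 := Phi_apply 0 β
  unfold kill4G2
  rw [mul_smul, transvection_smul, xPhi_smul]
  funext l
  fin_cases l <;>
    simp [dotProduct, Fin.sum_univ_four, h0, Pi.single_apply] <;> ring

theorem kill4_G2'_smul (β : Phi F (0 : Fin 4)) (v : Fin 4 → F) :
    kill4G2' β • v =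
      ![v 0 + β.1 1 * v 1 + β.1 2 * v 2 + β.1 3 * v 3, v 1, v 2 - v 3, v 3] := by
  have h0 : β.1 0 = 0 := Phi_apply 0 β
  unfold kill4G2'
  rw [mul_smul, xPhi_smul, transvection_smul]
  funext l
  fin_cases l <;>
    simp [dotProduct, Fin.sum_univ_four, h0, Pi.single_apply] <;> ring

theorem kill4_G1_inv (α : Phi F (0 : Fin 4)) : kill4G1 α * kill4G1' α = 1 := by
  apply SL_ext_smul
  intro v
  rw [mul_smul, kill4_G1'_smul, kill4_G1_smul, one_smul]
  funext l
  fin_cases l <;> simp <;> ring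

theorem kill4_G2_inv (β : Phi F (0 : Fin 4)) : kill4G2 β * kill4G2' β = 1 := by
  apply SL_ext_smul
  intro v
  rw [mul_smul, kill4_G2'_smul, kill4_G2_smul, one_smul]
  funext l
  fin_cases l <;> simp <;> ring

/-- the commutator `c = g₁ g₂ g₁⁻¹ g₂⁻¹` -/
noncomputable def kill4C (α β : Phi F (0 : Fin 4)) : Matrix.SpecialLinearGroup (Fin 4) F :=
  kill4G1 α * kill4G2 β * kill4G1' α * kill4G2' β

theorem kill4_C_smul (α β : Phi F (0 : Fin 4)) (v : Fin 4 → F) :
    kill4C α β • v =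
      ![v 0 + β.1 1 * v 2 - (α.1 1 + α.1 2 + β.1 1) * v 3, v 1 + v 3, v 2, v 3] := by
  unfold kill4C
  rw [mul_smul, mul_smul, mul_smul, kill4_G2'_smul, kill4_G1'_smul, kill4_G2_smul, kill4_G1_smul]
  funext l
  fin_cases l <;> simp <;> ring

theorem kill4_comm (α β : Phi F (0 : Fin 4)) :
    kill4C α β * kill4G2 β = kill4G2 β * kill4C α β *
      Matrix.SpecialLinearGroup.transvection kill4_h03 (2 * β.1 1) := by
  apply SL_ext_smul
  intro v
  rw [mul_smul, mul_smul, mul_smul, kill4_G2_smul, kill4_C_smul, transvection_smul, kill4_C_smul,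
    kill4_G2_smul]
  funext l
  fin_cases l <;> simp [Pi.single_apply] <;> ring

theorem kill4_transvection_ne_one {i j : Fin 4} (h : i ≠ j) {c : F} (hc : c ≠ 0) :
    Matrix.SpecialLinearGroup.transvection h c ≠ 1 := by
  obtain ⟨φ, hφ, hφ'⟩ := transvection_eq_xPhi (F := F) h c
  rw [hφ]
  apply xPhi_ne_one
  intro h0
  have h1 : φ.1 j = 0 := by rw [h0]; rfl
  rw [hφ'] at h1
  simp at h1
  exact hc h1

theorem kill4 {Ω : Type*} [MulAction (Matrix.SpecialLinearGroup (Fin 4) F) Ω] (h2 : (2 : F) ≠ 0)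
    (ω : Ω)
    (htrans : ∀ g : Matrix.SpecialLinearGroup (Fin 4) F, ∃ a ∈ rowGrp F (0 : Fin 4), g • ω = a • ω)
    (hrow : rowGrp F (0 : Fin 4) ⊓
      MulAction.stabilizer (Matrix.SpecialLinearGroup (Fin 4) F) ω = ⊥)
    (hcol : colGrp F (3 : Fin 4) ⊓
      MulAction.stabilizer (Matrix.SpecialLinearGroup (Fin 4) F) ω = ⊥) : False := by
  obtain ⟨a₁, ⟨α, rfl⟩, ha₁⟩ := htrans (Matrix.SpecialLinearGroup.transvection kill4_h12 (1 : F))
  obtain ⟨a₂, ⟨β, rfl⟩, ha₂⟩ := htrans (Matrix.SpecialLinearGroup.transvection kill4_h23 (1 : F))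
  set S := MulAction.stabilizer (Matrix.SpecialLinearGroup (Fin 4) F) ω with hS
  have hg₁ : kill4G1 α ∈ S := by
    rw [hS, MulAction.mem_stabilizer_iff]
    unfold kill4G1
    rw [mul_smul, ha₁, xPhi_neg, inv_smul_smul]
  have hg₂ : kill4G2 β ∈ S := by
    rw [hS, MulAction.mem_stabilizer_iff]
    unfold kill4G2
    rw [mul_smul, ha₂, xPhi_neg, inv_smul_smul]
  have hg₁' : kill4G1' α ∈ S := by
    have : kill4G1' α = (kill4G1 α)⁻¹ := (inv_eq_of_mul_eq_one_right (kill4_G1_inv α)).symm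
    rw [this]; exact S.inv_mem hg₁
  have hg₂' : kill4G2' β ∈ S := by
    have : kill4G2' β = (kill4G2 β)⁻¹ := (inv_eq_of_mul_eq_one_right (kill4_G2_inv β)).symm
    rw [this]; exact S.inv_mem hg₂
  have hc : kill4C α β ∈ S := S.mul_mem (S.mul_mem (S.mul_mem hg₁ hg₂) hg₁') hg₂'
  -- `β₁ = 0`
  have hβ : β.1 1 = 0 := by
    by_contra hne
    have hmem : Matrix.SpecialLinearGroup.transvection kill4_h03 (2 * β.1 1) ∈
        rowGrp F (0 : Fin 4) ⊓ S := by
      refine ⟨transvection_mem_rowGrp kill4_h03 _, ?_⟩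
      have e : Matrix.SpecialLinearGroup.transvection kill4_h03 (2 * β.1 1) =
          (kill4G2 β * kill4C α β)⁻¹ * (kill4C α β * kill4G2 β) := by
        rw [kill4_comm α β]; group
      rw [e]
      exact S.mul_mem (S.inv_mem (S.mul_mem hg₂ hc)) (S.mul_mem hc hg₂)
    rw [hrow, Subgroup.mem_bot] at hmem
    exact kill4_transvection_ne_one kill4_h03 (mul_ne_zero h2 hne) hmem
  -- `c` lies in the column group
  have hbmem : (Pi.single 1 1 : Fin 4 → F) - (α.1 1 + α.1 2) • (Pi.single 0 1 : Fin 4 → F) ∈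
      Phi F (3 : Fin 4) := by
    rw [mem_Phi_iff]
    simp [Pi.single_apply]
  have hy : kill4C α β = yPhi 3 ⟨_, hbmem⟩ := by
    apply SL_ext_smul
    intro v
    rw [kill4_C_smul, yPhi_smul, hβ]
    funext l
    fin_cases l <;> simp [Pi.single_apply] <;> ring
  have hmem : kill4C α β ∈ colGrp F (3 : Fin 4) ⊓ S := ⟨hy ▸ yPhi_mem_colGrp 3 _, hc⟩
  rw [hcol, Subgroup.mem_bot, hy] at hmem
  refine yPhi_ne_one 3 ?_ hmem
  intro h0
  have h1 : ((Pi.single 1 1 : Fin 4 → F) - (α.1 1 + α.1 2) • (Pi.single 0 1 : Fin 4 → F)) 1 = 0 := by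
    have := congrArg (fun b : Phi F (3 : Fin 4) => b.1 1) h0
    exact this
  simp [Pi.single_apply] at h1

end Cfsg.Agent.Helper12.MinIdx
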