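import Mathlib
import Cfsg.Prelude.Def_JComponents
import Cfsg.Agent.Lib.Helper4.ZJElementary
import Cfsg.Agent.Lib.Helper15.SylowIn
import Cfsg.Agent.Lib.Helper15.StronglyEmbedded

/-!
# Toolkit for the `J(T)`-component rows (KS12): the order `m(T)` of a largest elementary abelian
subgroup, monotonicity of `J`, `J(S) = J(T₁)` for `J(T₁) ≤ S ≤ T₁` (helper7, for S2948)
-/

set_option autoImplicit false

namespace Cfsg.Agent.Helper7.JC48

open Cfsg Cfsg.Agent.Helper4.ZJ Cfsg.Agent.Helper15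

universe u

variable {G : Type u} [Group G] [Finite G]

/-- `m(T)` is the order of any member of `A(T)` -/
theorem mOf_eq {T A : Subgroup G} (hA : A ∈ famE 2 T) : maxElemAbelianOrder T = Nat.card A := by
  obtain ⟨A0, hA0, rfl⟩ := hA
  unfold maxElemAbelianOrder
  have himg : (fun A : Subgroup ↥T => Nat.card ↥A) '' maxElementaryAbelianSubgroups 2 ↥T =
      {Nat.card A0} := by
    ext n
    rw [Set.mem_image, Set.mem_singleton_iff]
    constructor
    · rintro ⟨B, hB, rfl⟩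
      exact le_antisymm (hA0.2 B hB.1) (hB.2 A0 hA0.1)
    · rintro rfl
      exact ⟨A0, hA0, rfl⟩
  rw [himg, csSup_singleton]
  exact (Subgroup.card_map_of_injective (Subgroup.subtype_injective T)).symm

theorem card_le_mOf {T A' : Subgroup G} (hA'T : A' ≤ T) (hA' : IsElementaryAbelian 2 A') :
    Nat.card A' ≤ maxElemAbelianOrder T := by
  obtain ⟨A, hA⟩ := famE_nonempty (p := 2) T
  rw [mOf_eq hA]
  exact (mem_famE.1 hA).2.2 A' hA'T hA'

theorem mOf_mono {T T' : Subgroup G} (h : T ≤ T') :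
    maxElemAbelianOrder T ≤ maxElemAbelianOrder T' := by
  obtain ⟨A, hA⟩ := famE_nonempty (p := 2) T
  rw [mOf_eq hA]
  exact card_le_mOf ((mem_famE.1 hA).1.trans h) (mem_famE.1 hA).2.1

theorem famE_subset {T T' : Subgroup G} (h : T ≤ T')
    (hm : maxElemAbelianOrder T' ≤ maxElemAbelianOrder T) : famE 2 T ⊆ famE 2 T' := by
  intro A hA
  have hA' := mem_famE.1 hA
  refine mem_famE.2 ⟨hA'.1.trans h, hA'.2.1, fun A' hA'T hA'e => ?_⟩
  rw [← mOf_eq hA]
  exact (card_le_mOf hA'T hA'e).trans hm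

theorem J_mono_of {T T' : Subgroup G} (h : T ≤ T')
    (hm : maxElemAbelianOrder T' ≤ maxElemAbelianOrder T) :
    thompsonSubgroupOf 2 T ≤ thompsonSubgroupOf 2 T' :=
  thompsonSubgroupOf_le fun _ hA => le_thompsonSubgroupOf (famE_subset h hm hA)

/-- T0.1: `J(T₁) ≤ S ≤ T₁` implies `J(S) = J(T₁)` (and `m(S) = m(T₁)`). -/
theorem mOf_eq_of_between {S T₁ : Subgroup G} (h1 : thompsonSubgroupOf 2 T₁ ≤ S) (h2 : S ≤ T₁) :
    maxElemAbelianOrder S = maxElemAbelianOrder T₁ := by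
  apply le_antisymm (mOf_mono h2)
  obtain ⟨A, hA⟩ := famE_nonempty (p := 2) T₁
  rw [mOf_eq hA]
  exact card_le_mOf ((le_thompsonSubgroupOf hA).trans h1) (mem_famE.1 hA).2.1

theorem J_eq_of_between {S T₁ : Subgroup G} (h1 : thompsonSubgroupOf 2 T₁ ≤ S) (h2 : S ≤ T₁) :
    thompsonSubgroupOf 2 S = thompsonSubgroupOf 2 T₁ := by
  have hm := mOf_eq_of_between h1 h2
  apply le_antisymm (J_mono_of h2 hm.ge)
  apply thompsonSubgroupOf_le
  intro A hA
  apply le_thompsonSubgroupOf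
  have hA' := mem_famE.1 hA
  refine mem_famE.2 ⟨(le_thompsonSubgroupOf hA).trans h1, hA'.2.1, fun A' hA'S hA'e => ?_⟩
  exact hA'.2.2 A' (hA'S.trans h2) hA'e

theorem isPGroup_J {T : Subgroup G} (hT2 : IsPGroup 2 T) : IsPGroup 2 (thompsonSubgroupOf 2 T) :=
  hT2.to_le (thompsonSubgroupOf_le_self T)

theorem isElementaryAbelian_zpowers {z : G} (hz : orderOf z = 2) :
    IsElementaryAbelian 2 (Subgroup.zpowers z) := by
  refine ⟨inferInstance, ?_⟩
  intro a ha
  obtain ⟨k, rfl⟩ := Subgroup.mem_zpowers_iff.mp ha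
  rw [← zpow_natCast, ← zpow_mul, mul_comm, zpow_mul, zpow_natCast, ← hz, pow_orderOf_eq_one,
    one_zpow]

theorem J_ne_bot {T : Subgroup G} (hT2 : IsPGroup 2 T) (hT : T ≠ ⊥) :
    thompsonSubgroupOf 2 T ≠ ⊥ := by
  obtain ⟨z, hzT, hz⟩ := exists_orderOf_eq_prime_of_ne_bot hT2 hT
  obtain ⟨A, hA⟩ := famE_nonempty (p := 2) T
  have h1 : Nat.card (Subgroup.zpowers z) ≤ Nat.card A :=
    (mem_famE.1 hA).2.2 _ (by rw [Subgroup.zpowers_le]; exact hzT) (isElementaryAbelian_zpowers hz)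
  rw [Nat.card_zpowers, hz] at h1
  intro hbot
  have h2 : A ≤ ⊥ := hbot ▸ le_thompsonSubgroupOf hA
  rw [le_bot_iff] at h2
  rw [h2, Subgroup.card_bot] at h1
  omega

/-- `N_G(T) ≤ N_G(J(T))` -/
theorem normalizer_le_normalizer_J (T : Subgroup G) :
    Subgroup.normalizer (T : Set G) ≤ Subgroup.normalizer (thompsonSubgroupOf 2 T : Set G) := by
  intro g hg
  apply mem_normalizer_of_map_conj_eq
  rw [← thompsonSubgroupOf_map, map_conj_eq_of_mem_normalizer hg]

theorem le_normalizer_J (T : Subgroup G) :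
    T ≤ Subgroup.normalizer (thompsonSubgroupOf 2 T : Set G) :=
  Subgroup.le_normalizer.trans (normalizer_le_normalizer_J T)

/-- conjugating the base group conjugates `N_G(J(·))` -/
theorem normalizer_J_map_conj (T : Subgroup G) (g : G) :
    Subgroup.normalizer (thompsonSubgroupOf 2 (T.map (MulAut.conj g).toMonoidHom) : Set G) =
      (Subgroup.normalizer (thompsonSubgroupOf 2 T : Set G)).map (MulAut.conj g).toMonoidHom := by
  rw [thompsonSubgroupOf_map, normalizer_map_conj]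

end Cfsg.Agent.Helper7.JC48
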