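import Mathlib
import Cfsg.Agent.Lib.Helper19.JCDefs
import Cfsg.Agent.Lib.Helper21.SylowCount

/-!
# S2946, piece IDX: `S ⊓ K = O₂(K)`, `|X : S| = 3`, `|S : R| = 2` (helper7)
-/

set_option autoImplicit false

namespace Cfsg.Agent.Helper19.JC

open Cfsg Cfsg.Agent.Helper4.ZJ
open scoped commutatorElement Nat

universe u

variable {G : Type u} [Group G] [Finite G] {K J : Subgroup G}

/-- a subgroup generated by its odd-order elements which is a `2`-group is trivial -/
theorem idx_eq_bot_of_isPGroup {K : Subgroup G}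
    (hodd : Subgroup.closure {g : G | g ∈ K ∧ Odd (orderOf g)} = K) (hK : IsPGroup 2 K) :
    K = ⊥ := by
  rw [← hodd, Subgroup.closure_eq_bot_iff]
  rintro g ⟨hgK, hg⟩
  obtain ⟨k, hk⟩ := (IsPGroup.iff_orderOf.mp hK) ⟨g, hgK⟩
  rw [Subgroup.orderOf_mk] at hk
  rw [hk] at hg
  rcases Nat.eq_zero_or_pos k with rfl | hkpos
  · rw [pow_zero, orderOf_eq_one_iff] at hk
    exact hk
  · exfalso
    have : Even (2 ^ k) := (Nat.even_pow' hkpos.ne').mpr even_two
    exact (Nat.not_even_iff_odd.mpr hg) this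

theorem Comp.K_not_le_S (c : Comp K J) : ¬ K ≤ SS K J := by
  intro h
  have hbot := idx_eq_bot_of_isPGroup c.hodd (c.isPGroup_S.to_le h)
  apply c.K_ne_P0
  rw [hbot]
  exact bot_le

theorem Comp.S_inf_K (c : Comp K J) : SS K J ⊓ K = pCoreOf 2 K := by
  have hle : pCoreOf 2 K ≤ SS K J ⊓ K := le_inf (c.P0_le_R.trans c.R_le_S) c.P0_le_K
  apply le_antisymm _ hle
  have h1 := Subgroup.relIndex_mul_relIndex (pCoreOf 2 K) (SS K J ⊓ K) K hle inf_le_right
  rw [c.hidx] at h1
  have hp : Nat.Prime 3 := by norm_num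
  rcases (Nat.dvd_prime hp).mp (Dvd.intro _ h1) with h2 | h2
  · exact Subgroup.relIndex_eq_one.mp h2
  · exfalso
    rw [h2] at h1
    have h3 : (SS K J ⊓ K).relIndex K = 1 := by omega
    exact c.K_not_le_S ((Subgroup.relIndex_eq_one.mp h3).trans inf_le_left)

theorem Comp.S_sup_K (c : Comp K J) : SS K J ⊔ K = K ⊔ J :=
  le_antisymm (sup_le c.S_le_X le_sup_left) (sup_le le_sup_right (c.J_le_S.trans le_sup_left))

theorem Comp.relIndex_S (c : Comp K J) : (SS K J).relIndex (K ⊔ J) = 3 := by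
  have h1 := Cfsg.Agent.Helper21.relIndex_sup_eq_of_le_normalizer (SS K J) K
    (c.S_le_X.trans c.le_normalizer_K)
  rw [c.S_sup_K] at h1
  rw [h1, ← Subgroup.inf_relIndex_right, c.S_inf_K, c.hidx]

theorem idx_index_normalCore_dvd {X : Type*} [Group X] [Finite X] (H : Subgroup X) :
    H.normalCore.index ∣ (H.index)! := by
  rw [Subgroup.normalCore_eq_ker, Subgroup.index_ker, Subgroup.index_eq_card, ← Nat.card_perm]
  exact Subgroup.card_subgroup_dvd_card _

theorem Comp.relIndex_R (c : Comp K J) : (RR K J).relIndex (SS K J) = 2 := by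
  set X : Subgroup G := K ⊔ J with hX
  set S' : Subgroup ↥X := (SS K J).subgroupOf X with hS'
  have hS'idx : S'.index = 3 := c.relIndex_S
  have hCn : S'.normalCore.Normal := Subgroup.normalCore_normal S'
  have hCp : IsPGroup 2 S'.normalCore :=
    (c.isPGroup_S.comap_subtype (K := X)).to_le (Subgroup.normalCore_le S')
  have hCle : S'.normalCore ≤ pCore 2 ↥X := Cfsg.Agent.Helper14.le_pCore hCn hCp
  have h1 : (pCore 2 ↥X).index ∣ 6 := by
    have h2 := (Subgroup.index_dvd_of_le hCle).trans (idx_index_normalCore_dvd S')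
    rw [hS'idx] at h2
    exact h2
  have h3 : (RR K J).relIndex X = (pCore 2 ↥X).index := by
    unfold Subgroup.relIndex
    congr 1
    exact Subgroup.comap_map_eq_self_of_injective (Subgroup.subtype_injective X) _
  have h4 := Subgroup.relIndex_mul_relIndex (RR K J) (SS K J) X c.R_le_S c.S_le_X
  rw [c.relIndex_S, h3] at h4
  rw [← h4] at h1
  have h5 : (RR K J).relIndex (SS K J) ∣ 2 := by
    have : (RR K J).relIndex (SS K J) * 3 ∣ 2 * 3 := h1
    exact Nat.dvd_of_mul_dvd_mul_right (by norm_num) this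
  rcases (Nat.dvd_prime Nat.prime_two).mp h5 with h6 | h6
  · exfalso
    exact c.J_not_le_R (c.J_le_S.trans (Subgroup.relIndex_eq_one.mp h6))
  · exact h6

end Cfsg.Agent.Helper19.JC
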