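import Mathlib

/-!
# KS12, F6: the abstract core (helper7)

`M` a finite elementary abelian `2`-group (written additively), `δ` an automorphism of order `3`,
`ξ` an involutory automorphism inverting `δ`, `B` a `2`-group acting on `M` and commuting with
`δ` and `ξ`; `W ≤ [M, δ]` a `δ`-invariant four-group centralized by `B`.  If the offender
inequality `|C_M(D)| ≤ 2 |B : D| |C_M(B) ∩ C_M(ξ)|` holds for all `D ≤ B`, then `[M, δ] = W`.
-/

set_option autoImplicit false

namespace Cfsg.Agent.Helper7.JCF6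

/-! ### additive product inequality -/

theorem add_card_mul_relIndex_of_le {M : Type*} [AddGroup M] {H K : AddSubgroup M} (h : H ≤ K) :
    Nat.card H * H.relIndex K = Nat.card K := by
  have := AddSubgroup.relIndex_mul_relIndex ⊥ H K bot_le h
  rwa [AddSubgroup.relIndex_bot_left, AddSubgroup.relIndex_bot_left] at this

/-- `|B| |C| ≤ |B + C| |B ∩ C|` -/
theorem add_card_mul_card_le {M : Type*} [AddGroup M] [Finite M] (B C : AddSubgroup M) :
    Nat.card B * Nat.card C ≤ Nat.card (B ⊔ C : AddSubgroup M) * Nat.card (B ⊓ C : AddSubgroup M) := by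
  have h1 : Nat.card (B ⊓ C : AddSubgroup M) * C.relIndex B = Nat.card B := by
    rw [← AddSubgroup.inf_relIndex_left B C]
    rw [inf_comm]
    have := add_card_mul_relIndex_of_le (inf_le_right : C ⊓ B ≤ B)
    rwa [inf_comm] at this ⊢
  have h2 : Nat.card C * C.relIndex (B ⊔ C) = Nat.card (B ⊔ C : AddSubgroup M) :=
    add_card_mul_relIndex_of_le le_sup_right
  have h3 : C.relIndex B ≤ C.relIndex (B ⊔ C) := by
    apply AddSubgroup.relIndex_le_of_le_right le_sup_left
    intro h0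
    rw [h0, mul_zero] at h2
    exact Nat.card_pos.ne' h2.symm
  calc Nat.card B * Nat.card C = Nat.card (B ⊓ C : AddSubgroup M) * C.relIndex B * Nat.card C := by
        rw [h1]
    _ ≤ Nat.card (B ⊓ C : AddSubgroup M) * C.relIndex (B ⊔ C) * Nat.card C := by
        gcongr
    _ = Nat.card (B ⊔ C : AddSubgroup M) * Nat.card (B ⊓ C : AddSubgroup M) := by
        rw [← h2]; ring

/-! ### orbit counting -/

/-- an invariant subset all of whose orbits have size divisible by `n` has size divisible by `n` -/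
theorem dvd_ncard_of_orbits {G α : Type*} [Group G] [MulAction G α] [Finite α] (n : ℕ) :
    ∀ (k : ℕ) (s : Set α), s.ncard = k → (∀ g : G, ∀ x ∈ s, g • x ∈ s) →
      (∀ x ∈ s, n ∣ (MulAction.orbit G x).ncard) → n ∣ s.ncard := by
  intro k
  induction k using Nat.strong_induction_on with
  | _ k ih =>
    intro s hk hinv horb
    rcases s.eq_empty_or_nonempty with rfl | ⟨x, hx⟩
    · simp
    · have hsub : MulAction.orbit G x ⊆ s := by
        rintro _ ⟨g, rfl⟩
        exact hinv g x hx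
      set s' := s \ MulAction.orbit G x with hs'
      have hcard : s'.ncard + (MulAction.orbit G x).ncard = s.ncard :=
        Set.ncard_sdiff_add_ncard_of_subset hsub (Set.toFinite _)
      have hpos : 0 < (MulAction.orbit G x).ncard := by
        rw [Set.ncard_pos (Set.toFinite _)]
        exact ⟨x, MulAction.mem_orbit_self x⟩
      have hlt : s'.ncard < k := by omega
      have hinv' : ∀ g : G, ∀ y ∈ s', g • y ∈ s' := by
        rintro g y ⟨hy, hyo⟩
        refine ⟨hinv g y hy, fun h => hyo ?_⟩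
        have : y = g⁻¹ • (g • y) := by rw [inv_smul_smul]
        rw [this]
        exact MulAction.mem_orbit_of_mem_orbit g⁻¹ h
      have h1 := ih s'.ncard hlt s' rfl hinv' (fun y hy => horb y hy.1)
      rw [← hcard]
      exact Dvd.dvd.add h1 (horb x hx)


/-! ### the `F_4`-lemma (T0.6) -/

section core

variable {M : Type*} [AddCommGroup M] [Finite M] (h2 : ∀ m : M, m + m = 0)
  (δ ξ : M →+ M) (hδ3 : ∀ m, δ (δ (δ m)) = m) (hξ2 : ∀ m, ξ (ξ m) = m)
  (hξδ : ∀ m, ξ (δ m) = δ (δ (ξ m)))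

/-- the fixed points of `ξ` -/
def fixE (ξ : M →+ M) : AddSubgroup M where
  carrier := {m | ξ m = m}
  zero_mem' := map_zero ξ
  add_mem' := by
    intro a b ha hb
    show ξ (a + b) = a + b
    rw [map_add, ha, hb]
  neg_mem' := by
    intro a ha
    show ξ (-a) = -a
    rw [map_neg, ha]

theorem mem_fixE {ξ : M →+ M} {m : M} : m ∈ fixE ξ ↔ ξ m = m := Iff.rfl

include h2 in
theorem eq_of_add_eq_zero {a b : M} (h : a + b = 0) : a = b := by
  have : a = a + (b + b) := by rw [h2, add_zero]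
  rw [this, ← add_assoc, h, zero_add]

include h2 hδ3 hξ2 hξδ in
/-- T0.6: `|Z| = |C_Z(ξ)|²` for a `δ, ξ`-invariant subgroup `Z` on which `1 + δ + δ² = 0` -/
theorem card_eq_sq (Z : AddSubgroup M) (hZδ : ∀ z ∈ Z, δ z ∈ Z) (hZξ : ∀ z ∈ Z, ξ z ∈ Z)
    (hZ0 : ∀ z ∈ Z, z + δ z + δ (δ z) = 0) :
    Nat.card Z = Nat.card (Z ⊓ fixE ξ : AddSubgroup M) ^ 2 := by
  set C : AddSubgroup M := Z ⊓ fixE ξ with hC
  have hCZ : ∀ c ∈ C, c ∈ Z := fun c hc => hc.1
  have hCξ : ∀ c ∈ C, ξ c = c := fun c hc => hc.2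
  -- `c = δ e` with `c, e ∈ C` forces `e = 0`
  have hkey : ∀ c ∈ C, ∀ e ∈ C, c = δ e → e = 0 := by
    intro c hc e he hce
    have h1 : ξ (δ e) = δ e := by rw [← hce]; exact hCξ c hc
    rw [hξδ, hCξ e he] at h1
    -- δ δ e = δ e, so δ e = e
    have h3 : δ e = e := by
      have h4 : δ (δ (δ e)) = δ (δ e) := congrArg δ h1
      rw [hδ3, h1] at h4
      exact h4.symm
    have h5 := hZ0 e (hCZ e he)
    rw [h3, h3, h2, zero_add] at h5
    exact h5
  apply le_antisymm
  · -- `z ↦ (z + δ z + δ ξ z, z + ξ z)` is injective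
    have hb : ∀ z ∈ Z, z + ξ z ∈ C := by
      intro z hz
      refine ⟨Z.add_mem hz (hZξ z hz), ?_⟩
      show ξ (z + ξ z) = z + ξ z
      rw [map_add, hξ2, add_comm]
    have ha : ∀ z ∈ Z, z + δ z + δ (ξ z) ∈ C := by
      intro z hz
      refine ⟨Z.add_mem (Z.add_mem hz (hZδ z hz)) (hZδ _ (hZξ z hz)), ?_⟩
      show ξ (z + δ z + δ (ξ z)) = z + δ z + δ (ξ z)
      apply eq_of_add_eq_zero h2
      rw [map_add, map_add, hξδ, hξδ, hξ2]
      have e1 := hZ0 z hz
      have e2 := hZ0 (ξ z) (hZξ z hz)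
      calc ξ z + δ (δ (ξ z)) + δ (δ z) + (z + δ z + δ (ξ z))
          = (z + δ z + δ (δ z)) + (ξ z + δ (ξ z) + δ (δ (ξ z))) := by abel
        _ = 0 := by rw [e1, e2, add_zero]
    let g : Z → C × C := fun z => (⟨z.1 + δ z.1 + δ (ξ z.1), ha z.1 z.2⟩, ⟨z.1 + ξ z.1, hb z.1 z.2⟩)
    have hg : Function.Injective g := by
      intro z z' hzz
      have h1 : z.1 + δ z.1 + δ (ξ z.1) = z'.1 + δ z'.1 + δ (ξ z'.1) :=
        congrArg (fun q : C × C => (q.1 : M)) hzz
      have h3 : z.1 + ξ z.1 = z'.1 + ξ z'.1 := congrArg (fun q : C × C => (q.2 : M)) hzz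
      have hrec : ∀ y : M, y = (y + δ y + δ (ξ y)) + δ (y + ξ y) := by
        intro y
        rw [map_add]
        have : y + δ y + δ (ξ y) + (δ y + δ (ξ y)) = y + ((δ y + δ y) + (δ (ξ y) + δ (ξ y))) := by
          abel
        rw [this, h2, h2, add_zero, add_zero]
      apply Subtype.ext
      rw [hrec z.1, hrec z'.1, h1, h3]
    have := Nat.card_le_card_of_injective g hg
    rwa [Nat.card_prod, ← sq] at this
  · -- `(a, b) ↦ a + δ b` is injective
    let f : C × C → Z := fun q => ⟨q.1.1 + δ q.2.1, Z.add_mem (hCZ _ q.1.2) (hZδ _ (hCZ _ q.2.2))⟩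
    have hf : Function.Injective f := by
      rintro ⟨a, b⟩ ⟨a', b'⟩ hq
      have h1 : a.1 + δ b.1 = a'.1 + δ b'.1 := congrArg Subtype.val hq
      have h3 : a.1 + a'.1 = δ (b.1 + b'.1) := by
        rw [map_add]
        apply eq_of_add_eq_zero h2
        calc a.1 + a'.1 + (δ b.1 + δ b'.1) = (a.1 + δ b.1) + (a'.1 + δ b'.1) := by abel
          _ = 0 := by rw [h1, h2]
      have h4 := hkey _ (C.add_mem a.2 a'.2) _ (C.add_mem b.2 b'.2) h3
      have h5 : a.1 + a'.1 = 0 := by rw [h3, h4, map_zero]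
      have hbb : b = b' := Subtype.ext (eq_of_add_eq_zero h2 h4)
      have haa : a = a' := Subtype.ext (eq_of_add_eq_zero h2 h5)
      rw [haa, hbb]
    have := Nat.card_le_card_of_injective f hf
    rwa [Nat.card_prod, ← sq] at this

end core


/-! ### the main count -/

section main

variable {M : Type*} [AddCommGroup M] [Finite M] (h2 : ∀ m : M, m + m = 0)
  (δ ξ : M →+ M) (hδ3 : ∀ m, δ (δ (δ m)) = m) (hξ2 : ∀ m, ξ (ξ m) = m)
  (hξδ : ∀ m, ξ (δ m) = δ (δ (ξ m)))
  {B : Type*} [Group B] [DistribMulAction B M]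

/-- the fixed points of a subgroup `D` of `B` -/
def fixD (M : Type*) [AddCommGroup M] {B : Type*} [Group B] [DistribMulAction B M]
    (D : Subgroup B) : AddSubgroup M where
  carrier := {m | ∀ b ∈ D, b • m = m}
  zero_mem' := fun b _ => smul_zero b
  add_mem' := by
    intro a c ha hc b hb
    rw [smul_add, ha b hb, hc b hb]
  neg_mem' := by
    intro a ha b hb
    rw [smul_neg, ha b hb]

theorem mem_fixD {D : Subgroup B} {m : M} : m ∈ fixD M D ↔ ∀ b ∈ D, b • m = m := Iff.rfl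

theorem fixD_anti {D D' : Subgroup B} (h : D ≤ D') : fixD M D' ≤ fixD M D :=
  fun _ hm b hb => hm b (h hb)

/-- `[M, δ]`, the image of `1 + δ` -/
def commD (δ : M →+ M) : AddSubgroup M := (AddMonoidHom.id M + δ).range

theorem mem_commD {δ : M →+ M} {m : M} : m ∈ commD δ ↔ ∃ n, n + δ n = m := by
  unfold commD
  rw [AddMonoidHom.mem_range]
  rfl

include h2 hδ3 in
theorem commD_zero : ∀ y ∈ commD δ, y + δ y + δ (δ y) = 0 := by
  intro y hy
  obtain ⟨n, rfl⟩ := mem_commD.mp hy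
  simp only [map_add, hδ3]
  calc n + δ n + (δ n + δ (δ n)) + (δ (δ n) + n)
      = (n + n) + (δ n + δ n) + (δ (δ n) + δ (δ n)) := by abel
    _ = 0 := by simp only [h2, add_zero]

theorem commD_delta : ∀ y ∈ commD δ, δ y ∈ commD δ := by
  intro y hy
  obtain ⟨n, rfl⟩ := mem_commD.mp hy
  exact mem_commD.mpr ⟨δ n, by rw [map_add]⟩

include hδ3 hξδ in
theorem commD_xi : ∀ y ∈ commD δ, ξ y ∈ commD δ := by
  intro y hy
  obtain ⟨n, rfl⟩ := mem_commD.mp hy
  refine mem_commD.mpr ⟨δ (δ (ξ n)), ?_⟩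
  rw [map_add, hξδ, hδ3, add_comm]

include h2 hδ3 hξ2 hξδ in
/-- F6 core -/
theorem f6_core [Finite B] (hB : IsPGroup 2 B)
    (hBδ : ∀ (b : B) (m : M), b • δ m = δ (b • m)) (hBξ : ∀ (b : B) (m : M), b • ξ m = ξ (b • m))
    (W : AddSubgroup M) (hW4 : Nat.card W = 4) (hWY : W ≤ commD δ)
    (hWB : W ≤ fixD M (⊤ : Subgroup B))
    (hoff : ∀ D : Subgroup B, Nat.card (fixD M D) ≤
      2 * D.index * Nat.card (fixD M (⊤ : Subgroup B) ⊓ fixE ξ : AddSubgroup M)) :
    commD δ = W := by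
  set Y : AddSubgroup M := commD δ with hY
  set F : AddSubgroup M := fixD M (⊤ : Subgroup B) ⊓ fixE ξ with hF
  set C' : AddSubgroup M := Y ⊓ fixD M (⊤ : Subgroup B) ⊓ fixE ξ with hC'
  have hY0 := commD_zero h2 δ hδ3
  have hYδ := commD_delta δ
  have hYξ := commD_xi δ ξ hδ3 hξδ
  have hYB : ∀ (b : B), ∀ y ∈ Y, b • y ∈ Y := by
    intro b y hy
    obtain ⟨n, rfl⟩ := mem_commD.mp hy
    exact mem_commD.mpr ⟨b • n, by rw [smul_add, hBδ]⟩
  have hfixδ : ∀ (D : Subgroup B), ∀ m ∈ fixD M D, δ m ∈ fixD M D := by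
    intro D m hm b hb
    rw [hBδ, hm b hb]
  have hfixξ : ∀ (D : Subgroup B), ∀ m ∈ fixD M D, ξ m ∈ fixD M D := by
    intro D m hm b hb
    rw [hBξ, hm b hb]
  -- the square formula for `Z_D = Y ⊓ fixD D`
  have hsq : ∀ D : Subgroup B, Nat.card (Y ⊓ fixD M D : AddSubgroup M) =
      Nat.card (Y ⊓ fixD M D ⊓ fixE ξ : AddSubgroup M) ^ 2 := by
    intro D
    apply card_eq_sq h2 δ ξ hδ3 hξ2 hξδ
    · exact fun z hz => ⟨hYδ z hz.1, hfixδ D z hz.2⟩
    · exact fun z hz => ⟨hYξ z hz.1, hfixξ D z hz.2⟩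
    · exact fun z hz => hY0 z hz.1
  have hFpos : 0 < Nat.card F := Nat.card_pos
  have hC'pos : 0 < Nat.card C' := Nat.card_pos
  -- (*) `|Z_D| ≤ 2 |B : D| |C'|`
  have hstar : ∀ D : Subgroup B, Nat.card (Y ⊓ fixD M D : AddSubgroup M) ≤
      2 * D.index * Nat.card C' := by
    intro D
    have h1 := add_card_mul_card_le (Y ⊓ fixD M D) F
    have h3 : Nat.card ((Y ⊓ fixD M D) ⊔ F : AddSubgroup M) ≤ Nat.card (fixD M D) := by
      apply AddSubgroup.card_le_of_le
      exact sup_le inf_le_right (inf_le_left.trans (fixD_anti le_top))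
    have h4 : Nat.card ((Y ⊓ fixD M D) ⊓ F : AddSubgroup M) ≤ Nat.card C' := by
      apply AddSubgroup.card_le_of_le
      intro m hm
      exact ⟨⟨hm.1.1, hm.2.1⟩, hm.2.2⟩
    have h5 : Nat.card (Y ⊓ fixD M D : AddSubgroup M) * Nat.card F ≤
        (2 * D.index * Nat.card C') * Nat.card F := by
      calc Nat.card (Y ⊓ fixD M D : AddSubgroup M) * Nat.card F
          ≤ Nat.card ((Y ⊓ fixD M D) ⊔ F : AddSubgroup M) *
              Nat.card ((Y ⊓ fixD M D) ⊓ F : AddSubgroup M) := h1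
        _ ≤ Nat.card (fixD M D) * Nat.card C' := Nat.mul_le_mul h3 h4
        _ ≤ (2 * D.index * Nat.card F) * Nat.card C' := Nat.mul_le_mul_right _ (hoff D)
        _ = (2 * D.index * Nat.card C') * Nat.card F := by ring
    exact Nat.le_of_mul_le_mul_right h5 hFpos
  -- Step 2: `D = ⊤`
  have hC'2 : Nat.card C' = 2 := by
    have h1 := hsq ⊤
    have h3 := hstar ⊤
    rw [Subgroup.index_top, mul_one] at h3
    rw [h1] at h3
    have h4 : Nat.card C' ≤ 2 := by
      have : Nat.card C' * Nat.card C' ≤ 2 * Nat.card C' := by rw [← sq]; exact h3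
      exact Nat.le_of_mul_le_mul_right this hC'pos
    have h5 : Nat.card W ≤ Nat.card (Y ⊓ fixD M (⊤ : Subgroup B) : AddSubgroup M) :=
      AddSubgroup.card_le_of_le (le_inf hWY hWB)
    rw [hW4, h1] at h5
    have h6 : 2 ≤ Nat.card C' := by
      by_contra hlt
      have : Nat.card C' ≤ 1 := by omega
      have h7 : Nat.card C' ^ 2 ≤ 1 := by
        calc Nat.card C' ^ 2 ≤ 1 ^ 2 := Nat.pow_le_pow_left this 2
          _ = 1 := one_pow 2
      omega
    omega
  -- Step 3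
  have hY0le : Nat.card (Y ⊓ fixE ξ : AddSubgroup M) ≤ 2 := by
    by_contra hgt
    push Not at hgt
    set Y0 : AddSubgroup M := Y ⊓ fixE ξ with hY0def
    set s : Set M := {v | v ∈ Y0 ∧ v ∉ fixD M (⊤ : Subgroup B)} with hs
    have hinv : ∀ b : B, ∀ v ∈ s, b • v ∈ s := by
      rintro b v ⟨hv1, hv2⟩
      refine ⟨⟨hYB b v hv1.1, ?_⟩, ?_⟩
      · show ξ (b • v) = b • v
        rw [← hBξ, hv1.2]
      · intro hfix
        apply hv2
        have h1 : b⁻¹ • (b • v) = b • v := hfix b⁻¹ (Subgroup.mem_top _)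
        rw [inv_smul_smul] at h1
        rw [h1]
        exact hfix
    have horb : ∀ v ∈ s, 4 ∣ (MulAction.orbit B v).ncard := by
      rintro v ⟨hv1, hv2⟩
      set D : Subgroup B := MulAction.stabilizer B v with hD
      rw [← MulAction.index_stabilizer]
      have h1 := hsq D
      have h3 := hstar D
      rw [hC'2] at h3
      set Z' : AddSubgroup M := Y ⊓ fixD M D ⊓ fixE ξ with hZ'
      have hvZ' : v ∈ Z' := ⟨⟨hv1.1, fun b hb => MulAction.mem_stabilizer_iff.mp hb⟩, hv1.2⟩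
      have hC'Z' : C' ≤ Z' := fun m hm => ⟨⟨hm.1.1, fixD_anti le_top hm.1.2⟩, hm.2⟩
      have hdvd : Nat.card C' ∣ Nat.card Z' := AddSubgroup.card_dvd_of_le hC'Z'
      rw [hC'2] at hdvd
      have hne : Nat.card Z' ≠ 2 := by
        intro h
        have := AddSubgroup.eq_of_le_of_card_ge hC'Z' (by rw [h, hC'2])
        apply hv2
        have hv' : v ∈ C' := this ▸ hvZ'
        exact hv'.1.2
      have hpos : 0 < Nat.card Z' := Nat.card_pos
      have h4 : 4 ≤ Nat.card Z' := by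
        obtain ⟨t, ht⟩ := hdvd
        omega
      have h5 : 16 ≤ Nat.card (Y ⊓ fixD M D : AddSubgroup M) := by
        rw [h1]
        calc 16 = 4 ^ 2 := by norm_num
          _ ≤ Nat.card Z' ^ 2 := Nat.pow_le_pow_left h4 2
      have h6 : 4 ≤ D.index := by omega
      obtain ⟨k, hk⟩ := hB.index D
      rw [hk] at h6 ⊢
      have hk2 : 2 ≤ k := by
        by_contra hlt
        have : k ≤ 1 := by omega
        have : 2 ^ k ≤ 2 ^ 1 := Nat.pow_le_pow_right (by norm_num) this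
        omega
      exact (pow_dvd_pow 2 hk2 : 2 ^ 2 ∣ 2 ^ k)
    have hdvd := dvd_ncard_of_orbits (G := B) 4 s.ncard s rfl hinv horb
    -- `s = Y0 ∖ C'`
    have hsdiff : s = (Y0 : Set M) \ (C' : Set M) := by
      ext v
      constructor
      · rintro ⟨hv1, hv2⟩
        exact ⟨hv1, fun h => hv2 h.1.2⟩
      · rintro ⟨hv1, hv2⟩
        exact ⟨hv1, fun h => hv2 ⟨⟨hv1.1, h⟩, hv1.2⟩⟩
    have hsub : (C' : Set M) ⊆ (Y0 : Set M) := fun m hm => ⟨hm.1.1, hm.2⟩
    have hcard : s.ncard + (C' : Set M).ncard = (Y0 : Set M).ncard := by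
      rw [hsdiff]
      exact Set.ncard_sdiff_add_ncard_of_subset hsub (Set.toFinite _)
    have e1 : (C' : Set M).ncard = 2 := by
      rw [← hC'2]
      exact (Nat.card_coe_set_eq _).symm
    have e2 : (Y0 : Set M).ncard = Nat.card Y0 := (Nat.card_coe_set_eq _).symm
    -- `|Y0|` is a power of `2`
    have hM : IsPGroup 2 (Multiplicative M) := fun g => ⟨1, by
      rw [pow_one, sq]
      exact h2 (Multiplicative.toAdd g)⟩
    obtain ⟨k, hk⟩ := IsPGroup.iff_card.mp hM
    have hk' : Nat.card M = 2 ^ k := hk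
    have hY0dvd : Nat.card Y0 ∣ 2 ^ k := hk' ▸ AddSubgroup.card_addSubgroup_dvd_card Y0
    obtain ⟨j, -, hj⟩ := (Nat.dvd_prime_pow Nat.prime_two).mp hY0dvd
    have hj2 : 2 ≤ j := by
      by_contra hlt
      have : j ≤ 1 := by omega
      have : 2 ^ j ≤ 2 ^ 1 := Nat.pow_le_pow_right (by norm_num) this
      omega
    have h4 : 4 ∣ Nat.card Y0 := by
      rw [hj]
      exact (pow_dvd_pow 2 hj2 : 2 ^ 2 ∣ 2 ^ j)
    obtain ⟨a, ha⟩ := hdvd
    obtain ⟨c, hc⟩ := h4
    omega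
  have hYcard : Nat.card Y ≤ 4 := by
    have h1 := card_eq_sq h2 δ ξ hδ3 hξ2 hξδ Y hYδ hYξ hY0
    rw [h1]
    calc Nat.card (Y ⊓ fixE ξ : AddSubgroup M) ^ 2 ≤ 2 ^ 2 := Nat.pow_le_pow_left hY0le 2
      _ = 4 := by norm_num
  exact (AddSubgroup.eq_of_le_of_card_ge hWY (by rw [hW4]; exact hYcard)).symm

end main

end Cfsg.Agent.Helper7.JCF6
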