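import Mathlib
import Cfsg.Prelude.Def_JComponents
import Cfsg.Agent.Lib.Helper4.ZJElementary
import Cfsg.Agent.Lib.Helper3.Thompson
import Cfsg.Agent.Lib.Helper3.Basic
import Cfsg.Agent.Lib.Helper7.JCF6Core

/-!
# KS12, F6: the count `[U, d] = W` in group-theoretic form (helper7)
-/

set_option autoImplicit false

namespace Cfsg.Agent.Helper7.JCF6

open Cfsg Cfsg.Agent.Helper4.ZJ

universe u

variable {X : Type u} [Group X] [Finite X]

/-- T0.3: `|C_U(D)| |D| ≤ |A| |C_U(A)|` for `A ∈ 𝒜(T)`, `D ≤ A`, `U ≤ T` elementary abelian -/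
theorem off_fix {T A D U : Subgroup X} (hA : A ∈ famE 2 T) (hUT : U ≤ T)
    (hU : IsElementaryAbelian 2 U) (hD : D ≤ A) :
    Nat.card (U ⊓ Subgroup.centralizer (D : Set X) : Subgroup X) * Nat.card D ≤
      Nat.card A * Nat.card (U ⊓ Subgroup.centralizer (A : Set X) : Subgroup X) := by
  obtain ⟨hAT, hAe, hmax⟩ := mem_famE.1 hA
  set Y : Subgroup X := U ⊓ Subgroup.centralizer (D : Set X) with hY
  have hYe : IsElementaryAbelian 2 Y := Cfsg.Agent.Helper3.isElementaryAbelian_mono inf_le_left hU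
  have hDe : IsElementaryAbelian 2 D := Cfsg.Agent.Helper3.isElementaryAbelian_mono hD hAe
  have hE : IsElementaryAbelian 2 (D ⊔ Y) :=
    Cfsg.Agent.Helper3.isElementaryAbelian_sup hDe hYe inf_le_right
  have h1 := hmax (D ⊔ Y) (sup_le (hD.trans hAT) (inf_le_left.trans hUT)) hE
  have h2 := Cfsg.Agent.Helper3.card_mul_card_le_card_sup_mul_card_inf D Y
  have h3 : (D ⊓ Y : Subgroup X) ≤ U ⊓ Subgroup.centralizer (A : Set X) := by
    intro z hz
    refine ⟨hz.2.1, ?_⟩
    show z ∈ Subgroup.centralizer (A : Set X)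
    rw [Subgroup.mem_centralizer_iff]
    intro a ha
    exact Cfsg.Agent.Helper3.IsElementaryAbelian.commute hAe ha (hD hz.1)
  calc Nat.card Y * Nat.card D = Nat.card D * Nat.card Y := mul_comm _ _
    _ ≤ Nat.card (D ⊔ Y : Subgroup X) * Nat.card (D ⊓ Y : Subgroup X) := h2
    _ ≤ Nat.card A * Nat.card (U ⊓ Subgroup.centralizer (A : Set X) : Subgroup X) :=
        Nat.mul_le_mul h1 (Subgroup.card_le_of_le h3)


/-- conjugation by an element of the normalizer, as an endomorphism of `U` -/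
def cjHom (U : Subgroup X) (g : X) (hg : g ∈ Subgroup.normalizer (U : Set X)) : ↥U →* ↥U where
  toFun u := ⟨g * u.1 * g⁻¹, (Subgroup.mem_normalizer_iff.mp hg u.1).mp u.2⟩
  map_one' := by
    apply Subtype.ext
    simp
  map_mul' a b := by
    apply Subtype.ext
    simp [mul_assoc]

theorem cjHom_val (U : Subgroup X) (g : X) (hg : g ∈ Subgroup.normalizer (U : Set X)) (u : ↥U) :
    (cjHom U g hg u).1 = g * u.1 * g⁻¹ := rfl

/-- the commutative group structure on an elementary abelian subgroup -/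
@[reducible] def commGroupOf {U : Subgroup X} (hU : IsElementaryAbelian 2 U) : CommGroup ↥U :=
  { (inferInstance : Group ↥U) with
    mul_comm := fun a b => Subtype.ext (Cfsg.Agent.Helper3.IsElementaryAbelian.commute hU a.2 b.2) }

/-- the conjugation action of `A1 ≤ N(U)` on `Additive U` -/
@[reducible] def actOf {U A1 : Subgroup X} (hU : IsElementaryAbelian 2 U)
    (hA1U : A1 ≤ Subgroup.normalizer (U : Set X)) :
    @DistribMulAction ↥A1 (Additive ↥U) _
      (@AddCommMonoid.toAddMonoid _ (@AddCommGroup.toAddCommMonoid _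
        (@Additive.addCommGroup _ (commGroupOf hU)))) :=
  letI := commGroupOf hU
  { smul := fun b m => Additive.ofMul (cjHom U b.1 (hA1U b.2) (Additive.toMul m))
    one_smul := by
      intro m
      show Additive.ofMul (cjHom U ((1 : ↥A1) : X) (hA1U (1 : ↥A1).2) (Additive.toMul m)) = m
      have : cjHom U ((1 : ↥A1) : X) (hA1U (1 : ↥A1).2) (Additive.toMul m) = Additive.toMul m := by
        apply Subtype.ext
        rw [cjHom_val]
        simp
      rw [this]
      rfl
    mul_smul := by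
      intro a b m
      show Additive.ofMul (cjHom U ((a * b : ↥A1) : X) (hA1U (a * b).2) (Additive.toMul m)) =
        Additive.ofMul (cjHom U a.1 (hA1U a.2) (cjHom U b.1 (hA1U b.2) (Additive.toMul m)))
      apply congrArg Additive.ofMul
      apply Subtype.ext
      rw [cjHom_val, cjHom_val, cjHom_val]
      simp [mul_assoc]
    smul_zero := by
      intro a
      show Additive.ofMul (cjHom U a.1 (hA1U a.2) 1) = 0
      rw [map_one]
      rfl
    smul_add := by
      intro a m n
      show Additive.ofMul (cjHom U a.1 (hA1U a.2) (Additive.toMul m * Additive.toMul n)) = _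
      rw [map_mul]
      rfl }


/-- KS12, F6, the count: `[U, d] ≤ W`. -/
theorem f6_count {T A A1 U W : Subgroup X} {d x : X} (hA : A ∈ famE 2 T) (hUT : U ≤ T)
    (hU : IsElementaryAbelian 2 U) (hA1A : A1 ≤ A) (hidx : A1.relIndex A = 2) (hxA : x ∈ A)
    (hAU : A ≤ Subgroup.normalizer (U : Set X))
    (hdU : d ∈ Subgroup.normalizer (U : Set X))
    (hd3 : ∀ u ∈ U, d * d * d * u = u * (d * d * d))
    (hA1d : ∀ a ∈ A1, ∀ u ∈ U, a * (d * u * d⁻¹) * a⁻¹ = d * (a * u * a⁻¹) * d⁻¹)
    (hxd : ∀ u ∈ U, x * (d * u * d⁻¹) * x⁻¹ = d⁻¹ * (x * u * x⁻¹) * d)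
    (hWU : W ≤ U) (hW4 : Nat.card W = 4) (hWd : ∀ w ∈ W, ∃ u ∈ U, w = u * (d * u * d⁻¹))
    (hWA1 : ∀ a ∈ A1, ∀ w ∈ W, a * w = w * a) :
    ∀ u ∈ U, u * (d * u * d⁻¹) ∈ W := by
  obtain ⟨hAT, hAe, hmax⟩ := mem_famE.1 hA
  have hA1U : A1 ≤ Subgroup.normalizer (U : Set X) := hA1A.trans hAU
  have hxU : x ∈ Subgroup.normalizer (U : Set X) := hAU hxA
  have hnU : ∀ g ∈ Subgroup.normalizer (U : Set X), ∀ u ∈ U, g * u * g⁻¹ ∈ U :=
    fun g hg u hu => (Subgroup.mem_normalizer_iff.mp hg u).mp hu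
  letI icg : CommGroup ↥U := commGroupOf hU
  letI iact := actOf hU hA1U
  let δ : Additive ↥U →+ Additive ↥U := MonoidHom.toAdditive (cjHom U d hdU)
  let ξ : Additive ↥U →+ Additive ↥U := MonoidHom.toAdditive (cjHom U x hxU)
  have hδv : ∀ m : Additive ↥U,
      ((Additive.toMul (δ m) : ↥U) : X) = d * ((Additive.toMul m : ↥U) : X) * d⁻¹ := fun m => rfl
  have hξv : ∀ m : Additive ↥U,
      ((Additive.toMul (ξ m) : ↥U) : X) = x * ((Additive.toMul m : ↥U) : X) * x⁻¹ := fun m => rfl
  have hbv : ∀ (b : ↥A1) (m : Additive ↥U),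
      ((Additive.toMul (b • m) : ↥U) : X) = b.1 * ((Additive.toMul m : ↥U) : X) * b.1⁻¹ :=
    fun b m => rfl
  have haddv : ∀ m n : Additive ↥U, ((Additive.toMul (m + n) : ↥U) : X) =
      ((Additive.toMul m : ↥U) : X) * ((Additive.toMul n : ↥U) : X) := fun m n => rfl
  have hext : ∀ m n : Additive ↥U,
      ((Additive.toMul m : ↥U) : X) = ((Additive.toMul n : ↥U) : X) → m = n := by
    intro m n h
    have h1 : (Additive.toMul m : ↥U) = Additive.toMul n := Subtype.ext h
    exact h1
  have hmemU : ∀ m : Additive ↥U, ((Additive.toMul m : ↥U) : X) ∈ U := fun m => (Additive.toMul m).2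
  have hx2 : x * x = 1 := by
    have := hAe.2 x hxA
    rwa [sq] at this
  have hxinv : x⁻¹ = x := inv_eq_of_mul_eq_one_right hx2
  -- the hypotheses of the core
  have h2 : ∀ m : Additive ↥U, m + m = 0 := by
    intro m
    apply hext
    rw [haddv]
    have := hU.2 _ (hmemU m)
    rw [sq] at this
    exact this
  have hδ3 : ∀ m, δ (δ (δ m)) = m := by
    intro m
    apply hext
    rw [hδv, hδv, hδv]
    set u := ((Additive.toMul m : ↥U) : X) with hu
    calc d * (d * (d * u * d⁻¹) * d⁻¹) * d⁻¹ = (d * d * d * u) * (d⁻¹ * d⁻¹ * d⁻¹) := by group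
      _ = u * (d * d * d) * (d⁻¹ * d⁻¹ * d⁻¹) := by rw [hd3 u (hmemU m)]
      _ = u := by group
  have hξ2 : ∀ m, ξ (ξ m) = m := by
    intro m
    apply hext
    rw [hξv, hξv, hxinv]
    set u := ((Additive.toMul m : ↥U) : X) with hu
    calc x * (x * u * x) * x = (x * x) * u * (x * x) := by group
      _ = u := by rw [hx2, one_mul, mul_one]
  have hξδ : ∀ m, ξ (δ m) = δ (δ (ξ m)) := by
    intro m
    apply hext
    rw [hξv, hδv, hδv, hδv, hξv]
    set u := ((Additive.toMul m : ↥U) : X) with hu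
    have hv : x * u * x⁻¹ ∈ U := hnU x hxU u (hmemU m)
    rw [hxd u (hmemU m)]
    set v := x * u * x⁻¹ with hvdef
    calc d⁻¹ * v * d = d⁻¹ * (v * (d * d * d)) * (d⁻¹ * d⁻¹) := by group
      _ = d⁻¹ * (d * d * d * v) * (d⁻¹ * d⁻¹) := by rw [hd3 v hv]
      _ = d * (d * v * d⁻¹) * d⁻¹ := by group
  have hBδ : ∀ (b : ↥A1) (m : Additive ↥U), b • δ m = δ (b • m) := by
    intro b m
    apply hext
    rw [hbv, hδv, hδv, hbv]
    exact hA1d b.1 b.2 _ (hmemU m)
  have hBξ : ∀ (b : ↥A1) (m : Additive ↥U), b • ξ m = ξ (b • m) := by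
    intro b m
    apply hext
    rw [hbv, hξv, hξv, hbv]
    set u := ((Additive.toMul m : ↥U) : X) with hu
    have hbx : b.1 * x = x * b.1 :=
      Cfsg.Agent.Helper3.IsElementaryAbelian.commute hAe (hA1A b.2) hxA
    calc b.1 * (x * u * x⁻¹) * b.1⁻¹ = (b.1 * x) * u * (b.1 * x)⁻¹ := by group
      _ = (x * b.1) * u * (x * b.1)⁻¹ := by rw [hbx]
      _ = x * (b.1 * u * b.1⁻¹) * x⁻¹ := by group
  have hB : IsPGroup 2 ↥A1 := by
    intro b
    refine ⟨1, ?_⟩
    rw [pow_one]
    apply Subtype.ext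
    have := hAe.2 b.1 (hA1A b.2)
    simpa using this
  -- the four-group
  let W' : AddSubgroup (Additive ↥U) :=
    { carrier := {m | ((Additive.toMul m : ↥U) : X) ∈ W}
      zero_mem' := W.one_mem
      add_mem' := fun {a b} ha hb => W.mul_mem ha hb
      neg_mem' := fun {a} ha => W.inv_mem ha }
  have hW'mem : ∀ m : Additive ↥U, m ∈ W' ↔ ((Additive.toMul m : ↥U) : X) ∈ W := fun m => Iff.rfl
  have hW'4 : Nat.card W' = 4 := by
    rw [← hW4]
    apply Nat.card_congr
    exact
      { toFun := fun m => ⟨((Additive.toMul m.1 : ↥U) : X), m.2⟩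
        invFun := fun w => ⟨Additive.ofMul ⟨w.1, hWU w.2⟩, w.2⟩
        left_inv := fun m => rfl
        right_inv := fun w => rfl }
  have hWY : W' ≤ commD δ := by
    intro m hm
    obtain ⟨u, hu, hwu⟩ := hWd _ ((hW'mem m).mp hm)
    refine mem_commD.mpr ⟨Additive.ofMul ⟨u, hu⟩, ?_⟩
    apply hext
    rw [haddv, hδv, hwu]
    rfl
  have hWB : W' ≤ fixD (Additive ↥U) (⊤ : Subgroup ↥A1) := by
    intro m hm b _
    apply hext
    rw [hbv]
    have := hWA1 b.1 b.2 _ ((hW'mem m).mp hm)
    rw [this, mul_inv_cancel_right]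
  -- the offender inequality
  have hoff : ∀ D : Subgroup ↥A1, Nat.card (fixD (Additive ↥U) D) ≤
      2 * D.index * Nat.card (fixD (Additive ↥U) (⊤ : Subgroup ↥A1) ⊓ fixE ξ :
        AddSubgroup (Additive ↥U)) := by
    intro D
    set D' : Subgroup X := D.map A1.subtype with hD'
    have hD'A1 : D' ≤ A1 := Subgroup.map_subtype_le D
    have hD'A : D' ≤ A := hD'A1.trans hA1A
    have hi : Nat.card (fixD (Additive ↥U) D) ≤
        Nat.card (U ⊓ Subgroup.centralizer (D' : Set X) : Subgroup X) := by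
      have hf : ∀ m : fixD (Additive ↥U) D, ((Additive.toMul m.1 : ↥U) : X) ∈
          (U ⊓ Subgroup.centralizer (D' : Set X) : Subgroup X) := by
        intro m
        refine ⟨hmemU m.1, ?_⟩
        show _ ∈ Subgroup.centralizer (D' : Set X)
        rw [Subgroup.mem_centralizer_iff]
        rintro _ ⟨b, hb, rfl⟩
        have h1 : ((Additive.toMul (b • m.1) : ↥U) : X) = ((Additive.toMul m.1 : ↥U) : X) :=
          congrArg (fun n : Additive ↥U => ((Additive.toMul n : ↥U) : X)) (m.2 b hb)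
        rw [hbv] at h1
        show b.1 * ((Additive.toMul m.1 : ↥U) : X) = ((Additive.toMul m.1 : ↥U) : X) * b.1
        calc b.1 * ((Additive.toMul m.1 : ↥U) : X)
            = (b.1 * ((Additive.toMul m.1 : ↥U) : X) * b.1⁻¹) * b.1 := by group
          _ = ((Additive.toMul m.1 : ↥U) : X) * b.1 := by rw [h1]
      apply Nat.card_le_card_of_injective (fun m => (⟨_, hf m⟩ :
        (U ⊓ Subgroup.centralizer (D' : Set X) : Subgroup X)))
      intro m n hmn
      apply Subtype.ext
      apply hext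
      exact congrArg (fun q : (U ⊓ Subgroup.centralizer (D' : Set X) : Subgroup X) => (q : X)) hmn
    have hii : Nat.card (U ⊓ Subgroup.centralizer (A : Set X) : Subgroup X) ≤
        Nat.card (fixD (Additive ↥U) (⊤ : Subgroup ↥A1) ⊓ fixE ξ : AddSubgroup (Additive ↥U)) := by
      have hf : ∀ u : (U ⊓ Subgroup.centralizer (A : Set X) : Subgroup X),
          (Additive.ofMul (⟨u.1, u.2.1⟩ : ↥U) : Additive ↥U) ∈
            (fixD (Additive ↥U) (⊤ : Subgroup ↥A1) ⊓ fixE ξ : AddSubgroup (Additive ↥U)) := by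
        intro u
        have hc : ∀ a ∈ A, a * u.1 = u.1 * a := by
          have : u.1 ∈ Subgroup.centralizer (A : Set X) := u.2.2
          rw [Subgroup.mem_centralizer_iff] at this
          exact this
        constructor
        · intro b _
          apply hext
          rw [hbv]
          show b.1 * u.1 * b.1⁻¹ = u.1
          rw [hc b.1 (hA1A b.2), mul_inv_cancel_right]
        · show ξ _ = _
          apply hext
          rw [hξv]
          show x * u.1 * x⁻¹ = u.1
          rw [hc x hxA, mul_inv_cancel_right]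
      apply Nat.card_le_card_of_injective (fun u => (⟨_, hf u⟩ :
        (fixD (Additive ↥U) (⊤ : Subgroup ↥A1) ⊓ fixE ξ : AddSubgroup (Additive ↥U))))
      intro u v huv
      apply Subtype.ext
      have h1 := congrArg (fun n => ((Additive.toMul n.1 : ↥U) : X)) huv
      exact h1
    have hiii := off_fix hA hUT hU hD'A
    have hcA : Nat.card A1 * 2 = Nat.card A := by
      rw [← hidx]
      exact Cfsg.Agent.Helper3.card_mul_relIndex_of_le hA1A
    have hcA1 : Nat.card D * D.index = Nat.card A1 := Subgroup.card_mul_index D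
    have hcD : Nat.card D' = Nat.card D :=
      Subgroup.card_map_of_injective (Subgroup.subtype_injective A1)
    have hDpos : 0 < Nat.card D := Nat.card_pos
    rw [hcD, ← hcA, ← hcA1] at hiii
    have h5 : Nat.card (U ⊓ Subgroup.centralizer (D' : Set X) : Subgroup X) * Nat.card D ≤
        (2 * D.index * Nat.card (U ⊓ Subgroup.centralizer (A : Set X) : Subgroup X)) *
          Nat.card D := by
      calc _ ≤ Nat.card D * D.index * 2 *
            Nat.card (U ⊓ Subgroup.centralizer (A : Set X) : Subgroup X) := hiii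
        _ = _ := by ring
    have h6 := Nat.le_of_mul_le_mul_right h5 hDpos
    calc Nat.card (fixD (Additive ↥U) D) ≤ _ := hi
      _ ≤ _ := h6
      _ ≤ _ := Nat.mul_le_mul_left _ hii
  have hmain := f6_core h2 δ ξ hδ3 hξ2 hξδ hB hBδ hBξ W' hW'4 hWY hWB hoff
  intro u hu
  have h1 : (Additive.ofMul (⟨u, hu⟩ : ↥U) : Additive ↥U) +
      δ (Additive.ofMul (⟨u, hu⟩ : ↥U)) ∈ commD δ := mem_commD.mpr ⟨_, rfl⟩
  rw [hmain] at h1
  exact (hW'mem _).mp h1

end Cfsg.Agent.Helper7.JCF6
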