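import Mathlib
import Cfsg.Agent.Lib.Helper13.SpBN0
import Cfsg.Agent.Lib.Helper28.SpBorel

/-!
# S2545 piece CARD: orders of the upper triangular subgroup and of the torus of `Sp_{2m}(q)` (helper7)
-/

set_option autoImplicit false

namespace Cfsg.Agent.Helper7.SpBNCard

open Matrix Cfsg.Agent.Helper13.SpBN Cfsg.Agent.Helper28.SpBorel Cfsg.Agent.Helper6.SpN

variable {m : ℕ} {F : Type*} [Field F]

theorem bor_eq_borel [Finite F] : bor m F = borel m F := by
  ext g
  rw [mem_bor_iff, mem_borel_iff]
  constructor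
  · intro h
    refine ⟨?_, ?_⟩
    · ext i j
      show g.1 (Sum.inr i) (Sum.inl j) = 0
      apply h
      rw [key_inl, key_inr]
      have := i.2; have := j.2; omega
    · intro i j hij
      show g.1 (Sum.inl i) (Sum.inl j) = 0
      apply h
      rw [key_inl, key_inl]
      exact hij
  · intro hB
    have hBinv : Cfsg.Agent.Helper28.SpBorel.IsB (g⁻¹ : symplecticGroup (Fin m) F).1 := by
      have h1 : g⁻¹ ∈ borel m F := (borel m F).inv_mem ((mem_borel_iff g).2 hB)
      exact (mem_borel_iff _).1 h1
    intro a b hab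
    rcases a with i | i <;> rcases b with j | j
    · rw [key_inl, key_inl] at hab
      exact hB.2 (show id j < id i from hab)
    · rw [key_inl, key_inr] at hab
      have := i.2; have := j.2; omega
    · exact congrFun (congrFun hB.1 i) j
    · rw [key_inr, key_inr] at hab
      have hij : (i : ℕ) < j := by have := i.2; have := j.2; omega
      have h1 : (g⁻¹ : symplecticGroup (Fin m) F).1 (Sum.inl j) (Sum.inl i) = 0 :=
        hBinv.2 (show id i < id j from hij)
      rw [inv_apply] at h1
      simpa [sg, ng] using h1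

/-- PIECE CARD (1) of S2545. -/
theorem card_bor {m : ℕ} {F : Type*} [Field F] [Fintype F] :
    Nat.card ↥(bor m F) = Fintype.card F ^ (m ^ 2) * (Fintype.card F - 1) ^ m := by
  rw [bor_eq_borel]; exact card_borel

theorem tor_le_borel [Finite F] : tor m F ≤ borel m F := by
  rw [← bor_eq_borel]; exact tor_le_bor

/-- the diagonal parameters of a torus element -/
noncomputable def torParam [Finite F] (g : tor m F) : Fin m → Fˣ :=
  (borelEquiv ⟨g.1, tor_le_borel g.2⟩).1

theorem params_snd_of_tor [Finite F] (g : tor m F) :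
    (borelEquiv ⟨g.1, tor_le_borel g.2⟩).2 = 0 := by
  have hg := (mem_tor_iff' g.1).1 g.2
  ext i j
  show (if i < j then (g.1.1).toBlocks₁₁ i j
    else ((g.1.1).toBlocks₁₁⁻¹ * (g.1.1).toBlocks₁₂) i j) = 0
  have h12 : (g.1.1).toBlocks₁₂ = 0 := by
    ext a b
    exact hg (Sum.inl a) (Sum.inr b) (by simp)
  by_cases h : i < j
  · rw [if_pos h]
    exact hg (Sum.inl i) (Sum.inl j) (by simp [h.ne])
  · rw [if_neg h, h12, Matrix.mul_zero]; rfl

theorem gmat_zero_diag (d : Fin m → Fˣ) (a b : Fin m ⊕ Fin m) (hab : a ≠ b) :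
    gmat d (0 : Matrix (Fin m) (Fin m) F) a b = 0 := by
  have hA : Amat d (0 : Matrix (Fin m) (Fin m) F) = Matrix.diagonal (fun i => (d i : F)) := by
    ext i j
    rw [Amat_apply, Matrix.diagonal_apply]
    by_cases h : i < j
    · rw [if_pos h, if_neg h.ne]; rfl
    · rw [if_neg h]
  have hS : Smat (0 : Matrix (Fin m) (Fin m) F) = 0 := by
    ext i j
    rw [Smat_apply]; split_ifs <;> rfl
  rw [gmat, hS, Matrix.mul_zero, hA, Matrix.inv_diagonal, Matrix.diagonal_transpose]
  rcases a with i | i <;> rcases b with j | j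
  · rw [Matrix.fromBlocks_apply₁₁, Matrix.diagonal_apply_ne]
    intro h; exact hab (by rw [h])
  · rw [Matrix.fromBlocks_apply₁₂]; rfl
  · rw [Matrix.fromBlocks_apply₂₁]; rfl
  · rw [Matrix.fromBlocks_apply₂₂, Matrix.diagonal_apply_ne]
    intro h; exact hab (by rw [h])

theorem torParam_bijective [Finite F] :
    Function.Bijective (torParam : tor m F → (Fin m → Fˣ)) := by
  constructor
  · intro g g' h
    have h1 : borelEquiv ⟨g.1, tor_le_borel g.2⟩ = borelEquiv ⟨g'.1, tor_le_borel g'.2⟩ :=
      Prod.ext h ((params_snd_of_tor g).trans (params_snd_of_tor g').symm)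
    have h2 := borelEquiv.injective h1
    exact Subtype.ext (congrArg (fun x : borel m F => x.1) h2)
  · intro d
    set x : borel m F := borelEquiv.symm (d, (0 : Matrix (Fin m) (Fin m) F)) with hx
    have hmem : (x : symplecticGroup (Fin m) F) ∈ tor m F := by
      rw [mem_tor_iff']
      intro a b hab
      exact gmat_zero_diag d a b hab
    refine ⟨⟨x.1, hmem⟩, ?_⟩
    have e : (⟨x.1, tor_le_borel hmem⟩ : borel m F) = x := Subtype.ext rfl
    show (borelEquiv ⟨x.1, tor_le_borel hmem⟩).1 = d
    rw [e, hx, Equiv.apply_symm_apply]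

/-- PIECE CARD (2) of S2545. -/
theorem card_tor {m : ℕ} {F : Type*} [Field F] [Fintype F] :
    Nat.card ↥(tor m F) = (Fintype.card F - 1) ^ m := by
  rw [Nat.card_congr (Equiv.ofBijective _ (torParam_bijective (m := m) (F := F))), Nat.card_fun,
    Nat.card_units, Nat.card_eq_fintype_card (α := Fin m), Fintype.card_fin,
    Nat.card_eq_fintype_card (α := F)]

end Cfsg.Agent.Helper7.SpBNCard
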