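import Mathlib
import Cfsg.Agent.Lib.Helper13.StBN0
import Cfsg.Agent.Lib.Helper13.SdWord
import Cfsg.Agent.Lib.Helper2.SuWGen

/-!
# S2549, piece TWORD: the Weyl group of the twisted group `²D_{m+1}` is generated by `prT n i` (helper7)
-/

set_option autoImplicit false
set_option linter.unusedSectionVars false
set_option linter.unusedVariables false

namespace Cfsg.Agent.Helper13.StP

open Cfsg.Agent.Helper13.SuBN Cfsg.Agent.Helper13.SdBN Cfsg.Agent.Helper13.StBN
  Cfsg.Agent.Helper13.SuP Cfsg.Agent.Helper13.SdP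

variable {n : ℕ}

/-- the values of `prD n i` -/
theorem tw_prD_val (hn : n % 2 = 0) (h4 : 4 ≤ n) (i : Fin (n / 2)) (x : Fin n) :
    (prD n i x).val = if i.val + 1 < n / 2 then
        (if x.val = i.val then i.val + 1 else if x.val = i.val + 1 then i.val
          else if x.val = n - 1 - i.val then n - 2 - i.val
          else if x.val = n - 2 - i.val then n - 1 - i.val else x.val)
      else
        (if x.val = i.val - 1 then n - 1 - i.val else if x.val = n - 1 - i.val then i.val - 1
          else if x.val = n - i.val then i.val else if x.val = i.val then n - i.val else x.val) := by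
  obtain ⟨hab, hab', ha, hbb, hlt⟩ := abD hn h4 i
  unfold prD
  rw [sd_val_piS hab hab' ha hbb, Fin.val_rev, Fin.val_rev]
  have hai := aD_val i
  have hbi := bD_val i
  have hi := i.2
  have hx := x.2
  split_ifs at hai hbi ⊢ <;> omega

/-- the values of `prD n i`, as a disjunction -/
theorem tw_prD_spec (hn : n % 2 = 0) (h4 : 4 ≤ n) (i : Fin (n / 2)) (x : Fin n) :
    (i.val + 1 < n / 2 →
      ((i.val ≤ x.val ∧ x.val ≤ i.val + 1 ∧ x.val + (prD n i x).val = 2 * i.val + 1) ∨
       (n ≤ x.val + i.val + 2 ∧ x.val + i.val + 1 ≤ n ∧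
         x.val + (prD n i x).val + 2 * i.val + 3 = 2 * n) ∨
       ((x.val < i.val ∨ i.val + 1 < x.val) ∧ (x.val + i.val + 2 < n ∨ n < x.val + i.val + 1) ∧
         (prD n i x).val = x.val))) ∧
    (¬ i.val + 1 < n / 2 →
      ((i.val ≤ x.val + 1 ∧ x.val ≤ i.val ∧ (prD n i x).val = x.val + 2) ∨
       (i.val + 1 ≤ x.val ∧ x.val ≤ i.val + 2 ∧ (prD n i x).val + 2 = x.val) ∨
       ((x.val + 1 < i.val ∨ i.val + 2 < x.val) ∧ (prD n i x).val = x.val))) := by
  have h := tw_prD_val hn h4 i x
  have hi := i.2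
  have hx := x.2
  split_ifs at h <;> omega

/-- the values of `prT n i`, as a disjunction -/
theorem tw_prT_spec (hn : n % 2 = 0) (h4 : 4 ≤ n) (i : Fin (n / 2 - 1)) (x : Fin n) :
    (i.val + 2 < n / 2 →
      ((i.val ≤ x.val ∧ x.val ≤ i.val + 1 ∧ x.val + (prT n i x).val = 2 * i.val + 1) ∨
       (n ≤ x.val + i.val + 2 ∧ x.val + i.val + 1 ≤ n ∧
         x.val + (prT n i x).val + 2 * i.val + 3 = 2 * n) ∨
       ((x.val < i.val ∨ i.val + 1 < x.val) ∧ (x.val + i.val + 2 < n ∨ n < x.val + i.val + 1) ∧
         (prT n i x).val = x.val))) ∧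
    (¬ i.val + 2 < n / 2 →
      ((n / 2 ≤ x.val + 2 ∧ x.val ≤ n / 2 + 1 ∧ x.val + (prT n i x).val + 1 = n) ∨
       ((x.val + 2 < n / 2 ∨ n / 2 + 1 < x.val) ∧ (prT n i x).val = x.val))) := by
  have hi := i.2
  have hx := x.2
  have e1 : (iD i).val = i.val := rfl
  have e2 : (iD' i).val = i.val + 1 := rfl
  by_cases h : i.val + 2 < n / 2
  · have e : prT n i = prD n (iD i) := by
      unfold prT
      rw [if_pos h]
    have s1 := (tw_prD_spec hn h4 (iD i) x).1 (by rw [e1]; omega)
    rw [e1] at s1
    rw [e]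
    exact ⟨fun _ => s1, fun h' => absurd h h'⟩
  · have e : prT n i x = prD n (iD i) (prD n (iD' i) x) := by
      unfold prT
      rw [if_neg h, Equiv.Perm.mul_apply]
    have s1 := (tw_prD_spec hn h4 (iD' i) x).2 (by rw [e2]; omega)
    have s2 := (tw_prD_spec hn h4 (iD i) (prD n (iD' i) x)).1 (by rw [e1]; omega)
    rw [e1] at s2
    rw [e2] at s1
    rw [e]
    have hy := (prD n (iD' i) x).2
    refine ⟨fun h' => absurd h' h, fun _ => ?_⟩
    omega

/-- the values of `tauP`, as a disjunction -/
theorem tw_tauP_spec (x : Fin n) :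
    (x.val + 1 = n / 2 ∧ (tauP n x).val = n / 2) ∨
    (x.val = n / 2 ∧ 2 ≤ n ∧ (tauP n x).val + 1 = n / 2) ∨
    (x.val + 1 ≠ n / 2 ∧ ¬ (x.val = n / 2 ∧ 2 ≤ n) ∧ (tauP n x).val = x.val) := by
  have h := tauP_val x
  have hx := x.2
  split_ifs at h <;> omega

theorem tw_prT_rev (hn : n % 2 = 0) (h4 : 4 ≤ n) (i : Fin (n / 2 - 1)) (x : Fin n) :
    prT n i (Fin.rev x) = Fin.rev (prT n i x) := by
  apply Fin.ext
  have hi := i.2
  have hx := x.2
  have s1 := tw_prT_spec hn h4 i x
  have s2 := tw_prT_spec hn h4 i (Fin.rev x)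
  rw [Fin.val_rev] at s2 ⊢
  by_cases h : i.val + 2 < n / 2
  · have t1 := s1.1 h
    have t2 := s2.1 h
    omega
  · have t1 := s1.2 h
    have t2 := s2.2 h
    omega

theorem tw_prT_tau (hn : n % 2 = 0) (h4 : 4 ≤ n) (i : Fin (n / 2 - 1)) (x : Fin n) :
    prT n i (tauP n x) = tauP n (prT n i x) := by
  apply Fin.ext
  have hi := i.2
  have hx := x.2
  have s1 := tw_prT_spec hn h4 i x
  have s2 := tw_prT_spec hn h4 i (tauP n x)
  have s3 := tw_tauP_spec x
  have s4 := tw_tauP_spec (prT n i x)
  by_cases h : i.val + 2 < n / 2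
  · have t1 := s1.1 h
    have t2 := s2.1 h
    omega
  · have t1 := s1.2 h
    have t2 := s2.2 h
    omega

theorem tw_prT_prT (hn : n % 2 = 0) (h4 : 4 ≤ n) (i : Fin (n / 2 - 1)) (x : Fin n) :
    prT n i (prT n i x) = x := by
  apply Fin.ext
  have hi := i.2
  have hx := x.2
  have s1 := tw_prT_spec hn h4 i x
  have s2 := tw_prT_spec hn h4 i (prT n i x)
  by_cases h : i.val + 2 < n / 2
  · have t1 := s1.1 h
    have t2 := s2.1 h
    omega
  · have t1 := s1.2 h
    have t2 := s2.2 h
    omega

theorem tw_prT_mul_self (hn : n % 2 = 0) (h4 : 4 ≤ n) (i : Fin (n / 2 - 1)) :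
    prT n i * prT n i = 1 := by
  ext x
  rw [Equiv.Perm.mul_apply, tw_prT_prT hn h4, Equiv.Perm.one_apply]

theorem tw_sign_prT (hn : n % 2 = 0) (h4 : 4 ≤ n) (i : Fin (n / 2 - 1)) :
    Equiv.Perm.sign (prT n i) = 1 := by
  unfold prT
  split_ifs
  · exact sign_prD _ hn h4
  · rw [map_mul, sign_prD _ hn h4, sign_prD _ hn h4, one_mul]

/-- a permutation commuting with `τ` preserves the two middle indices -/
theorem tw_mid (h2 : 2 ≤ n) (π : Equiv.Perm (Fin n)) (hτ : ∀ a, π (tauP n a) = tauP n (π a))
    (c d : Fin n) (hc : c.val + 1 = n / 2) (hd : d.val = n / 2) :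
    ((π c).val + 1 = n / 2 ∧ (π d).val = n / 2) ∨ ((π c).val = n / 2 ∧ (π d).val + 1 = n / 2) := by
  have e : tauP n c = d := by
    apply Fin.ext
    rw [tauP_val]
    split_ifs <;> omega
  have h1 := hτ c
  rw [e] at h1
  have h3 := congrArg Fin.val h1
  rw [tauP_val] at h3
  have hne : (π d).val ≠ (π c).val := by
    intro e'
    have := congrArg Fin.val (π.injective (Fin.ext e'))
    omega
  split_ifs at h3 <;> omega

/-- the potential difference for an arbitrary involution -/
theorem tw_two_mul_diff (π s : Equiv.Perm (Fin n)) (hs : ∀ x, s (s x) = x) :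
    ∑ a, (((s a).val : ℤ) - a.val) * (((π a).val : ℤ) - (π (s a)).val) =
      2 * (wgPhi (π * s) - wgPhi π) := by
  have e1 : ∑ a, ((s a).val : ℤ) * (π a).val = wgPhi (π * s) := by
    unfold wgPhi
    rw [← Equiv.sum_comp s (fun b => (b.val : ℤ) * (((π * s) b).val : ℤ))]
    apply Finset.sum_congr rfl
    intro a _
    rw [Equiv.Perm.mul_apply, hs]
  have e2 : ∑ a, ((s a).val : ℤ) * (π (s a)).val = wgPhi π :=
    Equiv.sum_comp s (fun b => (b.val : ℤ) * ((π b).val : ℤ))
  have e3 : ∑ a : Fin n, (a.val : ℤ) * (π (s a)).val = wgPhi (π * s) := rfl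
  have e4 : ∑ a : Fin n, (a.val : ℤ) * (π a).val = wgPhi π := rfl
  calc ∑ a, (((s a).val : ℤ) - a.val) * (((π a).val : ℤ) - (π (s a)).val)
      = ∑ a, (((s a).val : ℤ) * (π a).val - ((s a).val : ℤ) * (π (s a)).val
          - ((a.val : ℤ) * (π a).val - (a.val : ℤ) * (π (s a)).val)) := by
        apply Finset.sum_congr rfl
        intro a _
        ring
    _ = 2 * (wgPhi (π * s) - wgPhi π) := by
        rw [Finset.sum_sub_distrib, Finset.sum_sub_distrib, Finset.sum_sub_distrib, e1, e2, e3, e4]
        ring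

/-- a descent at the last (twisted) simple root increases the potential -/
theorem tw_phi_lt_last (hn : n % 2 = 0) (h4 : 4 ≤ n) (π : Equiv.Perm (Fin n))
    (hτ : ∀ a, π (tauP n a) = tauP n (π a))
    (i : Fin (n / 2 - 1)) (hi : ¬ i.val + 2 < n / 2) (a a' : Fin n) (ha : a.val + 2 = n / 2)
    (ha' : a'.val = n / 2 + 1) (hdesc : (π a').val < (π a).val) :
    wgPhi π < wgPhi (π * prT n i) := by
  obtain ⟨c, hc⟩ : ∃ c : Fin n, c.val + 1 = n / 2 := ⟨⟨n / 2 - 1, by omega⟩, by show n / 2 - 1 + 1 = n / 2; omega⟩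
  obtain ⟨d, hd⟩ : ∃ d : Fin n, d.val = n / 2 := ⟨⟨n / 2, by omega⟩, rfl⟩
  have hmid := tw_mid (by omega) π hτ c d hc hd
  have h2 := tw_two_mul_diff π (prT n i) (tw_prT_prT hn h4 i)
  have sa : prT n i a = a' := by
    apply Fin.ext
    have t := (tw_prT_spec hn h4 i a).2 hi
    omega
  have sa' : prT n i a' = a := by
    apply Fin.ext
    have t := (tw_prT_spec hn h4 i a').2 hi
    omega
  have sc : prT n i c = d := by
    apply Fin.ext
    have t := (tw_prT_spec hn h4 i c).2 hi
    omega
  have sd : prT n i d = c := by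
    apply Fin.ext
    have t := (tw_prT_spec hn h4 i d).2 hi
    omega
  have hS : ∑ x ∈ ({a, a', c, d} : Finset (Fin n)),
      (((prT n i x).val : ℤ) - x.val) * (((π x).val : ℤ) - (π (prT n i x)).val) =
      ∑ x, (((prT n i x).val : ℤ) - x.val) * (((π x).val : ℤ) - (π (prT n i x)).val) := by
    apply Finset.sum_subset (Finset.subset_univ _)
    intro x _ hx
    simp only [Finset.mem_insert, Finset.mem_singleton, not_or] at hx
    obtain ⟨x1, x2, x3, x4⟩ := hx
    have y1 : x.val ≠ a.val := fun e => x1 (Fin.ext e)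
    have y2 : x.val ≠ a'.val := fun e => x2 (Fin.ext e)
    have y3 : x.val ≠ c.val := fun e => x3 (Fin.ext e)
    have y4 : x.val ≠ d.val := fun e => x4 (Fin.ext e)
    have sx : prT n i x = x := by
      apply Fin.ext
      have t := (tw_prT_spec hn h4 i x).2 hi
      omega
    rw [sx]
    ring
  have n1 : a ∉ ({a', c, d} : Finset (Fin n)) := by
    simp only [Finset.mem_insert, Finset.mem_singleton, not_or, Fin.ext_iff]
    omega
  have n2 : a' ∉ ({c, d} : Finset (Fin n)) := by
    simp only [Finset.mem_insert, Finset.mem_singleton, not_or, Fin.ext_iff]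
    omega
  have n3 : c ∉ ({d} : Finset (Fin n)) := by
    simp only [Finset.mem_singleton, Fin.ext_iff]
    omega
  rw [Finset.sum_insert n1, Finset.sum_insert n2, Finset.sum_insert n3, Finset.sum_singleton,
    sa, sa', sc, sd, h2] at hS
  have v1 : ((a'.val : ℕ) : ℤ) - a.val = 3 := by omega
  have v2 : ((d.val : ℕ) : ℤ) - c.val = 1 := by omega
  have v3 : ((a.val : ℕ) : ℤ) - a'.val = -3 := by omega
  have v4 : ((c.val : ℕ) : ℤ) - d.val = -1 := by omega
  rw [v1, v2, v3, v4] at hS
  have k1 : (1 : ℤ) ≤ ((π a).val : ℤ) - (π a').val := by omega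
  have k2 : (-1 : ℤ) ≤ ((π c).val : ℤ) - (π d).val := by omega
  linarith

/-- no descent: `π = 1` -/
theorem tw_no_descent (hn : n % 2 = 0) (h4 : 4 ≤ n) (π : Equiv.Perm (Fin n))
    (hπ : ∀ a, π (Fin.rev a) = Fin.rev (π a)) (hτ : ∀ a, π (tauP n a) = tauP n (π a))
    (hs : Equiv.Perm.sign π = 1)
    (hd1 : ∀ x y : Fin n, y.val = x.val + 1 → x.val + 2 < n / 2 → (π x).val < (π y).val)
    (hd2 : ∀ a a' : Fin n, a.val + 2 = n / 2 → a'.val = n / 2 + 1 → (π a).val < (π a').val) :
    π = 1 := by
  obtain ⟨c, hc⟩ : ∃ c : Fin n, c.val + 1 = n / 2 := ⟨⟨n / 2 - 1, by omega⟩, by show n / 2 - 1 + 1 = n / 2; omega⟩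
  obtain ⟨d, hd⟩ : ∃ d : Fin n, d.val = n / 2 := ⟨⟨n / 2, by omega⟩, rfl⟩
  obtain ⟨a, ha⟩ : ∃ a : Fin n, a.val + 2 = n / 2 := ⟨⟨n / 2 - 2, by omega⟩, by show n / 2 - 2 + 2 = n / 2; omega⟩
  obtain ⟨a', ha'⟩ : ∃ a' : Fin n, a'.val = n / 2 + 1 := ⟨⟨n / 2 + 1, by omega⟩, rfl⟩
  have hra : Fin.rev a = a' := by
    apply Fin.ext
    rw [Fin.val_rev]
    omega
  have hrc : Fin.rev c = d := by
    apply Fin.ext
    rw [Fin.val_rev]
    omega
  have haa := hd2 a a' ha ha'
  have hraa : (π a').val = n - 1 - (π a).val := by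
    rw [← hra, hπ, Fin.val_rev]
    have := (π a).2
    omega
  have hac : (π a).val ≠ (π c).val := by
    intro e
    have := congrArg Fin.val (π.injective (Fin.ext e))
    omega
  -- the general criterion
  have crit : ∀ ρ : Equiv.Perm (Fin n), (∀ x, ρ (Fin.rev x) = Fin.rev (ρ x)) →
      (∀ x : Fin n, x ≠ c → x ≠ d → ρ x = π x) → (ρ c).val + 1 = n / 2 → (ρ d).val = n / 2 →
      (π a).val ≠ (ρ c).val → ρ = 1 := by
    intro ρ hρ hρπ hρc hρd hρa
    apply wg_eq_one_of_no_descent ρ hρ
    intro j
    have hj := j.2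
    have hjx : (ix n j).val = j.val := rfl
    have hjy := wg_val_rb j
    by_cases j1 : j.val + 2 < n / 2
    · rw [if_pos (by omega)] at hjy
      rw [hρπ (ix n j) (fun e => by have := congrArg Fin.val e; omega)
          (fun e => by have := congrArg Fin.val e; omega),
        hρπ (wgRb n j) (fun e => by have := congrArg Fin.val e; omega)
          (fun e => by have := congrArg Fin.val e; omega)]
      exact hd1 _ _ (by rw [hjy, hjx]) (by rw [hjx]; exact j1)
    by_cases j2 : j.val + 2 = n / 2
    · rw [if_pos (by omega)] at hjy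
      have e1 : ix n j = a := Fin.ext (by rw [hjx]; omega)
      have e2 : wgRb n j = c := Fin.ext (by rw [hjy]; omega)
      rw [e1, e2, hρπ a (fun e => by have := congrArg Fin.val e; omega)
          (fun e => by have := congrArg Fin.val e; omega)]
      omega
    · rw [if_neg (by omega)] at hjy
      have e1 : ix n j = c := Fin.ext (by rw [hjx]; omega)
      have e2 : wgRb n j = d := Fin.ext (by rw [hjy]; omega)
      rw [e1, e2]
      omega
  rcases tw_mid (by omega) π hτ c d hc hd with ⟨m1, m2⟩ | ⟨m1, m2⟩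
  · exact crit π hπ (fun _ _ _ => rfl) m1 m2 hac
  · exfalso
    have hτc : tauP n c = d := by
      apply Fin.ext
      rw [tauP_val]
      split_ifs <;> omega
    have hτd : tauP n d = c := by
      rw [← hτc, tauP_tauP]
    have hτx : ∀ x : Fin n, x ≠ c → x ≠ d → tauP n x = x := by
      intro x x1 x2
      have y1 : x.val ≠ c.val := fun e => x1 (Fin.ext e)
      have y2 : x.val ≠ d.val := fun e => x2 (Fin.ext e)
      apply Fin.ext
      rw [tauP_val]
      split_ifs <;> omega
    have had : (π a).val ≠ (π d).val := by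
      intro e
      have := congrArg Fin.val (π.injective (Fin.ext e))
      omega
    have h1 : π * tauP n = 1 := by
      apply crit (π * tauP n)
      · intro x
        rw [Equiv.Perm.mul_apply, Equiv.Perm.mul_apply, tauP_rev hn, hπ]
      · intro x x1 x2
        rw [Equiv.Perm.mul_apply, hτx x x1 x2]
      · rw [Equiv.Perm.mul_apply, hτc]
        exact m2
      · rw [Equiv.Perm.mul_apply, hτd]
        exact m1
      · rw [Equiv.Perm.mul_apply, hτc]
        exact had
    have h2 : π = tauP n := by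
      rw [← tauP_inv]
      exact eq_inv_of_mul_eq_one_left h1
    have h3 : Equiv.Perm.sign (tauP n) = -1 := by
      have h2n : 2 ≤ n := by omega
      unfold tauP
      rw [dif_pos h2n]
      apply Equiv.Perm.sign_swap
      intro e
      have := congrArg Fin.val e
      simp only at this
      omega
    rw [h2, h3] at hs
    exact absurd hs (by decide)

theorem exists_wordT {n : ℕ} (hn : n % 2 = 0) (h4 : 4 ≤ n) (π : Equiv.Perm (Fin n))
    (hπ : ∀ a, π (Fin.rev a) = Fin.rev (π a)) (hτ : ∀ a, π (tauP n a) = tauP n (π a))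
    (hs : Equiv.Perm.sign π = 1) :
    ∃ l : List (Fin (n / 2 - 1)), π = (l.map (prT n)).prod := by
  obtain ⟨B, hB⟩ : ∃ B : ℤ, B = ∑ a : Fin n, (a.val : ℤ) * (n : ℤ) := ⟨_, rfl⟩
  have key_ind : ∀ k : ℕ, ∀ π : Equiv.Perm (Fin n), (∀ a, π (Fin.rev a) = Fin.rev (π a)) →
      (∀ a, π (tauP n a) = tauP n (π a)) → Equiv.Perm.sign π = 1 →
      B - wgPhi π ≤ k → ∃ l : List (Fin (n / 2 - 1)), π = (l.map (prT n)).prod := by
    intro k
    induction k with
    | zero =>
      intro π hπ hτ hs hk
      -- no step is possible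
      have hstep : ∀ i : Fin (n / 2 - 1), ¬ wgPhi π < wgPhi (π * prT n i) := by
        intro i hlt
        have hle := wgPhi_le (π * prT n i)
        rw [← hB] at hle
        push_cast at hk
        linarith
      refine ⟨[], ?_⟩
      rw [List.map_nil, List.prod_nil]
      apply tw_no_descent hn h4 π hπ hτ hs
      · intro x y hxy hx
        by_contra hlt
        have hne : (π y).val ≠ (π x).val := by
          intro e
          have := congrArg Fin.val (π.injective (Fin.ext e))
          omega
        have hlt' : (π y).val < (π x).val := by omega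
        obtain ⟨i, hi⟩ : ∃ i : Fin (n / 2 - 1), i.val = x.val := ⟨⟨x.val, by omega⟩, rfl⟩
        have hi1 : (iD i).val + 1 < n / 2 := by show i.val + 1 < n / 2; omega
        have e0 : prT n i = pr n (iD i) := by
          unfold prT
          rw [if_pos (by omega)]
          exact prD_eq_pr (iD i) hi1
        have e1 : ix n (iD i) = x := Fin.ext hi
        have e2 : wgRb n (iD i) = y := by
          apply Fin.ext
          rw [wg_val_rb, if_pos hi1, hxy]
          show i.val + 1 = x.val + 1
          omega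
        apply hstep i
        rw [e0]
        apply wgPhi_lt_of_descent π hπ (iD i)
        rw [e1, e2]
        exact hlt'
      · intro a a' ha ha'
        by_contra hlt
        have hne : (π a').val ≠ (π a).val := by
          intro e
          have := congrArg Fin.val (π.injective (Fin.ext e))
          omega
        have hlt' : (π a').val < (π a).val := by omega
        obtain ⟨i, hi⟩ : ∃ i : Fin (n / 2 - 1), i.val + 2 = n / 2 :=
          ⟨⟨n / 2 - 2, by omega⟩, by show n / 2 - 2 + 2 = n / 2; omega⟩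
        exact hstep i (tw_phi_lt_last hn h4 π hτ i (by omega) a a' ha ha' hlt')
    | succ k ih =>
      intro π hπ hτ hs hk
      by_cases hstep : ∃ i : Fin (n / 2 - 1), wgPhi π < wgPhi (π * prT n i)
      · obtain ⟨i, hlt⟩ := hstep
        have hπ' : ∀ a, (π * prT n i) (Fin.rev a) = Fin.rev ((π * prT n i) a) := by
          intro a
          rw [Equiv.Perm.mul_apply, Equiv.Perm.mul_apply, tw_prT_rev hn h4, hπ]
        have hτ' : ∀ a, (π * prT n i) (tauP n a) = tauP n ((π * prT n i) a) := by
          intro a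
          rw [Equiv.Perm.mul_apply, Equiv.Perm.mul_apply, tw_prT_tau hn h4, hτ]
        have hs' : Equiv.Perm.sign (π * prT n i) = 1 := by
          rw [map_mul, hs, tw_sign_prT hn h4, one_mul]
        obtain ⟨l, hl⟩ := ih (π * prT n i) hπ' hτ' hs' (by push_cast at hk ⊢; linarith)
        refine ⟨l ++ [i], ?_⟩
        rw [List.map_append, List.prod_append, ← hl, List.map_singleton, List.prod_singleton,
          mul_assoc, tw_prT_mul_self hn h4, mul_one]
      · push Not at hstep
        refine ⟨[], ?_⟩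
        rw [List.map_nil, List.prod_nil]
        apply tw_no_descent hn h4 π hπ hτ hs
        · intro x y hxy hx
          by_contra hlt
          have hne : (π y).val ≠ (π x).val := by
            intro e
            have := congrArg Fin.val (π.injective (Fin.ext e))
            omega
          have hlt' : (π y).val < (π x).val := by omega
          obtain ⟨i, hi⟩ : ∃ i : Fin (n / 2 - 1), i.val = x.val := ⟨⟨x.val, by omega⟩, rfl⟩
          have hi1 : (iD i).val + 1 < n / 2 := by show i.val + 1 < n / 2; omega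
          have e0 : prT n i = pr n (iD i) := by
            unfold prT
            rw [if_pos (by omega)]
            exact prD_eq_pr (iD i) hi1
          have e1 : ix n (iD i) = x := Fin.ext hi
          have e2 : wgRb n (iD i) = y := by
            apply Fin.ext
            rw [wg_val_rb, if_pos hi1, hxy]
            show i.val + 1 = x.val + 1
            omega
          apply absurd (hstep i) (not_le.mpr ?_)
          rw [e0]
          apply wgPhi_lt_of_descent π hπ (iD i)
          rw [e1, e2]
          exact hlt'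
        · intro a a' ha ha'
          by_contra hlt
          have hne : (π a').val ≠ (π a).val := by
            intro e
            have := congrArg Fin.val (π.injective (Fin.ext e))
            omega
          have hlt' : (π a').val < (π a).val := by omega
          obtain ⟨i, hi⟩ : ∃ i : Fin (n / 2 - 1), i.val + 2 = n / 2 :=
            ⟨⟨n / 2 - 2, by omega⟩, by show n / 2 - 2 + 2 = n / 2; omega⟩
          exact absurd (hstep i) (not_le.mpr (tw_phi_lt_last hn h4 π hτ i (by omega) a a' ha ha' hlt'))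
  have hle := wgPhi_le π
  rw [← hB] at hle
  exact key_ind (B - wgPhi π).toNat π hπ hτ hs (by rw [Int.toNat_of_nonneg (by linarith)])

theorem prT_injective {n : ℕ} (hn : n % 2 = 0) (h4 : 4 ≤ n) : Function.Injective (prT n) := by
  intro i j hij
  have hi := i.2
  have hj := j.2
  obtain ⟨x, hx⟩ : ∃ x : Fin n, x.val = i.val := ⟨⟨i.val, by omega⟩, rfl⟩
  have h1 := tw_prT_spec hn h4 i x
  have h2 := tw_prT_spec hn h4 j x
  rw [hij] at h1
  apply Fin.ext
  omega

end Cfsg.Agent.Helper13.StP
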