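import Mathlib
import Cfsg.Agent.Lib.Helper18.BG13Q2
import Cfsg.Agent.S0025

/-!
# Bender-Glauberman 13.7 (S1428): step (A1) of the descent (helper7)

`exists_sylow_centralizing`: `p ∈ σ(H) ∖ β(H)`, `P ≤ H` of order `p`, `R ≤ C_H(P)` of prime order
`r ∉ σ(H)`, `Q₀ ≤ H'` an `R`-invariant `q`-subgroup (`q ≠ p`) centralizing `P`.  Then some
`R`-invariant Sylow `p`-subgroup `S` of `G` with `P ≤ S ≤ H_σ` centralizes `Q₀`.
-/

set_option autoImplicit false
set_option linter.style.haveILetI false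
set_option linter.unusedSectionVars false
set_option linter.unusedVariables false

namespace Cfsg.Agent.Helper7.BG13A1

open Cfsg Subgroup
open scoped commutatorElement
open Cfsg.Agent.Helper14.BGTrans Cfsg.Agent.Helper14.BGUniq
open Cfsg.Agent.Helper10 (IsPiNum)
open Cfsg.Agent.Helper15 (IsSylowIn isSylowIn_map_subtype exists_isSylowIn_ge exists_isSylowIn
  isSylowIn_of_not_dvd_relIndex isSylowIn_of_card)
open Cfsg.Agent.Helper22.BG13
open Cfsg.Agent.Helper20.MinInv (comm_le_of_le_normalizer)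
open Cfsg.Agent.Helper18.BG13P
open Cfsg.Agent.Helper18.BG13Q

universe u

variable {G : Type u} [Group G] [Finite G]

/-- a normal `p`-complement of `D`, as a subgroup of `G` normalized by everything that
normalizes `D` -/
theorem exists_pcompl {D L : Subgroup G} {p : ℕ} [Fact p.Prime]
    (h : HasNormalPComplement p ↥D) (hLD : L ≤ normalizer (D : Set G)) :
    ∃ W : Subgroup G, W ≤ D ∧ L ≤ normalizer (W : Set G) ∧ (Nat.card ↥W).Coprime p ∧
      ∀ x ∈ D, (orderOf x).Coprime p → x ∈ W := by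
  obtain ⟨N, hN, hNp, hNmem⟩ := exists_normal_of_hasNormalPComplement h
  have hmem : ∀ x : G, x ∈ N.map D.subtype ↔ x ∈ D ∧ (orderOf x).Coprime p := by
    intro x
    constructor
    · rintro ⟨n, hn, rfl⟩
      refine ⟨n.2, ?_⟩
      have h1 : orderOf (D.subtype n) = orderOf n := Subgroup.orderOf_coe n
      have h2 : orderOf n ∣ Nat.card ↥N := by
        have := orderOf_dvd_natCard (⟨n, hn⟩ : ↥N)
        rwa [Subgroup.orderOf_mk] at this
      rw [h1]
      exact Nat.Coprime.coprime_dvd_left h2 hNp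
    · rintro ⟨hxD, hxp⟩
      refine ⟨⟨x, hxD⟩, hNmem _ ?_, rfl⟩
      rwa [Subgroup.orderOf_mk]
  refine ⟨N.map D.subtype, Subgroup.map_subtype_le _, ?_, ?_, ?_⟩
  · intro l hl
    rw [Subgroup.mem_normalizer_iff]
    intro w
    rw [hmem, hmem]
    have hord : orderOf (l * w * l⁻¹) = orderOf w := by
      have := (MulAut.conj l).orderOf_eq w
      rwa [MulAut.conj_apply] at this
    rw [hord]
    have hD := Subgroup.mem_normalizer_iff.mp (hLD hl) w
    constructor
    · rintro ⟨h1, h2⟩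
      exact ⟨hD.mp h1, h2⟩
    · rintro ⟨h1, h2⟩
      exact ⟨hD.mpr h1, h2⟩
  · rw [Subgroup.card_map_of_injective D.subtype_injective]; exact hNp
  · intro x hxD hxp
    exact (hmem x).mpr ⟨hxD, hxp⟩

/-- **(A1)** of the descent in the proof of BG 13.7 -/
theorem exists_sylow_centralizing (h : Hyps G) {M H P R Q₀ : Subgroup G} {p r q : ℕ}
    [Fact p.Prime] [Fact q.Prime]
    (hM : IsCoatom M) (hH : IsCoatom H)
    (hconj : ∀ g : G, H ≠ M.map (MulAut.conj g).toMonoidHom)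
    (hpH : p ∈ sigma H) (hpβ : p ∉ beta H) (hP : Nat.card ↥P = p) (hPH : P ≤ H)
    (hR : Nat.card ↥R = r) (hr : r.Prime) (hrH : r ∉ sigma H) (hRH : R ≤ H)
    (hRP : R ≤ centralizer (P : Set G))
    (hqM : q ∈ sigma M) (hqp : q ≠ p) (hQ₀ : IsPGroup q ↥Q₀) (hQ₀M : Q₀ ≤ sigmaCore M)
    (hQ₀H' : Q₀ ≤ ⁅H, H⁆) (hRQ₀ : R ≤ normalizer (Q₀ : Set G))
    (hQ₀P : Q₀ ≤ centralizer (P : Set G)) :
    ∃ S : Subgroup G, IsSylowIn p S ⊤ ∧ P ≤ S ∧ S ≤ sigmaCore H ∧
      S ≤ centralizer (Q₀ : Set G) ∧ R ≤ normalizer (S : Set G) := by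
  have hp : p.Prime := Fact.out
  have hq : q.Prime := Fact.out
  have hG := h.hG
  have h1350 := h.h1350
  have h1403 := h.h1403
  have h1404 := h.h1404
  have h1414 := h.h1414
  have hpdH : p ∣ Nat.card ↥H := dvd_card_of_mem_sigma hpH
  have hH'H : ⁅H, H⁆ ≤ H := commutator_self_le H
  have hHH' : H ≤ normalizer ((⁅H, H⁆ : Subgroup G) : Set G) :=
    le_normalizer_commutator_of_le Subgroup.le_normalizer Subgroup.le_normalizer
  -- the normal `p`-complement `K'` of `H'`
  obtain ⟨K', hK'H', hHK', hK'p, hK'mem⟩ :=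
    exists_pcompl ((h1414 H hH).2.2.2.2 p hp hpdH hpβ).1 hHH'
  have hK'H : K' ≤ H := hK'H'.trans hH'H
  have hqp' : q.Coprime p := (Nat.coprime_primes hq hp).mpr hqp
  have hQ₀K' : Q₀ ≤ K' := by
    intro x hx
    apply hK'mem x (hQ₀H' hx)
    obtain ⟨i, hi⟩ := orderOf_eq_pow_of_isPGroup hQ₀ hx
    rw [hi]
    exact Nat.Coprime.pow_left i hqp'
  -- a Sylow `q`-subgroup of `K'` over `Q₀` and the Frattini argument
  obtain ⟨QN, hQ₀QN, hQN⟩ := exists_isSylowIn_ge hQ₀ hQ₀K'
  have hfr := frattini_factor hK'H hHK' hQN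
  set L := H ⊓ normalizer (QN : Set G) with hL
  have hLH : L ≤ H := inf_le_left
  obtain ⟨S₁, hS₁⟩ := exists_isSylowIn (p := p) L
  have hS₁H : IsSylowIn p S₁ H := by
    apply isSylowIn_of_not_dvd_relIndex hS₁.isPGroup (hS₁.le.trans hLH)
    intro hdvd
    have h1 : S₁.relIndex H = S₁.relIndex L * L.relIndex H :=
      (Subgroup.relIndex_mul_relIndex S₁ L H hS₁.le hLH).symm
    rw [h1] at hdvd
    rcases (Nat.Prime.dvd_mul hp).mp hdvd with h2 | h2
    · exact hS₁.not_dvd_relIndex h2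
    · -- `|H : L|` divides `|K'|`
      have h3 : H ≤ K' ⊔ L := by
        intro x hx
        obtain ⟨k, hk, n, hn, hxkn⟩ := hfr x hx
        rw [hxkn]
        exact Subgroup.mul_mem _ (Subgroup.mem_sup_left hk) (Subgroup.mem_sup_right hn)
      have h4 : K' ⊔ L = H := le_antisymm (sup_le hK'H hLH) h3
      have h5 : Nat.card ↥(K' ⊔ L : Subgroup G) ∣ Nat.card ↥K' * Nat.card ↥L :=
        Cfsg.Agent.Helper7.card_sup_dvd_mul_of_le_normalizer (hLH.trans hHK')
      rw [h4] at h5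
      have h6 : L.relIndex H * Nat.card ↥L = Nat.card ↥H :=
        Cfsg.Agent.Helper7.relIndex_mul_card_of_le hLH
      rw [← h6] at h5
      have h7 : L.relIndex H ∣ Nat.card ↥K' :=
        Nat.dvd_of_mul_dvd_mul_right Nat.card_pos h5
      exact (Nat.Prime.coprime_iff_not_dvd hp).mp hK'p.symm (h2.trans h7)
  have hS₁σ : S₁ ≤ sigmaCore H :=
    le_sigmaCore_of_isPiNum h1350 hH hS₁H.le (isPiNum_of_isPGroup hpH hS₁H.isPGroup)
  have hS₁N : S₁ ≤ normalizer (QN : Set G) := hS₁.le.trans inf_le_right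
  -- a normal `q'`-subgroup `W` of `H` containing `S₁`
  have hW : ∃ W : Subgroup G, S₁ ≤ W ∧ H ≤ normalizer (W : Set G) ∧
      (Nat.card ↥W).Coprime q := by
    by_cases hqH : q ∈ sigma H
    · have hqdH : q ∣ Nat.card ↥H := dvd_card_of_mem_sigma hqH
      have hqβ : q ∉ beta H := by
        intro hqβ
        have hhall := (h1414 H hH).1
        have hqHβ : q ∣ Nat.card ↥(piCoreOf (beta H) H) := by
          have h1 := Cfsg.Agent.Helper7.relIndex_mul_card_of_le hhall.1
          rw [← h1] at hqdH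
          rcases (Nat.Prime.dvd_mul hq).mp hqdH with h2 | h2
          · exact absurd h2 (hhall.2.2 q hq hqβ)
          · exact h2
        exact not_dvd_card_betaCore hG h1403 hM hH hconj q hqM hqHβ
      obtain ⟨W, hWH', hHW, hWq, hWmem⟩ :=
        exists_pcompl ((h1414 H hH).2.2.2.2 q hq hqdH hqβ).1 hHH'
      refine ⟨W, ?_, hHW, hWq⟩
      intro x hx
      apply hWmem x (sigmaCore_le_commutator hG h1404 h1350 hH (hS₁σ hx))
      obtain ⟨i, hi⟩ := orderOf_eq_pow_of_isPGroup hS₁H.isPGroup hx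
      rw [hi]
      exact Nat.Coprime.pow_left i hqp'.symm
    · refine ⟨sigmaCore H, hS₁σ, le_normalizer_sigmaCore H, ?_⟩
      rw [Nat.coprime_comm]
      exact (Nat.Prime.coprime_iff_not_dvd hq).mpr (not_dvd_card_sigmaCore hq hqH)
  obtain ⟨W, hS₁W, hHW, hWq⟩ := hW
  have hcomm : ⁅QN, S₁⁆ = ⊥ := by
    have h1 : ⁅QN, S₁⁆ ≤ QN := comm_le_of_le_normalizer hS₁N
    have h2 : ⁅QN, S₁⁆ ≤ W := by
      rw [Subgroup.commutator_comm]
      exact (Subgroup.commutator_mono hS₁W le_rfl).trans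
        (comm_le_of_le_normalizer ((hQN.le.trans hK'H).trans hHW))
    have h3 : QN ⊓ W = ⊥ := by
      apply Disjoint.eq_bot
      apply Subgroup.disjoint_of_coprime_natCard
      obtain ⟨k, hk⟩ := hQN.isPGroup.exists_card_eq
      rw [hk]
      exact Nat.Coprime.pow_left k hWq.symm
    have h4 := le_inf h1 h2
    rw [h3] at h4
    exact le_bot_iff.mp h4
  have hS₁C : S₁ ≤ centralizer (Q₀ : Set G) := by
    rw [Subgroup.commutator_comm, Subgroup.commutator_eq_bot_iff_le_centralizer] at hcomm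
    exact hcomm.trans (Subgroup.centralizer_le (SetLike.coe_subset_coe.mpr hQ₀QN))
  -- the `R`-invariant Sylow `p`-subgroup of `X = C_{H_σ}(Q₀)` over `P`
  set X := sigmaCore H ⊓ centralizer (Q₀ : Set G) with hX
  have hXH : X ≤ H := inf_le_left.trans (sigmaCore_le H)
  have hS₁X : S₁ ≤ X := le_inf hS₁σ hS₁C
  have hPp : IsPGroup p ↥P := IsPGroup.of_card (n := 1) (by rw [hP, pow_one])
  have hPX : P ≤ X := le_inf
    (le_sigmaCore_of_isPiNum h1350 hH hPH (isPiNum_of_isPGroup hpH hPp))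
    (Subgroup.le_centralizer_iff.mp hQ₀P)
  have hRX : R ≤ normalizer (X : Set G) :=
    le_normalizer_inf_of_le (hRH.trans (le_normalizer_sigmaCore H))
      (hRQ₀.trans (normalizer_le_normalizer_centralizer Q₀))
  have hcop : (Nat.card ↥R).Coprime (Nat.card ↥X) := by
    rw [hR]
    apply (Nat.Prime.coprime_iff_not_dvd hr).mpr
    intro hd
    exact not_dvd_card_sigmaCore hr hrH (hd.trans (Subgroup.card_dvd_of_le inf_le_left))
  have hXtop : X ≠ ⊤ := by
    intro hXt
    rw [hXt] at hXH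
    exact hH.1 (top_le_iff.mp hXH)
  have hsolv : Group.IsSolvable ↥X := isSolvable_of_ne_top hG hXtop
  obtain ⟨S, hPS, hRS⟩ := Cfsg.Agent.S0025.result R X hRX hcop (Or.inr hsolv) p P hPX hPp
    (hRP.trans (Subgroup.centralizer_le_normalizer _))
  have hS'X : IsSylowIn p ((S : Subgroup ↥X).map X.subtype) X := isSylowIn_map_subtype S
  have hS₁X' : IsSylowIn p S₁ X := hS₁H.of_le hS₁X hXH
  have hcard : Nat.card ↥((S : Subgroup ↥X).map X.subtype) = Nat.card ↥S₁ := by
    rw [hS'X.card_eq, hS₁X'.card_eq]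
  have hS'H : IsSylowIn p ((S : Subgroup ↥X).map X.subtype) H := by
    apply isSylowIn_of_card (hS'X.le.trans hXH)
    rw [hcard, hS₁H.card_eq]
  exact ⟨(S : Subgroup ↥X).map X.subtype, isSylowIn_top_of_mem_sigma hpH hS'H, hPS,
    hS'X.le.trans inf_le_left, hS'X.le.trans inf_le_right, hRS⟩

end Cfsg.Agent.Helper7.BG13A1
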