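import Mathlib

/-!
# Orbits of a finite group on a set all of whose points have the same stabilizer
(helper7's library)
-/

set_option autoImplicit false

namespace Cfsg.Agent.Helper7.BL

section Orbit

variable {N : Type*} [Group N] [Fintype N] {X : Type*} [DecidableEq X]
  (act : N → X → X) (hone : ∀ x, act 1 x = x)
  (hmul : ∀ n m x, act (n * m) x = act n (act m x)) (C : Subgroup N)

include hone hmul

/-- the fibre of the orbit map over a point of the orbit -/
theorem card_fiber (x : X) (hstab : ∀ n, act n x = x ↔ n ∈ C) (n₀ : N) :
    (Finset.univ.filter (fun n => act n x = act n₀ x)).card = Nat.card C := by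
  classical
  haveI : Fintype C := Fintype.ofFinite C
  have himg : Finset.univ.filter (fun n => act n x = act n₀ x) =
      Finset.image (fun c : C => n₀ * (c : N)) Finset.univ := by
    ext n
    simp only [Finset.mem_filter, Finset.mem_univ, true_and, Finset.mem_image]
    constructor
    · intro h
      refine ⟨⟨n₀⁻¹ * n, ?_⟩, ?_⟩
      · rw [← hstab, hmul, h, ← hmul, inv_mul_cancel, hone]
      · show n₀ * (n₀⁻¹ * n) = n
        group
    · rintro ⟨c, rfl⟩
      rw [hmul, (hstab _).2 c.2]
  rw [himg, Finset.card_image_of_injective, Finset.card_univ, Nat.card_eq_fintype_card]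
  intro a b hab
  apply Subtype.ext
  exact mul_left_cancel hab

/-- the size of an orbit -/
theorem card_orbit (x : X) (hstab : ∀ n, act n x = x ↔ n ∈ C) :
    (Finset.image (fun n => act n x) Finset.univ).card * Nat.card C = Fintype.card N := by
  classical
  have h := Finset.card_eq_sum_card_image (fun n => act n x) (Finset.univ : Finset N)
  rw [Finset.card_univ] at h
  rw [h]
  have : ∀ y ∈ Finset.image (fun n => act n x) Finset.univ,
      (Finset.univ.filter (fun n => act n x = y)).card = Nat.card C := by
    intro y hy
    obtain ⟨n₀, -, rfl⟩ := Finset.mem_image.1 hy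
    exact card_fiber act hone hmul C x hstab n₀
  rw [Finset.sum_congr rfl this, Finset.sum_const, smul_eq_mul]

/-- an invariant set all of whose points have the stabilizer `C` is a union of orbits of the
same size -/
theorem dvd_card_of_stab (S : Finset X) (hS : ∀ x ∈ S, ∀ n, act n x ∈ S)
    (hstab : ∀ x ∈ S, ∀ n, act n x = x ↔ n ∈ C) (e : ℕ)
    (he : Fintype.card N = e * Nat.card C) : e ∣ S.card := by
  classical
  set f : X → Finset X := fun x => Finset.image (fun n => act n x) Finset.univ with hf
  have hself : ∀ x, x ∈ f x := by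
    intro x
    rw [hf]
    exact Finset.mem_image.2 ⟨1, Finset.mem_univ _, hone x⟩
  have hsame : ∀ x y, y ∈ f x → f y = f x := by
    intro x y hy
    obtain ⟨n, -, rfl⟩ := Finset.mem_image.1 hy
    ext z
    simp only [hf, Finset.mem_image, Finset.mem_univ, true_and]
    constructor
    · rintro ⟨m, rfl⟩
      exact ⟨m * n, hmul m n x⟩
    · rintro ⟨m, rfl⟩
      refine ⟨m * n⁻¹, ?_⟩
      rw [← hmul, mul_assoc, inv_mul_cancel, mul_one]
  have hC : 0 < Nat.card C := Nat.card_pos
  have hcard : ∀ x ∈ S, (f x).card = e := by
    intro x hx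
    have h := card_orbit act hone hmul C x (hstab x hx)
    rw [he] at h
    exact Nat.eq_of_mul_eq_mul_right hC h
  have h := Finset.card_eq_sum_card_image f S
  have : ∀ O ∈ S.image f, (S.filter (fun x => f x = O)).card = e := by
    intro O hO
    obtain ⟨x₀, hx₀, rfl⟩ := Finset.mem_image.1 hO
    have : S.filter (fun x => f x = f x₀) = f x₀ := by
      ext x
      simp only [Finset.mem_filter]
      constructor
      · rintro ⟨-, hx⟩
        rw [← hx]
        exact hself x
      · intro hx
        refine ⟨?_, hsame x₀ x hx⟩
        obtain ⟨n, -, rfl⟩ := Finset.mem_image.1 hx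
        exact hS x₀ hx₀ n
    rw [this]
    exact hcard x₀ hx₀
  rw [Finset.sum_congr rfl this, Finset.sum_const, smul_eq_mul] at h
  exact ⟨(S.image f).card, by rw [h, mul_comm]⟩

end Orbit

end Cfsg.Agent.Helper7.BL
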