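import Mathlib
import Cfsg.Prelude.Def_Local
import Cfsg.Agent.Lib.Helper1.CommutatorBasic
import Cfsg.Agent.Lib.Helper7.Frattini
import Cfsg.Agent.Lib.Helper22.PPrimeCore
import Cfsg.Agent.Lib.Helper23.PSolvable

/-!
# Trivial intersection Sylow subgroups: first consequences (helper7's library)

A Sylow `p`-subgroup `P` is a trivial intersection subgroup when it meets each of its conjugates
other than itself trivially.  This file has the elementary consequences and the reduction of a
`p`-solvable group in which every proper subgroup containing `P` normalizes `P` to `O_{p'}(G) P`.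
-/

set_option autoImplicit false

namespace Cfsg.Agent.Helper7.TIS

open Cfsg Subgroup
open scoped Pointwise

variable {G : Type*} [Group G] {p : ℕ} [Fact p.Prime] (P : Sylow p G)

section Basic

variable (hTI : ∀ g : G, g ∉ normalizer ((P : Subgroup G) : Set G) →
  (P : Subgroup G) ⊓ (MulAut.conj g • (P : Subgroup G)) = ⊥)

include hTI

/-- an element commuting with a nonidentity element of `P` normalizes `P` -/
theorem mem_normalizer_of_commute {x c : G} (hx : x ∈ (P : Subgroup G)) (hx1 : x ≠ 1)
    (hc : c * x = x * c) : c ∈ normalizer ((P : Subgroup G) : Set G) := by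
  by_contra hcn
  have h := hTI c hcn
  have h1 : MulAut.conj c • x = x := by
    rw [MulAut.smul_def, MulAut.conj_apply, hc, mul_inv_cancel_right]
  have h2 : x ∈ (P : Subgroup G) ⊓ (MulAut.conj c • (P : Subgroup G)) := by
    refine mem_inf.2 ⟨hx, ?_⟩
    rw [← h1]
    exact smul_mem_pointwise_smul x (MulAut.conj c) _ hx
  rw [h, mem_bot] at h2
  exact hx1 h2

/-- the normalizer of a nonidentity subgroup of `P` normalizes `P` -/
theorem normalizer_le_of_le {R : Subgroup G} (hR : R ≤ (P : Subgroup G)) (hR1 : R ≠ ⊥) :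
    normalizer (R : Set G) ≤ normalizer ((P : Subgroup G) : Set G) := by
  intro g hg
  by_contra hgn
  have h := hTI g hgn
  obtain ⟨⟨r, hr⟩, hr1⟩ := ne_bot_iff_exists_ne_one.1 hR1
  have hr1' : r ≠ 1 := fun h0 => hr1 (Subtype.ext h0)
  have h1 : g * r * g⁻¹ ∈ R := (mem_normalizer_iff.1 hg r).1 hr
  have h2 : g * r * g⁻¹ ∈ (P : Subgroup G) ⊓ (MulAut.conj g • (P : Subgroup G)) := by
    refine mem_inf.2 ⟨hR h1, ?_⟩
    have := smul_mem_pointwise_smul r (MulAut.conj g) _ (hR hr)
    rwa [MulAut.smul_def, MulAut.conj_apply] at this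
  rw [h, mem_bot] at h2
  apply hr1'
  have h3 : g * r * g⁻¹ = g * 1 * g⁻¹ := by rw [h2]; group
  exact mul_left_cancel (mul_right_cancel h3)

end Basic

section Reduce

variable [Finite G]
  (hTI : ∀ g : G, g ∉ normalizer ((P : Subgroup G) : Set G) →
    (P : Subgroup G) ⊓ (MulAut.conj g • (P : Subgroup G)) = ⊥)
  (hmin : ∀ H : Subgroup G, (P : Subgroup G) ≤ H → H ≠ ⊤ →
    H ≤ normalizer ((P : Subgroup G) : Set G))
  (hnn : ¬ (P : Subgroup G).Normal)

include hTI hmin hnn

/-- in a `p`-solvable group in which every proper subgroup containing the trivial intersection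
Sylow subgroup `P` normalizes it, either `P` is normal or `G = O_{p'}(G) P` -/
theorem pPrimeCore_sup_eq_top (hsolv : IsPSolvable p G) :
    pPrimeCore p G ⊔ (P : Subgroup G) = ⊤ := by
  have hp : p.Prime := Fact.out
  have hKn : (pPrimeCore p G).Normal := Cfsg.Agent.Helper22.pPrimeCore_normal p
  have hK : (Nat.card (pPrimeCore p G)).Coprime p := Cfsg.Agent.Helper22.card_pPrimeCore_coprime p
  set K := pPrimeCore p G with hKdef
  set π := QuotientGroup.mk' K with hπ
  have hπs : Function.Surjective π := QuotientGroup.mk'_surjective K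
  have hs : IsPSolvable p (G ⧸ K) := Cfsg.Agent.Helper23.PSolv.isPSolvable_quotient K hsolv
  have hO : pPrimeCore p (G ⧸ K) = ⊥ := Cfsg.Agent.Helper23.PSolv.pPrimeCore_quotient_pPrimeCore p
  have hcent := Cfsg.Agent.Helper23.PSolv.centralizer_pCore_le hs hO
  have hOn : (pCore p (G ⧸ K)).Normal := Cfsg.Agent.Helper10.pCore_normal p
  have hOp : IsPGroup p (pCore p (G ⧸ K)) := Cfsg.Agent.Helper10.pCore_isPGroup p
  -- `N ≠ ⊤`
  have hN : normalizer ((P : Subgroup G) : Set G) ≠ ⊤ := fun h => hnn (normalizer_eq_top_iff.1 h)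
  by_contra hne
  have hKN : K ≤ normalizer ((P : Subgroup G) : Set G) :=
    le_trans le_sup_left (hmin _ le_sup_right hne)
  -- `O_p(G/K) ≠ 1`
  have hOne : pCore p (G ⧸ K) ≠ ⊥ := by
    intro hbot
    rw [hbot] at hcent
    have htop : (⊤ : Subgroup (G ⧸ K)) ≤ ⊥ := by
      refine le_trans ?_ hcent
      intro x _
      rw [mem_centralizer_iff]
      intro y hy
      rw [SetLike.mem_coe, mem_bot] at hy
      rw [hy, one_mul, mul_one]
    -- then `K = ⊤`
    have hKtop : K = ⊤ := by
      rw [eq_top_iff]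
      intro g _
      have h1 : π g ∈ (⊥ : Subgroup (G ⧸ K)) := htop (mem_top _)
      rw [mem_bot] at h1
      exact (QuotientGroup.eq_one_iff g).1 h1
    apply hN
    rw [eq_top_iff]
    exact le_trans (le_of_eq hKtop.symm) hKN
  -- the image of `P` contains `O_p(G/K)`
  have hOle : pCore p (G ⧸ K) ≤ (P : Subgroup G).map π := by
    have h1 := Cfsg.Agent.Helper23.PSolv.normal_pGroup_le_sylow (pCore p (G ⧸ K)) hOp
      (Sylow.mapSurjective hπs P)
    rwa [Sylow.coe_mapSurjective] at h1
  set R : Subgroup G := (P : Subgroup G) ⊓ (pCore p (G ⧸ K)).comap π with hR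
  have hRmap : R.map π = pCore p (G ⧸ K) := by
    apply le_antisymm
    · rintro _ ⟨r, hr, rfl⟩
      exact (mem_inf.1 hr).2
    · intro o ho
      obtain ⟨a, ha, rfl⟩ := hOle ho
      exact ⟨a, mem_inf.2 ⟨ha, ho⟩, rfl⟩
  have hR1 : R ≠ ⊥ := by
    intro h
    rw [h, Subgroup.map_bot] at hRmap
    exact hOne hRmap.symm
  have hRp : IsPGroup p R := P.isPGroup'.to_le inf_le_left
  have h2 := Cfsg.Agent.Helper7.normalizer_map_mk'_eq (P := R) (R := K) hRp hK
  rw [hRmap, normalizer_eq_top_iff.2 hOn] at h2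
  have h3 : K ⊔ normalizer (R : Set G) = ⊤ := by
    rw [← QuotientGroup.comap_map_mk', ← h2, comap_top]
  have h4 : normalizer (R : Set G) ≤ normalizer ((P : Subgroup G) : Set G) :=
    normalizer_le_of_le P hTI inf_le_left hR1
  apply hN
  rw [eq_top_iff, ← h3]
  exact sup_le hKN h4

end Reduce

end Cfsg.Agent.Helper7.TIS
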