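import Mathlib
import Cfsg.Agent.Lib.Helper7.TIS1
import Cfsg.Agent.Lib.Helper7.BL3
import Cfsg.Agent.Lib.Helper15.CoprimeGen
import Cfsg.Agent.Lib.Helper1.CoprimeAbelian

/-!
# The minimal configuration `G = Q P` for a trivial intersection Sylow subgroup (helper7's library)

`G = Q P` with `Q` a normal `q`-group, `P` a trivial intersection Sylow `p`-subgroup which is not
normal, and every proper subgroup containing `P` normalizes `P`.
-/

set_option autoImplicit false

namespace Cfsg.Agent.Helper7.TIS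

open Cfsg Subgroup
open scoped Pointwise commutatorElement

variable {G : Type*} [Group G] {p : ℕ} [Fact p.Prime] (P : Sylow p G)

/-- reduction from a normal `p'`-subgroup to a normal `q`-subgroup -/
theorem exists_q_sup_eq_top [Finite G]
    (hmin : ∀ H : Subgroup G, (P : Subgroup G) ≤ H → H ≠ ⊤ →
      H ≤ normalizer ((P : Subgroup G) : Set G))
    (hnn : ¬ (P : Subgroup G).Normal)
    (K : Subgroup G) [hKn : K.Normal] (hK : (Nat.card K).Coprime p)
    (hKP : K ⊔ (P : Subgroup G) = ⊤) :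
    ∃ (q : ℕ) (Q : Subgroup G), q.Prime ∧ q ≠ p ∧ Q.Normal ∧ IsPGroup q Q ∧
      Q ⊔ (P : Subgroup G) = ⊤ := by
  have hp : p.Prime := Fact.out
  by_contra hcon
  push Not at hcon
  have hPK : (P : Subgroup G) ≤ normalizer (K : Set G) := by
    rw [normalizer_eq_top_iff.2 hKn]; exact le_top
  have key : ∀ q : ℕ, q.Prime → q ^ (Nat.card K).factorization q ∣
      Nat.card (K ⊓ normalizer ((P : Subgroup G) : Set G) : Subgroup G) := by
    intro q hq
    haveI : Fact q.Prime := ⟨hq⟩
    obtain ⟨Q, hQK, hQq, hQc, hPQ⟩ :=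
      Cfsg.Agent.Helper15.exists_invariant_sylow_of_coprime q P.isPGroup' hK hPK
    have hQN : Q ≤ normalizer ((P : Subgroup G) : Set G) := by
      by_cases htop : Q ⊔ (P : Subgroup G) = ⊤
      · exfalso
        have hQn : Q.Normal := by
          rw [← normalizer_eq_top_iff, eq_top_iff, ← htop]
          exact sup_le le_normalizer hPQ
        by_cases hqp : q = p
        · have h0 : (Nat.card K).factorization q = 0 := by
            apply Nat.factorization_eq_zero_of_not_dvd
            intro hd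
            rw [hqp] at hd
            have := Nat.Coprime.eq_one_of_dvd hK.symm hd
            exact hp.one_lt.ne' this
          rw [h0, pow_zero] at hQc
          rw [card_eq_one.1 hQc, bot_sup_eq] at htop
          apply hnn
          rw [htop]
          infer_instance
        · exact hcon q Q hq hqp hQn hQq htop
      · exact le_trans le_sup_left (hmin _ le_sup_right htop)
    rw [← hQc]
    exact card_dvd_of_le (le_inf hQK hQN)
  have hdvd : Nat.card K ∣
      Nat.card (K ⊓ normalizer ((P : Subgroup G) : Set G) : Subgroup G) := by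
    rw [← Nat.factorization_le_iff_dvd Nat.card_pos.ne' Nat.card_pos.ne']
    intro q
    by_cases hq : q.Prime
    · exact (hq.pow_dvd_iff_le_factorization Nat.card_pos.ne').1 (key q hq)
    · rw [Nat.factorization_eq_zero_of_not_prime _ hq]; exact Nat.zero_le _
  have hKN : K ⊓ normalizer ((P : Subgroup G) : Set G) = K :=
    eq_of_le_of_card_ge inf_le_left (Nat.le_of_dvd Nat.card_pos hdvd)
  have hle : K ≤ normalizer ((P : Subgroup G) : Set G) := by
    rw [← hKN]; exact inf_le_right
  apply hnn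
  rw [← normalizer_eq_top_iff, eq_top_iff, ← hKP]
  exact sup_le hle le_normalizer

/-- conjugating `u` by powers of `x`, when `x u x⁻¹ = u c` with `c` commuting with `x` -/
theorem conj_pow_eq {x u c : G} (h : x * u * x⁻¹ = u * c) (hc : c * x = x * c) (k : ℕ) :
    x ^ k * u * (x ^ k)⁻¹ = u * c ^ k := by
  induction k with
  | zero => simp
  | succ k ih =>
    have hck : c ^ k * x = x * c ^ k := by
      have : Commute c x := hc
      exact (this.pow_left k).eq
    have e1 : x ^ (k + 1) * u * (x ^ (k + 1))⁻¹ = x * (x ^ k * u * (x ^ k)⁻¹) * x⁻¹ := by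
      rw [pow_succ']; group
    rw [e1, ih]
    have e2 : x * (u * c ^ k) * x⁻¹ = (x * u * x⁻¹) * (x * c ^ k * x⁻¹) := by group
    rw [e2, h, ← hck, mul_inv_cancel_right, pow_succ]
    group

/-- the minimal configuration -/
structure MinCfg (P : Sylow p G) (q : ℕ) (Q : Subgroup G) : Prop where
  ti : ∀ g : G, g ∉ normalizer ((P : Subgroup G) : Set G) →
    (P : Subgroup G) ⊓ (MulAut.conj g • (P : Subgroup G)) = ⊥
  hmin : ∀ H : Subgroup G, (P : Subgroup G) ≤ H → H ≠ ⊤ →
    H ≤ normalizer ((P : Subgroup G) : Set G)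
  nn : ¬ (P : Subgroup G).Normal
  qprime : q.Prime
  qne : q ≠ p
  normal : Q.Normal
  pgroup : IsPGroup q Q
  top : Q ⊔ (P : Subgroup G) = ⊤

namespace MinCfg

variable {P} {q : ℕ} {Q : Subgroup G} (cfg : MinCfg P q Q)

include cfg

theorem inf_eq_bot : Q ⊓ (P : Subgroup G) = ⊥ := by
  haveI : Fact q.Prime := ⟨cfg.qprime⟩
  exact (IsPGroup.disjoint_of_ne q p cfg.qne Q P cfg.pgroup P.isPGroup').eq_bot

theorem not_le : ¬ Q ≤ normalizer ((P : Subgroup G) : Set G) := by
  intro h
  apply cfg.nn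
  rw [← normalizer_eq_top_iff, eq_top_iff, ← cfg.top]
  exact sup_le h le_normalizer

theorem exists_mul (g : G) : ∃ u ∈ Q, ∃ x ∈ (P : Subgroup G), u * x = g := by
  haveI := cfg.normal
  have h : g ∈ Q ⊔ (P : Subgroup G) := by rw [cfg.top]; exact mem_top g
  exact mem_sup_of_normal_left.1 h

theorem sup_ne_top {S : Subgroup G} [S.Normal] (hSQ : S ≤ Q) (hne : S ≠ Q) :
    S ⊔ (P : Subgroup G) ≠ ⊤ := by
  intro htop
  apply hne
  apply le_antisymm hSQ
  intro u hu
  have h : u ∈ S ⊔ (P : Subgroup G) := by rw [htop]; exact mem_top u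
  obtain ⟨s, hs, x, hx, hsx⟩ := mem_sup_of_normal_left.1 h
  have hx' : x ∈ Q ⊓ (P : Subgroup G) := by
    refine mem_inf.2 ⟨?_, hx⟩
    have : x = s⁻¹ * u := by rw [← hsx]; group
    rw [this]
    exact Q.mul_mem (Q.inv_mem (hSQ hs)) hu
  rw [cfg.inf_eq_bot, mem_bot] at hx'
  rw [← hsx, hx', mul_one]
  exact hs

/-- proper normal subgroups inside `Q` normalize `P` -/
theorem le_normalizer_of_ne {S : Subgroup G} [S.Normal] (hSQ : S ≤ Q) (hne : S ≠ Q) :
    S ≤ normalizer ((P : Subgroup G) : Set G) :=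
  le_trans le_sup_left (cfg.hmin _ le_sup_right (cfg.sup_ne_top hSQ hne))

/-- the elements of `Q` normalizing `P` centralize it -/
theorem commute_of_mem {u x : G} (hu : u ∈ Q) (huN : u ∈ normalizer ((P : Subgroup G) : Set G))
    (hx : x ∈ (P : Subgroup G)) : u * x = x * u := by
  haveI := cfg.normal
  have h1 : u * x * u⁻¹ * x⁻¹ ∈ (P : Subgroup G) :=
    (P : Subgroup G).mul_mem ((mem_normalizer_iff.1 huN x).1 hx) ((P : Subgroup G).inv_mem hx)
  have h2 : u * x * u⁻¹ * x⁻¹ ∈ Q := by
    have e : u * x * u⁻¹ * x⁻¹ = u * (x * u⁻¹ * x⁻¹) := by group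
    rw [e]
    exact Q.mul_mem hu (cfg.normal.conj_mem _ (Q.inv_mem hu) x)
  have h3 : u * x * u⁻¹ * x⁻¹ ∈ Q ⊓ (P : Subgroup G) := mem_inf.2 ⟨h2, h1⟩
  rw [cfg.inf_eq_bot, mem_bot] at h3
  have e : u * x = (u * x * u⁻¹ * x⁻¹) * (x * u) := by group
  rw [e, h3, one_mul]

/-- if the commutator of `u ∈ Q` and `x ∈ P` commutes with `x`, it is trivial -/
theorem commute_of_commutator_commute {u x : G} (hu : u ∈ Q) (hx : x ∈ (P : Subgroup G))
    (h : (u⁻¹ * (x * u * x⁻¹)) * x = x * (u⁻¹ * (x * u * x⁻¹))) : x * u = u * x := by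
  haveI : Fact q.Prime := ⟨cfg.qprime⟩
  have hp : p.Prime := Fact.out
  set c := u⁻¹ * (x * u * x⁻¹) with hc
  have hcQ : c ∈ Q := Q.mul_mem (Q.inv_mem hu) (cfg.normal.conj_mem _ hu x)
  have h1 : x * u * x⁻¹ = u * c := by rw [hc]; group
  have h2 := conj_pow_eq h1 h (orderOf x)
  rw [pow_orderOf_eq_one, one_mul, inv_one, mul_one] at h2
  have h3 : c ^ orderOf x = 1 := by
    have : u * 1 = u * c ^ orderOf x := by rw [mul_one]; exact h2
    exact (mul_left_cancel this).symm
  have h4 : orderOf c ∣ orderOf x := orderOf_dvd_of_pow_eq_one h3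
  obtain ⟨a, ha⟩ := (IsPGroup.iff_orderOf.1 cfg.pgroup) ⟨c, hcQ⟩
  rw [Subgroup.orderOf_mk] at ha
  obtain ⟨b, hb⟩ := (IsPGroup.iff_orderOf.1 P.isPGroup') ⟨x, hx⟩
  rw [Subgroup.orderOf_mk] at hb
  have hcop : (q ^ a).Coprime (p ^ b) :=
    Nat.Coprime.pow _ _ ((Nat.coprime_primes cfg.qprime hp).2 cfg.qne)
  rw [ha, hb] at h4
  have h5 : q ^ a = 1 := Nat.Coprime.eq_one_of_dvd hcop h4
  rw [← ha, orderOf_eq_one_iff] at h5
  rw [h5, mul_one] at h1
  have e : x * u = (x * u * x⁻¹) * x := by group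
  rw [e, h1]

/-- `[Q, P] = Q` -/
theorem commutator_eq : ⁅Q, (P : Subgroup G)⁆ = Q := by
  haveI := cfg.normal
  have hle : ⁅Q, (P : Subgroup G)⁆ ≤ Q := commutator_le_left Q _
  haveI hSn : (⁅Q, (P : Subgroup G)⁆).Normal := by
    rw [← normalizer_eq_top_iff, eq_top_iff, ← cfg.top]
    exact sup_le (Cfsg.Agent.Helper1.le_normalizer_commutator_left _ _)
      (Cfsg.Agent.Helper1.le_normalizer_commutator_right _ _)
  by_contra hne
  have hSN := cfg.le_normalizer_of_ne hle hne
  apply cfg.not_le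
  intro u hu
  apply Cfsg.Agent.Helper1.centralizer_le_normalizer
  rw [mem_centralizer_iff]
  intro x hx
  have hc : u⁻¹ * (x * u * x⁻¹) ∈ ⁅Q, (P : Subgroup G)⁆ := by
    have := commutator_mem_commutator (H₁ := Q) (H₂ := (P : Subgroup G)) (Q.inv_mem hu) hx
    rw [commutatorElement_def, inv_inv] at this
    have e : u⁻¹ * (x * u * x⁻¹) = u⁻¹ * x * u * x⁻¹ := by group
    rw [e]; exact this
  exact cfg.commute_of_commutator_commute hu hx (cfg.commute_of_mem (hle hc) (hSN hc) hx)

/-- the index of `Q ∩ N_G(P)` in `Q` is at least `|P| + 1` -/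
theorem card_le [Finite G] :
    (Nat.card (P : Subgroup G) + 1) *
      Nat.card (Q ⊓ normalizer ((P : Subgroup G) : Set G) : Subgroup G) ≤ Nat.card Q := by
  classical
  haveI : Fact q.Prime := ⟨cfg.qprime⟩
  have hp : p.Prime := Fact.out
  letI : Fintype G := Fintype.ofFinite G
  letI : Fintype (P : Subgroup G) := Fintype.ofFinite _
  set N := normalizer ((P : Subgroup G) : Set G) with hN
  set S : Finset G := Finset.univ.filter (fun u => u ∈ Q ∧ u ∉ N) with hS
  have hdvd : Nat.card (P : Subgroup G) ∣ S.card := by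
    refine Cfsg.Agent.Helper7.BL.dvd_card_of_stab
      (fun (x : (P : Subgroup G)) (u : G) => (x : G) * u * (x : G)⁻¹) (fun u => by simp)
      (fun n m u => by simp only [Subgroup.coe_mul, mul_inv_rev]; group)
      (⊥ : Subgroup (P : Subgroup G)) S ?_ ?_ (Nat.card (P : Subgroup G)) ?_
    · intro u hu x
      rw [hS, Finset.mem_filter] at hu ⊢
      refine ⟨Finset.mem_univ _, cfg.normal.conj_mem _ hu.2.1 _, ?_⟩
      intro h
      apply hu.2.2
      have hxN : (x : G) ∈ N := le_normalizer x.2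
      have e : u = (x : G)⁻¹ * ((x : G) * u * (x : G)⁻¹) * ((x : G)⁻¹)⁻¹ := by group
      rw [e]
      exact N.mul_mem (N.mul_mem (N.inv_mem hxN) h) (N.inv_mem (N.inv_mem hxN))
    · intro u hu x
      rw [hS, Finset.mem_filter] at hu
      rw [mem_bot]
      constructor
      · intro h
        by_contra hx1
        apply hu.2.2
        have hx1' : (x : G) ≠ 1 := fun h0 => hx1 (Subtype.ext h0)
        refine mem_normalizer_of_commute P cfg.ti x.2 hx1' ?_
        have e : u * (x : G) = ((x : G) * u * (x : G)⁻¹)⁻¹ * ((x : G) * u * (x : G)⁻¹) * u * (x : G) := by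
          group
        calc u * (x : G) = ((x : G) * u * (x : G)⁻¹) * (x : G) := by rw [h]
          _ = (x : G) * u := by group
      · intro h
        rw [h]
        simp
    · rw [card_bot, mul_one, Nat.card_eq_fintype_card]
  -- the cardinality of `S`
  have hcard : S.card + Nat.card (Q ⊓ N : Subgroup G) = Nat.card Q := by
    have h1 : Nat.card Q = (Finset.univ.filter (fun u : G => u ∈ Q)).card := by
      rw [Nat.card_eq_fintype_card, Fintype.card_subtype]
    have h2 : Nat.card (Q ⊓ N : Subgroup G) =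
        (Finset.univ.filter (fun u : G => u ∈ Q ∧ u ∈ N)).card := by
      rw [Nat.card_eq_fintype_card, Fintype.card_subtype]
      congr 1
      ext u
      simp only [Finset.mem_filter, Finset.mem_univ, true_and, mem_inf]
    rw [h1, h2, hS]
    have h3 := Finset.card_filter_add_card_filter_not
      (s := Finset.univ.filter (fun u : G => u ∈ Q)) (fun u : G => u ∈ N)
    rw [Finset.filter_filter, Finset.filter_filter] at h3
    rw [add_comm]
    exact h3
  -- arithmetic
  obtain ⟨m, hm⟩ : Nat.card (Q ⊓ N : Subgroup G) ∣ Nat.card Q := card_dvd_of_le inf_le_left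
  set a := Nat.card (Q ⊓ N : Subgroup G) with ha
  have ha0 : 0 < a := Nat.card_pos
  have hm1 : m ≠ 1 := by
    intro h1
    rw [h1, mul_one] at hm
    apply cfg.not_le
    have : Q ⊓ N = Q := eq_of_le_of_card_ge inf_le_left (le_of_eq hm)
    rw [← this]
    exact inf_le_right
  have hm0 : m ≠ 0 := by
    intro h0
    rw [h0, mul_zero] at hm
    exact (Nat.card_pos (α := Q)).ne' hm
  have hS2 : S.card = a * (m - 1) := by
    have : S.card + a = a * m := by rw [hcard, hm]
    have h3 : a * m = a * (m - 1) + a := by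
      rw [← Nat.mul_succ, Nat.succ_eq_add_one, Nat.sub_add_cancel (Nat.one_le_iff_ne_zero.2 hm0)]
    omega
  rw [hS2] at hdvd
  obtain ⟨k, hk⟩ := IsPGroup.iff_card.1 P.isPGroup'
  obtain ⟨l, hl⟩ := IsPGroup.iff_card.1 cfg.pgroup
  have hcop : (Nat.card (P : Subgroup G)).Coprime a := by
    have h4 : a ∣ q ^ l := by rw [← hl]; exact ⟨m, hm⟩
    rw [hk]
    exact Nat.Coprime.coprime_dvd_right h4
      (Nat.Coprime.pow _ _ ((Nat.coprime_primes hp cfg.qprime).2 (Ne.symm cfg.qne)))
  have h5 : Nat.card (P : Subgroup G) ∣ m - 1 := hcop.dvd_of_dvd_mul_left hdvd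
  have h6 : Nat.card (P : Subgroup G) ≤ m - 1 :=
    Nat.le_of_dvd (by omega) h5
  rw [hm]
  have h7 : Nat.card (P : Subgroup G) + 1 ≤ m := by omega
  calc (Nat.card (P : Subgroup G) + 1) * a ≤ m * a := Nat.mul_le_mul_right _ h7
    _ = a * m := Nat.mul_comm _ _

/-- in the nonabelian case the derived subgroup of `Q` is central in `G` -/
theorem derived_le_center [Finite G] : ⁅Q, Q⁆ ≤ center G := by
  haveI := cfg.normal
  haveI : Fact q.Prime := ⟨cfg.qprime⟩
  have hle : ⁅Q, Q⁆ ≤ Q := commutator_le_left Q Q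
  have hne : ⁅Q, Q⁆ ≠ Q := by
    intro h
    have hQ1 : Q ≠ ⊥ := by
      intro h0
      apply cfg.not_le
      rw [h0]; exact bot_le
    haveI : Nontrivial Q := (nontrivial_iff_ne_bot Q).2 hQ1
    haveI : Group.IsNilpotent Q := cfg.pgroup.isNilpotent
    have h1 := Group.IsSolvable.commutator_lt_top_of_nontrivial Q
    apply h1.ne
    apply map_injective Q.subtype_injective
    rw [map_subtype_commutator, h, ← MonoidHom.range_eq_map, range_subtype]
  have hDN := cfg.le_normalizer_of_ne hle hne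
  have hDP : ⁅(P : Subgroup G), ⁅Q, Q⁆⁆ = ⊥ := by
    rw [commutator_eq_bot_iff_le_centralizer]
    intro x hx
    rw [mem_centralizer_iff]
    intro d hd
    exact cfg.commute_of_mem (hle hd) (hDN hd) hx
  have h1 : ⁅⁅(P : Subgroup G), ⁅Q, Q⁆⁆, Q⁆ = ⊥ := by rw [hDP, commutator_bot_left]
  have h2 : ⁅⁅⁅Q, Q⁆, Q⁆, (P : Subgroup G)⁆ = ⊥ := by
    rw [eq_bot_iff, ← hDP, commutator_comm (P : Subgroup G)]
    exact commutator_mono (commutator_le_left _ _) le_rfl
  have h3 := commutator_commutator_eq_bot_of_rotate h1 h2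
  rw [cfg.commutator_eq, commutator_eq_bot_iff_le_centralizer] at h3
  intro d hd
  rw [mem_center_iff]
  intro g
  obtain ⟨u, hu, x, hx, rfl⟩ := cfg.exists_mul g
  have e1 : u * d = d * u := by
    have := (mem_centralizer_iff.1 (h3 hu)) d hd
    exact this.symm
  have e2 : x * d = d * x := (cfg.commute_of_mem (hle hd) (hDN hd) hx).symm
  calc u * x * d = u * (x * d) := by group
    _ = u * (d * x) := by rw [e2]
    _ = (u * d) * x := by group
    _ = d * u * x := by rw [e1]
    _ = d * (u * x) := by group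

/-- in the abelian case `Q ∩ N_G(P) = 1` -/
theorem inf_normalizer_eq_bot [Finite G] (hab : ⁅Q, Q⁆ = ⊥) :
    Q ⊓ normalizer ((P : Subgroup G) : Set G) = ⊥ := by
  haveI := cfg.normal
  haveI : Fact q.Prime := ⟨cfg.qprime⟩
  have hp : p.Prime := Fact.out
  rw [commutator_eq_bot_iff_le_centralizer] at hab
  haveI : IsMulCommutative Q := ⟨⟨fun a b => Subtype.ext
    ((mem_centralizer_iff.1 (hab b.2)) a a.2)⟩⟩
  have hPQ : (P : Subgroup G) ≤ normalizer (Q : Set G) := by
    rw [normalizer_eq_top_iff.2 cfg.normal]; exact le_top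
  obtain ⟨k, hk⟩ := IsPGroup.iff_card.1 P.isPGroup'
  obtain ⟨l, hl⟩ := IsPGroup.iff_card.1 cfg.pgroup
  have hcop : (Nat.card (P : Subgroup G)).Coprime (Nat.card Q) := by
    rw [hk, hl]
    exact Nat.Coprime.pow _ _ ((Nat.coprime_primes hp cfg.qprime).2 (Ne.symm cfg.qne))
  have h1 := Cfsg.Agent.Helper1.commutator_inf_centralizer_eq_bot (P : Subgroup G) Q hPQ hcop
  rw [cfg.commutator_eq] at h1
  rw [eq_bot_iff, ← h1]
  intro u hu
  refine mem_inf.2 ⟨(mem_inf.1 hu).1, ?_⟩
  rw [mem_centralizer_iff]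
  intro x hx
  exact (cfg.commute_of_mem (mem_inf.1 hu).1 (mem_inf.1 hu).2 hx).symm

end MinCfg

end Cfsg.Agent.Helper7.TIS
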