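import Mathlib
import Cfsg.Agent.Lib.Helper7.TIS2

/-!
# The configuration `G = Q P` without the trivial intersection hypothesis (helper7's library)

`G = Q P` with `Q` a normal `q`-group, `P` a Sylow `p`-subgroup which is not normal, and every
proper subgroup containing `P` normalizes `P`.  The lemmas are those of `TIS2` which do not use
the trivial intersection property.
-/

set_option autoImplicit false

namespace Cfsg.Agent.Helper7.Ito

open Cfsg Subgroup Cfsg.Agent.Helper7.TIS
open scoped Pointwise commutatorElement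

variable {G : Type*} [Group G] {p : ℕ} [Fact p.Prime] (P : Sylow p G)

/-- the configuration -/
structure QPCfg (P : Sylow p G) (q : ℕ) (Q : Subgroup G) : Prop where
  hmin : ∀ H : Subgroup G, (P : Subgroup G) ≤ H → H ≠ ⊤ →
    H ≤ normalizer ((P : Subgroup G) : Set G)
  nn : ¬ (P : Subgroup G).Normal
  qprime : q.Prime
  qne : q ≠ p
  normal : Q.Normal
  pgroup : IsPGroup q Q
  top : Q ⊔ (P : Subgroup G) = ⊤

namespace QPCfg

variable {P} {q : ℕ} {Q : Subgroup G} (cfg : QPCfg P q Q)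

include cfg

theorem inf_eq_bot : Q ⊓ (P : Subgroup G) = ⊥ := by
  haveI : Fact q.Prime := ⟨cfg.qprime⟩
  exact (IsPGroup.disjoint_of_ne q p cfg.qne Q P cfg.pgroup P.isPGroup').eq_bot

theorem not_le : ¬ Q ≤ normalizer ((P : Subgroup G) : Set G) := by
  intro h
  apply cfg.nn
  rw [← normalizer_eq_top_iff, eq_top_iff, ← cfg.top]
  exact sup_le h le_normalizer

theorem exists_mul (g : G) : ∃ u ∈ Q, ∃ x ∈ (P : Subgroup G), u * x = g := by
  haveI := cfg.normal
  have h : g ∈ Q ⊔ (P : Subgroup G) := by rw [cfg.top]; exact mem_top g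
  exact mem_sup_of_normal_left.1 h

theorem sup_ne_top {S : Subgroup G} [S.Normal] (hSQ : S ≤ Q) (hne : S ≠ Q) :
    S ⊔ (P : Subgroup G) ≠ ⊤ := by
  intro htop
  apply hne
  apply le_antisymm hSQ
  intro u hu
  have h : u ∈ S ⊔ (P : Subgroup G) := by rw [htop]; exact mem_top u
  obtain ⟨s, hs, x, hx, hsx⟩ := mem_sup_of_normal_left.1 h
  have hx' : x ∈ Q ⊓ (P : Subgroup G) := by
    refine mem_inf.2 ⟨?_, hx⟩
    have : x = s⁻¹ * u := by rw [← hsx]; group
    rw [this]
    exact Q.mul_mem (Q.inv_mem (hSQ hs)) hu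
  rw [cfg.inf_eq_bot, mem_bot] at hx'
  rw [← hsx, hx', mul_one]
  exact hs

/-- proper normal subgroups inside `Q` normalize `P` -/
theorem le_normalizer_of_ne {S : Subgroup G} [S.Normal] (hSQ : S ≤ Q) (hne : S ≠ Q) :
    S ≤ normalizer ((P : Subgroup G) : Set G) :=
  le_trans le_sup_left (cfg.hmin _ le_sup_right (cfg.sup_ne_top hSQ hne))

/-- the elements of `Q` normalizing `P` centralize it -/
theorem commute_of_mem {u x : G} (hu : u ∈ Q) (huN : u ∈ normalizer ((P : Subgroup G) : Set G))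
    (hx : x ∈ (P : Subgroup G)) : u * x = x * u := by
  haveI := cfg.normal
  have h1 : u * x * u⁻¹ * x⁻¹ ∈ (P : Subgroup G) :=
    (P : Subgroup G).mul_mem ((mem_normalizer_iff.1 huN x).1 hx) ((P : Subgroup G).inv_mem hx)
  have h2 : u * x * u⁻¹ * x⁻¹ ∈ Q := by
    have e : u * x * u⁻¹ * x⁻¹ = u * (x * u⁻¹ * x⁻¹) := by group
    rw [e]
    exact Q.mul_mem hu (cfg.normal.conj_mem _ (Q.inv_mem hu) x)
  have h3 : u * x * u⁻¹ * x⁻¹ ∈ Q ⊓ (P : Subgroup G) := mem_inf.2 ⟨h2, h1⟩
  rw [cfg.inf_eq_bot, mem_bot] at h3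
  have e : u * x = (u * x * u⁻¹ * x⁻¹) * (x * u) := by group
  rw [e, h3, one_mul]

/-- if the commutator of `u ∈ Q` and `x ∈ P` commutes with `x`, it is trivial -/
theorem commute_of_commutator_commute {u x : G} (hu : u ∈ Q) (hx : x ∈ (P : Subgroup G))
    (h : (u⁻¹ * (x * u * x⁻¹)) * x = x * (u⁻¹ * (x * u * x⁻¹))) : x * u = u * x := by
  haveI : Fact q.Prime := ⟨cfg.qprime⟩
  have hp : p.Prime := Fact.out
  set c := u⁻¹ * (x * u * x⁻¹) with hc
  have hcQ : c ∈ Q := Q.mul_mem (Q.inv_mem hu) (cfg.normal.conj_mem _ hu x)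
  have h1 : x * u * x⁻¹ = u * c := by rw [hc]; group
  have h2 := conj_pow_eq h1 h (orderOf x)
  rw [pow_orderOf_eq_one, one_mul, inv_one, mul_one] at h2
  have h3 : c ^ orderOf x = 1 := by
    have : u * 1 = u * c ^ orderOf x := by rw [mul_one]; exact h2
    exact (mul_left_cancel this).symm
  have h4 : orderOf c ∣ orderOf x := orderOf_dvd_of_pow_eq_one h3
  obtain ⟨a, ha⟩ := (IsPGroup.iff_orderOf.1 cfg.pgroup) ⟨c, hcQ⟩
  rw [Subgroup.orderOf_mk] at ha
  obtain ⟨b, hb⟩ := (IsPGroup.iff_orderOf.1 P.isPGroup') ⟨x, hx⟩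
  rw [Subgroup.orderOf_mk] at hb
  have hcop : (q ^ a).Coprime (p ^ b) :=
    Nat.Coprime.pow _ _ ((Nat.coprime_primes cfg.qprime hp).2 cfg.qne)
  rw [ha, hb] at h4
  have h5 : q ^ a = 1 := Nat.Coprime.eq_one_of_dvd hcop h4
  rw [← ha, orderOf_eq_one_iff] at h5
  rw [h5, mul_one] at h1
  have e : x * u = (x * u * x⁻¹) * x := by group
  rw [e, h1]

/-- `[Q, P] = Q` -/
theorem commutator_eq : ⁅Q, (P : Subgroup G)⁆ = Q := by
  haveI := cfg.normal
  have hle : ⁅Q, (P : Subgroup G)⁆ ≤ Q := commutator_le_left Q _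
  haveI hSn : (⁅Q, (P : Subgroup G)⁆).Normal := by
    rw [← normalizer_eq_top_iff, eq_top_iff, ← cfg.top]
    exact sup_le (Cfsg.Agent.Helper1.le_normalizer_commutator_left _ _)
      (Cfsg.Agent.Helper1.le_normalizer_commutator_right _ _)
  by_contra hne
  have hSN := cfg.le_normalizer_of_ne hle hne
  apply cfg.not_le
  intro u hu
  apply Cfsg.Agent.Helper1.centralizer_le_normalizer
  rw [mem_centralizer_iff]
  intro x hx
  have hc : u⁻¹ * (x * u * x⁻¹) ∈ ⁅Q, (P : Subgroup G)⁆ := by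
    have := commutator_mem_commutator (H₁ := Q) (H₂ := (P : Subgroup G)) (Q.inv_mem hu) hx
    rw [commutatorElement_def, inv_inv] at this
    have e : u⁻¹ * (x * u * x⁻¹) = u⁻¹ * x * u * x⁻¹ := by group
    rw [e]; exact this
  exact cfg.commute_of_commutator_commute hu hx (cfg.commute_of_mem (hle hc) (hSN hc) hx)

/-- in the nonabelian case the derived subgroup of `Q` is central in `G` -/
theorem derived_le_center [Finite G] : ⁅Q, Q⁆ ≤ center G := by
  haveI := cfg.normal
  haveI : Fact q.Prime := ⟨cfg.qprime⟩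
  have hle : ⁅Q, Q⁆ ≤ Q := commutator_le_left Q Q
  have hne : ⁅Q, Q⁆ ≠ Q := by
    intro h
    have hQ1 : Q ≠ ⊥ := by
      intro h0
      apply cfg.not_le
      rw [h0]; exact bot_le
    haveI : Nontrivial Q := (nontrivial_iff_ne_bot Q).2 hQ1
    haveI : Group.IsNilpotent Q := cfg.pgroup.isNilpotent
    have h1 := Group.IsSolvable.commutator_lt_top_of_nontrivial Q
    apply h1.ne
    apply map_injective Q.subtype_injective
    rw [map_subtype_commutator, h, ← MonoidHom.range_eq_map, range_subtype]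
  have hDN := cfg.le_normalizer_of_ne hle hne
  have hDP : ⁅(P : Subgroup G), ⁅Q, Q⁆⁆ = ⊥ := by
    rw [commutator_eq_bot_iff_le_centralizer]
    intro x hx
    rw [mem_centralizer_iff]
    intro d hd
    exact cfg.commute_of_mem (hle hd) (hDN hd) hx
  have h1 : ⁅⁅(P : Subgroup G), ⁅Q, Q⁆⁆, Q⁆ = ⊥ := by rw [hDP, commutator_bot_left]
  have h2 : ⁅⁅⁅Q, Q⁆, Q⁆, (P : Subgroup G)⁆ = ⊥ := by
    rw [eq_bot_iff, ← hDP, commutator_comm (P : Subgroup G)]
    exact commutator_mono (commutator_le_left _ _) le_rfl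
  have h3 := commutator_commutator_eq_bot_of_rotate h1 h2
  rw [cfg.commutator_eq, commutator_eq_bot_iff_le_centralizer] at h3
  intro d hd
  rw [mem_center_iff]
  intro g
  obtain ⟨u, hu, x, hx, rfl⟩ := cfg.exists_mul g
  have e1 : u * d = d * u := by
    have := (mem_centralizer_iff.1 (h3 hu)) d hd
    exact this.symm
  have e2 : x * d = d * x := (cfg.commute_of_mem (hle hd) (hDN hd) hx).symm
  calc u * x * d = u * (x * d) := by group
    _ = u * (d * x) := by rw [e2]
    _ = (u * d) * x := by group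
    _ = d * u * x := by rw [e1]
    _ = d * (u * x) := by group

/-- in the abelian case `Q ∩ N_G(P) = 1` -/
theorem inf_normalizer_eq_bot [Finite G] (hab : ⁅Q, Q⁆ = ⊥) :
    Q ⊓ normalizer ((P : Subgroup G) : Set G) = ⊥ := by
  haveI := cfg.normal
  haveI : Fact q.Prime := ⟨cfg.qprime⟩
  have hp : p.Prime := Fact.out
  rw [commutator_eq_bot_iff_le_centralizer] at hab
  haveI : IsMulCommutative Q := ⟨⟨fun a b => Subtype.ext
    ((mem_centralizer_iff.1 (hab b.2)) a a.2)⟩⟩
  have hPQ : (P : Subgroup G) ≤ normalizer (Q : Set G) := by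
    rw [normalizer_eq_top_iff.2 cfg.normal]; exact le_top
  obtain ⟨k, hk⟩ := IsPGroup.iff_card.1 P.isPGroup'
  obtain ⟨l, hl⟩ := IsPGroup.iff_card.1 cfg.pgroup
  have hcop : (Nat.card (P : Subgroup G)).Coprime (Nat.card Q) := by
    rw [hk, hl]
    exact Nat.Coprime.pow _ _ ((Nat.coprime_primes hp cfg.qprime).2 (Ne.symm cfg.qne))
  have h1 := Cfsg.Agent.Helper1.commutator_inf_centralizer_eq_bot (P : Subgroup G) Q hPQ hcop
  rw [cfg.commutator_eq] at h1
  rw [eq_bot_iff, ← h1]
  intro u hu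
  refine mem_inf.2 ⟨(mem_inf.1 hu).1, ?_⟩
  rw [mem_centralizer_iff]
  intro x hx
  exact (cfg.commute_of_mem (mem_inf.1 hu).1 (mem_inf.1 hu).2 hx).symm

/-- the elements of `Q` normalizing `P` are central in `G` -/
theorem inf_normalizer_le_center [Finite G] :
    Q ⊓ normalizer ((P : Subgroup G) : Set G) ≤ center G := by
  haveI := cfg.normal
  set C := Q ⊓ normalizer ((P : Subgroup G) : Set G) with hC
  have hCQ : C ≤ Q := inf_le_left
  have hPC : ⁅(P : Subgroup G), C⁆ = ⊥ := by
    rw [commutator_eq_bot_iff_le_centralizer]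
    intro x hx
    rw [mem_centralizer_iff]
    intro d hd
    exact cfg.commute_of_mem (mem_inf.1 hd).1 (mem_inf.1 hd).2 hx
  have h1 : ⁅⁅(P : Subgroup G), C⁆, Q⁆ = ⊥ := by rw [hPC, commutator_bot_left]
  have h2 : ⁅⁅C, Q⁆, (P : Subgroup G)⁆ = ⊥ := by
    rw [commutator_eq_bot_iff_le_centralizer]
    refine le_trans (commutator_mono hCQ le_rfl) (le_trans cfg.derived_le_center ?_)
    intro z hz
    rw [mem_centralizer_iff]
    intro x _
    exact (mem_center_iff.1 hz x)
  have h3 := commutator_commutator_eq_bot_of_rotate h1 h2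
  rw [cfg.commutator_eq, commutator_eq_bot_iff_le_centralizer] at h3
  intro d hd
  rw [mem_center_iff]
  intro g
  obtain ⟨u, hu, x, hx, rfl⟩ := cfg.exists_mul g
  have e1 : u * d = d * u := by
    have := (mem_centralizer_iff.1 (h3 hu)) d hd
    exact this.symm
  have e2 : x * d = d * x := (cfg.commute_of_mem (mem_inf.1 hd).1 (mem_inf.1 hd).2 hx).symm
  calc u * x * d = u * (x * d) := by group
    _ = u * (d * x) := by rw [e2]
    _ = (u * d) * x := by group
    _ = d * u * x := by rw [e1]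
    _ = d * (u * x) := by group

/-- in the nonabelian case an element of `Q` outside `N_G(P)` is not central in `Q` -/
theorem exists_not_commute [Finite G] (hna : ⁅Q, Q⁆ ≠ ⊥) {u : G} (hu : u ∈ Q)
    (huN : u ∉ normalizer ((P : Subgroup G) : Set G)) : ∃ y ∈ Q, y * u ≠ u * y := by
  haveI := cfg.normal
  by_contra hcon
  push Not at hcon
  have hZQ : Q ⊓ centralizer (Q : Set G) ≤ Q := inf_le_left
  have hne : Q ⊓ centralizer (Q : Set G) ≠ Q := by
    intro h
    apply hna
    rw [commutator_eq_bot_iff_le_centralizer]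
    exact le_trans (le_of_eq h.symm) inf_le_right
  have h1 := cfg.le_normalizer_of_ne hZQ hne
  apply huN
  apply h1
  refine mem_inf.2 ⟨hu, ?_⟩
  rw [mem_centralizer_iff]
  intro y hy
  exact hcon y hy

/-- `|Q| ≡ |Q ∩ N_G(P)|` modulo `p` -/
theorem card_modEq [Finite G] :
    Nat.card Q ≡ Nat.card (Q ⊓ normalizer ((P : Subgroup G) : Set G) : Subgroup G) [MOD p] := by
  haveI := cfg.normal
  letI : MulAction (P : Subgroup G) Q :=
    MulAction.compHom Q ((MulAut.conjNormal (H := Q)).comp (P : Subgroup G).subtype)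
  have h := P.2.card_modEq_card_fixedPoints Q
  have hsmul : ∀ (x : (P : Subgroup G)) (u : Q), ((x • u : Q) : G) = (x : G) * (u : G) * (x : G)⁻¹ := by
    intro x u
    rfl
  have e : MulAction.fixedPoints (P : Subgroup G) Q ≃
      (Q ⊓ normalizer ((P : Subgroup G) : Set G) : Subgroup G) :=
    { toFun := fun u => ⟨((u : Q) : G), by
        refine mem_inf.2 ⟨(u : Q).2, ?_⟩
        apply Cfsg.Agent.Helper1.centralizer_le_normalizer
        rw [mem_centralizer_iff]
        intro x hx
        have h1 := u.2 ⟨x, hx⟩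
        have h2 := congrArg Subtype.val h1
        rw [hsmul] at h2
        simp only at h2
        calc x * ((u : Q) : G) = (x * ((u : Q) : G) * x⁻¹) * x := by group
          _ = ((u : Q) : G) * x := by rw [h2]⟩
      invFun := fun d => ⟨⟨(d : G), (mem_inf.1 d.2).1⟩, by
        intro x
        apply Subtype.ext
        rw [hsmul]
        show (x : G) * (d : G) * (x : G)⁻¹ = (d : G)
        have := cfg.commute_of_mem (mem_inf.1 d.2).1 (mem_inf.1 d.2).2 x.2
        rw [← this]
        group⟩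
      left_inv := fun u => rfl
      right_inv := fun d => rfl }
  rw [Nat.card_congr e] at h
  exact h

end QPCfg

end Cfsg.Agent.Helper7.Ito
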