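import Mathlib
import Cfsg.Agent.Lib.Helper7.Ito1
import Cfsg.Agent.Lib.Helper18.CliffordCorr
import Cfsg.Agent.Lib.Helper23.Schur
import Cfsg.Agent.Lib.Helper24.Cd2Basic
import Cfsg.Agent.Lib.Helper5.Clifford

/-!
# The character theory of the configuration `G = Q P` (helper7's library)

A faithful irreducible character of degree at most `p - 1` of a group in the configuration
`G = Q P` has degree `p - 1`, a power of `2`.
-/

set_option autoImplicit false

namespace Cfsg.Agent.Helper7.Ito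

open Cfsg Subgroup Cfsg.Agent.Helper24 Cfsg.Agent.Helper5 Cfsg.Agent.Helper18
  Cfsg.Agent.Helper24.Cd2
open scoped Pointwise commutatorElement ComplexConjugate

universe u

variable {G : Type u} [Group G] [Finite G] {p : ℕ} [Fact p.Prime] {P : Sylow p G} {q : ℕ}
  {Q : Subgroup G}

theorem char_inv_eq_conj {χ : G → ℂ} (hχ : IsCharacter G χ) (g : G) : χ g⁻¹ = conj (χ g) := by
  obtain ⟨n, ρ, rfl⟩ := hχ
  exact char_inv ρ g

namespace QPCfg

variable (cfg : QPCfg P q Q)

include cfg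

/-- the index of `Q` divides the order of `P` -/
theorem index_dvd : Q.index ∣ Nat.card (P : Subgroup G) := by
  haveI := cfg.normal
  have h1 : Q.relIndex (Q ⊔ (P : Subgroup G)) = Q.relIndex (P : Subgroup G) :=
    relIndex_sup_left (P : Subgroup G) Q
  rw [cfg.top, relIndex_top_right] at h1
  rw [h1]
  exact relIndex_dvd_card Q (P : Subgroup G)

/-- every irreducible constituent of the restriction to `Q` of an irreducible character of
degree less than `p` is invariant -/
theorem restrict_eq_smul [Fintype Q] {χ : G → ℂ} (hχ : IsIrrCharacter G χ)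
    (hdeg : charDegree χ < p) {θ : Q → ℂ} (hθ : IsIrrCharacter Q θ)
    (hcon : classInner (fun u : Q => χ u) θ ≠ 0) :
    (∀ g : G, @conjFun G _ Q cfg.normal g θ = θ) ∧
    ∃ e : ℕ, e ≠ 0 ∧ charDegree χ = e * charDegree θ ∧ (fun u : Q => χ u) = (e : ℂ) • θ := by
  classical
  haveI := cfg.normal
  have hp : p.Prime := Fact.out
  letI : Fintype G := Fintype.ofFinite G
  letI : Fintype (IrrCharacter Q) := irrFintype
  have hχQ : IsCharacter Q (fun u : Q => χ u) :=
    isCharacter_restrict Q (isCharacter_of_isIrrCharacter hχ)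
  have h1 := degree_eq_of_constituent Q hχ hθ hcon
  obtain ⟨e, he⟩ := classInner_char_nat hχQ (isCharacter_of_isIrrCharacter hθ)
  rw [he, irr_one_eq_charDegree hχ, irr_one_eq_charDegree hθ] at h1
  have h2 : charDegree χ = e * (inertia Q θ).index * charDegree θ := by exact_mod_cast h1
  have he0 : e ≠ 0 := by
    rintro rfl
    exact hcon (by simpa using he)
  have hθ0 : 0 < charDegree θ := charDegree_pos hθ
  -- the index of the inertia group is a power of `p` which is less than `p`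
  have h3 : (inertia Q θ).index ∣ Nat.card (P : Subgroup G) :=
    dvd_trans (index_dvd_of_le (le_inertia Q (isClassFunction_of_isIrrCharacter hθ))) cfg.index_dvd
  obtain ⟨a, ha⟩ := P.2.exists_card_eq
  rw [ha] at h3
  obtain ⟨j, -, hj⟩ := (Nat.dvd_prime_pow hp).1 h3
  have hidx : (inertia Q θ).index = 1 := by
    rcases Nat.eq_zero_or_pos j with h0 | h0
    · rw [hj, h0, pow_zero]
    · exfalso
      have h4 : p ^ 1 ≤ p ^ j := Nat.pow_le_pow_right hp.pos h0
      rw [pow_one, ← hj] at h4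
      have h5 : (inertia Q θ).index ≤ charDegree χ := by
        rw [h2]
        calc (inertia Q θ).index = 1 * (inertia Q θ).index * 1 := by ring
          _ ≤ e * (inertia Q θ).index * charDegree θ :=
            Nat.mul_le_mul (Nat.mul_le_mul_right _ (Nat.one_le_iff_ne_zero.2 he0)) hθ0
      omega
  have htop : inertia Q θ = ⊤ := index_eq_one.1 hidx
  have hinv : ∀ g : G, conjFun Q g θ = θ := by
    intro g
    have : g ∈ inertia Q θ := by rw [htop]; exact mem_top g
    exact (mem_inertia Q θ g).1 this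
  refine ⟨hinv, ?_⟩
  obtain ⟨e', he'0, he', hres⟩ := restrict_eq_smul_of_invariant Q hχ hθ hinv hcon
  have hee : e' = e := by
    rw [he] at he'
    exact_mod_cast he'.symm
  subst hee
  refine ⟨e', he0, ?_, hres⟩
  rw [h2, hidx, mul_one]

/-- the abelian case is impossible -/
theorem false_of_abelian (hab : ⁅Q, Q⁆ = ⊥) {χ : G → ℂ} (hχ : IsIrrCharacter G χ)
    (hfaith : ∀ g : G, χ g = χ 1 → g = 1) (hdeg : charDegree χ < p) : False := by
  classical
  haveI := cfg.normal
  letI : Fintype G := Fintype.ofFinite G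
  letI : Fintype Q := Fintype.ofFinite Q
  letI : Fintype (IrrCharacter Q) := irrFintype
  have hχc := isCharacter_of_isIrrCharacter hχ
  have hχQ : IsCharacter Q (fun u : Q => χ u) := isCharacter_restrict Q hχc
  have hn0 : (charDegree χ : ℂ) ≠ 0 := by
    have := charDegree_pos hχ
    exact_mod_cast this.ne'
  have h0 : (fun u : Q => χ u) ≠ 0 := by
    intro h
    have h1 := congrFun h 1
    simp only [Pi.zero_apply, OneMemClass.coe_one] at h1
    rw [irr_one_eq_charDegree hχ] at h1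
    exact hn0 h1
  obtain ⟨θ, hθ, hcon⟩ := exists_constituent hχQ h0
  obtain ⟨hinv, e, he0, hdeg', hres⟩ := cfg.restrict_eq_smul hχ hdeg hθ hcon
  have hθc := isCharacter_of_isIrrCharacter hθ
  rw [commutator_eq_bot_iff_le_centralizer] at hab
  have hθlin : charDegree θ = 1 := by
    apply linear_of_comm _ hθ
    intro a b
    apply Subtype.ext
    exact ((mem_centralizer_iff.1 (hab b.2)) a a.2)
  have hθ1 : θ 1 = 1 := by
    rw [irr_one_eq_charDegree hθ, hθlin, Nat.cast_one]
  have hmul := char_mul_of_degree_one hθc hθ1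
  let S : Subgroup G :=
    { carrier := {g | ∃ h : g ∈ Q, θ ⟨g, h⟩ = 1}
      mul_mem' := by
        rintro a b ⟨ha, ha1⟩ ⟨hb, hb1⟩
        refine ⟨Q.mul_mem ha hb, ?_⟩
        have : (⟨a * b, Q.mul_mem ha hb⟩ : Q) = ⟨a, ha⟩ * ⟨b, hb⟩ := rfl
        rw [this, hmul, ha1, hb1, mul_one]
      one_mem' := ⟨Q.one_mem, hθ1⟩
      inv_mem' := by
        rintro a ⟨ha, ha1⟩
        refine ⟨Q.inv_mem ha, ?_⟩
        have h1 : θ (⟨a, ha⟩ * ⟨a⁻¹, Q.inv_mem ha⟩) = θ ⟨a, ha⟩ * θ ⟨a⁻¹, Q.inv_mem ha⟩ :=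
          hmul _ _
        have h2 : (⟨a, ha⟩ * ⟨a⁻¹, Q.inv_mem ha⟩ : Q) = 1 := by
          apply Subtype.ext
          simp
        rw [h2, hθ1, ha1, one_mul] at h1
        exact h1.symm }
  have hcomm : ⁅Q, (P : Subgroup G)⁆ ≤ S := by
    rw [commutator_le]
    intro u hu x hx
    have hxu : x * u⁻¹ * x⁻¹ ∈ Q := cfg.normal.conj_mem _ (Q.inv_mem hu) x
    have hmem : ⁅u, x⁆ ∈ Q := by
      rw [commutatorElement_def]
      have e : u * x * u⁻¹ * x⁻¹ = u * (x * u⁻¹ * x⁻¹) := by group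
      rw [e]
      exact Q.mul_mem hu hxu
    refine ⟨hmem, ?_⟩
    have e1 : (⟨⁅u, x⁆, hmem⟩ : Q) = ⟨u, hu⟩ * ⟨x * u⁻¹ * x⁻¹, hxu⟩ := by
      apply Subtype.ext
      show ⁅u, x⁆ = u * (x * u⁻¹ * x⁻¹)
      rw [commutatorElement_def]
      group
    rw [e1, hmul]
    have e2 : θ ⟨x * u⁻¹ * x⁻¹, hxu⟩ = θ ⟨u⁻¹, Q.inv_mem hu⟩ := by
      have := congrFun (hinv x) ⟨u⁻¹, Q.inv_mem hu⟩
      rw [conjFun_apply] at this
      exact this
    rw [e2, ← hmul]
    have e3 : (⟨u, hu⟩ * ⟨u⁻¹, Q.inv_mem hu⟩ : Q) = 1 := by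
      apply Subtype.ext
      simp
    rw [e3, hθ1]
  rw [cfg.commutator_eq] at hcomm
  apply cfg.not_le
  intro u hu
  obtain ⟨hu', hu1⟩ := hcomm hu
  have h1 := congrFun hres ⟨u, hu'⟩
  have h2 := congrFun hres 1
  simp only [Pi.smul_apply, smul_eq_mul, OneMemClass.coe_one] at h1 h2
  rw [hu1] at h1
  rw [hθ1] at h2
  have h3 : u = 1 := hfaith u (by rw [h1, h2])
  rw [h3]
  exact one_mem _

/-- the nonabelian case: the degree is `p - 1`, a power of `2` -/
theorem degree_of_nonabelian (hna : ⁅Q, Q⁆ ≠ ⊥) {χ : G → ℂ} (hχ : IsIrrCharacter G χ)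
    (hfaith : ∀ g : G, χ g = χ 1 → g = 1) (hdeg : charDegree χ + 1 ≤ p) :
    charDegree χ + 1 = p ∧ ∃ k : ℕ, charDegree χ = 2 ^ k := by
  classical
  haveI := cfg.normal
  haveI : Fact q.Prime := ⟨cfg.qprime⟩
  have hp : p.Prime := Fact.out
  letI : Fintype G := Fintype.ofFinite G
  letI : Fintype Q := Fintype.ofFinite Q
  letI : Fintype (IrrCharacter Q) := irrFintype
  set C := Q ⊓ normalizer ((P : Subgroup G) : Set G) with hC
  have hCQ : C ≤ Q := inf_le_left
  have hCZ : C ≤ center G := cfg.inf_normalizer_le_center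
  have hχc := isCharacter_of_isIrrCharacter hχ
  have hχQ : IsCharacter Q (fun u : Q => χ u) := isCharacter_restrict Q hχc
  set n := charDegree χ with hn
  have hχ1 : χ 1 = (n : ℂ) := irr_one_eq_charDegree hχ
  have hnpos : 0 < n := charDegree_pos hχ
  have hn0 : (n : ℂ) ≠ 0 := by exact_mod_cast hnpos.ne'
  -- `χ` vanishes on `Q` outside `C`
  have hvan : ∀ u ∈ Q, u ∉ C → χ u = 0 := by
    intro u hu huC
    have huN : u ∉ normalizer ((P : Subgroup G) : Set G) := fun h => huC (mem_inf.2 ⟨hu, h⟩)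
    obtain ⟨y, hy, hyu⟩ := cfg.exists_not_commute hna hu huN
    have hcD : y * u * y⁻¹ * u⁻¹ ∈ ⁅Q, Q⁆ := by
      have := commutator_mem_commutator (H₁ := Q) (H₂ := Q) hy hu
      rwa [commutatorElement_def] at this
    have hcZ : y * u * y⁻¹ * u⁻¹ ∈ center G := cfg.derived_le_center hcD
    have hc1 : y * u * y⁻¹ * u⁻¹ ≠ 1 := by
      intro h
      apply hyu
      have e : y * u = (y * u * y⁻¹ * u⁻¹) * (u * y) := by group
      rw [e, h, one_mul]
    have h1 := Cfsg.Agent.Helper23.irr_central_mul χ hχ _ hcZ u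
    have h2 : χ (y * u * y⁻¹ * u⁻¹ * u) = χ u := by
      have e : y * u * y⁻¹ * u⁻¹ * u = y * u * y⁻¹ := by group
      rw [e]
      exact isClassFunction_of_isIrrCharacter hχ u y
    have h3 : χ (y * u * y⁻¹ * u⁻¹) ≠ χ 1 := fun h => hc1 (hfaith _ h)
    rw [h2] at h1
    by_contra hne
    apply h3
    have h4 : χ u * 1 = χ u * (χ (y * u * y⁻¹ * u⁻¹) / χ 1) := by
      rw [mul_one, mul_comm]
      exact h1
    have h5 := (mul_left_cancel₀ hne h4).symm
    rw [hχ1] at h5 ⊢
    rwa [div_eq_one_iff_eq hn0] at h5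
  -- the norm on `C`
  have hnorm : ∀ z ∈ C, χ z * conj (χ z) = (n : ℂ) ^ 2 := by
    intro z hz
    have h1 := Cfsg.Agent.Helper23.irr_central_mul χ hχ z (hCZ hz) z⁻¹
    rw [mul_inv_cancel, char_inv_eq_conj hχc, hχ1, div_mul_eq_mul_div, eq_div_iff hn0] at h1
    rw [sq]
    exact h1.symm
  -- a constituent
  have h0 : (fun u : Q => χ u) ≠ 0 := by
    intro h
    have h1 := congrFun h 1
    simp only [Pi.zero_apply, OneMemClass.coe_one] at h1
    rw [hχ1] at h1
    exact hn0 h1
  obtain ⟨θ, hθ, hcon⟩ := exists_constituent hχQ h0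
  have hdeg' : n < p := by omega
  obtain ⟨hinv, e, he0, hne, hres⟩ := cfg.restrict_eq_smul hχ hdeg' hθ hcon
  set d := charDegree θ with hd
  have hne' : n = e * d := hne
  have hdpos : 0 < d := charDegree_pos hθ
  -- the norm of the restriction, in two ways
  have hinner1 : classInner (fun u : Q => χ u) (fun u : Q => χ u) = (e : ℂ) ^ 2 := by
    rw [hres, classInner_smul_left, classInner_smul_right, irr_orthogonality hθ hθ, if_pos rfl,
      Complex.conj_natCast]
    ring
  have hcardC : Nat.card (C.subgroupOf Q) = Nat.card C :=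
    Nat.card_congr (subgroupOfEquivOfLe hCQ).toEquiv
  have hinner2 : classInner (fun u : Q => χ u) (fun u : Q => χ u) =
      (Nat.card Q : ℂ)⁻¹ * ((Nat.card C : ℂ) * (n : ℂ) ^ 2) := by
    unfold classInner
    congr 1
    have h1 : ∀ u : Q, χ u * conj (χ u) = if (u : G) ∈ C then (n : ℂ) ^ 2 else 0 := by
      intro u
      split_ifs with h
      · exact hnorm _ h
      · rw [hvan _ u.2 h, zero_mul]
    rw [Finset.sum_congr rfl (fun u _ => h1 u), ← Finset.sum_filter, Finset.sum_const,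
      nsmul_eq_mul]
    congr 2
    rw [← hcardC, Nat.card_eq_fintype_card, Fintype.card_subtype]
    congr 1
  have hQ0 : (Nat.card Q : ℂ) ≠ 0 := by
    have : 0 < Nat.card Q := Nat.card_pos
    exact_mod_cast this.ne'
  have hkey : Nat.card Q = Nat.card C * d ^ 2 := by
    have h1 : (e : ℂ) ^ 2 * (Nat.card Q : ℂ) = (Nat.card C : ℂ) * (n : ℂ) ^ 2 := by
      rw [← hinner1, hinner2]
      field_simp
    have h2 : e ^ 2 * Nat.card Q = Nat.card C * n ^ 2 := by exact_mod_cast h1
    rw [hne'] at h2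
    have h3 : e ^ 2 * Nat.card Q = e ^ 2 * (Nat.card C * d ^ 2) := by
      rw [h2]; ring
    exact Nat.eq_of_mul_eq_mul_left (by positivity) h3
  -- arithmetic
  have hmod := cfg.card_modEq
  rw [← hC, hkey] at hmod
  obtain ⟨l, hl⟩ := IsPGroup.iff_card.1 cfg.pgroup
  have hCdvd : Nat.card C ∣ q ^ l := by
    rw [← hl]
    exact card_dvd_of_le hCQ
  have hcop : (Nat.card C).Coprime p :=
    Nat.Coprime.coprime_dvd_left hCdvd
      (Nat.Coprime.pow_left _ ((Nat.coprime_primes cfg.qprime hp).2 cfg.qne))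
  have hmod2 : d ^ 2 ≡ 1 [MOD p] := by
    have h1 : Nat.card C * d ^ 2 ≡ Nat.card C * 1 [MOD p] := by rw [mul_one]; exact hmod
    exact Nat.ModEq.cancel_left_of_coprime (by rw [Nat.gcd_comm]; exact hcop) h1
  have hd2 : 2 ≤ d := by
    by_contra h
    have hd1 : d = 1 := by omega
    rw [hd1, one_pow, mul_one] at hkey
    apply cfg.not_le
    have : C = Q := eq_of_le_of_card_ge hCQ (le_of_eq hkey)
    rw [← this]
    exact inf_le_right
  have hdvd : p ∣ d ^ 2 - 1 := by
    have h1 : 1 ≤ d ^ 2 := Nat.one_le_pow _ _ hdpos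
    exact (Nat.modEq_iff_dvd' h1).1 hmod2.symm
  have hfac : d ^ 2 - 1 = (d - 1) * (d + 1) := by
    obtain ⟨d', hd'⟩ : ∃ d', d = d' + 1 := ⟨d - 1, by omega⟩
    rw [hd']
    simp only [Nat.add_sub_cancel]
    have : (d' + 1) ^ 2 = d' * (d' + 1 + 1) + 1 := by ring
    rw [this, Nat.add_sub_cancel]
  rw [hfac] at hdvd
  have hdn : d ≤ n := by
    rw [hne']
    calc d = 1 * d := (one_mul d).symm
      _ ≤ e * d := Nat.mul_le_mul_right _ (Nat.one_le_iff_ne_zero.2 he0)
  have hdp : d + 1 = p := by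
    rcases (Nat.Prime.dvd_mul hp).1 hdvd with h | h
    · exfalso
      have := Nat.le_of_dvd (by omega) h
      omega
    · have := Nat.le_of_dvd (by omega) h
      omega
  have hdn' : d = n := by omega
  refine ⟨by omega, ?_⟩
  have hdq : d ∣ q ^ l := by
    rw [← hl, hkey]
    exact Dvd.dvd.mul_left (dvd_pow_self d two_ne_zero) _
  obtain ⟨m, -, hm⟩ := (Nat.dvd_prime_pow cfg.qprime).1 hdq
  have hm0 : m ≠ 0 := by
    intro h
    rw [h, pow_zero] at hm
    omega
  have hq2 : q = 2 := by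
    rcases cfg.qprime.eq_two_or_odd' with h | h
    · exact h
    · exfalso
      have hodd : Odd (q ^ m) := h.pow
      rw [← hm] at hodd
      have heven : Even p := by
        rw [← hdp]
        exact hodd.add_one
      have hp2 : p = 2 := (Nat.Prime.even_iff hp).1 heven
      omega
  refine ⟨m, ?_⟩
  rw [← hdn', hm, hq2]

end QPCfg

end Cfsg.Agent.Helper7.Ito
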