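import Mathlib
import Cfsg.Agent.Lib.Helper7.Ito2
import Cfsg.Agent.Lib.Helper24.CharIntegral
import Cfsg.Agent.Lib.Helper24.CharHom

/-!
# Itô's theorem on `p`-solvable linear groups of degree at most `p - 1` (helper7's library)
-/

set_option autoImplicit false

namespace Cfsg.Agent.Helper7.Ito

open Cfsg Subgroup Cfsg.Agent.Helper24 Cfsg.Agent.Helper5 Cfsg.Agent.Helper18
  Cfsg.Agent.Helper24.Cd2 Cfsg.Agent.Helper7.TIS
open scoped Pointwise commutatorElement ComplexConjugate

universe u

section Aux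

variable {G : Type u} [Group G] [Finite G] {p : ℕ} [Fact p.Prime]

/-- a Sylow subgroup contained in a normal subgroup which normalizes it is normal -/
theorem sylow_normal_of_le_normal (P : Sylow p G) (M : Subgroup G) [hM : M.Normal]
    (hPM : (P : Subgroup G) ≤ M) (hMN : M ≤ normalizer ((P : Subgroup G) : Set G)) :
    (P : Subgroup G).Normal := by
  rw [← normalizer_eq_top_iff, eq_top_iff]
  intro g _
  have hPg : ((g • P : Sylow p G) : Subgroup G) = MulAut.conj g • (P : Subgroup G) :=
    Sylow.coe_subgroup_smul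
  have h2 : ((g • P : Sylow p G) : Subgroup G) ≤ normalizer ((P : Subgroup G) : Set G) := by
    rw [hPg]
    intro x hx
    apply hMN
    rw [mem_pointwise_smul_iff_inv_smul_mem] at hx
    simp only [MulAut.smul_def, MulAut.conj_inv_apply] at hx
    have h := hM.conj_mem _ (hPM hx) g
    have e : g * (g⁻¹ * x * g) * g⁻¹ = x := by group
    rwa [e] at h
  have h3 := (g • P : Sylow p G).2.inf_normalizer_sylow P
  have h4 : ((g • P : Sylow p G) : Subgroup G) ≤ (P : Subgroup G) := by
    intro x hx
    have hx' : x ∈ ((g • P : Sylow p G) : Subgroup G) ⊓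
        normalizer ((P : Subgroup G) : Set G) := mem_inf.2 ⟨hx, h2 hx⟩
    have hx'' : x ∈ ((g • P : Sylow p G) : Subgroup G) ⊓ (P : Subgroup G) := by
      rw [← h3]
      exact hx'
    exact (mem_inf.1 hx'').2
  have h5 : (g • P : Sylow p G) = P := by
    apply Sylow.ext
    exact ((g • P : Sylow p G).3 P.2 h4).symm
  exact Sylow.smul_eq_iff_mem_normalizer.1 h5

/-- a `p`-subgroup of a group with a faithful character of degree less than `p` is abelian -/
theorem comm_of_degree_lt (H : Subgroup G) (hH : IsPGroup p H) {χ : G → ℂ}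
    (hχ : IsCharacter G χ)
    (hfaith : ∀ g : G, χ g = χ 1 → g = 1) (hdeg : charDegree χ < p) :
    ∀ a ∈ H, ∀ b ∈ H, a * b = b * a := by
  classical
  have hp : p.Prime := Fact.out
  letI : Fintype G := Fintype.ofFinite G
  letI : Fintype H := Fintype.ofFinite _
  letI : Fintype (IrrCharacter H) := irrFintype
  intro a ha b hb
  have hχP : IsCharacter H (fun u : H => χ u) := isCharacter_restrict _ hχ
  obtain ⟨hm, hdec⟩ := isCharacter_decomp hχP
  -- constituents are linear
  have hlin : ∀ ψ : IrrCharacter H,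
      classInner (fun u : H => χ u) (ψ : H → ℂ) ≠ 0 → charDegree (ψ : H → ℂ) = 1 := by
    intro ψ hψ
    obtain ⟨ρ, hρ, hsum⟩ := exists_add_of_constituent hχP ψ.2 hψ
    have h1 := congrFun hsum 1
    simp only [Pi.add_apply, OneMemClass.coe_one] at h1
    rw [char_one_eq_charDegree hχ, irr_one_eq_charDegree ψ.2, char_one_eq_charDegree hρ] at h1
    have h2 : charDegree χ = charDegree (ψ : H → ℂ) + charDegree ρ := by
      exact_mod_cast h1
    have h3 := charDegree_dvd_card ψ.2
    obtain ⟨k, hk⟩ := hH.exists_card_eq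
    rw [hk] at h3
    obtain ⟨j, -, hj⟩ := (Nat.dvd_prime_pow hp).1 h3
    rcases Nat.eq_zero_or_pos j with h0 | h0
    · rw [hj, h0, pow_zero]
    · exfalso
      have h4 : p ^ 1 ≤ p ^ j := Nat.pow_le_pow_right hp.pos h0
      rw [pow_one, ← hj] at h4
      omega
  -- the commutator
  set c : H := ⟨a, ha⟩ * ⟨b, hb⟩ * ⟨a, ha⟩⁻¹ * ⟨b, hb⟩⁻¹ with hc
  have hval : ∀ ψ : IrrCharacter H,
      classInner (fun u : H => χ u) (ψ : H → ℂ) • (ψ : H → ℂ) c =
      classInner (fun u : H => χ u) (ψ : H → ℂ) • (ψ : H → ℂ) 1 := by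
    intro ψ
    by_cases hψ : classInner (fun u : H => χ u) (ψ : H → ℂ) = 0
    · rw [hψ, zero_smul, zero_smul]
    · have h1 : (ψ : H → ℂ) 1 = 1 := by
        rw [irr_one_eq_charDegree ψ.2, hlin ψ hψ, Nat.cast_one]
      have hmul := char_mul_of_degree_one (isCharacter_of_isIrrCharacter ψ.2) h1
      congr 1
      have e1 : (ψ : H → ℂ) ⟨a, ha⟩ * (ψ : H → ℂ) ⟨a, ha⟩⁻¹ = 1 := by
        rw [← hmul, mul_inv_cancel, h1]
      have e2 : (ψ : H → ℂ) ⟨b, hb⟩ * (ψ : H → ℂ) ⟨b, hb⟩⁻¹ = 1 := by
        rw [← hmul, mul_inv_cancel, h1]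
      rw [hc, hmul, hmul, hmul, h1]
      calc (ψ : H → ℂ) ⟨a, ha⟩ * (ψ : H → ℂ) ⟨b, hb⟩ * (ψ : H → ℂ) ⟨a, ha⟩⁻¹ *
            (ψ : H → ℂ) ⟨b, hb⟩⁻¹
          = ((ψ : H → ℂ) ⟨a, ha⟩ * (ψ : H → ℂ) ⟨a, ha⟩⁻¹) *
            ((ψ : H → ℂ) ⟨b, hb⟩ * (ψ : H → ℂ) ⟨b, hb⟩⁻¹) := by ring
        _ = 1 := by rw [e1, e2, mul_one]
  have h1 : χ (c : G) = χ 1 := by
    have e1 := congrFun hdec c
    have e2 := congrFun hdec 1
    simp only [Finset.sum_apply, Pi.smul_apply, OneMemClass.coe_one] at e1 e2
    rw [e1, e2]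
    exact Finset.sum_congr rfl (fun ψ _ => hval ψ)
  have h2 := hfaith _ h1
  have h3 : a * b * a⁻¹ * b⁻¹ = 1 := by
    rw [← h2, hc]
    simp
  calc a * b = (a * b * a⁻¹ * b⁻¹) * (b * a) := by group
    _ = b * a := by rw [h3, one_mul]

/-- in a `p`-solvable group with an abelian Sylow `p`-subgroup `P` which is not normal, such that
every proper subgroup containing `P` normalizes it, `G = O_{p'}(G) P` -/
theorem pPrimeCore_sup_eq_top_of_comm (P : Sylow p G)
    (hPab : ∀ a ∈ (P : Subgroup G), ∀ b ∈ (P : Subgroup G), a * b = b * a)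
    (hmin : ∀ H : Subgroup G, (P : Subgroup G) ≤ H → H ≠ ⊤ →
      H ≤ normalizer ((P : Subgroup G) : Set G))
    (hnn : ¬ (P : Subgroup G).Normal) (hsolv : IsPSolvable p G) :
    pPrimeCore p G ⊔ (P : Subgroup G) = ⊤ := by
  have hp : p.Prime := Fact.out
  haveI hKn : (pPrimeCore p G).Normal := Cfsg.Agent.Helper22.pPrimeCore_normal p
  set K := pPrimeCore p G with hKdef
  set π := QuotientGroup.mk' K with hπ
  have hπs : Function.Surjective π := QuotientGroup.mk'_surjective K
  have hs : IsPSolvable p (G ⧸ K) := Cfsg.Agent.Helper23.PSolv.isPSolvable_quotient K hsolv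
  have hO : pPrimeCore p (G ⧸ K) = ⊥ := Cfsg.Agent.Helper23.PSolv.pPrimeCore_quotient_pPrimeCore p
  have hcent := Cfsg.Agent.Helper23.PSolv.centralizer_pCore_le hs hO
  haveI hOn : (pCore p (G ⧸ K)).Normal := Cfsg.Agent.Helper10.pCore_normal p
  have hOp : IsPGroup p (pCore p (G ⧸ K)) := Cfsg.Agent.Helper10.pCore_isPGroup p
  by_contra hne
  have hOle : pCore p (G ⧸ K) ≤ (P : Subgroup G).map π := by
    have h1 := Cfsg.Agent.Helper23.PSolv.normal_pGroup_le_sylow (pCore p (G ⧸ K)) hOp
      (Sylow.mapSurjective hπs P)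
    rwa [Sylow.coe_mapSurjective] at h1
  have hPle : (P : Subgroup G).map π ≤ pCore p (G ⧸ K) := by
    refine le_trans ?_ hcent
    rintro _ ⟨x, hx, rfl⟩
    rw [mem_centralizer_iff]
    intro o ho
    obtain ⟨y, hy, rfl⟩ := hOle ho
    rw [← map_mul, ← map_mul, hPab y hy x hx]
  have hPeq : (P : Subgroup G).map π = pCore p (G ⧸ K) := le_antisymm hPle hOle
  have hMn : ((P : Subgroup G) ⊔ K).Normal := by
    have h1 : ((P : Subgroup G).map π).Normal := by rw [hPeq]; exact hOn
    have h2 := h1.comap π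
    rwa [comap_map_eq, QuotientGroup.ker_mk'] at h2
  have hMtop : (P : Subgroup G) ⊔ K ≠ ⊤ := by
    rw [sup_comm]; exact hne
  have hMN := hmin _ le_sup_left hMtop
  exact hnn (sylow_normal_of_le_normal P _ le_sup_left hMN)

end Aux

/-- **Itô's theorem**: a `p`-solvable group with a faithful character of degree `n ≤ p - 1` and a
Sylow `p`-subgroup which is not normal has `n = p - 1`, a power of `2`, and the character is
irreducible. -/
theorem ito_main : ∀ (N : ℕ) (G : Type u) [Group G] [Finite G] (p : ℕ) [Fact p.Prime]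
    (χ : G → ℂ), Nat.card G + charDegree χ = N → IsPSolvable p G → IsCharacter G χ →
    (∀ g : G, χ g = χ 1 → g = 1) → charDegree χ + 1 ≤ p →
    ∀ P : Sylow p G, ¬ (P : Subgroup G).Normal →
    charDegree χ + 1 = p ∧ (∃ k : ℕ, charDegree χ = 2 ^ k) ∧ IsIrrCharacter G χ := by
  intro N
  induction N using Nat.strong_induction_on with
  | _ N ih =>
  intro G _ _ p _ χ hN hsolv hχ hfaith hdeg P hnn
  classical
  have hp : p.Prime := Fact.out
  letI : Fintype G := Fintype.ofFinite G
  letI : Fintype (IrrCharacter G) := irrFintype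
  set n := charDegree χ with hn
  -- step 1: `χ` is irreducible
  have hirr : IsIrrCharacter G χ := by
    by_contra hirr
    -- `χ ≠ 0`
    have h0 : χ ≠ 0 := by
      intro h
      apply hnn
      constructor
      intro x hx g
      have hg : g = 1 := hfaith g (by rw [h]; rfl)
      rw [hg]
      simpa using hx
    obtain ⟨ψ, hψ, hψc⟩ := exists_constituent hχ h0
    obtain ⟨ρ, hρ, hsum⟩ := exists_add_of_constituent hχ hψ hψc
    have hψchar := isCharacter_of_isIrrCharacter hψ
    have hρ0 : ρ ≠ 0 := by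
      intro h
      apply hirr
      rw [hsum, h, add_zero]
      exact hψ
    have hρ1 : charDegree ρ ≠ 0 := by
      intro h
      apply hρ0
      apply char_eq_zero_of_one_eq_zero hρ
      rw [char_one_eq_charDegree hρ, h, Nat.cast_zero]
    have hψ1 : 0 < charDegree ψ := charDegree_pos hψ
    have hdegsum : n = charDegree ψ + charDegree ρ := by
      have h1 := congrFun hsum 1
      rw [Pi.add_apply, char_one_eq_charDegree hχ, irr_one_eq_charDegree hψ,
        char_one_eq_charDegree hρ] at h1
      exact_mod_cast h1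
    -- the kernels
    have key : ∀ φ : G → ℂ, ∀ hφ : IsCharacter G φ, charDegree φ < n →
        ((P : Subgroup G) ⊔ charKer hφ).Normal := by
      intro φ hφ hlt
      haveI hKn : (charKer hφ).Normal := charKer_normal hφ
      set K := charKer hφ with hK
      obtain ⟨φ', hφ', hcomp⟩ := exists_deflate_char K hφ (fun k hk => (mem_charKer hφ k).1 hk)
      have hdeg' : charDegree φ' = charDegree φ := by
        rw [hcomp]
        exact (charDegree_comp (QuotientGroup.mk' K) φ').symm
      have hfaith' : ∀ x : G ⧸ K, φ' x = φ' 1 → x = 1 := by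
        intro x hx
        obtain ⟨g, rfl⟩ := QuotientGroup.mk_surjective x
        have h1 : φ g = φ 1 := by
          rw [hcomp]
          simpa using hx
        exact (QuotientGroup.eq_one_iff g).2 ((mem_charKer hφ g).2 h1)
      have hsurj : Function.Surjective (QuotientGroup.mk' K) := QuotientGroup.mk'_surjective K
      have hcard : Nat.card (G ⧸ K) ≤ Nat.card G := by
        rw [← index_eq_card]
        exact Nat.le_of_dvd Nat.card_pos K.index_dvd_card
      have hlt' : Nat.card (G ⧸ K) + charDegree φ' < N := by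
        rw [← hN, hdeg']
        omega
      by_contra hMn
      have hnn' : ¬ ((P.mapSurjective hsurj : Sylow p (G ⧸ K)) : Subgroup (G ⧸ K)).Normal := by
        intro h
        apply hMn
        rw [Sylow.coe_mapSurjective] at h
        have h2 := h.comap (QuotientGroup.mk' K)
        rwa [comap_map_eq, QuotientGroup.ker_mk'] at h2
      have hres := ih _ hlt' (G ⧸ K) p φ' rfl
        (Cfsg.Agent.Helper23.PSolv.isPSolvable_quotient K hsolv) hφ' hfaith'
        (by rw [hdeg']; omega) (P.mapSurjective hsurj) hnn'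
      rw [hdeg'] at hres
      omega
    have hM1 := key ψ hψchar (by omega)
    have hM2 := key ρ hρ (by omega)
    haveI hK1n : (charKer hψchar).Normal := charKer_normal hψchar
    haveI hK2n : (charKer hρ).Normal := charKer_normal hρ
    have hK12 : charKer hψchar ⊓ charKer hρ = ⊥ := by
      rw [eq_bot_iff]
      intro g hg
      obtain ⟨h1, h2⟩ := mem_inf.1 hg
      rw [mem_charKer] at h1 h2
      rw [mem_bot]
      apply hfaith
      rw [hsum, Pi.add_apply, Pi.add_apply, h1, h2]
    set M := ((P : Subgroup G) ⊔ charKer hψchar) ⊓ ((P : Subgroup G) ⊔ charKer hρ) with hM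
    haveI hMn : M.Normal := by
      haveI := hM1
      haveI := hM2
      exact normal_inf_normal _ _
    -- `M` is a `p`-group
    have hpow : ∀ (K : Subgroup G) [K.Normal], ∀ g ∈ (P : Subgroup G) ⊔ K,
        ∃ a : ℕ, g ^ p ^ a ∈ K := by
      intro K _ g hg
      obtain ⟨x, hx, k, hk, rfl⟩ := mem_sup_of_normal_right.1 hg
      obtain ⟨a, ha⟩ := P.2 ⟨x, hx⟩
      refine ⟨a, ?_⟩
      have ha' : x ^ p ^ a = 1 := congrArg Subtype.val ha
      rw [← QuotientGroup.eq_one_iff, QuotientGroup.mk_pow, QuotientGroup.mk_mul,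
        (QuotientGroup.eq_one_iff k).2 hk, mul_one, ← QuotientGroup.mk_pow, ha',
        QuotientGroup.mk_one]
    have hMp : IsPGroup p M := by
      intro g
      obtain ⟨a, ha⟩ := hpow (charKer hψchar) g (mem_inf.1 g.2).1
      obtain ⟨b, hb⟩ := hpow (charKer hρ) g (mem_inf.1 g.2).2
      refine ⟨a + b, ?_⟩
      apply Subtype.ext
      rw [Subgroup.coe_pow, Subgroup.coe_one]
      have h1 : (g : G) ^ p ^ (a + b) ∈ charKer hψchar := by
        rw [pow_add, pow_mul]
        exact pow_mem ha _
      have h2 : (g : G) ^ p ^ (a + b) ∈ charKer hρ := by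
        rw [pow_add, mul_comm, pow_mul]
        exact pow_mem hb _
      have h3 : (g : G) ^ p ^ (a + b) ∈ charKer hψchar ⊓ charKer hρ := mem_inf.2 ⟨h1, h2⟩
      rwa [hK12, mem_bot] at h3
    have hPM : (P : Subgroup G) ≤ M := le_inf le_sup_left le_sup_left
    have hMP : M = (P : Subgroup G) := P.3 hMp hPM
    apply hnn
    rw [← hMP]
    exact hMn
  have hmain : n + 1 = p ∧ ∃ k : ℕ, n = 2 ^ k := by
    by_contra hgoal
    -- every proper subgroup containing `P` normalizes `P`
    have hmin : ∀ H : Subgroup G, (P : Subgroup G) ≤ H → H ≠ ⊤ →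
        H ≤ normalizer ((P : Subgroup G) : Set G) := by
      intro H hPH hH
      have hlt : Nat.card H < Nat.card G :=
        lt_of_le_of_ne (card_le_card_group H) (fun h => hH (eq_top_of_card_eq H h))
      have hcoe : ((P.subtype hPH : Sylow p H) : Subgroup H) = (P : Subgroup G).subgroupOf H :=
        Sylow.coe_subtype P hPH
      have hχH : IsCharacter H (fun h : H => χ h) := isCharacter_restrict H hχ
      have hfaithH : ∀ g : H, (fun h : H => χ h) g = (fun h : H => χ h) 1 → g = 1 := by
        intro g hg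
        simp only [Subgroup.coe_one] at hg
        exact Subtype.ext (hfaith g hg)
      have e1 : charDegree (fun h : H => χ h) = n := by
        rw [hn]
        unfold charDegree
        simp only [Subgroup.coe_one]
      by_contra hHN
      have hnnH : ¬ ((P.subtype hPH : Sylow p H) : Subgroup H).Normal := by
        intro h
        rw [hcoe] at h
        exact hHN ((normal_subgroupOf_iff_le_normalizer hPH).1 h)
      have hres := ih (Nat.card H + n) (by omega) H p (fun h : H => χ h) (by rw [e1])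
        (Cfsg.Agent.Helper23.PSolv.isPSolvable_subgroup H hsolv) hχH hfaithH
        (by rw [e1]; exact hdeg) (P.subtype hPH) hnnH
      rw [e1] at hres
      exact hgoal ⟨hres.1, hres.2.1⟩
    have hPab := comm_of_degree_lt (P : Subgroup G) P.2 hχ hfaith (by omega)
    have hKP := pPrimeCore_sup_eq_top_of_comm P hPab hmin hnn hsolv
    haveI hKn : (pPrimeCore p G).Normal := Cfsg.Agent.Helper22.pPrimeCore_normal p
    have hK : (Nat.card (pPrimeCore p G)).Coprime p :=
      Cfsg.Agent.Helper22.card_pPrimeCore_coprime p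
    obtain ⟨q, Q, hq, hqp, hQn, hQq, hQP⟩ :=
      exists_q_sup_eq_top P hmin hnn (pPrimeCore p G) hK hKP
    have cfg : QPCfg P q Q := ⟨hmin, hnn, hq, hqp, hQn, hQq, hQP⟩
    by_cases hab : ⁅Q, Q⁆ = ⊥
    · exact cfg.false_of_abelian hab hirr hfaith (by omega)
    · exact hgoal (cfg.degree_of_nonabelian hab hirr hfaith hdeg)
  exact ⟨hmain.1, hmain.2, hirr⟩

end Cfsg.Agent.Helper7.Ito
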