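import Mathlib
import Cfsg.Agent.Lib.Helper24.DlSylDefs

/-!
# S4768 piece C2: a nontrivial `p`-solvable group has `O_p ≠ 1` or `O_{p'} ≠ 1` (helper7)
-/

set_option autoImplicit false

namespace Cfsg.Agent.Helper7.DlSylC2

open Cfsg Cfsg.Agent.Helper24.DlSyl

universe u

variable {p : ℕ} [Fact p.Prime] {G : Type u} [Group G] [Finite G]

/-- PIECE C2 of S4768. -/
theorem pCore_or_pPrimeCore_ne_bot [Nontrivial G] (h : Cfsg.IsPSolvable p G) :
    Cfsg.pCore p G ≠ ⊥ ∨ Cfsg.pPrimeCore p G ≠ ⊥ := by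
  by_contra hcon
  push Not at hcon
  obtain ⟨h1, h2⟩ := hcon
  obtain ⟨n, H, h0, hlast, -, hnorm, hfac⟩ := h
  have key : ∀ i : Fin (n + 1), H i = ⊥ := by
    intro i
    induction i using Fin.induction with
    | zero => exact h0
    | succ i ih =>
      rcases hfac i with ⟨m, hm⟩ | hc
      · rw [ih, Subgroup.relIndex_bot_left] at hm
        have hp : IsPGroup p (H i.succ) := IsPGroup.of_card hm
        have hle : H i.succ ≤ Cfsg.pCore p G := le_sSup ⟨hnorm _, hp⟩
        rw [h1] at hle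
        exact le_bot_iff.1 hle
      · rw [ih, Subgroup.relIndex_bot_left] at hc
        have hle : H i.succ ≤ Cfsg.pPrimeCore p G := le_sSup ⟨hnorm _, hc⟩
        rw [h2] at hle
        exact le_bot_iff.1 hle
  have h3 := key (Fin.last n)
  rw [hlast] at h3
  exact top_ne_bot h3

end Cfsg.Agent.Helper7.DlSylC2
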