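import Mathlib
import Cfsg.Agent.Lib.Helper24.DlSylDefs

/-!
# S4768 piece SYL: derived series of a Sylow subgroup and quotients (helper7)
-/

set_option autoImplicit false

namespace Cfsg.Agent.Helper7.DlSylSyl

open Cfsg Cfsg.Agent.Helper24.DlSyl

universe u

variable {p : ℕ} [Fact p.Prime] {G : Type u} [Group G] [Finite G]

/-- PIECE SYL (1) of S4768. -/
theorem derived_sylow_le_of_quotient (N : Subgroup G) [N.Normal] (P : Sylow p G) (k : ℕ)
    (h : ∀ Pbar : Sylow p (G ⧸ N), derivedSeries ↥(Pbar : Subgroup (G ⧸ N)) k = ⊥) :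
    (derivedSeries ↥(P : Subgroup G) k).map (P : Subgroup G).subtype ≤ N := by
  intro y hy
  obtain ⟨x, hx, rfl⟩ := hy
  let Pbar : Sylow p (G ⧸ N) := P.mapSurjective (QuotientGroup.mk'_surjective N)
  have hmem : ∀ z : ↥(P : Subgroup G),
      ((QuotientGroup.mk' N).comp (P : Subgroup G).subtype) z ∈ (Pbar : Subgroup (G ⧸ N)) := by
    intro z
    show _ ∈ ((P.mapSurjective (QuotientGroup.mk'_surjective N) : Sylow p (G ⧸ N)) :
      Subgroup (G ⧸ N))
    rw [Sylow.coe_mapSurjective]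
    exact Subgroup.mem_map_of_mem _ z.2
  let φ : ↥(P : Subgroup G) →* ↥(Pbar : Subgroup (G ⧸ N)) :=
    ((QuotientGroup.mk' N).comp (P : Subgroup G).subtype).codRestrict _ hmem
  have h1 : φ x ∈ derivedSeries ↥(Pbar : Subgroup (G ⧸ N)) k :=
    map_derivedSeries_le_derivedSeries φ k (Subgroup.mem_map_of_mem φ hx)
  rw [h Pbar, Subgroup.mem_bot] at h1
  have h2 : QuotientGroup.mk' N (x : G) = 1 := congrArg Subtype.val h1
  exact (QuotientGroup.eq_one_iff _).1 h2

/-- PIECE SYL (2) of S4768. -/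
theorem derived_sylow_of_quotient_coprime (N : Subgroup G) [N.Normal]
    (hN : (Nat.card N).Coprime p) (P : Sylow p G) (k : ℕ)
    (h : ∀ Pbar : Sylow p (G ⧸ N), derivedSeries ↥(Pbar : Subgroup (G ⧸ N)) k = ⊥) :
    derivedSeries ↥(P : Subgroup G) k = ⊥ := by
  rw [eq_bot_iff]
  intro x hx
  rw [Subgroup.mem_bot]
  have hxN : (x : G) ∈ N :=
    derived_sylow_le_of_quotient N P k h (Subgroup.mem_map_of_mem _ hx)
  obtain ⟨j, hj⟩ := P.isPGroup' x
  have h1 : orderOf (x : G) ∣ p ^ j := by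
    rw [orderOf_dvd_iff_pow_eq_one]
    have h4 := congrArg Subtype.val hj
    simpa using h4
  have h2 : orderOf (x : G) ∣ Nat.card N := by
    have h4 := orderOf_dvd_natCard (⟨(x : G), hxN⟩ : N)
    rwa [Subgroup.orderOf_mk] at h4
  have h3 : orderOf (x : G) = 1 :=
    Nat.Coprime.eq_one_of_dvd (Nat.Coprime.coprime_dvd_left h2 (hN.pow_right j)) h1
  exact Subtype.ext (orderOf_eq_one_iff.1 h3)

/-- PIECE SYL (3) of S4768. -/
theorem derived_sylow_of_quotient_abelian (N : Subgroup G) [N.Normal]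
    (hN : ∀ a ∈ N, ∀ b ∈ N, a * b = b * a) (P : Sylow p G) (k : ℕ)
    (h : ∀ Pbar : Sylow p (G ⧸ N), derivedSeries ↥(Pbar : Subgroup (G ⧸ N)) k = ⊥) :
    derivedSeries ↥(P : Subgroup G) (k + 1) = ⊥ := by
  rw [derivedSeries_succ, Subgroup.commutator_eq_bot_iff_le_centralizer]
  intro x hx
  rw [Subgroup.mem_centralizer_iff]
  intro y hy
  have hxN : (x : G) ∈ N :=
    derived_sylow_le_of_quotient N P k h (Subgroup.mem_map_of_mem _ hx)
  have hyN : (y : G) ∈ N :=
    derived_sylow_le_of_quotient N P k h (Subgroup.mem_map_of_mem _ hy)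
  exact Subtype.ext (hN (y : G) hyN (x : G) hxN)

end Cfsg.Agent.Helper7.DlSylSyl
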