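import Mathlib
import Cfsg.Agent.Lib.Helper4.ZasHomog

/-!
# Huppert's theorem on solvable transitive linear groups (S3360): shared definitions (helper7)

`H ≤ GL(V)`, `V` a finite `ZMod p`-space, `H` transitive on the nonzero vectors.
We reuse helper4's enveloping algebra `KA A` of a subgroup `A ≤ H` (namespace `Cfsg.Agent.Helper4.Zas`).
-/

set_option autoImplicit false

namespace Cfsg.Agent.Helper7.Hup

variable {p : ℕ} [Fact p.Prime] {V : Type*} [AddCommGroup V] [Module (ZMod p) V]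

/-- transitivity on nonzero vectors -/
def Trans (H : Subgroup (V ≃ₗ[ZMod p] V)) : Prop :=
  ∀ v w : V, v ≠ 0 → w ≠ 0 → ∃ h : H, (h : V ≃ₗ[ZMod p] V) v = w

/-- The configuration `A ≤ B ≤ C_G(A)` with `A, B ⊴ G`, `[B,B] ≤ A`, `Z(B) ≤ A`, `C_{C_G(A)}(B) ≤ A`
and `B/A` of squarefree exponent. -/
structure Cfg {G : Type*} [Group G] (A B : Subgroup G) : Prop where
  nA : A.Normal
  nB : B.Normal
  le : A ≤ B
  cent : B ≤ Subgroup.centralizer (A : Set G)
  comm : ∀ b ∈ B, ∀ c ∈ B, b * c * b⁻¹ * c⁻¹ ∈ A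
  center : ∀ b ∈ B, (∀ c ∈ B, b * c = c * b) → b ∈ A
  self : ∀ c ∈ Subgroup.centralizer (A : Set G), (∀ b ∈ B, c * b = b * c) → c ∈ A
  sqfree : ∀ b ∈ B, ∃ n : ℕ, Squarefree n ∧ b ^ n ∈ A

end Cfsg.Agent.Helper7.Hup
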