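import Mathlib
import Cfsg.Agent.Lib.Helper7.HupDefs
import Cfsg.Agent.Lib.Helper4.ZasSemi

/-!
# Huppert's theorem (S3360): the semilinear case and small facts (helper7)
-/

set_option autoImplicit false
set_option linter.style.haveILetI false
set_option linter.unusedSectionVars false

namespace Cfsg.Agent.Helper7.Hup

open Cfsg.Agent.Helper4.Zas

variable {p : ℕ} [Fact p.Prime] {V : Type*} [AddCommGroup V] [Module (ZMod p) V] [Finite V]
variable {H : Subgroup (V ≃ₗ[ZMod p] V)}

theorem finite_H' : Finite H := by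
  haveI : Finite (V ≃ₗ[ZMod p] V) := finite_GL
  infer_instance

/-- SEMI: if the enveloping field has as many elements as `V`, the group is semilinear. -/
theorem semilinear_of_card [Nontrivial V] (A₀ : Subgroup H) [hAn : A₀.Normal]
    (hAc : ∀ a ∈ A₀, ∀ b ∈ A₀, a * b = b * a)
    (hinj : ∀ x ∈ KA A₀, x ≠ 0 → ∀ v : V, x v = 0 → v = 0)
    (hcard : Nat.card (KA A₀) = Nat.card V) :
    ∃ (F : Type) (_ : Field F) (_ : Fintype F) (e : V ≃+ F),
      ∀ h : H, ∃ (a : F) (σ : F ≃+* F), ∀ v : V,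
        e ((h : V ≃ₗ[ZMod p] V) v) = a * σ (e v) := by
  have hcomm := KA_comm hAc
  haveI := finite_End (p := p) (V := V)
  haveI : Finite (KA A₀) := inferInstance
  obtain ⟨v₀, hv₀⟩ := exists_ne (0 : V)
  let ε : KA A₀ →+ V :=
    { toFun := fun x => (x : Module.End (ZMod p) V) v₀
      map_zero' := rfl
      map_add' := fun _ _ => rfl }
  have hεinj : Function.Injective ε := by
    rw [injective_iff_map_eq_zero]
    intro x hx
    by_contra hx0
    have hx0' : (x : Module.End (ZMod p) V) ≠ 0 := fun h => hx0 (Subtype.ext h)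
    exact hv₀ (hinj x x.2 hx0' v₀ hx)
  have hεbij : Function.Bijective ε :=
    (Nat.bijective_iff_injective_and_card ε).2 ⟨hεinj, hcard⟩
  let e₁ : KA A₀ ≃+ V := AddEquiv.ofBijective ε hεbij
  have hs : ∀ h : H, ∃ (a : KA A₀) (σ : KA A₀ ≃+* KA A₀),
      ∀ v : V, e₁.symm ((h : V ≃ₗ[ZMod p] V) v) = a * σ (e₁.symm v) := by
    intro h
    refine ⟨e₁.symm ((h : V ≃ₗ[ZMod p] V) v₀), (conjK (KA A₀) KA_conj h).toRingEquiv, ?_⟩
    intro v
    rw [AddEquiv.symm_apply_eq]
    obtain ⟨x, rfl⟩ := e₁.surjective v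
    rw [e₁.symm_apply_apply]
    set ah := e₁.symm ((h : V ≃ₗ[ZMod p] V) v₀) with hah
    have hah' : (ah : Module.End (ZMod p) V) v₀ = (h : V ≃ₗ[ZMod p] V) v₀ :=
      e₁.apply_symm_apply _
    show (h : V ≃ₗ[ZMod p] V) ((x : Module.End (ZMod p) V) v₀) =
      ((ah * conjK (KA A₀) KA_conj h x : KA A₀) : Module.End (ZMod p) V) v₀
    rw [MulMemClass.coe_mul, hcomm _ ah.2 _ (conjK (KA A₀) KA_conj h x).2, Module.End.mul_apply,
      hah', conjK_apply]
    simp only [Module.End.mul_apply, toEnd_apply, coe_inv_apply_apply]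
  letI FK := fieldOfInj (KA A₀) hcomm hinj
  exact semilinear_transport (fun (h : H) (v : V) => (h : V ≃ₗ[ZMod p] V) v) (KA A₀) e₁.symm hs

/-- ORB: the number of nonzero vectors divides the order of a transitive group. -/
theorem card_sub_one_dvd [Nontrivial V] (htr : Trans H) : Nat.card V - 1 ∣ Nat.card H := by
  classical
  haveI : Finite H := finite_H'
  obtain ⟨v₀, hv₀⟩ := exists_ne (0 : V)
  letI : MulAction H V :=
    { smul := fun h v => (h : V ≃ₗ[ZMod p] V) v
      one_smul := fun v => rfl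
      mul_smul := fun g h v => rfl }
  have hsmul : ∀ (h : H) (v : V), h • v = (h : V ≃ₗ[ZMod p] V) v := fun _ _ => rfl
  have horb : MulAction.orbit H v₀ = {v : V | v ≠ 0} := by
    ext v
    constructor
    · rintro ⟨h, rfl⟩
      show h • v₀ ≠ 0
      rw [hsmul]
      intro h0
      exact hv₀ ((LinearEquiv.map_eq_zero_iff _).1 h0)
    · intro hv
      obtain ⟨h, hh⟩ := htr v₀ v hv₀ hv
      exact ⟨h, hh⟩
  have h1 : (MulAction.stabilizer H v₀).index = (MulAction.orbit H v₀).ncard :=
    MulAction.index_stabilizer H v₀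
  have h2 : (MulAction.orbit H v₀).ncard = Nat.card V - 1 := by
    rw [horb]
    have : {v : V | v ≠ 0} = ({0}ᶜ : Set V) := rfl
    rw [this, Set.ncard_compl, Set.ncard_singleton]
  rw [← h2, ← h1]
  exact Subgroup.index_dvd_card _

/-- SCAL: for a maximal normal abelian subgroup `A`, the elements of `H` lying in `KA A`
are those of `A`. -/
theorem mem_of_toEnd_mem (A : Subgroup H) [hAn : A.Normal]
    (hAc : ∀ a ∈ A, ∀ b ∈ A, a * b = b * a)
    (hAmax : ∀ B : Subgroup H, B.Normal → (∀ a ∈ B, ∀ b ∈ B, a * b = b * a) → A ≤ B → B = A)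
    (h : H) (hh : toEnd H h ∈ KA A) : h ∈ A := by
  haveI : Finite H := finite_H'
  let A' : Subgroup H :=
    { carrier := {h | toEnd H h ∈ KA A}
      mul_mem' := by
        intro a b ha hb
        show toEnd H (a * b) ∈ KA A
        rw [map_mul]
        exact Subalgebra.mul_mem _ ha hb
      one_mem' := by
        show toEnd H 1 ∈ KA A
        rw [map_one]
        exact Subalgebra.one_mem _
      inv_mem' := by
        intro a ha
        show toEnd H a⁻¹ ∈ KA A
        have hfin : IsOfFinOrder a := isOfFinOrder_of_finite a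
        have h1 : a⁻¹ = a ^ (orderOf a - 1) := by
          rw [eq_comm, ← mul_eq_one_iff_eq_inv, ← pow_succ,
            Nat.sub_add_cancel hfin.orderOf_pos, pow_orderOf_eq_one]
        rw [h1, map_pow]
        exact Subalgebra.pow_mem _ ha _ }
  have hA'n : A'.Normal := by
    refine ⟨fun a ha g => ?_⟩
    show toEnd H (g * a * g⁻¹) ∈ KA A
    rw [map_mul, map_mul]
    exact KA_conj g _ ha
  have hA'c : ∀ a ∈ A', ∀ b ∈ A', a * b = b * a := by
    intro a ha b hb
    apply toEnd_injective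
    rw [map_mul, map_mul]
    exact KA_comm hAc _ ha _ hb
  have hle : A ≤ A' := fun a ha => toEnd_mem_KA ha
  have := hAmax A' hA'n hA'c hle
  rw [← this]
  exact hh

/-- `A` embeds into the field `KA A`. -/
theorem card_dvd_card_KA [Nontrivial V] (A : Subgroup H)
    (hAc : ∀ a ∈ A, ∀ b ∈ A, a * b = b * a)
    (hinj : ∀ x ∈ KA A, x ≠ 0 → ∀ v : V, x v = 0 → v = 0) :
    Nat.card A ∣ Nat.card (KA A) - 1 := by
  let f : A →* KA A :=
    { toFun := fun a => ⟨toEnd H a, toEnd_mem_KA a.2⟩
      map_one' := by apply Subtype.ext; exact map_one _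
      map_mul' := fun a b => by apply Subtype.ext; exact map_mul _ _ _ }
  have hf : Function.Injective f := by
    intro a b hab
    apply Subtype.ext
    apply toEnd_injective
    exact congrArg Subtype.val hab
  exact card_dvd_of_hom (KA A) (KA_comm hAc) hinj f hf

theorem isCyclic_of_inj [Nontrivial V] (A : Subgroup H)
    (hAc : ∀ a ∈ A, ∀ b ∈ A, a * b = b * a)
    (hinj : ∀ x ∈ KA A, x ≠ 0 → ∀ v : V, x v = 0 → v = 0) : IsCyclic A := by
  haveI : Finite H := finite_H'
  letI FK := fieldOfInj (KA A) (KA_comm hAc) hinj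
  let f : A →* KA A :=
    { toFun := fun a => ⟨toEnd H a, toEnd_mem_KA a.2⟩
      map_one' := by apply Subtype.ext; exact map_one _
      map_mul' := fun a b => by apply Subtype.ext; exact map_mul _ _ _ }
  have hf : Function.Injective f := by
    intro a b hab
    apply Subtype.ext
    apply toEnd_injective
    exact congrArg Subtype.val hab
  exact isCyclic_of_injective_ringHom f hf

/-- a maximal normal abelian subgroup exists -/
theorem exists_maxAb' (H : Subgroup (V ≃ₗ[ZMod p] V)) : ∃ A : Subgroup H, A.Normal ∧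
    (∀ a ∈ A, ∀ b ∈ A, a * b = b * a) ∧
    ∀ B : Subgroup H, B.Normal → (∀ a ∈ B, ∀ b ∈ B, a * b = b * a) → A ≤ B → B = A := by
  haveI : Finite H := finite_H'
  obtain ⟨A, hA, hmax⟩ := exists_maximal_of_wellFoundedGT
    (fun B : Subgroup H => B.Normal ∧ ∀ a ∈ B, ∀ b ∈ B, a * b = b * a)
    ⟨⊥, inferInstance, fun a ha b hb => by
      rw [Subgroup.mem_bot] at ha hb; rw [ha, hb]⟩
  refine ⟨A, hA.1, hA.2, fun B hBn hBc hAB => ?_⟩
  exact le_antisymm (hmax ⟨hBn, hBc⟩ hAB) hAB

end Cfsg.Agent.Helper7.Hup
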