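import Mathlib
import Cfsg.Agent.Lib.Helper7.HupSemi
import Cfsg.Agent.Lib.Helper15.HupAUT4
import Cfsg.Agent.Lib.Helper15.HupNUM
import Cfsg.Agent.Lib.Helper20.HupIND
import Cfsg.Agent.Lib.Helper23.HupINJ
import Cfsg.Agent.Lib.Helper23.HupMULT
import Cfsg.Agent.Lib.Helper25.HupACTGLUE
import Cfsg.Agent.Lib.Helper27.HupGRP
import Cfsg.Agent.Lib.Helper27.HupPRM
import Cfsg.Agent.Lib.Helper15.Zsigmondy
import Cfsg.Agent.Lib.Helper20.ZsigB

/-!
# Huppert's theorem (S3360): assembly (helper7)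
-/

set_option autoImplicit false
set_option linter.style.haveILetI false
set_option linter.unusedSectionVars false

namespace Cfsg.Agent.Helper7.Hup

open Cfsg.Agent.Helper4.Zas

variable {p : ℕ} [Fact p.Prime] {V : Type*} [AddCommGroup V] [Module (ZMod p) V] [Finite V]
  [Nontrivial V]

/-- the data of the non-semilinear case -/
structure Ctx (H : Subgroup (V ≃ₗ[ZMod p] V)) (A B : Subgroup H) (d m : ℕ) : Prop where
  nA : A.Normal
  cyc : IsCyclic A
  d_pos : 0 < d
  two_le : 2 ≤ m
  idx : (Subgroup.centralizer (A : Set H)).index ∣ d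
  cardA : Nat.card A ∣ p ^ d - 1
  cardH : p ^ (d * m) - 1 ∣ Nat.card H
  cfg : Cfg A B
  le_sq : A.relIndex B ≤ m ^ 2
  ne : B ≠ A

variable {H : Subgroup (V ≃ₗ[ZMod p] V)} {A B : Subgroup H} {d m : ℕ}

theorem Ctx.card_A_ne_one (h : Ctx H A B d m) : Nat.card A ≠ 1 := by
  intro h1
  have hbot : A = ⊥ := Subgroup.card_eq_one.1 h1
  apply h.ne
  apply le_antisymm _ h.cfg.le
  intro b hb
  apply h.cfg.center b hb
  intro c hc
  have := h.cfg.comm b hb c hc
  rw [hbot, Subgroup.mem_bot] at this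
  calc b * c = (b * c * b⁻¹ * c⁻¹) * (c * b) := by group
    _ = c * b := by rw [this, one_mul]

theorem Ctx.relIndex_pos (h : Ctx H A B d m) : 0 < A.relIndex B := by
  haveI : Finite H := finite_H'
  have : A.relIndex B ≠ 0 := by
    unfold Subgroup.relIndex
    exact Subgroup.index_ne_zero_of_finite
  omega

theorem Ctx.relIndex_ne_one (h : Ctx H A B d m) : A.relIndex B ≠ 1 := by
  intro h1
  apply h.ne
  apply le_antisymm _ h.cfg.le
  exact Subgroup.relIndex_eq_one.1 h1

theorem Ctx.exists_rk (h : Ctx H A B d m) {s : ℕ} (hs : s.Prime)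
    (hsd : ¬ s ∣ d) (hsA : ¬ s ∣ p ^ d - 1) (y : H) (hy : orderOf y = s) :
    ∃ r k : ℕ, r.Prime ∧ 0 < k ∧ r ^ (2 * k) ∣ A.relIndex B ∧ s ∣ r ^ (2 * k) - 1 ∧
      (r ^ (2 * k) = A.relIndex B → ∀ b ∈ B, y * b * y⁻¹ * b⁻¹ ∈ A → b ∈ A) := by
  haveI : Finite H := finite_H'
  haveI := h.nA
  have hyC : y ∈ Subgroup.centralizer (A : Set H) := by
    have h1 : y ^ (Subgroup.centralizer (A : Set H)).index ∈ Subgroup.centralizer (A : Set H) :=
      Subgroup.pow_index_mem _ y
    have hcop : Nat.Coprime s (Subgroup.centralizer (A : Set H)).index := by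
      rw [Nat.Prime.coprime_iff_not_dvd hs]
      exact fun hdvd => hsd (hdvd.trans h.idx)
    have h2 : y ^ s = 1 := by rw [← hy]; exact pow_orderOf_eq_one y
    have h3 : y ^ (Nat.gcd s (Subgroup.centralizer (A : Set H)).index : ℤ) ∈
        Subgroup.centralizer (A : Set H) := by
      rw [Nat.gcd_eq_gcd_ab, zpow_add, zpow_mul, zpow_mul, zpow_natCast, zpow_natCast, h2,
        one_zpow, one_mul]
      exact Subgroup.zpow_mem _ h1 _
    rw [hcop] at h3
    simpa using h3
  have hyA : y ∉ A := by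
    intro hyA
    have h1 : orderOf y ∣ Nat.card A := by
      have := orderOf_dvd_natCard (⟨y, hyA⟩ : A)
      rwa [Subgroup.orderOf_mk] at this
    rw [hy] at h1
    exact hsA (h1.trans h.cardA)
  have hsB : ¬ s ∣ Nat.card B := fun hdvd =>
    hsA ((h.cfg.prime_dvd hs hdvd).trans h.cardA)
  exact h.cfg.prime_action h.cyc hs y hy hyC hyA hsB

/-- a primitive prime divisor `s` of `p ^ n - 1` forces `d = 1`, `n = 2 ^ k`, `s = n + 1` and
`s ^ 2 ∤ p ^ n - 1` -/
theorem Ctx.prim (h : Ctx H A B d m) (hn3 : 3 ≤ d * m) {s : ℕ} (hs : s.Prime)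
    (hdiv : s ∣ p ^ (d * m) - 1) (hprim : ∀ j, 0 < j → j < d * m → ¬ s ∣ p ^ j - 1) :
    d = 1 ∧ (∃ k, 2 ^ k = d * m) ∧ s = d * m + 1 ∧ ¬ s ^ 2 ∣ p ^ (d * m) - 1 := by
  haveI : Finite H := finite_H'
  haveI : Fact s.Prime := ⟨hs⟩
  have hp1 : 1 ≤ p := (Fact.out : p.Prime).one_lt.le
  have hn0 : 0 < d * m := by omega
  have hns : d * m ∣ s - 1 :=
    Cfsg.Agent.Helper20.Zsig.IsPrim.dvd_sub_one (p := s) (q := p) (n := d * m)
      (fun i hi hin => hprim i hi hin) hs hp1 hn0 hdiv
  have hs2 : 2 ≤ s := hs.two_le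
  have hsn : d * m + 1 ≤ s := by
    have := Nat.le_of_dvd (by omega) hns
    omega
  have hdn : d < d * m := by
    have := h.two_le
    have := h.d_pos
    nlinarith
  have hsA : ¬ s ∣ p ^ d - 1 := hprim d h.d_pos hdn
  have hsd : ¬ s ∣ d := fun hdvd => by
    have := Nat.le_of_dvd h.d_pos hdvd
    omega
  have key : ∀ y : H, orderOf y = s → d = 1 ∧ m = d * m ∧ (∃ k, 2 ^ k = d * m ∧
      2 ^ (2 * k) = A.relIndex B) ∧ s = d * m + 1 ∧
      ∀ b ∈ B, y * b * y⁻¹ * b⁻¹ ∈ A → b ∈ A := by
    intro y hy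
    obtain ⟨r, k, hr, hk, hR, hsr, heq⟩ := h.exists_rk hs hsd hsA y hy
    obtain ⟨h1, h2, h3, h4, h5, h6⟩ := num1 (d * m) d m s r k (A.relIndex B) rfl h.two_le hn3 hs hns
      hr hk hR h.relIndex_pos h.le_sq hsr
    refine ⟨h1, h2, ⟨k, h4, ?_⟩, h5, heq h6⟩
    rw [← h6, h3]
  obtain ⟨y, hy⟩ := exists_prime_orderOf_dvd_card' (G := H) s (hdiv.trans h.cardH)
  obtain ⟨h1, h2, ⟨k, hk1, hk2⟩, h5, -⟩ := key y hy
  refine ⟨h1, ⟨k, hk1⟩, h5, ?_⟩
  intro hsq
  obtain ⟨P⟩ : Nonempty (Sylow s H) := inferInstance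
  have hP : s ^ 2 ∣ Nat.card P := P.pow_dvd_card_of_pow_dvd_card (hsq.trans h.cardH)
  have hmult : Nat.card P ∣ A.relIndex B - 1 :=
    h.cfg.sylow_card_dvd (fun y hy => (key y hy).2.2.2.2) P
  have hR : A.relIndex B = (d * m) ^ 2 := by
    rw [← hk2, ← hk1, ← pow_mul, mul_comm]
  have h7 : A.relIndex B - 1 = (d * m - 1) * s := by
    rw [hR, h5]
    have : 1 ≤ d * m := hn0
    obtain ⟨t, ht⟩ : ∃ t, d * m = t + 1 := ⟨d * m - 1, by omega⟩
    rw [ht]
    simp only [Nat.add_sub_cancel]
    have : (t + 1) ^ 2 = t * (t + 1 + 1) + 1 := by ring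
    rw [this, Nat.add_sub_cancel]
  have h8 : s * s ∣ (d * m - 1) * s := by
    rw [← pow_two, ← h7]
    exact hP.trans hmult
  have h9 : s ∣ d * m - 1 := Nat.dvd_of_mul_dvd_mul_right hs.pos h8
  have := Nat.le_of_dvd (by omega) h9
  omega

/-- `B / A` is not of prime order -/
theorem Cfg.relIndex_not_prime {G : Type*} [Group G] [Finite G] {A B : Subgroup G}
    (h : Cfg A B) : ¬ (A.relIndex B).Prime := by
  intro hq
  have hne : ¬ B ≤ A := by
    intro hle
    have : A.relIndex B = 1 := Subgroup.relIndex_eq_one.2 hle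
    rw [this] at hq
    exact Nat.not_prime_one hq
  obtain ⟨b, hbB, hbA⟩ := Set.not_subset.1 hne
  apply hbA
  apply h.center b hbB
  set X : Subgroup G := B ⊓ Subgroup.centralizer {b} with hX
  have hAX : A ≤ X := by
    intro a ha
    refine Subgroup.mem_inf.2 ⟨h.le ha, ?_⟩
    rw [Subgroup.mem_centralizer_iff]
    intro g hg
    rw [Set.mem_singleton_iff] at hg
    subst hg
    have := Subgroup.mem_centralizer_iff.1 (h.cent hbB) a ha
    exact this.symm
  have hXB : X ≤ B := inf_le_left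
  have hbX : b ∈ X := by
    refine Subgroup.mem_inf.2 ⟨hbB, ?_⟩
    rw [Subgroup.mem_centralizer_iff]
    intro g hg
    rw [Set.mem_singleton_iff] at hg
    rw [hg]
  have hmul := Subgroup.relIndex_mul_relIndex A X B hAX hXB
  have h1 : A.relIndex X ≠ 1 := fun h1 => hbA (Subgroup.relIndex_eq_one.1 h1 hbX)
  have h2 : A.relIndex X ∣ A.relIndex B := Dvd.intro _ hmul
  have h3 : A.relIndex X = A.relIndex B := ((Nat.dvd_prime hq).1 h2).resolve_left h1
  have h4 : X.relIndex B = 1 := by
    rw [h3] at hmul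
    have hpos : 0 < A.relIndex B := hq.pos
    exact Nat.eq_of_mul_eq_mul_left hpos (by rw [hmul, mul_one])
  have hBX : B ≤ X := Subgroup.relIndex_eq_one.1 h4
  intro c hc
  have := (Subgroup.mem_inf.1 (hBX hc)).2
  rw [Subgroup.mem_centralizer_iff] at this
  exact this b rfl

theorem Ctx.card_mem (h : Ctx H A B d m) :
    p ^ (d * m) ∈ ({9, 25, 49, 121, 529, 81} : Set ℕ) := by
  haveI : Finite H := finite_H'
  have hp : p.Prime := Fact.out
  have hd := h.d_pos
  have hm := h.two_le
  have hA1 := h.card_A_ne_one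
  -- `d = 1` implies `p ≠ 2`
  have hp2 : d = 1 → p ≠ 2 := by
    intro hd1 hp2
    apply hA1
    have h1 : p ^ d - 1 = 1 := by rw [hd1, hp2]; norm_num
    have := h.cardA
    rw [h1] at this
    exact Nat.dvd_one.1 this
  have hn2 : 2 ≤ d * m := by nlinarith
  rcases Nat.lt_or_ge (d * m) 3 with hlt | hn3
  · -- `n = 2`
    have hn : d * m = 2 := by omega
    have hd1 : d = 1 := by nlinarith
    have hm2 : m = 2 := by rw [hd1] at hn; omega
    have hR4 : A.relIndex B = 4 := by
      have h1 := h.le_sq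
      have h2 := h.relIndex_pos
      have h3 := h.relIndex_ne_one
      have h4 := h.cfg.relIndex_not_prime
      rw [hm2] at h1
      have : A.relIndex B = 2 ∨ A.relIndex B = 3 ∨ A.relIndex B = 4 := by omega
      rcases this with h5 | h5 | h5
      · rw [h5] at h4; exact absurd Nat.prime_two h4
      · rw [h5] at h4; exact absurd Nat.prime_three h4
      · exact h5
    have hC := h.cfg.card_centralizer_dvd h.cyc hR4
    have hidx : (Subgroup.centralizer (A : Set H)).index = 1 := by
      have := h.idx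
      rw [hd1] at this
      exact Nat.dvd_one.1 this
    have hCH : Nat.card (Subgroup.centralizer (A : Set H)) = Nat.card H := by
      have := Subgroup.index_mul_card (Subgroup.centralizer (A : Set H))
      rw [hidx, one_mul] at this
      exact this
    have h1 : p ^ 2 - 1 ∣ 24 * (p - 1) := by
      have h2 := h.cardH
      rw [hn] at h2
      have h3 := h.cardA
      rw [hd1, pow_one] at h3
      rw [hCH] at hC
      exact (h2.trans hC).trans (Nat.mul_dvd_mul_left 24 h3)
    have h2 : p + 1 ∣ 24 := by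
      have hp1 : 0 < p - 1 := by have := hp.two_le; omega
      have h3 : p ^ 2 - 1 = (p + 1) * (p - 1) := by
        obtain ⟨t, ht⟩ : ∃ t, p = t + 1 := ⟨p - 1, by have := hp.two_le; omega⟩
        rw [ht]
        simp only [Nat.add_sub_cancel]
        have : (t + 1) ^ 2 = (t + 1 + 1) * t + 1 := by ring
        rw [this, Nat.add_sub_cancel]
      rw [h3] at h1
      exact Nat.dvd_of_mul_dvd_mul_right hp1 h1
    rw [hn]
    rcases num0 p hp h2 with h3 | h3 | h3 | h3 | h3 | h3
    · exact absurd h3 (hp2 hd1)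
    all_goals rw [h3]; simp
  · by_cases h26 : p = 2 ∧ d * m = 6
    · -- `(p, n) = (2, 6)`
      exfalso
      obtain ⟨hp2', hn6⟩ := h26
      have hd3 : d ≤ 3 := by nlinarith
      have hcases : (d = 1) ∨ (d = 2 ∧ m = 3) ∨ (d = 3 ∧ m = 2) := by
        interval_cases d
        · left; rfl
        · right; left; exact ⟨rfl, by omega⟩
        · right; right; exact ⟨rfl, by omega⟩
      rcases hcases with hd1 | ⟨hd2, hm3⟩ | ⟨hd3, hm2⟩
      · exact hp2 hd1 hp2'
      · -- `d = 2`, `m = 3`: an element of order 7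
        have h7 : Nat.Prime 7 := by norm_num
        haveI : Fact (Nat.Prime 7) := ⟨h7⟩
        have hdiv : 7 ∣ Nat.card H := by
          have h1 : p ^ (d * m) - 1 = 63 := by rw [hn6, hp2']; norm_num
          have := h.cardH
          rw [h1] at this
          exact Dvd.dvd.trans (by norm_num) this
        obtain ⟨y, hy⟩ := exists_prime_orderOf_dvd_card' (G := H) 7 hdiv
        obtain ⟨r, k, hr, hk, hR, hsr, -⟩ := h.exists_rk h7 (by rw [hd2]; norm_num)
          (by rw [hd2, hp2']; norm_num) y hy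
        have h1 := h.le_sq
        rw [hm3] at h1
        have h2 : r ^ (2 * k) ≤ 9 := (Nat.le_of_dvd h.relIndex_pos hR).trans h1
        have h3 : 2 ≤ r ^ k := by
          calc 2 ≤ r := hr.two_le
            _ = r ^ 1 := (pow_one r).symm
            _ ≤ r ^ k := Nat.pow_le_pow_right hr.pos hk
        have h4 : r ^ (2 * k) = (r ^ k) ^ 2 := by rw [mul_comm, pow_mul]
        rw [h4] at h2 hsr
        have h5 : r ^ k ≤ 3 := by nlinarith
        interval_cases (r ^ k) <;> omega
      · -- `d = 3`, `m = 2`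
        have h1 := h.le_sq
        rw [hm2] at h1
        have h2 := h.relIndex_ne_one
        obtain ⟨r, hr, hrR⟩ := Nat.exists_prime_and_dvd h2
        have h3 : r ≤ 4 := (Nat.le_of_dvd h.relIndex_pos hrR).trans h1
        have h4 : r ∣ Nat.card B := hrR.trans (Subgroup.relIndex_dvd_card A B)
        have h5 : r ∣ 7 := by
          have h1 : p ^ d - 1 = 7 := by rw [hd3, hp2']; norm_num
          have := (h.cfg.prime_dvd hr h4).trans h.cardA
          rw [h1] at this
          exact this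
        have h6 : r = 7 := (Nat.prime_dvd_prime_iff_eq hr (by norm_num)).1 h5
        omega
    · -- Zsigmondy
      have h26' : ¬ (p = 2 ∧ d * m = 6) := h26
      obtain ⟨s, hs, hsdiv, hsprim⟩ := Cfsg.Agent.Helper15.Zsig.zsigmondy p (d * m) hp.one_lt
        (by omega) h26' (fun hh => by omega)
      obtain ⟨hd1, ⟨k, hk⟩, -, -⟩ := h.prim hn3 hs hsdiv hsprim
      have hk2 : 2 ≤ k := by
        by_contra hk2
        have : k = 0 ∨ k = 1 := by omega
        rcases this with h0 | h0 <;> rw [h0] at hk <;> omega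
      have := num2 p (d * m) k hp (hp2 hd1) hk2 hk.symm (fun t ht htdiv htprim => by
        obtain ⟨-, -, h3, h4⟩ := h.prim hn3 ht htdiv htprim
        exact ⟨h3, h4⟩)
      rw [this.1, this.2]
      simp

/-- **Huppert's theorem** for a subgroup of `GL(V)` -/
theorem huppert (H : Subgroup (V ≃ₗ[ZMod p] V)) (hsol : Group.IsSolvable H) (htr : Trans H) :
    (∃ (F : Type) (_ : Field F) (_ : Fintype F) (e : V ≃+ F),
      ∀ h : H, ∃ (a : F) (σ : F ≃+* F), ∀ v : V,
        e ((h : V ≃ₗ[ZMod p] V) v) = a * σ (e v)) ∨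
    Nat.card V ∈ ({9, 25, 49, 121, 529, 81} : Set ℕ) := by
  haveI : Finite H := finite_H'
  have hp : p.Prime := Fact.out
  obtain ⟨A, hAn, hAc, hAmax⟩ := exists_maxAb' H
  haveI := hAn
  have hinj := KA_inj_of_trans htr A hAc
  have hcomm := KA_comm hAc
  by_cases hcard : Nat.card (KA A) = Nat.card V
  · left
    exact semilinear_of_card A hAc hinj hcard
  right
  obtain ⟨m, hm⟩ := card_V_pow (KA A) hcomm hinj
  have hK := card_K (KA A)
  set d := Module.finrank (ZMod p) (KA A) with hd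
  have hV1 : 1 < Nat.card V := Finite.one_lt_card
  have hm2 : 2 ≤ m := by
    by_contra hlt
    have : m = 0 ∨ m = 1 := by omega
    rcases this with h0 | h0
    · rw [h0, pow_zero] at hm; omega
    · rw [h0, pow_one] at hm; exact hcard hm.symm
  have hd0 : 0 < d := by
    rcases Nat.eq_zero_or_pos d with h0 | h0
    · rw [h0, pow_zero] at hK
      rw [hK, one_pow] at hm
      omega
    · exact h0
  have hVn : Nat.card V = p ^ (d * m) := by rw [hm, hK, pow_mul]
  have hidx : (Subgroup.centralizer (A : Set H)).index ∣ d :=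
    index_dvd_finrank (KA A) KA_conj hcomm hinj _ (fun h => mem_centralizer_iff_KA h)
  have hcardA : Nat.card A ∣ p ^ d - 1 := by
    rw [← hK]
    exact card_dvd_card_KA A hAc hinj
  have hcyc : IsCyclic A := isCyclic_of_inj A hAc hinj
  have hcardH : p ^ (d * m) - 1 ∣ Nat.card H := by
    rw [← hVn]
    exact card_sub_one_dvd htr
  obtain ⟨B, hcfg⟩ := exists_cfg hsol A hAc hAmax
  have hle_sq : A.relIndex B ≤ m ^ 2 := relIndex_le_sq A B hAc hinj hcfg m hm
  have hne : B ≠ A := by
    intro hBA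
    have hCA : Subgroup.centralizer (A : Set H) = A := by
      apply le_antisymm
      · intro c hc
        apply hcfg.self c hc
        intro b hb
        rw [hBA] at hb
        exact (Subgroup.mem_centralizer_iff.1 hc b hb).symm
      · intro a ha
        rw [Subgroup.mem_centralizer_iff]
        intro b hb
        exact hAc b hb a ha
    have h1 := Subgroup.index_mul_card (Subgroup.centralizer (A : Set H))
    have h2 : Nat.card (Subgroup.centralizer (A : Set H)) = Nat.card A := by rw [hCA]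
    rw [h2] at h1
    have hq2 : 2 ≤ p ^ d := by
      calc 2 ≤ p := hp.two_le
        _ = p ^ 1 := (pow_one p).symm
        _ ≤ p ^ d := Nat.pow_le_pow_right hp.pos hd0
    have hqd : d < p ^ d := by
      calc d < 2 ^ d := Nat.lt_two_pow_self
        _ ≤ p ^ d := Nat.pow_le_pow_left hp.two_le d
    have h3 : (Subgroup.centralizer (A : Set H)).index ≤ d := Nat.le_of_dvd hd0 hidx
    have h4 : Nat.card A ≤ p ^ d - 1 := Nat.le_of_dvd (by omega) hcardA
    have h5 : p ^ (d * m) - 1 ≤ Nat.card H := Nat.le_of_dvd Nat.card_pos hcardH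
    have h6 : (p ^ d) ^ 2 ≤ p ^ (d * m) := by
      rw [← pow_mul]
      exact Nat.pow_le_pow_right hp.pos (by nlinarith)
    have h7 : Nat.card H ≤ d * (p ^ d - 1) := by
      rw [← h1]
      exact Nat.mul_le_mul h3 h4
    set q := p ^ d with hq
    obtain ⟨t, ht⟩ : ∃ t, q = t + 1 := ⟨q - 1, by omega⟩
    rw [ht] at h6 h7 hqd hq2
    simp only [Nat.add_sub_cancel] at h7
    have h8 : d * t < (t + 1) * t := by
      apply Nat.mul_lt_mul_of_pos_right hqd
      omega
    have h9 : (t + 1) ^ 2 = (t + 1) * t + t + 1 := by ring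
    rw [h9] at h6
    generalize (t + 1) * t = X at h6 h8
    generalize d * t = Y at h7 h8
    generalize p ^ (d * m) = N at h5 h6
    omega
  have hctx : Ctx H A B d m :=
    { nA := hAn
      cyc := hcyc
      d_pos := hd0
      two_le := hm2
      idx := hidx
      cardA := hcardA
      cardH := hcardH
      cfg := hcfg
      le_sq := hle_sq
      ne := hne }
  rw [hVn]
  exact hctx.card_mem

end Cfsg.Agent.Helper7.Hup
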