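import Mathlib
import Cfsg.Agent.Lib.Helper8.HallSnDefs

/-!
# Auxiliary lemmas for the HallSn piece HS-EX (helper7): orders of set stabilizers in `Perm Ω`.
-/

set_option autoImplicit false

namespace Cfsg.Agent.Helper7.HSEx

open Equiv

universe u

variable {Ω : Type u} [Fintype Ω] [DecidableEq Ω]

/-- the setwise stabilizer of a finset -/
def setStab (S : Finset Ω) : Subgroup (Perm Ω) where
  carrier := {σ | ∀ x, σ x ∈ S ↔ x ∈ S}
  one_mem' := fun _ => Iff.rfl
  mul_mem' := fun {a b} ha hb x => by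
    rw [Perm.mul_apply]; exact (ha (b x)).trans (hb x)
  inv_mem' := fun {a} ha x => by
    have := ha (a.symm x)
    rw [Equiv.apply_symm_apply] at this
    exact this.symm

theorem mem_setStab {S : Finset Ω} {σ : Perm Ω} : σ ∈ setStab S ↔ ∀ x, σ x ∈ S ↔ x ∈ S := Iff.rfl

theorem setStab_eq_range (S : Finset Ω) :
    setStab S = (Perm.subtypeCongrHom (fun x => x ∈ S)).range := by
  ext σ
  rw [mem_setStab, MonoidHom.mem_range]
  constructor
  · intro h
    have h' : ∀ x, ¬ (σ x ∈ S) ↔ ¬ (x ∈ S) := fun x => not_congr (h x)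
    refine ⟨(σ.subtypePerm h, σ.subtypePerm h'), ?_⟩
    ext x
    show (Perm.subtypeCongr (σ.subtypePerm h) (σ.subtypePerm h')) x = σ x
    by_cases hx : x ∈ S
    · rw [Perm.subtypeCongr.left_apply _ _ hx, Perm.subtypePerm_apply]
    · rw [Perm.subtypeCongr.right_apply _ _ hx, Perm.subtypePerm_apply]
  · rintro ⟨⟨σ₁, σ₂⟩, rfl⟩ x
    show (Perm.subtypeCongr σ₁ σ₂) x ∈ S ↔ x ∈ S
    by_cases hx : x ∈ S
    · rw [Perm.subtypeCongr.left_apply _ _ hx]
      exact ⟨fun _ => hx, fun _ => (σ₁ ⟨x, hx⟩).2⟩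
    · rw [Perm.subtypeCongr.right_apply _ _ hx]
      exact ⟨fun h => absurd h (σ₂ ⟨x, hx⟩).2, fun h => absurd h hx⟩

theorem card_setStab (S : Finset Ω) :
    Nat.card (setStab S) = S.card.factorial * (Fintype.card Ω - S.card).factorial := by
  rw [setStab_eq_range]
  rw [← Nat.card_congr
    (MonoidHom.ofInjective (Perm.subtypeCongrHom_injective (fun x => x ∈ S))).toEquiv]
  rw [Nat.card_prod, Nat.card_perm, Nat.card_perm, Nat.card_eq_fintype_card,
    Nat.card_eq_fintype_card, Fintype.card_subtype_compl, Fintype.card_subtype]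
  simp

/-- the stabilizer of the partition `{S, Sᶜ}` -/
def partStab (S : Finset Ω) : Subgroup (Perm Ω) where
  carrier := {σ | (∀ x, σ x ∈ S ↔ x ∈ S) ∨ (∀ x, σ x ∈ S ↔ x ∉ S)}
  one_mem' := Or.inl fun _ => Iff.rfl
  mul_mem' := fun {a b} ha hb => by
    rcases ha with ha | ha <;> rcases hb with hb | hb
    · left; intro x; rw [Perm.mul_apply]; exact (ha (b x)).trans (hb x)
    · right; intro x; rw [Perm.mul_apply]; exact (ha (b x)).trans (hb x)
    · right; intro x; rw [Perm.mul_apply]; exact (ha (b x)).trans (not_congr (hb x))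
    · left; intro x; rw [Perm.mul_apply]
      exact (ha (b x)).trans ((not_congr (hb x)).trans not_not)
  inv_mem' := fun {a} ha => by
    rcases ha with ha | ha
    · left; intro x
      have := ha (a.symm x)
      rw [Equiv.apply_symm_apply] at this
      exact this.symm
    · right; intro x
      have := ha (a.symm x)
      rw [Equiv.apply_symm_apply] at this
      constructor
      · intro h1 h2; exact (this.mp h2) h1
      · intro h1; by_contra h2; exact h1 (this.mpr h2)

theorem mem_partStab {S : Finset Ω} {σ : Perm Ω} :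
    σ ∈ partStab S ↔ ((∀ x, σ x ∈ S ↔ x ∈ S) ∨ (∀ x, σ x ∈ S ↔ x ∉ S)) := Iff.rfl

theorem setStab_le_partStab (S : Finset Ω) : setStab S ≤ partStab S := fun _ h => Or.inl h

/-- a permutation exchanging `S` and its complement -/
theorem exists_exchange (S : Finset Ω) (hS : 2 * S.card = Fintype.card Ω) :
    ∃ τ : Perm Ω, ∀ x, τ x ∈ S ↔ x ∉ S := by
  have hcard : Fintype.card {x // x ∈ S} = Fintype.card {x // ¬ x ∈ S} := by
    rw [Fintype.card_subtype_compl, Fintype.card_subtype]
    simp
    omega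
  let e : {x // x ∈ S} ≃ {x // ¬ x ∈ S} := Fintype.equivOfCardEq hcard
  refine ⟨e.extendSubtype, fun x => ?_⟩
  constructor
  · intro h1 h2
    exact (e.extendSubtype_mem x h2) h1
  · intro h1
    by_contra h2
    exact (e.extendSubtype_not_mem x h1) h2

theorem card_partStab (S : Finset Ω) (hS : 2 * S.card = Fintype.card Ω) (hne : S.Nonempty) :
    Nat.card (partStab S) = 2 * Nat.card (setStab S) := by
  obtain ⟨τ, hτ⟩ := exists_exchange S hS
  have hτmem : τ ∈ partStab S := Or.inr hτ
  have hidx : ((setStab S).subgroupOf (partStab S)).index = 2 := by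
    rw [Subgroup.index_eq_two_iff]
    refine ⟨⟨τ, hτmem⟩, ?_⟩
    rintro ⟨b, hb⟩
    simp only [Subgroup.mem_subgroupOf, Subgroup.coe_mul, mem_setStab, Perm.mul_apply]
    obtain ⟨s, hs⟩ := hne
    rcases hb with hb | hb
    · right
      refine ⟨hb, ?_⟩
      intro hcon
      have h1 := hcon s
      rw [hb, hτ] at h1
      exact (h1.mpr hs) hs
    · left
      refine ⟨?_, ?_⟩
      · intro x
        rw [hb, hτ, not_not]
      · intro hcon
        have h1 := hcon s
        have h2 := hb s
        exact (h2.mp (h1.mpr hs)) hs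
  have h1 := Subgroup.card_mul_index ((setStab S).subgroupOf (partStab S))
  rw [hidx, Nat.card_congr (Subgroup.subgroupOfEquivOfLe (setStab_le_partStab S)).toEquiv] at h1
  omega

theorem isPiHall_of_card {π : Set ℕ} {H : Subgroup (Perm Ω)} {m k : ℕ} (hcard : Nat.card H = m)
    (hindex : H.index = k) (h1 : ∀ p : ℕ, p.Prime → p ∣ m → p ∈ π)
    (h2 : ∀ p : ℕ, p.Prime → p ∈ π → ¬ p ∣ k) : Cfsg.IsPiHall π H := by
  refine ⟨?_, ?_⟩
  · rw [hcard]; exact h1
  · rw [hindex]; exact h2

theorem index_of_card {H : Subgroup (Perm Ω)} {m k : ℕ} (hcard : Nat.card H = m) (hm : 0 < m)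
    (hmk : m * k = (Fintype.card Ω).factorial) : H.index = k := by
  have h1 := Subgroup.card_mul_index H
  rw [Nat.card_perm, hcard, Nat.card_eq_fintype_card, ← hmk] at h1
  exact Nat.eq_of_mul_eq_mul_left hm h1

end Cfsg.Agent.Helper7.HSEx
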