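import Mathlib
import Cfsg.Prelude.Def_JComponents
import Cfsg.Agent.Lib.Helper19.JCDefs
import Cfsg.Agent.Lib.Helper19.PGroupBasic
import Cfsg.Agent.Lib.Helper1.JCW1
import Cfsg.Agent.Lib.Helper1.JCW2
import Cfsg.Agent.Lib.Helper27.JCCUBE
import Cfsg.Agent.Lib.Helper27.JCVDEC
import Cfsg.Agent.Lib.Helper25.JCConj
import Cfsg.Agent.Lib.Helper14.Ambient

/-!
# S2945 piece GENV (helper7): `W_K ≤ Ω₁Z(R)` and `⁅Ω₁Z(R), K⁆ ≤ W_K` for any 2-group `R` with
`O₂(K) ≤ R`, `K ≤ N(R)`, `R ≤ N(K)`.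
-/

set_option autoImplicit false
set_option linter.unusedSectionVars false
set_option linter.unusedVariables false

namespace Cfsg.Agent.Helper15.JC45

open Cfsg Cfsg.Agent.Helper19.JC Cfsg.Agent.Helper4.ZJ
open scoped commutatorElement

universe u

variable {G : Type u} [Group G] [Finite G]

theorem genv_R_inf_K {K J R : Subgroup G} (c : Comp K J) (hR2 : IsPGroup 2 R)
    (hKR : K ≤ Subgroup.normalizer (R : Set G)) : R ⊓ K ≤ pCoreOf 2 K := by
  apply Cfsg.Agent.Helper14.le_pCoreOf inf_le_right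
  · apply le_normalizer_of_conj_mem
    intro k hk n hn
    exact ⟨conj_mem_of_le_normalizer hKR hk hn.1, K.mul_mem (K.mul_mem hk hn.2) (K.inv_mem hk)⟩
  · exact hR2.to_le inf_le_left

theorem genv_W_le {K J R : Subgroup G} (c : Comp K J) (hR2 : IsPGroup 2 R)
    (hP0R : pCoreOf 2 K ≤ R) (hKR : K ≤ Subgroup.normalizer (R : Set G))
    (hRK : R ≤ Subgroup.normalizer (K : Set G)) : wOf K ≤ omegaCenterOf R := by
  have : Fact (Nat.Prime 2) := ⟨Nat.prime_two⟩
  set I : Subgroup G := wOf K ⊓ Subgroup.centralizer (R : Set G) with hIdef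
  have hKW : K ≤ Subgroup.normalizer (wOf K : Set G) := le_sup_left.trans c.le_normalizer_W
  have hRW : R ≤ Subgroup.normalizer (wOf K : Set G) :=
    hRK.trans (Cfsg.Agent.Helper25.JC.normalizer_le_normalizer_wOf K)
  have hWR : wOf K ≤ R := c.W_le_P0.trans hP0R
  have hIK : K ≤ Subgroup.normalizer (I : Set G) := by
    apply le_normalizer_of_conj_mem
    intro k hk n hn
    refine Subgroup.mem_inf.mpr ⟨conj_mem_of_le_normalizer hKW hk hn.1, ?_⟩
    rw [Subgroup.mem_centralizer_iff]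
    intro r hr
    have hr' : k⁻¹ * r * k ∈ R := conj_inv_mem_of_le_normalizer hKR hk hr
    have h2 := (Subgroup.mem_centralizer_iff.mp hn.2) _ hr'
    calc r * (k * n * k⁻¹) = k * ((k⁻¹ * r * k) * n) * k⁻¹ := by group
      _ = k * (n * (k⁻¹ * r * k)) * k⁻¹ := by rw [h2]
      _ = k * n * k⁻¹ * r := by group
  have hIne : I ≠ ⊥ := by
    have hN : ((wOf K).subgroupOf R).Normal :=
      (Subgroup.normal_subgroupOf_iff_le_normalizer hWR).mpr hRW
    have hne : (wOf K).subgroupOf R ≠ ⊥ := by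
      intro h
      rw [Subgroup.subgroupOf_eq_bot, disjoint_iff, inf_eq_left.mpr hWR] at h
      have := c.hW4
      rw [h] at this
      simp at this
    have h1 := Cfsg.Agent.Helper19.normal_inf_center_ne_bot hR2 ((wOf K).subgroupOf R) hne
    intro hbot
    apply h1
    rw [eq_bot_iff]
    rintro ⟨x, hxR⟩ hx
    obtain ⟨hxW, hxZ⟩ := Subgroup.mem_inf.mp hx
    rw [Subgroup.mem_subgroupOf] at hxW
    rw [Subgroup.mem_center_iff] at hxZ
    have hxI : x ∈ I := by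
      refine Subgroup.mem_inf.mpr ⟨hxW, ?_⟩
      rw [Subgroup.mem_centralizer_iff]
      intro r hr
      have := hxZ ⟨r, hr⟩
      exact congrArg Subtype.val this
    rw [hbot, Subgroup.mem_bot] at hxI
    rw [Subgroup.mem_bot]
    exact Subtype.ext hxI
  rcases c.W_irred I inf_le_left hIK with h | h
  · exact absurd h hIne
  · intro w hw
    have hwI : w ∈ I := by rw [h]; exact hw
    rw [mem_omegaCenterOf_iff]
    refine ⟨hWR hw, ?_, ?_⟩
    · intro y hy
      exact (Subgroup.mem_centralizer_iff.mp hwI.2) y hy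
    · rw [pow_two]
      exact c.hW2 w hw

section comm

variable {K J R : Subgroup G}

theorem genv_vcomm {v : G} (hv : v ∈ omegaCenterOf R) {r : G} (hr : r ∈ R) :
    r * v = v * r :=
  ((mem_omegaCenterOf_iff _ v).1 hv).2.1 r hr

theorem genv_sq {v : G} (hv : v ∈ omegaCenterOf R) : v * v = 1 := by
  have := ((mem_omegaCenterOf_iff _ v).1 hv).2.2
  rwa [pow_two] at this

theorem genv_conj (hKR : K ≤ Subgroup.normalizer (R : Set G)) {v : G}
    (hv : v ∈ omegaCenterOf R) {d : G} (hd : d ∈ K) : d * v * d⁻¹ ∈ omegaCenterOf R :=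
  conj_mem_of_le_normalizer (le_normalizer_omegaCenterOf hKR) hd hv

theorem genv_setup (c : Comp K J) (hP0R : pCoreOf 2 K ≤ R)
    (hKR : K ≤ Subgroup.normalizer (R : Set G)) {v : G} (hv : v ∈ omegaCenterOf R) {d : G}
    (hd : d ∈ K) {b e : G} (hb : b = d * v * d⁻¹) (he : e = d * b * d⁻¹) :
    b ∈ omegaCenterOf R ∧ e ∈ omegaCenterOf R ∧ v * b = b * v ∧ v * e = e * v ∧ b * e = e * b ∧
      d * e * d⁻¹ = v := by
  have hbV : b ∈ omegaCenterOf R := by rw [hb]; exact genv_conj hKR hv hd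
  have heV : e ∈ omegaCenterOf R := by rw [he]; exact genv_conj hKR hbV hd
  have haR : v ∈ R := omegaCenterOf_le _ hv
  have hbR : b ∈ R := omegaCenterOf_le _ hbV
  refine ⟨hbV, heV, genv_vcomm hbV haR, genv_vcomm heV haR, genv_vcomm heV hbR, ?_⟩
  have hd3 : d ^ 3 ∈ R := hP0R (c.cube_mem hd)
  have h4 := genv_vcomm hv hd3
  have hd3e : d ^ 3 = d * d * d := by rw [pow_succ, pow_two]
  rw [hd3e] at h4
  calc d * e * d⁻¹ = (d * d * d * v) * (d * d * d)⁻¹ := by rw [he, hb]; group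
    _ = (v * (d * d * d)) * (d * d * d)⁻¹ := by rw [h4]
    _ = v := mul_inv_cancel_right _ _

theorem genv_basic (c : Comp K J) (hR2 : IsPGroup 2 R) (hP0R : pCoreOf 2 K ≤ R)
    (hKR : K ≤ Subgroup.normalizer (R : Set G)) (hRK : R ≤ Subgroup.normalizer (K : Set G))
    {v : G} (hv : v ∈ omegaCenterOf R) {d : G} (hd : d ∈ K) :
    v * (d * v * d⁻¹) ∈ wOf K := by
  obtain ⟨b, hb⟩ : ∃ b : G, b = d * v * d⁻¹ := ⟨_, rfl⟩
  obtain ⟨e, he⟩ : ∃ e : G, e = d * b * d⁻¹ := ⟨_, rfl⟩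
  obtain ⟨hbV, heV, hab, hae, hbe, h3⟩ := genv_setup c hP0R hKR hv hd hb he
  have haR : v ∈ R := omegaCenterOf_le _ hv
  have hkey := vdec_key (genv_sq hv) (genv_sq hbV) (genv_sq heV) hab hae hbe hb.symm
    he.symm h3
  have hyV : v * b ∈ omegaCenterOf R := Subgroup.mul_mem _ hv hbV
  have hyK : v * b ∈ K := by
    have h5 : v * d * v⁻¹ ∈ K := conj_mem_of_le_normalizer hRK haR hd
    have h6 : v * b = (v * d * v⁻¹) * d⁻¹ := by
      have hvi : v⁻¹ = v := inv_eq_of_mul_eq_one_left (genv_sq hv)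
      rw [hvi, hb]; group
    rw [h6]
    exact K.mul_mem h5 (K.inv_mem hd)
  have hyP0 : v * b ∈ pCoreOf 2 K :=
    genv_R_inf_K c hR2 hKR (Subgroup.mem_inf.2 ⟨omegaCenterOf_le _ hyV, hyK⟩)
  have hyU : v * b ∈ omegaCenterOf (pCoreOf 2 K) := by
    rw [mem_omegaCenterOf_iff]
    refine ⟨hyP0, fun y hy => genv_vcomm hyV (hP0R hy), ?_⟩
    rw [pow_two]; exact genv_sq hyV
  rw [← hb, hkey]
  exact Subgroup.mul_mem _ (Subgroup.commutator_mem_commutator hyU hd)
    (Subgroup.commutator_mem_commutator hyU (K.pow_mem hd 2))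

theorem genv_aux (c : Comp K J) (hR2 : IsPGroup 2 R) (hP0R : pCoreOf 2 K ≤ R)
    (hKR : K ≤ Subgroup.normalizer (R : Set G)) (hRK : R ≤ Subgroup.normalizer (K : Set G))
    {v : G} (hv : v ∈ omegaCenterOf R) {d : G} (hd : d ∈ K) {p : G}
    (hp : p ∈ pCoreOf 2 K) : v * (d * p) * v⁻¹ * (d * p)⁻¹ ∈ wOf K := by
  have hvi : v⁻¹ = v := inv_eq_of_mul_eq_one_left (genv_sq hv)
  have hpv : p * v = v * p := genv_vcomm hv (hP0R hp)
  have h1 : v * (d * p) * v⁻¹ * (d * p)⁻¹ = v * (d * v * d⁻¹) := by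
    rw [hvi]
    calc v * (d * p) * v * (d * p)⁻¹ = v * d * (p * v) * p⁻¹ * d⁻¹ := by group
      _ = v * d * (v * p) * p⁻¹ * d⁻¹ := by rw [hpv]
      _ = v * (d * v * d⁻¹) := by group
  rw [h1]
  exact genv_basic c hR2 hP0R hKR hRK hv hd

end comm

theorem genv_comm {K J R : Subgroup G} (c : Comp K J) (hR2 : IsPGroup 2 R)
    (hP0R : pCoreOf 2 K ≤ R) (hKR : K ≤ Subgroup.normalizer (R : Set G))
    (hRK : R ≤ Subgroup.normalizer (K : Set G)) :
    ∀ v ∈ omegaCenterOf R, ∀ k ∈ K, v * k * v⁻¹ * k⁻¹ ∈ wOf K := by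
  intro v hv k hk
  obtain ⟨d, hd, hd'⟩ := c.exists_d
  rcases c.coset_cases hd hd' hk with h | h | h
  · have hkv : k * v = v * k := genv_vcomm hv (hP0R h)
    have h1 : v * k * v⁻¹ * k⁻¹ = 1 := by
      calc v * k * v⁻¹ * k⁻¹ = (v * k) * v⁻¹ * k⁻¹ := by group
        _ = (k * v) * v⁻¹ * k⁻¹ := by rw [hkv]
        _ = 1 := by group
    rw [h1]; exact Subgroup.one_mem _
  · have h1 := genv_aux c hR2 hP0R hKR hRK hv hd h
    have h2 : d * (d⁻¹ * k) = k := by group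
    rwa [h2] at h1
  · have h1 := genv_aux c hR2 hP0R hKR hRK hv (K.mul_mem hd hd) h
    have h2 : d * d * (d⁻¹ * d⁻¹ * k) = k := by group
    rwa [h2] at h1

end Cfsg.Agent.Helper15.JC45
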