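import Mathlib
import Cfsg.Agent.Lib.Helper9.PCoreSub

/-!
# S2945 piece PACT (helper7): the action lemma, with piece AB as a hypothesis (`pact_core`)
-/

set_option autoImplicit false
set_option linter.unusedSectionVars false
set_option linter.unusedVariables false

namespace Cfsg.Agent.Helper15.JC45

open Cfsg

universe u

variable {G : Type u} [Group G] [Finite G]

/-- `|H ⊔ N| ≤ |H| |N|` when `H` normalizes `N` -/
theorem pact_card_sup_le (H N : Subgroup G) (hLE : H ≤ Subgroup.normalizer (N : Set G)) :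
    Nat.card (H ⊔ N : Subgroup G) ≤ Nat.card H * Nat.card N := by
  have hcm : ∀ {A B : Subgroup G}, A ≤ B → A.relIndex B * Nat.card A = Nat.card B := by
    intro A B hAB
    have := Subgroup.relIndex_mul_relIndex (⊥ : Subgroup G) A B bot_le hAB
    rw [Subgroup.relIndex_bot_left, Subgroup.relIndex_bot_left] at this
    rw [mul_comm]; exact this
  have h1 : N.relIndex H = N.relIndex (H ⊔ N) := by
    have i1 := Subgroup.normal_subgroupOf_of_le_normalizer hLE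
    have i2 := Subgroup.normal_subgroupOf_sup_of_le_normalizer hLE
    rw [Subgroup.relIndex, Subgroup.relIndex, Subgroup.index_eq_card, Subgroup.index_eq_card]
    exact Nat.card_congr (QuotientGroup.quotientInfEquivProdNormalizerQuotient H N hLE).toEquiv
  have h2 : N.relIndex (H ⊔ N) * Nat.card N = Nat.card (H ⊔ N : Subgroup G) := hcm le_sup_right
  rw [← h2, ← h1]
  exact Nat.mul_le_mul_right _ (Nat.le_of_dvd Nat.card_pos (Subgroup.relIndex_dvd_card _ _))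

/-- the statement of piece AB (for groups in the universe of `G`) -/
def PactAB : Prop :=
  ∀ (M : Type u) [Group M] [Finite M], (∀ a b : M, a * b = b * a) → (∀ m : M, m * m = 1) →
    Nat.card M ≤ 16 → ∀ (P : Subgroup (MulAut M)), IsPGroup 3 P → ∀ {x : MulAut M}, x ∈ P →
    ∀ W : Subgroup M, Nat.card W = 4 → (∀ m, x m * m⁻¹ ∈ W) → (∀ w ∈ W, x w = w → w = 1) →
    ∀ y ∈ P, x * y = y * x

theorem pact_core (hABs : PactAB.{u}) {K₁ K₂ V W₁ W₂ : Subgroup G} {d₁ d₂ : G}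
    (hV2 : ∀ v ∈ V, v * v = 1) (hVc : ∀ u ∈ V, ∀ v ∈ V, u * v = v * u)
    (hW₁V : W₁ ≤ V) (hW₂V : W₂ ≤ V) (hW₁4 : Nat.card W₁ = 4) (hW₂4 : Nat.card W₂ = 4)
    (hc₁ : ∀ v ∈ V, ∀ k ∈ K₁, v * k * v⁻¹ * k⁻¹ ∈ W₁)
    (hc₂ : ∀ v ∈ V, ∀ k ∈ K₂, v * k * v⁻¹ * k⁻¹ ∈ W₂)
    (hd₁ : d₁ ∈ K₁) (hd₂ : d₂ ∈ K₂)
    (hf₁ : ∀ w ∈ W₁, d₁ * w = w * d₁ → w = 1) (hf₂ : ∀ w ∈ W₂, d₂ * w = w * d₂ → w = 1)
    (hact₁ : ∀ k ∈ K₁, ∃ j : ℕ, ∀ v ∈ V, k * v * k⁻¹ = d₁ ^ j * v * (d₁ ^ j)⁻¹)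
    (hact₂ : ∀ k ∈ K₂, ∃ j : ℕ, ∀ v ∈ V, k * v * k⁻¹ = d₂ ^ j * v * (d₂ ^ j)⁻¹)
    (hcube₁ : ∀ v ∈ V, d₁ ^ 3 * v = v * d₁ ^ 3) (hcube₂ : ∀ v ∈ V, d₂ ^ 3 * v = v * d₂ ^ 3)
    (h₁ : (K₁.subgroupOf (K₁ ⊔ K₂)).IsSubnormal) (h₂ : (K₂.subgroupOf (K₁ ⊔ K₂)).IsSubnormal) :
    ∀ w ∈ W₂, d₁ * w * d₁⁻¹ ∈ W₂ := by
  classical
  set M : Subgroup G := W₁ ⊔ W₂ with hM
  have hMV : M ≤ V := sup_le hW₁V hW₂V
  set Y : Subgroup G := K₁ ⊔ K₂ with hY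
  have hK₁Y : K₁ ≤ Y := le_sup_left
  have hK₂Y : K₂ ≤ Y := le_sup_right
  -- `k m k⁻¹ m⁻¹ ∈ W_i`
  have hcm₁ : ∀ k ∈ K₁, ∀ m ∈ V, k * m * k⁻¹ * m⁻¹ ∈ W₁ := by
    intro k hk m hm
    have h1 := W₁.inv_mem (hc₁ m hm k hk)
    have h2 : (m * k * m⁻¹ * k⁻¹)⁻¹ = k * m * k⁻¹ * m⁻¹ := by group
    rwa [h2] at h1
  have hcm₂ : ∀ k ∈ K₂, ∀ m ∈ V, k * m * k⁻¹ * m⁻¹ ∈ W₂ := by
    intro k hk m hm
    have h1 := W₂.inv_mem (hc₂ m hm k hk)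
    have h2 : (m * k * m⁻¹ * k⁻¹)⁻¹ = k * m * k⁻¹ * m⁻¹ := by group
    rwa [h2] at h1
  have hconj₁ : ∀ k ∈ K₁, ∀ m ∈ M, k * m * k⁻¹ ∈ M := by
    intro k hk m hm
    have h2 : k * m * k⁻¹ = (k * m * k⁻¹ * m⁻¹) * m := by group
    rw [h2]
    exact M.mul_mem (Subgroup.mem_sup_left (hcm₁ k hk m (hMV hm))) hm
  have hconj₂ : ∀ k ∈ K₂, ∀ m ∈ M, k * m * k⁻¹ ∈ M := by
    intro k hk m hm
    have h2 : k * m * k⁻¹ = (k * m * k⁻¹ * m⁻¹) * m := by group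
    rw [h2]
    exact M.mul_mem (Subgroup.mem_sup_right (hcm₂ k hk m (hMV hm))) hm
  have hnorm : ∀ K : Subgroup G, (∀ k ∈ K, ∀ m ∈ M, k * m * k⁻¹ ∈ M) →
      K ≤ Subgroup.normalizer (M : Set G) := by
    intro K hK k hk
    rw [Subgroup.mem_normalizer_iff]
    intro m
    constructor
    · exact hK k hk m
    · intro h
      have h3 := hK k⁻¹ (K.inv_mem hk) _ h
      have h4 : k⁻¹ * (k * m * k⁻¹) * k⁻¹⁻¹ = m := by group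
      rwa [h4] at h3
  have hYM : Y ≤ Subgroup.normalizer (M : Set G) :=
    sup_le (hnorm K₁ hconj₁) (hnorm K₂ hconj₂)
  let φ : ↥Y →* MulAut ↥M := M.normalizerMonoidHom.comp (Subgroup.inclusion hYM)
  have hφ : ∀ (y : ↥Y) (m : ↥M), ((φ y) m : G) = (y : G) * (m : G) * (y : G)⁻¹ := fun y m => rfl
  -- the two images
  have hψs : Function.Surjective φ.rangeRestrict := φ.rangeRestrict_surjective
  have hthree : ∀ (K : Subgroup G) (d : G) (hKY : K ≤ Y) (hd : d ∈ K),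
      (∀ k ∈ K, ∃ j : ℕ, ∀ v ∈ V, k * v * k⁻¹ = d ^ j * v * (d ^ j)⁻¹) →
      (∀ v ∈ V, d ^ 3 * v = v * d ^ 3) →
      ∀ k : ↥Y, (k : G) ∈ K → (φ k) ^ 3 = 1 := by
    intro K d hKY hd hact hcube k hk
    obtain ⟨j, hj⟩ := hact k hk
    have e1 : φ k = (φ ⟨d, hKY hd⟩) ^ j := by
      ext m
      rw [← map_pow, hφ, hφ]
      exact hj m (hMV m.2)
    have e2 : (φ ⟨d, hKY hd⟩) ^ 3 = 1 := by
      ext m
      rw [← map_pow, hφ]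
      show d ^ 3 * (m : G) * (d ^ 3)⁻¹ = _
      rw [hcube m (hMV m.2)]
      simp
    rw [e1, ← pow_mul, mul_comm, pow_mul, e2, one_pow]
  have hS : ∀ (K : Subgroup G) (d : G) (hKY : K ≤ Y) (hd : d ∈ K),
      (∀ k ∈ K, ∃ j : ℕ, ∀ v ∈ V, k * v * k⁻¹ = d ^ j * v * (d ^ j)⁻¹) →
      (∀ v ∈ V, d ^ 3 * v = v * d ^ 3) → (K.subgroupOf Y).IsSubnormal →
      (K.subgroupOf Y).map φ.rangeRestrict ≤ pCore 3 ↥φ.range := by
    intro K d hKY hd hact hcube hsub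
    refine Cfsg.Agent.Helper9.subnormal_pGroup_le_pCore 3 _ (hsub.map hψs) ?_
    rintro ⟨s, hs⟩
    obtain ⟨k, hk, rfl⟩ := Subgroup.mem_map.mp hs
    refine ⟨1, ?_⟩
    apply Subtype.ext
    apply Subtype.ext
    have := hthree K d hKY hd hact hcube k (Subgroup.mem_subgroupOf.mp hk)
    simpa using this
  have hS₁ := hS K₁ d₁ hK₁Y hd₁ hact₁ hcube₁ h₁
  have hS₂ := hS K₂ d₂ hK₂Y hd₂ hact₂ hcube₂ h₂
  have htop : (⊤ : Subgroup ↥φ.range) ≤ pCore 3 ↥φ.range := by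
    have e1 : (⊤ : Subgroup ↥Y) = K₁.subgroupOf Y ⊔ K₂.subgroupOf Y := by
      rw [← Subgroup.subgroupOf_sup hK₁Y hK₂Y, Subgroup.subgroupOf_self]
    rw [← Subgroup.map_top_of_surjective φ.rangeRestrict hψs, e1, Subgroup.map_sup]
    exact sup_le hS₁ hS₂
  have hP3 : IsPGroup 3 ↥φ.range := by
    intro g
    obtain ⟨k, hk⟩ := Cfsg.Agent.Helper9.pCore_isPGroup' 3 ↥φ.range ⟨g, htop (Subgroup.mem_top g)⟩
    refine ⟨k, ?_⟩
    have := congrArg Subtype.val hk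
    simpa using this
  -- apply AB
  have hMc : ∀ a b : ↥M, a * b = b * a := fun a b =>
    Subtype.ext (hVc a.1 (hMV a.2) b.1 (hMV b.2))
  have hM2 : ∀ m : ↥M, m * m = 1 := fun m => Subtype.ext (hV2 m.1 (hMV m.2))
  have hM16 : Nat.card ↥M ≤ 16 := by
    have hle : W₁ ≤ Subgroup.normalizer (W₂ : Set G) := by
      intro a ha
      rw [Subgroup.mem_normalizer_iff]
      intro b
      have : ∀ b ∈ V, a * b * a⁻¹ = b := by
        intro b hb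
        rw [hVc a (hW₁V ha) b hb]; group
      constructor
      · intro hb; rw [this b (hW₂V hb)]; exact hb
      · intro hb
        have h5 : b = a⁻¹ * (a * b * a⁻¹) * a := by group
        have h6 : a⁻¹ * (a * b * a⁻¹) * a = a * b * a⁻¹ := by
          have h7 := hVc a⁻¹ (V.inv_mem (hW₁V ha)) (a * b * a⁻¹) (hW₂V hb)
          rw [h7]; group
        rw [h5, h6]; exact hb
    have := pact_card_sup_le W₁ W₂ hle
    rw [hW₁4, hW₂4] at this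
    exact this
  have hW : Nat.card ↥(W₁.subgroupOf M) = 4 := by
    rw [← hW₁4]
    exact Nat.card_congr (Subgroup.subgroupOfEquivOfLe (le_sup_left : W₁ ≤ M)).toEquiv
  have hxW : ∀ m : ↥M, (φ ⟨d₁, hK₁Y hd₁⟩) m * m⁻¹ ∈ W₁.subgroupOf M := by
    intro m
    rw [Subgroup.mem_subgroupOf]
    show d₁ * (m : G) * d₁⁻¹ * (m : G)⁻¹ ∈ W₁
    exact hcm₁ d₁ hd₁ m (hMV m.2)
  have hxf : ∀ w ∈ W₁.subgroupOf M, (φ ⟨d₁, hK₁Y hd₁⟩) w = w → w = 1 := by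
    intro w hw hfix
    have h1 : d₁ * (w : G) * d₁⁻¹ = (w : G) := congrArg Subtype.val hfix
    have h2 : d₁ * (w : G) = (w : G) * d₁ := by
      calc d₁ * (w : G) = (d₁ * (w : G) * d₁⁻¹) * d₁ := by group
        _ = (w : G) * d₁ := by rw [h1]
    exact Subtype.ext (hf₁ w (Subgroup.mem_subgroupOf.mp hw) h2)
  have hAB := hABs ↥M hMc hM2 hM16 φ.range hP3 (x := φ ⟨d₁, hK₁Y hd₁⟩) ⟨_, rfl⟩
    (W₁.subgroupOf M) hW hxW hxf (φ ⟨d₂, hK₂Y hd₂⟩) ⟨_, rfl⟩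
  have hcommG : ∀ m ∈ M, d₁ * (d₂ * m * d₂⁻¹) * d₁⁻¹ = d₂ * (d₁ * m * d₁⁻¹) * d₂⁻¹ := by
    intro m hm
    have := congrArg (fun f : MulAut ↥M => ((f ⟨m, hm⟩ : ↥M) : G)) hAB
    exact this
  -- surjectivity of `m ↦ d₂ m d₂⁻¹ m⁻¹` on `W₂`
  let f : ↥W₂ → ↥W₂ := fun m => ⟨d₂ * m * d₂⁻¹ * (m : G)⁻¹, hcm₂ d₂ hd₂ m (hW₂V m.2)⟩
  have hfinj : Function.Injective f := by
    intro m m' hmm
    have h0 : d₂ * (m : G) * d₂⁻¹ * (m : G)⁻¹ = d₂ * (m' : G) * d₂⁻¹ * (m' : G)⁻¹ :=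
      congrArg Subtype.val hmm
    -- `t = m'⁻¹ m` is fixed by `d₂`
    have hmV := hW₂V m.2
    have hm'V := hW₂V m'.2
    have haV : d₂ * (m : G) * d₂⁻¹ ∈ V := by
      have := V.mul_mem (hW₂V (hcm₂ d₂ hd₂ m hmV)) hmV
      simpa using this
    have ha'V : d₂ * (m' : G) * d₂⁻¹ ∈ V := by
      have := V.mul_mem (hW₂V (hcm₂ d₂ hd₂ m' hm'V)) hm'V
      simpa using this
    have h1 : (d₂ * (m' : G) * d₂⁻¹)⁻¹ * (d₂ * (m : G) * d₂⁻¹) = (m' : G)⁻¹ * (m : G) := by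
      have e1 : d₂ * (m : G) * d₂⁻¹ = d₂ * (m' : G) * d₂⁻¹ * (m' : G)⁻¹ * (m : G) := by
        rw [← h0]; group
      rw [e1]
      group
    have h2 : d₂ * ((m' : G)⁻¹ * (m : G)) = ((m' : G)⁻¹ * (m : G)) * d₂ := by
      have e3 : (d₂ * (m' : G) * d₂⁻¹)⁻¹ * (d₂ * (m : G) * d₂⁻¹) =
          d₂ * ((m' : G)⁻¹ * (m : G)) * d₂⁻¹ := by group
      rw [e3] at h1
      calc d₂ * ((m' : G)⁻¹ * (m : G)) = (d₂ * ((m' : G)⁻¹ * (m : G)) * d₂⁻¹) * d₂ := by group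
        _ = ((m' : G)⁻¹ * (m : G)) * d₂ := by rw [h1]
    have h3 := hf₂ _ (W₂.mul_mem (W₂.inv_mem m'.2) m.2) h2
    apply Subtype.ext
    have : (m : G) = (m' : G) * ((m' : G)⁻¹ * (m : G)) := by group
    rw [this, h3, mul_one]
  have hfsurj : Function.Surjective f := Finite.injective_iff_surjective.mp hfinj
  intro w hw
  obtain ⟨m, hm⟩ := hfsurj ⟨w, hw⟩
  have hw' : w = d₂ * (m : G) * d₂⁻¹ * (m : G)⁻¹ := (congrArg Subtype.val hm).symm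
  have hmM : (m : G) ∈ M := Subgroup.mem_sup_right m.2
  have hm'M : d₁ * (m : G) * d₁⁻¹ ∈ M := hconj₁ d₁ hd₁ m hmM
  have key : d₁ * w * d₁⁻¹ =
      d₂ * (d₁ * (m : G) * d₁⁻¹) * d₂⁻¹ * (d₁ * (m : G) * d₁⁻¹)⁻¹ := by
    rw [← hcommG m hmM, hw']
    group
  rw [key]
  exact hcm₂ d₂ hd₂ _ (hMV hm'M)

end Cfsg.Agent.Helper15.JC45
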