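import Mathlib
import Cfsg.Agent.Lib.Helper19.JCDefs
import Cfsg.Agent.Lib.Helper3.Thompson
import Cfsg.Agent.Lib.Helper3.Basic

/-!
# S2946, piece OFF: the offender inequality (helper7)
-/

set_option autoImplicit false

namespace Cfsg.Agent.Helper19.JC

open Cfsg Cfsg.Agent.Helper4.ZJ
open scoped commutatorElement

universe u

variable {G : Type u} [Group G] [Finite G]

theorem off_centralizer {D Y : Subgroup G} (hDY : ∀ d ∈ D, ∀ y ∈ Y, d * y = y * d) :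
    Y ≤ Subgroup.centralizer (D : Set G) := by
  intro y hy
  rw [Subgroup.mem_centralizer_iff]
  intro d hd
  exact hDY d hd y hy

theorem le_of_centralizes {S A Y : Subgroup G} (hA : A ∈ famE 2 S) (hY : Y ≤ S)
    (hYe : IsElementaryAbelian 2 Y) (hc : ∀ a ∈ A, ∀ y ∈ Y, a * y = y * a) : Y ≤ A := by
  obtain ⟨hAS, hAe, hmax⟩ := mem_famE.1 hA
  have hE : IsElementaryAbelian 2 (A ⊔ Y) :=
    Cfsg.Agent.Helper3.isElementaryAbelian_sup hAe hYe (off_centralizer hc)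
  have h1 := hmax (A ⊔ Y) (sup_le hAS hY) hE
  have h2 : A = A ⊔ Y := Subgroup.eq_of_le_of_card_ge le_sup_left h1
  rw [h2]
  exact le_sup_right

theorem offender {S A D Y : Subgroup G} (hA : A ∈ famE 2 S) (hD : D ≤ A)
    (hcard : Nat.card A ≤ 2 * Nat.card D) (hY : Y ≤ S) (hYe : IsElementaryAbelian 2 Y)
    (hDY : ∀ d ∈ D, ∀ y ∈ Y, d * y = y * d) : Nat.card Y ≤ 2 * Nat.card (Y ⊓ A : Subgroup G) := by
  obtain ⟨hAS, hAe, hmax⟩ := mem_famE.1 hA
  have hDe : IsElementaryAbelian 2 D := Cfsg.Agent.Helper3.isElementaryAbelian_mono hD hAe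
  have hE : IsElementaryAbelian 2 (D ⊔ Y) :=
    Cfsg.Agent.Helper3.isElementaryAbelian_sup hDe hYe (off_centralizer hDY)
  have h1 := hmax (D ⊔ Y) (sup_le (hD.trans hAS) hY) hE
  have h2 := Cfsg.Agent.Helper3.card_mul_card_le_card_sup_mul_card_inf D Y
  have h3 : Nat.card (D ⊓ Y : Subgroup G) ≤ Nat.card (Y ⊓ A : Subgroup G) :=
    Subgroup.card_le_of_le (le_inf inf_le_right (inf_le_left.trans hD))
  have hDpos : 0 < Nat.card D := Nat.card_pos
  have h4 : Nat.card D * Nat.card Y ≤ Nat.card D * (2 * Nat.card (Y ⊓ A : Subgroup G)) := by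
    calc Nat.card D * Nat.card Y
        ≤ Nat.card (D ⊔ Y : Subgroup G) * Nat.card (D ⊓ Y : Subgroup G) := h2
      _ ≤ (2 * Nat.card D) * Nat.card (Y ⊓ A : Subgroup G) :=
          Nat.mul_le_mul (h1.trans hcard) h3
      _ = Nat.card D * (2 * Nat.card (Y ⊓ A : Subgroup G)) := by ring
  exact Nat.le_of_mul_le_mul_left h4 hDpos

theorem offender_mem {S A D Y : Subgroup G} (hA : A ∈ famE 2 S) (hD : D ≤ A)
    (hcard : Nat.card A = 2 * Nat.card D) (hY : Y ≤ S) (hYe : IsElementaryAbelian 2 Y)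
    (hDY : ∀ d ∈ D, ∀ y ∈ Y, d * y = y * d) (hinf : Y ⊓ A ≤ D)
    (hY2 : Nat.card Y = 2 * Nat.card (Y ⊓ A : Subgroup G)) : D ⊔ Y ∈ famE 2 S := by
  obtain ⟨hAS, hAe, hmax⟩ := mem_famE.1 hA
  have hDe : IsElementaryAbelian 2 D := Cfsg.Agent.Helper3.isElementaryAbelian_mono hD hAe
  have hE : IsElementaryAbelian 2 (D ⊔ Y) :=
    Cfsg.Agent.Helper3.isElementaryAbelian_sup hDe hYe (off_centralizer hDY)
  have h2 := Cfsg.Agent.Helper3.card_mul_card_le_card_sup_mul_card_inf D Y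
  have h3 : (D ⊓ Y : Subgroup G) = Y ⊓ A :=
    le_antisymm (le_inf inf_le_right (inf_le_left.trans hD)) (le_inf hinf inf_le_left)
  rw [h3, hY2] at h2
  have hpos : 0 < Nat.card (Y ⊓ A : Subgroup G) := Nat.card_pos
  have h4 : Nat.card A * Nat.card (Y ⊓ A : Subgroup G) ≤
      Nat.card (D ⊔ Y : Subgroup G) * Nat.card (Y ⊓ A : Subgroup G) := by
    calc Nat.card A * Nat.card (Y ⊓ A : Subgroup G)
        = Nat.card D * (2 * Nat.card (Y ⊓ A : Subgroup G)) := by rw [hcard]; ring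
      _ ≤ _ := h2
  have h5 : Nat.card A ≤ Nat.card (D ⊔ Y : Subgroup G) := Nat.le_of_mul_le_mul_right h4 hpos
  refine mem_famE.2 ⟨sup_le (hD.trans hAS) hY, hE, fun A' hA'S hA'e => ?_⟩
  exact (hmax A' hA'S hA'e).trans h5

end Cfsg.Agent.Helper19.JC
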