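import Mathlib
import Cfsg.Prelude.Def_JComponents
import Cfsg.Agent.Lib.Helper7.JC48A
import Cfsg.Agent.Lib.Helper7.Glaub3
import Cfsg.Agent.Lib.Helper14.Ambient
import Cfsg.Agent.Lib.Helper21.BaerSuzuki

/-!
# S2948, the parts that need no failure-of-factorization theorem (helper7)

`T` a maximal straddling 2-subgroup of `M ≥ N_G(J(S))`:
(i) `N_G(J(T)) ≤ M`; (a),(b) for a 2-local `L ≰ M` with Sylow 2-subgroup `T₀ ≥ J(T)`: `J(T₀) = J(T)`,
`T₀ ≤ M`; (c) `L ∈ ℒ(T₀)`; (d) `T ≤ L` implies `T` Sylow in `L`, `L ∈ ℒ(T)`.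
-/

set_option autoImplicit false

namespace Cfsg.Agent.Helper7.JC48

open Cfsg Cfsg.Agent.Helper4.ZJ Cfsg.Agent.Helper15

universe u

variable {G : Type u} [Group G] [Finite G]

theorem isSylowIn_of_two {T L : Subgroup G} (h : IsSylowTwoIn T L) : IsSylowIn 2 T L :=
  isSylowIn_of_not_dvd_relIndex h.2.1 h.1
    (by rw [← even_iff_two_dvd, Nat.not_even_iff_odd]; exact h.2.2)

theorem isSylowTwoIn_of {T L : Subgroup G} (h : IsSylowIn 2 T L) : IsSylowTwoIn T L :=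
  ⟨h.le, h.isPGroup, Nat.not_even_iff_odd.mp (by rw [even_iff_two_dvd]; exact h.not_dvd_relIndex)⟩

/-- (i): `N_G(J(T)) ≤ M` -/
theorem normalizer_J_le_of_max (S : Sylow 2 G) {M : Subgroup G}
    (hMJ : Subgroup.normalizer (thompsonSubgroupOf 2 (S : Subgroup G) : Set G) ≤ M)
    {T : Subgroup G} (hT : T ∈ maxStraddlingTwoSubgroups M) :
    Subgroup.normalizer (thompsonSubgroupOf 2 T : Set G) ≤ M := by
  obtain ⟨⟨hT2, hT1, hTM, -⟩, hmax⟩ := hT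
  have hSM : (S : Subgroup G) ≤ M := (le_normalizer_J _).trans hMJ
  obtain ⟨U, hTU, hUM⟩ := exists_sylow_le_of_sylow_le S hSM hT2 hTM
  obtain ⟨k, hkM, hk⟩ := (isSylowIn_of_sylow_le S hSM).exists_conj (isSylowIn_of_sylow_le U hUM)
  have hUJ : Subgroup.normalizer (thompsonSubgroupOf 2 (U : Subgroup G) : Set G) ≤ M := by
    rw [← hk, normalizer_J_map_conj]
    calc _ ≤ M.map (MulAut.conj k).toMonoidHom := Subgroup.map_mono hMJ
      _ = M := map_conj_eq_self_of_mem hkM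
  by_contra hcon
  have hJ2 := isPGroup_J hT2
  have hJ1 := J_ne_bot hT2 hT1
  have hL1loc : IsTwoLocal (Subgroup.normalizer (thompsonSubgroupOf 2 T : Set G)) :=
    ⟨thompsonSubgroupOf 2 T, hJ2, hJ1, rfl⟩
  have hTL1 : T ≤ Subgroup.normalizer (thompsonSubgroupOf 2 T : Set G) := le_normalizer_J T
  obtain ⟨T3, hTT3, hT3⟩ := exists_isSylowIn_ge hT2 (le_inf hTM hTL1)
  have hT3ne : T3 ≠ ⊥ := fun h => hT1 (le_bot_iff.mp (h ▸ hTT3))
  have hT3str : T3 ∈ straddlingTwoSubgroups M :=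
    ⟨hT3.isPGroup, hT3ne, hT3.le.trans inf_le_left, _, hL1loc, hT3.le.trans inf_le_right, hcon⟩
  obtain ⟨hm1, hm2⟩ := hmax T3 hT3str
  have hmeq : maxElemAbelianOrder T3 = maxElemAbelianOrder T := le_antisymm hm1 (mOf_mono hTT3)
  obtain ⟨hj1, hj2⟩ := hm2 hmeq
  have hJle : thompsonSubgroupOf 2 T ≤ thompsonSubgroupOf 2 T3 := J_mono_of hTT3 hmeq.le
  have hjeq : Nat.card (thompsonSubgroupOf 2 T3) = Nat.card (thompsonSubgroupOf 2 T) :=
    le_antisymm hj1 (Subgroup.card_le_of_le hJle)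
  have hcard := hj2 hjeq
  have hT3eq : T3 = T := (Subgroup.eq_of_le_of_card_ge hTT3 hcard).symm
  by_cases hTUeq : T = (U : Subgroup G)
  · apply hcon
    rw [hTUeq]
    exact hUJ
  · obtain ⟨n, hnU, hnT, hnN⟩ :=
      Cfsg.Agent.Helper21.exists_mem_normalizer_not_mem U.isPGroup' hTU hTUeq
    have hn1 : n ∈ M ⊓ Subgroup.normalizer (thompsonSubgroupOf 2 T : Set G) :=
      ⟨hUM hnU, normalizer_le_normalizer_J T hnN⟩
    have h2 : IsPGroup 2 (T ⊔ Subgroup.zpowers n : Subgroup G) :=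
      U.isPGroup'.to_le (sup_le hTU (by rw [Subgroup.zpowers_le]; exact hnU))
    have h3 := hT3.eq_of_le h2 (hT3eq ▸ le_sup_left)
      (sup_le (hT3eq ▸ hT3.le) (by rw [Subgroup.zpowers_le]; exact hn1))
    apply hnT
    rw [← hT3eq, ← h3]
    exact Subgroup.mem_sup_right (Subgroup.mem_zpowers n)

/-- (a), (b): `J(T) = J(T₀)`, `T₀ ≤ M`, `T₀ ≠ 1`, `m(T₀) = m(T)` -/
theorem J_eq_and_le_of_max (S : Sylow 2 G) {M : Subgroup G}
    (hMJ : Subgroup.normalizer (thompsonSubgroupOf 2 (S : Subgroup G) : Set G) ≤ M)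
    {T : Subgroup G} (hT : T ∈ maxStraddlingTwoSubgroups M)
    {L : Subgroup G} (hL2 : IsTwoLocal L) (hLM : ¬ L ≤ M) {T₀ : Subgroup G}
    (hT₀ : IsSylowTwoIn T₀ L) (hJT₀ : thompsonSubgroupOf 2 T ≤ T₀) :
    thompsonSubgroupOf 2 T = thompsonSubgroupOf 2 T₀ ∧ T₀ ≤ M ∧ T₀ ≠ ⊥ ∧
      maxElemAbelianOrder T₀ = maxElemAbelianOrder T := by
  have hNJ := normalizer_J_le_of_max S hMJ hT
  obtain ⟨⟨hT2, hT1, hTM, -⟩, hmax⟩ := hT
  set T2 : Subgroup G := T₀ ⊓ Subgroup.normalizer (thompsonSubgroupOf 2 T : Set G) with hT2def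
  have hJT2 : thompsonSubgroupOf 2 T ≤ T2 := le_inf hJT₀ Subgroup.le_normalizer
  have hT2M : T2 ≤ M := inf_le_right.trans hNJ
  have hT2p : IsPGroup 2 T2 := hT₀.2.1.to_le inf_le_left
  have hJ1 := J_ne_bot hT2 hT1
  have hT2ne : T2 ≠ ⊥ := fun h => hJ1 (le_bot_iff.mp (h ▸ hJT2))
  have hT2str : T2 ∈ straddlingTwoSubgroups M :=
    ⟨hT2p, hT2ne, hT2M, L, hL2, inf_le_left.trans hT₀.1, hLM⟩
  obtain ⟨hm1, hm2⟩ := hmax T2 hT2str
  have hm3 : maxElemAbelianOrder T ≤ maxElemAbelianOrder T2 := by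
    obtain ⟨A, hA⟩ := famE_nonempty (p := 2) T
    rw [mOf_eq hA]
    exact card_le_mOf ((le_thompsonSubgroupOf hA).trans hJT2) (mem_famE.1 hA).2.1
  have hmeq : maxElemAbelianOrder T2 = maxElemAbelianOrder T := le_antisymm hm1 hm3
  obtain ⟨hj1, hj2⟩ := hm2 hmeq
  have hJle : thompsonSubgroupOf 2 T ≤ thompsonSubgroupOf 2 T2 := by
    apply thompsonSubgroupOf_le
    intro A hA
    apply le_thompsonSubgroupOf
    have hA' := mem_famE.1 hA
    refine mem_famE.2 ⟨(le_thompsonSubgroupOf hA).trans hJT2, hA'.2.1, fun A' hA'T hA'e => ?_⟩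
    rw [← mOf_eq hA, ← hmeq]
    exact card_le_mOf hA'T hA'e
  have hJeq : thompsonSubgroupOf 2 T2 = thompsonSubgroupOf 2 T :=
    (Subgroup.eq_of_le_of_card_ge hJle hj1).symm
  have hT2T0 : T2 = T₀ := by
    by_contra hne
    obtain ⟨n, hnT0, hnT2, hnN⟩ :=
      Cfsg.Agent.Helper21.exists_mem_normalizer_not_mem hT₀.2.1 inf_le_left hne
    apply hnT2
    refine ⟨hnT0, ?_⟩
    have := normalizer_le_normalizer_J T2 hnN
    rwa [hJeq] at this
  refine ⟨?_, ?_, ?_, ?_⟩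
  · rw [← hT2T0, hJeq]
  · rw [← hT2T0]; exact hT2M
  · rw [← hT2T0]; exact hT2ne
  · rw [← hT2T0]; exact hmeq

/-- (c): `L ∈ ℒ(T₀)` -/
theorem mem_jOvergroups_of_max (hL : IsCharacteristicTwoType G) (S : Sylow 2 G) {M : Subgroup G}
    (hMJ : Subgroup.normalizer (thompsonSubgroupOf 2 (S : Subgroup G) : Set G) ≤ M)
    {T : Subgroup G} (hT : T ∈ maxStraddlingTwoSubgroups M)
    {L : Subgroup G} (hL2 : IsTwoLocal L) (hLM : ¬ L ≤ M) {T₀ : Subgroup G}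
    (hT₀ : IsSylowTwoIn T₀ L) (hJT₀ : thompsonSubgroupOf 2 T ≤ T₀) :
    L ∈ jOvergroups T₀ := by
  obtain ⟨hJ, hT0M, hT0ne, hm⟩ := J_eq_and_le_of_max S hMJ hT hL2 hLM hT₀ hJT₀
  have hNJ := normalizer_J_le_of_max S hMJ hT
  refine ⟨hT₀, ?_, ?_⟩
  · intro hle
    apply hLM
    have hQT0 : pCoreOf 2 L ≤ T₀ :=
      Cfsg.Agent.Helper7.Glaub.pCoreOf_le_of_isSylowIn (isSylowIn_of_two hT₀)
    have hJQ : thompsonSubgroupOf 2 (pCoreOf 2 L) = thompsonSubgroupOf 2 T₀ :=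
      J_eq_of_between hle hQT0
    calc L ≤ Subgroup.normalizer (pCoreOf 2 L : Set G) :=
          Cfsg.Agent.Helper14.le_normalizer_pCoreOf 2 L
      _ ≤ Subgroup.normalizer (thompsonSubgroupOf 2 (pCoreOf 2 L) : Set G) :=
          normalizer_le_normalizer_J _
      _ = Subgroup.normalizer (thompsonSubgroupOf 2 T : Set G) := by rw [hJQ, ← hJ]
      _ ≤ M := hNJ
  · obtain ⟨P0, hP02, hP01, rfl⟩ := hL2
    have hch := hL.2 P0 hP02 hP01
    have h1 := (Cfsg.Agent.Helper14.charP_iff_ambient (p := 2)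
      (H := Subgroup.normalizer (P0 : Set G))).mp hch
    have hP0Q : P0 ≤ pCoreOf 2 (Subgroup.normalizer (P0 : Set G)) :=
      Cfsg.Agent.Helper14.le_pCoreOf Subgroup.le_normalizer le_rfl hP02
    intro x hx
    apply h1
    refine ⟨?_, hx⟩
    exact Subgroup.centralizer_le_normalizer _ (Subgroup.centralizer_le hP0Q hx)

/-- (d), first half: `T ≤ L` implies `L ∈ ℒ(T)` -/
theorem mem_jOvergroups_self_of_max (hL : IsCharacteristicTwoType G) (S : Sylow 2 G)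
    {M : Subgroup G}
    (hMJ : Subgroup.normalizer (thompsonSubgroupOf 2 (S : Subgroup G) : Set G) ≤ M)
    {T : Subgroup G} (hT : T ∈ maxStraddlingTwoSubgroups M)
    {L : Subgroup G} (hL2 : IsTwoLocal L) (hLM : ¬ L ≤ M) (hTL : T ≤ L) :
    L ∈ jOvergroups T := by
  obtain ⟨T5, hTT5, hT5⟩ := exists_isSylowIn_ge hT.1.1 hTL
  have hT5' := isSylowTwoIn_of hT5
  have hJT5 : thompsonSubgroupOf 2 T ≤ T5 := (thompsonSubgroupOf_le_self T).trans hTT5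
  obtain ⟨hJ, hT5M, hT5ne, hm⟩ := J_eq_and_le_of_max S hMJ hT hL2 hLM hT5' hJT5
  have hstr : T5 ∈ straddlingTwoSubgroups M := ⟨hT5.isPGroup, hT5ne, hT5M, L, hL2, hT5.le, hLM⟩
  obtain ⟨-, hm2⟩ := hT.2 T5 hstr
  obtain ⟨-, hj2⟩ := hm2 hm
  have hcard := hj2 (by rw [hJ])
  have hT5eq : T5 = T := (Subgroup.eq_of_le_of_card_ge hTT5 hcard).symm
  have := mem_jOvergroups_of_max hL S hMJ hT hL2 hLM hT5' hJT5
  rwa [hT5eq] at this

end Cfsg.Agent.Helper7.JC48
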