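import Mathlib
import Cfsg.Agent.Lib.Helper15.PSLkDefs

/-!
# S2480 piece PSLK-SCIRR (helper7): scaling the roots by a nonzero constant preserves irreducibility
-/

open Polynomial

namespace Cfsg.Agent.Helper15.PSLk

open Cfsg.Agent.Helper17.GLk Cfsg.Agent.Helper17.SLk

universe u

section pieces
variable {F : Type u} [Field F]

/-- scaling back -/
theorem pslk_scirr_back (p : F[X]) (c : F) (hc : c ≠ 0) :
    scaleRoots (scaleRoots p c) c⁻¹ = p := by
  rw [← scaleRoots_mul, mul_inv_cancel₀ hc, scaleRoots_one]

/-- PIECE PSLK-SCIRR: scaling the roots by a unit preserves irreducibility. -/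
theorem irreducible_scaleRoots (p : F[X]) (hp : Irreducible p) (c : F) (hc : c ≠ 0) :
    Irreducible (scaleRoots p c) := by
  refine ⟨?_, ?_⟩
  · intro hu
    apply hp.not_isUnit
    rw [Polynomial.isUnit_iff_degree_eq_zero] at hu ⊢
    rwa [degree_scaleRoots] at hu
  · intro a b hab
    have h1 : p = scaleRoots a c⁻¹ * scaleRoots b c⁻¹ := by
      rw [← mul_scaleRoots_of_noZeroDivisors, ← hab, pslk_scirr_back p c hc]
    rcases hp.isUnit_or_isUnit h1 with h | h
    · left
      rw [Polynomial.isUnit_iff_degree_eq_zero] at h ⊢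
      rwa [degree_scaleRoots] at h
    · right
      rw [Polynomial.isUnit_iff_degree_eq_zero] at h ⊢
      rwa [degree_scaleRoots] at h

end pieces

end Cfsg.Agent.Helper15.PSLk
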