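import Mathlib
import Cfsg.Agent.Lib.Helper15.S52Defs

/-!
# S3452, piece S52-CUSPFPF: a conjugate of `y` has no nonzero fixed cuspidal function
(when the index set is odd and the `s i` are powers of `y`).
-/

set_option autoImplicit false
set_option linter.unusedVariables false

namespace Cfsg.Agent.Helper15.S52

open Cfsg.Agent.Helper2

/-- translation invariance under `t` gives invariance under the powers of `t` -/
theorem s52_cuspfpf_pow {G : Type*} [Group G] (f : G → ZMod 2) (t : G)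
    (h : ∀ x, f (t * x) = f x) (k : ℕ) (x : G) : f (t ^ k * x) = f x := by
  induction k generalizing x with
  | zero => rw [pow_zero, one_mul]
  | succ n ih => rw [pow_succ, mul_assoc, ih, h]

/-- in `ZMod 2` an odd multiple of `a` is `a` -/
theorem s52_cuspfpf_odd_nsmul {n : ℕ} (hn : Odd n) (a : ZMod 2) : n • a = a := by
  obtain ⟨k, rfl⟩ := hn
  rw [add_smul, one_smul, mul_smul, two_nsmul, CharTwo.add_self_eq_zero, zero_add]

/-- PIECE S52-CUSPFPF -/
theorem cusp_fpf {G : Type*} [Group G] {ι : Type*} [Fintype ι] (s : ι → G)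
    (hodd : Odd (Fintype.card ι)) {y : G} (hpow : ∀ i, ∃ k : ℕ, s i = y ^ k)
    (c : G) (m : W s) (hm : (c * y * c⁻¹) • m = m) : m = 0 := by
  have h1 : ∀ x : G, m.1 ((c * y * c⁻¹) * x) = m.1 x := by
    intro x
    have h2 : ((c * y * c⁻¹) • m).1 ((c * y * c⁻¹) * x) = m.1 ((c * y * c⁻¹) * x) := by
      rw [hm]
    rw [smul_apply, inv_mul_cancel_left] at h2
    exact h2.symm
  have h3 : ∀ (k : ℕ) (x : G), m.1 (c * y ^ k * c⁻¹ * x) = m.1 x := by
    intro k x
    have h4 := s52_cuspfpf_pow m.1 (c * y * c⁻¹) h1 k x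
    rw [conj_pow] at h4
    exact h4
  apply Subtype.ext
  funext x
  show m.1 x = 0
  have h5 : ∑ i, m.1 (c * s i * (c⁻¹ * x)) = 0 := m.2 c (c⁻¹ * x)
  have h6 : ∀ i, m.1 (c * s i * (c⁻¹ * x)) = m.1 x := by
    intro i
    obtain ⟨k, hk⟩ := hpow i
    rw [hk, ← mul_assoc]
    exact h3 k x
  rw [Finset.sum_congr rfl (fun i _ => h6 i), Finset.sum_const, Finset.card_univ,
    s52_cuspfpf_odd_nsmul hodd] at h5
  exact h5

end Cfsg.Agent.Helper15.S52
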