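import Mathlib
import Cfsg.Agent.Lib.Helper15.S52Defs

/-!
# S3452, piece S52-TRMEM: the class indicator `trfun F s` of the elements of trace `± s` is cuspidal
(`s` a "good" trace: the elements of trace `± s` are nonsplit semisimple).
-/

set_option autoImplicit false
set_option linter.unusedVariables false

namespace Cfsg.Agent.Helper15.S52

open Cfsg.Agent.Helper2

/-- the trace of `A * ub b * B` is an affine function of `b` -/
theorem s52_trmem_trace {F : Type*} [Field F] (A B : SL2 F) (b : F) :
    (A * ub F b * B).1.trace = (B * A).1.trace + b * (B * A).1 1 0 := by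
  show (A.1 * !![1, b; 0, 1] * B.1).trace = (B.1 * A.1).trace + b * (B.1 * A.1) 1 0
  simp [Matrix.trace_fin_two, Matrix.mul_apply, Fin.sum_univ_two]
  ring

open Classical in
/-- in an odd-characteristic field there are exactly two elements with square `s²`, `s ≠ 0`:
the corresponding sum of indicators vanishes in `ZMod 2` -/
theorem s52_trmem_two {F : Type*} [Field F] [Fintype F] (h2 : (2 : F) ≠ 0) {s : F} (hs0 : s ≠ 0) :
    (∑ t : F, (if t ^ 2 = s ^ 2 then (1 : ZMod 2) else 0)) = 0 := by
  classical
  rw [Finset.sum_boole]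
  have hne : s ≠ -s := by
    intro h
    have h3 : (2 : F) * s = 0 := by
      have : s + s = 0 := by
        nth_rewrite 2 [h]
        exact add_neg_cancel s
      rw [two_mul]
      exact this
    rcases mul_eq_zero.1 h3 with h4 | h4
    · exact h2 h4
    · exact hs0 h4
  have hset : Finset.filter (fun t : F => t ^ 2 = s ^ 2) Finset.univ = {s, -s} := by
    ext t
    simp only [Finset.mem_filter, Finset.mem_univ, true_and, Finset.mem_insert,
      Finset.mem_singleton]
    exact sq_eq_sq_iff_eq_or_eq_neg
  rw [hset, Finset.card_pair hne]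
  rfl

/-- PIECE S52-TRMEM -/
theorem trfun_mem {F : Type*} [Field F] [Fintype F] (h2 : (2 : F) ≠ 0) {s : F} (hs : GoodS s) :
    trfun F s ∈ cuspSub (us F) := by
  classical
  rw [mem_cuspSub]
  intro g h
  obtain ⟨A, rfl⟩ := mk_surjective F g
  obtain ⟨B, rfl⟩ := mk_surjective F h
  have key : ∀ b : F, trfun F s (mk F A * us F b * mk F B) =
      (if ((B * A).1.trace + b * (B * A).1 1 0) ^ 2 = s ^ 2 then (1 : ZMod 2) else 0) := by
    intro b
    have h1 : mk F A * us F b * mk F B = mk F (A * ub F b * B) := by
      unfold us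
      rw [map_mul, map_mul]
    rw [h1, trfun_mk]
    unfold trfun0
    rw [s52_trmem_trace]
  rw [Finset.sum_congr rfl (fun b _ => key b)]
  set τ : F := (B * A).1.trace with hτ
  set γ : F := (B * A).1 1 0 with hγ
  by_cases hg0 : γ = 0
  · -- triangular case: all the terms vanish
    apply Finset.sum_eq_zero
    intro b _
    rw [hg0, mul_zero, add_zero]
    rw [if_neg]
    intro hsq
    have hdet : (B * A).1.det = 1 := (B * A).2
    rw [Matrix.det_fin_two] at hdet
    rw [← hγ, hg0, mul_zero, sub_zero] at hdet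
    have ha0 : (B * A).1 0 0 ≠ 0 := by
      intro h0
      rw [h0, zero_mul] at hdet
      exact zero_ne_one hdet
    have hinv : (B * A).1 1 1 = ((B * A).1 0 0)⁻¹ := by
      exact eq_inv_of_mul_eq_one_right hdet
    have htr : τ = (B * A).1 0 0 + ((B * A).1 0 0)⁻¹ := by
      rw [hτ, Matrix.trace_fin_two, hinv]
    rcases sq_eq_sq_iff_eq_or_eq_neg.1 hsq with h5 | h5
    · exact (hs.2 _ ha0).1 (htr ▸ h5)
    · exact (hs.2 _ ha0).2 (htr ▸ h5)
  · -- generic case: the traces run over `F` once
    have hbij : (∑ b : F, (if (τ + b * γ) ^ 2 = s ^ 2 then (1 : ZMod 2) else 0)) =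
        ∑ t : F, (if t ^ 2 = s ^ 2 then (1 : ZMod 2) else 0) := by
      apply Fintype.sum_equiv ((Equiv.mulRight₀ γ hg0).trans (Equiv.addLeft τ))
      intro b
      rfl
    rw [hbij]
    exact s52_trmem_two h2 hs.1

end Cfsg.Agent.Helper15.S52
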