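import Mathlib
import Cfsg.Prelude.Def_Classical
import Cfsg.Agent.Lib.Helper15.S74Defs

/-!
# S2474 piece S74-NXA1, core (helper7): disjoint supports.  The statement of `wpart_small`
(S74-WSMALL) enters as a hypothesis.
-/

set_option autoImplicit false

open Cfsg.Agent.Helper15.S62

namespace Cfsg.Agent.Helper15.S74

universe u

variable {F : Type u} [Field F]

/-- S74-NXA1, with the statement of S74-WSMALL as a hypothesis -/
theorem s74_nxa1_core [Fintype F] {V : Type u} [AddCommGroup V] [Module F V]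
    [FiniteDimensional F V] (B : LinearMap.BilinForm F V) (hnd : LND B)
    (hW : ∀ (y : Module.End F V), Isom B y → ∀ t : ℕ, t.Prime → t ≠ 2 → (t : F) ≠ 0 →
      y ^ t = 1 → y ≠ 1 → ∃ d : ℕ, 1 ≤ d ∧ 2 * d ≤ Module.finrank F (Wpart y t) ∧
        t ∣ Fintype.card F ^ (2 * d) - 1)
    (x y : Module.End F V)
    (hx : Isom B x) (hy : Isom B y) (r s : ℕ) (hr : r.Prime) (hs : s.Prime) (hr2 : r ≠ 2)
    (hs2 : s ≠ 2) (hrF : (r : F) ≠ 0) (hsF : (s : F) ≠ 0) (hxr : x ^ r = 1) (hys : y ^ s = 1)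
    (hx1 : x ≠ 1) (hy1 : y ≠ 1) (hdisj : Wpart x r ⊓ Wpart y s = ⊥) (n : ℕ)
    (hdim : Module.finrank F V ≤ 2 * n + 1) :
    ∃ a b : ℕ, 1 ≤ a ∧ 1 ≤ b ∧ a + b ≤ n ∧ r ∣ Fintype.card F ^ (2 * a) - 1 ∧
      s ∣ Fintype.card F ^ (2 * b) - 1 := by
  obtain ⟨a, ha1, ha2, har⟩ := hW x hx r hr hr2 hrF hxr hx1
  obtain ⟨b, hb1, hb2, hbs⟩ := hW y hy s hs hs2 hsF hys hy1
  refine ⟨a, b, ha1, hb1, ?_, har, hbs⟩
  have h1 := Submodule.finrank_sup_add_finrank_inf_eq (Wpart x r) (Wpart y s)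
  rw [hdisj, finrank_bot, add_zero] at h1
  have h2 : Module.finrank F ↥(Wpart x r ⊔ Wpart y s) ≤ Module.finrank F V :=
    Submodule.finrank_le _
  omega

end Cfsg.Agent.Helper15.S74
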