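import Mathlib
import Cfsg.Prelude.Def_Classical
import Cfsg.Agent.Lib.Helper15.S74Defs
import Cfsg.Agent.Lib.Helper19.S62TRANSFER
import Cfsg.Agent.Lib.Helper5.S74XDefs

/-!
# S2474 T4 piece S74X-TRANSFER2 (helper7): a model isometry gives a symplectic matrix, with the
converse information on `-1`.
-/

set_option autoImplicit false

namespace Cfsg.Agent.Helper15.S74

universe v v₁ v₂ u

open Cfsg.Agent.Helper28.SympIso Cfsg.Agent.Helper28.IsoGrp in
/-- PIECE S74X-TRANSFER2 -/
theorem exists_symplectic_of_model_neg {F : Type u} [Field F] {U : Type v} [AddCommGroup U]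
    [Module F U] [FiniteDimensional F U] (ω : LinearMap.BilinForm F U) (g : U ≃ₗ[F] U)
    (halt : ∀ x, ω x x = 0) (hnd : ∀ x, (∀ y, ω x y = 0) → x = 0) (n : ℕ)
    (hfin : Module.finrank F U = 2 * n) (hg : ∀ x y, ω (g x) (g y) = ω x y) :
    ∃ A : Matrix.symplecticGroup (Fin n) F, orderOf A = orderOf g ∧
      ∀ j : ℕ, (∀ x, (g ^ j) x = -x) → A ^ j = Cfsg.Agent.Helper2.Sp.negOne (Fin n) F := by
  have hA : ω.IsAlt := halt
  have hskew : ∀ x y, ω y x = - ω x y := fun x y => by
    exact (LinearMap.IsAlt.neg hA x y).symm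
  have hB : ω.Nondegenerate := by
    constructor
    · intro x hx
      exact hnd x hx
    · intro x hx
      apply hnd x
      intro y
      rw [hskew y x, hx y, neg_zero]
  obtain ⟨e, he⟩ := exists_symp_equiv ω hA hB n hfin
  let g0 : isoGrp ω := ⟨g, hg⟩
  let h0 : isoGrp (sympBil n F) := isoGrpCongr e he g0
  refine ⟨(sympMulEquiv n).symm h0, ?_, ?_⟩
  · rw [MulEquiv.orderOf_eq, MulEquiv.orderOf_eq]
    exact Subgroup.orderOf_mk (H := isoGrp ω) g hg
  · intro j hj
    have h1 : (sympMulEquiv n) (((sympMulEquiv n).symm h0) ^ j) = h0 ^ j := by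
      rw [map_pow, MulEquiv.apply_symm_apply]
    have h2 : h0 ^ j = isoGrpCongr e he (g0 ^ j) := by
      rw [map_pow]
    have h4 : ((g0 ^ j : isoGrp ω) : U ≃ₗ[F] U) = g ^ j := by
      rw [Subgroup.coe_pow]
    apply Subtype.ext
    rw [Cfsg.Agent.Helper2.Sp.negOne_coe]
    apply Matrix.toLin'.injective
    apply LinearMap.ext
    intro x
    rw [Matrix.toLin'_apply, Matrix.toLin'_apply, Matrix.neg_mulVec, Matrix.one_mulVec]
    have h3 := sympMulEquiv_apply n (((sympMulEquiv n).symm h0) ^ j) x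
    rw [h1, h2, Cfsg.Agent.Helper15.S62.s62_transfer_congr_apply, h4, hj, map_neg,
      e.apply_symm_apply] at h3
    exact h3.symm

end Cfsg.Agent.Helper15.S74
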