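import Mathlib
import Cfsg.Agent.Lib.Helper26.CG3Defs
import Cfsg.Agent.Lib.Helper18.CG3G0

/-!
# S3412 piece G12 (helper7 for helper26): `order_t`, `order_of_cc48`

`t` and every `g ∈ C(t)` with `cc g = 48` are involutions: `g * g` lies in `Z(C(g)) = {1, g}` by `scen`.
-/

set_option autoImplicit false

namespace Cfsg.Agent.Helper26.CG3

universe u

section G

variable {H : Type u} [Group H] [Finite H] {t : H}

/-- aux: an element `g` of `C(t)` with `cc g = 48` has `g * g = 1` -/
theorem g12_sq (h : LG H t) (g : H) (hg : t * g = g * t) (hc : cc g = 48) (hg1 : g ≠ 1) :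
    g * g = 1 := by
  have h1 := h.scen g hg hc (g * g) (by group) (by
    intro k hk
    calc g * g * k = g * (g * k) := by group
      _ = g * (k * g) := by rw [hk]
      _ = (g * k) * g := by group
      _ = (k * g) * g := by rw [hk]
      _ = k * (g * g) := by group)
  rcases h1 with h1 | h1
  · exact h1
  · exfalso
    apply hg1
    have : g * g = g * 1 := by rw [h1, mul_one]
    exact mul_left_cancel this

/-- G1 -/
theorem order_t (h : LG H t) : orderOf t = 2 := by
  have h1 : t * t = 1 := g12_sq h t rfl h.cct h.t_ne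
  have : Fact (Nat.Prime 2) := ⟨Nat.prime_two⟩
  exact orderOf_eq_prime (by rw [pow_two]; exact h1) h.t_ne

/-- G2 -/
theorem order_of_cc48 (h : LG H t) (g : H) (hg : t * g = g * t) (hc : cc g = 48) : orderOf g = 2 := by
  have hg1 : g ≠ 1 := by
    intro h1
    rw [h1, cc_one, h.card] at hc
    omega
  have h1 : g * g = 1 := g12_sq h g hg hc hg1
  have : Fact (Nat.Prime 2) := ⟨Nat.prime_two⟩
  exact orderOf_eq_prime (by rw [pow_two]; exact h1) hg1

end G

end Cfsg.Agent.Helper26.CG3
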