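import Mathlib
import Cfsg.Agent.Lib.Helper22.W2PDefs
import Cfsg.Agent.Lib.Helper18.PermCharOrbits
import Cfsg.Agent.Lib.Helper24.CharLinear

/-!
# S0720, piece REPS (helper7 for helper22): representatives of the three nontrivial suborbits

`θ = 1 + χ₁ + ψ + ψ'` with four different irreducible characters gives `⟨θ, θ⟩ = 4`, so the
point stabiliser has exactly four orbits (`Helper18.inner_permChar_self`); one of them is `{a₀}`.
-/

set_option autoImplicit false

namespace Cfsg.Agent.Helper22.W2P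

open Cfsg Cfsg.Agent.Helper22.PermCent Cfsg.Agent.Helper24

open scoped ComplexConjugate

universe u v

variable {G : Type u} [Group G] [Fintype G] {Ω : Type v} [Fintype Ω] [DecidableEq Ω]
  [MulAction G Ω]

namespace REPS

theorem orth_self {χ : G → ℂ} (hχ : IsIrrCharacter G χ) : classInner χ χ = 1 := by
  rw [irr_orthogonality hχ hχ, if_pos rfl]

theorem orth_ne {χ φ : G → ℂ} (hχ : IsIrrCharacter G χ) (hφ : IsIrrCharacter G φ)
    (hne : χ ≠ φ) : classInner χ φ = 0 := by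
  rw [irr_orthogonality hχ hφ, if_neg hne]

variable {p : ℕ} {π : G} {χ₁ ψ ψ' : G → ℂ}

omit [Fintype Ω] [DecidableEq Ω] in
theorem inner_theta_self (C : Ctx2 Ω p π χ₁ ψ ψ') :
    classInner (theta G Ω) (theta G Ω) = 4 := by
  have hθ : theta G Ω = (fun _ : G => (1 : ℂ)) + χ₁ + ψ + ψ' := by
    rw [C.theta_eq]
    funext g
    simp only [Pi.add_apply]
  have h1 : IsIrrCharacter G (fun _ : G => (1 : ℂ)) := isIrrCharacter_one
  rw [hθ]
  simp only [classInner_add_left, classInner_add_right]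
  rw [orth_self h1, orth_self C.irr₁, orth_self C.irrψ, orth_self C.irrψ',
    orth_ne h1 C.irr₁ (Ne.symm C.ne₁), orth_ne h1 C.irrψ (Ne.symm C.neψ),
    orth_ne h1 C.irrψ' (Ne.symm C.neψ'), orth_ne C.irr₁ h1 C.ne₁,
    orth_ne C.irr₁ C.irrψ C.ne₁ψ, orth_ne C.irr₁ C.irrψ' C.ne₁ψ',
    orth_ne C.irrψ h1 C.neψ, orth_ne C.irrψ C.irr₁ (Ne.symm C.ne₁ψ),
    orth_ne C.irrψ C.irrψ' C.neψψ', orth_ne C.irrψ' h1 C.neψ',
    orth_ne C.irrψ' C.irr₁ (Ne.symm C.ne₁ψ'), orth_ne C.irrψ' C.irrψ (Ne.symm C.neψψ')]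
  norm_num

omit [DecidableEq Ω] in
theorem rank_four (C : Ctx2 Ω p π χ₁ ψ ψ') (a₀ : Ω) :
    Nat.card (MulAction.orbitRel.Quotient (MulAction.stabilizer G a₀) Ω) = 4 := by
  have : MulAction.IsPretransitive G Ω := C.prim.toIsPretransitive
  have h := Cfsg.Agent.Helper18.inner_permChar_self (G := G) (X := Ω) a₀
  have h' : classInner (theta G Ω) (theta G Ω) =
      (Nat.card (MulAction.orbitRel.Quotient (MulAction.stabilizer G a₀) Ω) : ℂ) := h
  rw [inner_theta_self C] at h'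
  exact_mod_cast h'.symm

/-- the purely combinatorial step: if the stabiliser of `a₀` has four orbits, the three besides
`{a₀}` have representatives. -/
theorem reps_of_rank_four (a₀ : Ω)
    (h4 : Nat.card (MulAction.orbitRel.Quotient (MulAction.stabilizer G a₀) Ω) = 4) :
    ∃ b : Fin 3 → Ω, (∀ i, b i ≠ a₀) ∧ (∀ i j, i ≠ j → b i ∉ sub G a₀ (b j)) ∧
      ∀ y : Ω, y = a₀ ∨ ∃ i, y ∈ sub G a₀ (b i) := by
  classical
  set Q := MulAction.orbitRel.Quotient (MulAction.stabilizer G a₀) Ω with hQ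
  have : Fintype Q := Fintype.ofFinite Q
  let q₀ : Q := Quotient.mk'' a₀
  have hcard : Fintype.card {q : Q // q ≠ q₀} = 3 := by
    rw [Fintype.card_subtype_compl, Fintype.card_subtype_eq, ← Nat.card_eq_fintype_card, h4]
  let e : {q : Q // q ≠ q₀} ≃ Fin 3 := Fintype.equivFinOfCardEq hcard
  have hmk : ∀ x y : Ω, (Quotient.mk'' x : Q) = Quotient.mk'' y ↔ x ∈ sub G a₀ y := by
    intro x y
    rw [Quotient.eq'']
    exact MulAction.orbitRel_apply
  have hout : ∀ q : Q, (Quotient.mk'' (Quotient.out q) : Q) = q := fun q => Quotient.out_eq' q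
  refine ⟨fun i => Quotient.out (e.symm i).1, ?_, ?_, ?_⟩
  · intro i hi
    have hi' : Quotient.out (e.symm i).1 = a₀ := hi
    apply (e.symm i).2
    rw [← hout (e.symm i).1, hi']
  · intro i j hij hmem
    apply hij
    have h1 := (hmk _ _).mpr hmem
    rw [hout, hout] at h1
    exact e.symm.injective (Subtype.ext h1)
  · intro y
    by_cases hy : (Quotient.mk'' y : Q) = q₀
    · left
      have h1 : y ∈ sub G a₀ a₀ := (hmk y a₀).mp hy
      obtain ⟨g, hg⟩ := h1
      rw [← hg]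
      exact g.2
    · right
      refine ⟨e ⟨Quotient.mk'' y, hy⟩, ?_⟩
      apply (hmk _ _).mp
      rw [hout, Equiv.symm_apply_apply]

end REPS

variable {p : ℕ} [Fact p.Prime] {π : G} {χ₁ ψ ψ' : G → ℂ}

/-- PIECE REPS: representatives of the three nontrivial suborbits. -/
theorem exists_reps (C : Ctx2 Ω p π χ₁ ψ ψ') (_hΩ : Fintype.card Ω = 2 * p) (a₀ : Ω) :
    ∃ b : Fin 3 → Ω, (∀ i, b i ≠ a₀) ∧ (∀ i j, i ≠ j → b i ∉ sub G a₀ (b j)) ∧
      ∀ y : Ω, y = a₀ ∨ ∃ i, y ∈ sub G a₀ (b i) :=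
  REPS.reps_of_rank_four a₀ (REPS.rank_four C a₀)

end Cfsg.Agent.Helper22.W2P
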