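import Mathlib
import Cfsg.Agent.Lib.Helper16.ITODefs

/-!
# S4707 (Ito), piece ARITH5 (helper7 for helper16): `2a(a+1) = 2^s ⟹ a = 1`
-/

set_option autoImplicit false

namespace Cfsg.Agent.Helper16.ITO

/-- PIECE ARITH5 (pure arithmetic): `2a(a+1) = 2^s ⟹ a = 1`. -/
theorem p_eq_five {p a s : ℕ} (ha : 0 < a) (hpa : p = 2 * a ^ 2 + 2 * a + 1) (hs : p - 1 = 2 ^ s) :
    p = 5 := by
  have h1 : 2 * a * (a + 1) = 2 ^ s := by
    rw [← hs, hpa]
    have : 2 * a ^ 2 + 2 * a + 1 - 1 = 2 * a ^ 2 + 2 * a := by omega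
    rw [this]
    ring
  have hda : a ∣ 2 ^ s := ⟨2 * (a + 1), by rw [← h1]; ring⟩
  have hda1 : a + 1 ∣ 2 ^ s := ⟨2 * a, by rw [← h1]; ring⟩
  obtain ⟨i, _, hi⟩ := (Nat.dvd_prime_pow Nat.prime_two).mp hda
  obtain ⟨j, _, hj⟩ := (Nat.dvd_prime_pow Nat.prime_two).mp hda1
  rcases Nat.eq_zero_or_pos i with h0 | h0
  · rw [h0, pow_zero] at hi
    rw [hpa, hi]
    norm_num
  · exfalso
    have h2a : 2 ∣ a := by rw [hi]; exact dvd_pow_self 2 (by omega)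
    rcases Nat.eq_zero_or_pos j with hj0 | hj0
    · rw [hj0, pow_zero] at hj; omega
    · have : 2 ∣ a + 1 := by rw [hj]; exact dvd_pow_self 2 (by omega)
      omega

end Cfsg.Agent.Helper16.ITO
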