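import Mathlib
import Cfsg.Agent.Lib.Helper16.ITODefs

/-!
# S4707 (Ito), piece CARD60 (helper7 for helper16): `|G| = 60`
-/

set_option autoImplicit false
set_option linter.unusedSectionVars false

namespace Cfsg.Agent.Helper16.ITO

namespace CARD60

/-- the arithmetic endgame: `10 r ∣ 120`, `r ≡ 1 (mod 5)`, `r ≠ 1` give `r = 6` -/
theorem r_eq_six {r : ℕ} (hd : 10 * r ∣ 120) (hmod : r ≡ 1 [MOD 5]) (hr1 : r ≠ 1) : r = 6 := by
  have h12 : r ∣ 12 := by
    have : 10 * r ∣ 10 * 12 := by simpa using hd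
    exact Nat.dvd_of_mul_dvd_mul_left (by norm_num) this
  have hle : r ≤ 12 := Nat.le_of_dvd (by norm_num) h12
  unfold Nat.ModEq at hmod
  interval_cases r <;> simp_all (config := { decide := true })

end CARD60

open Cfsg Cfsg.Agent.Helper24

universe u

variable {G : Type u} [Group G] [Fintype G]

/-- PIECE CARD60: `|G| = 60`  (`|G| ∣ 8·3·5` via `Nat.factorization`/Sylow orders; `|G| = 10 r`, `r = |Syl_5 G| ≡ 1 (mod 5)`
[`card_sylow_modEq_one`, `Sylow.card_eq_index_normalizer`], `r ∣ 12`, `r ≠ 1`). -/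
theorem card_eq_sixty (P5 : Sylow 5 G) (hcard : Nat.card (P5 : Subgroup G) = 5)
    (hN : Nat.card (Subgroup.normalizer ((P5 : Subgroup G) : Set G)) = 10)
    (hnn : ¬ (P5 : Subgroup G).Normal)
    (h2 : ∀ S : Sylow 2 G, Nat.card (S : Subgroup G) ∣ 8)
    (hq : ∀ (q : ℕ) [Fact q.Prime], q ≠ 2 → q ≠ 5 → ∀ Q : Sylow q G,
      Nat.card (Q : Subgroup G) ∣ 3) : Nat.card G = 60 := by
  have : Fact (Nat.Prime 5) := ⟨by norm_num⟩
  have : Fact (Nat.Prime 2) := ⟨Nat.prime_two⟩
  have hG0 : Nat.card G ≠ 0 := Nat.card_pos.ne'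
  -- `|G| ∣ 120`
  have h120 : Nat.card G ∣ 120 := by
    rw [← Nat.factorization_prime_le_iff_dvd hG0 (by norm_num)]
    intro q hqp
    have : Fact q.Prime := ⟨hqp⟩
    rw [← Nat.Prime.pow_dvd_iff_le_factorization hqp (by norm_num)]
    obtain ⟨Q⟩ := (inferInstance : Nonempty (Sylow q G))
    rw [← Sylow.card_eq_multiplicity Q]
    by_cases hq2 : q = 2
    · subst hq2
      exact dvd_trans (h2 Q) (by norm_num)
    · by_cases hq5 : q = 5
      · subst hq5
        have e : Nat.card (Q : Subgroup G) = 5 := by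
          rw [Sylow.card_eq_multiplicity Q, ← Sylow.card_eq_multiplicity P5, hcard]
        rw [e]
        norm_num
      · exact dvd_trans (hq q hq2 hq5 Q) (by norm_num)
  -- `|G| = 10 r`
  have hidx := Subgroup.card_mul_index (Subgroup.normalizer ((P5 : Subgroup G) : Set G))
  rw [hN] at hidx
  have hr : Nat.card (Sylow 5 G) = (Subgroup.normalizer ((P5 : Subgroup G) : Set G)).index :=
    Sylow.card_eq_index_normalizer P5
  have hmod : (Subgroup.normalizer ((P5 : Subgroup G) : Set G)).index ≡ 1 [MOD 5] := by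
    rw [← hr]
    exact card_sylow_modEq_one 5 G
  have hr1 : (Subgroup.normalizer ((P5 : Subgroup G) : Set G)).index ≠ 1 := by
    intro h
    exact hnn (Subgroup.normalizer_eq_top_iff.mp (Subgroup.index_eq_one.mp h))
  have h6 := CARD60.r_eq_six (by rw [hidx]; exact h120) hmod hr1
  rw [h6] at hidx
  omega

end Cfsg.Agent.Helper16.ITO
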