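import Mathlib
import Cfsg.Agent.Lib.Helper16.ITODefs

/-!
# S4707 (Ito), piece ODD (helper7 for helper16): the exceptional characters vanish on the nontrivial
elements of odd order prime to `p`

`y k := f (g ^ 2 ^ k)` is a periodic integer orbit of `y ↦ y² - (p-3) y` avoiding the fixed point `p - 2`.
-/

set_option autoImplicit false
set_option linter.unusedSectionVars false

namespace Cfsg.Agent.Helper16.ITO

namespace ODD

theorem periodic (c : ℤ) (y : ℕ → ℤ) (hrec : ∀ k, y (k + 1) = y k ^ 2 - c * y k) (N : ℕ)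
    (hper : y N = y 0) : ∀ k, y (k + N) = y k := by
  intro k
  induction k with
  | zero => rw [Nat.zero_add]; exact hper
  | succ k ih =>
    have e : k + 1 + N = (k + N) + 1 := by omega
    rw [e, hrec, ih, hrec]

theorem grow (c : ℤ) (hc : 2 ≤ c) (y : ℕ → ℤ) (hrec : ∀ k, y (k + 1) = y k ^ 2 - c * y k) (k : ℕ)
    (hk : c + 2 ≤ y k) : ∀ j, c + 2 ≤ y (k + j) ∧ y k + j ≤ y (k + j) := by
  intro j
  induction j with
  | zero => simp [hk]
  | succ j ih =>
    obtain ⟨h1, h2⟩ := ih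
    have e : k + (j + 1) = (k + j) + 1 := by omega
    rw [e, hrec]
    have h3 : y (k + j) ^ 2 - c * y (k + j) = y (k + j) * (y (k + j) - c) := by ring
    rw [h3]
    have h4 : 2 ≤ y (k + j) - c := by linarith
    have h5 : 0 ≤ y (k + j) := by linarith
    have h6 : y (k + j) * 2 ≤ y (k + j) * (y (k + j) - c) := mul_le_mul_of_nonneg_left h4 h5
    constructor
    · linarith
    · push_cast; linarith

/-- own copy of piece DYN (all terms vanish) -/
theorem dyn_zero' (c : ℤ) (hc : 2 ≤ c) (y : ℕ → ℤ) (hrec : ∀ k, y (k + 1) = y k ^ 2 - c * y k)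
    (N : ℕ) (hN : 0 < N) (hper : y N = y 0) (hne : ∀ k, y k ≠ c + 1) : ∀ k, y k = 0 := by
  have hp := periodic c y hrec N hper
  have hA : ∀ k, ¬ c + 2 ≤ y k := by
    intro k hk
    have h := (grow c hc y hrec k hk N).2
    rw [hp k] at h
    have : (0 : ℤ) < N := by exact_mod_cast hN
    linarith
  have hB : ∀ k, 0 ≤ y k := by
    intro k
    by_contra hneg
    have hlt : y k ≤ -1 := by omega
    have h1 : y (k + 1) = y k * (y k - c) := by rw [hrec]; ring
    have h2 : c + 1 ≤ y (k + 1) := by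
      rw [h1]
      have h3 : 0 ≤ (-1 - y k) := by linarith
      have h4 : 0 ≤ (c + 1) := by linarith
      nlinarith [mul_nonneg h3 h4, mul_nonneg h3 h3]
    have h5 := hne (k + 1)
    exact hA (k + 1) (by omega)
  have hC : ∀ k, y k ≤ c := by
    intro k
    have h1 := hA k
    have h2 := hne k
    omega
  intro k
  by_contra hk
  have hpos : 1 ≤ y k := by
    have := hB k
    omega
  have h1 : y (k + 1) = y k * (y k - c) := by rw [hrec]; ring
  have h2 : y (k + 1) ≤ 0 := by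
    rw [h1]
    have h3 : y k - c ≤ 0 := by linarith [hC k]
    exact mul_nonpos_of_nonneg_of_nonpos (by linarith) h3
  have h0 : y (k + 1) = 0 := le_antisymm h2 (hB (k + 1))
  have hz : ∀ j, y (k + 1 + j) = 0 := by
    intro j
    induction j with
    | zero => exact h0
    | succ j ih =>
      have e : k + 1 + (j + 1) = (k + 1 + j) + 1 := by omega
      rw [e, hrec, ih]; ring
  have h4 := hz (N - 1)
  have e : k + 1 + (N - 1) = k + N := by omega
  rw [e, hp k] at h4
  omega

/-- `2` is a unit modulo an odd number -/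
theorem exists_pow_modEq_one {n : ℕ} (hn : Odd n) : ∃ N : ℕ, 0 < N ∧ 2 ^ N ≡ 1 [MOD n] := by
  have hn0 : 0 < n := hn.pos
  have hc : Nat.Coprime 2 n := Nat.coprime_two_left.mpr hn
  exact ⟨Nat.totient n, Nat.totient_pos.mpr hn0, Nat.ModEq.pow_totient hc⟩

end ODD

open Cfsg Cfsg.Agent.Helper24

universe u

variable {G : Type u} [Group G] [Fintype G]

variable {p : ℕ} [Fact p.Prime]

/-- PIECE ODD: `f = 0` on nontrivial elements of odd order prime to `p`  (`y k := f (g ^ 2 ^ k)`, `dyn_zero` with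
`c = p - 3`; periodic because `2` is a unit modulo `orderOf g`). -/
theorem value_odd (hp : 3 < p) (f : G → ℂ) (hdeg : f 1 = (p : ℂ) - 2)
    (hFE : ∀ g : G, ¬ p ∣ orderOf g → f (g * g) = f g ^ 2 - ((p : ℂ) - 3) * f g)
    (hint : ∀ g : G, ¬ p ∣ orderOf g → ∃ n : ℤ, f g = (n : ℂ))
    (hfaith : ∀ x : G, f x = f 1 → x = 1) {g : G} (hodd : Odd (orderOf g))
    (hg : ¬ p ∣ orderOf g) (hg1 : g ≠ 1) : f g = 0 := by
  classical
  have hpp : p.Prime := Fact.out
  have hp5 : 5 ≤ p := by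
    rcases Nat.lt_or_ge p 5 with h | h
    · exfalso
      have h4 : p = 4 := by omega
      rw [h4] at hpp
      norm_num at hpp
    · exact h
  -- integer values
  have hreg : ∀ k : ℕ, ¬ p ∣ orderOf (g ^ 2 ^ k) := fun k hd =>
    hg (dvd_trans hd (orderOf_pow_dvd (2 ^ k)))
  let Y : G → ℤ := fun x => if h : ¬ p ∣ orderOf x then Classical.choose (hint x h) else 0
  have hY : ∀ x : G, ¬ p ∣ orderOf x → f x = (Y x : ℂ) := by
    intro x hx
    simp only [Y, dif_pos hx]
    exact Classical.choose_spec (hint x hx)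
  let y : ℕ → ℤ := fun k => Y (g ^ 2 ^ k)
  have hy : ∀ k, f (g ^ 2 ^ k) = (y k : ℂ) := fun k => hY _ (hreg k)
  have hrec : ∀ k, y (k + 1) = y k ^ 2 - ((p : ℤ) - 3) * y k := by
    intro k
    have e : g ^ 2 ^ (k + 1) = g ^ 2 ^ k * g ^ 2 ^ k := by
      rw [pow_succ, pow_mul, pow_two]
    have h1 := hFE (g ^ 2 ^ k) (hreg k)
    rw [← e, hy k, hy (k + 1)] at h1
    exact_mod_cast h1
  obtain ⟨N, hN, hmod⟩ := ODD.exists_pow_modEq_one hodd
  have hper : y N = y 0 := by
    have e : g ^ 2 ^ N = g ^ 2 ^ 0 := by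
      rw [pow_zero]
      exact pow_eq_pow_iff_modEq.mpr hmod
    show Y (g ^ 2 ^ N) = Y (g ^ 2 ^ 0)
    rw [e]
  have hne : ∀ k, y k ≠ ((p : ℤ) - 3) + 1 := by
    intro k hk
    have h1 : f (g ^ 2 ^ k) = f 1 := by
      rw [hy k, hk, hdeg]
      push_cast
      ring
    have h2 : g ^ 2 ^ k = 1 := hfaith _ h1
    have h3 : orderOf g ∣ 2 ^ k := orderOf_dvd_of_pow_eq_one h2
    have hc : Nat.Coprime (orderOf g) (2 ^ k) :=
      Nat.Coprime.pow_right k (Nat.coprime_two_left.mpr hodd).symm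
    have h4 : orderOf g = 1 := Nat.Coprime.eq_one_of_dvd hc h3
    exact hg1 (orderOf_eq_one_iff.mp h4)
  have hc2 : (2 : ℤ) ≤ (p : ℤ) - 3 := by
    have : (5 : ℤ) ≤ p := by exact_mod_cast hp5
    linarith
  have h0 := ODD.dyn_zero' ((p : ℤ) - 3) hc2 y hrec N hN hper hne 0
  have h1 := hy 0
  rw [pow_zero, pow_one, h0] at h1
  simpa using h1

end Cfsg.Agent.Helper16.ITO
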