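import Mathlib
import Cfsg.Agent.Lib.Helper16.ITODefs

/-!
# S4707 (Ito), piece POW2 (helper7 for helper16): `p - 1` is a power of `2`
-/

set_option autoImplicit false
set_option linter.unusedSectionVars false

namespace Cfsg.Agent.Helper16.ITO

open Cfsg Cfsg.Agent.Helper24

universe u

variable {G : Type u} [Group G] [Fintype G]

variable {p : ℕ} [Fact p.Prime]

/-- PIECE POW2: `p - 1` is a power of `2`  (an odd prime `q ∣ p - 1` divides `|G|`, `q ≠ p`, so a Sylow `q`-subgroup is
nontrivial of order dividing `p - 2`: `q ∣ gcd (p-1, p-2) = 1`). -/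
theorem exists_pow_two (hp : 3 < p) (hdvd : p - 1 ∣ Nat.card G)
    (hsyl : ∀ (q : ℕ) [Fact q.Prime], q ≠ 2 → q ≠ p → ∀ Q : Sylow q G,
      Nat.card (Q : Subgroup G) ∣ p - 2) : ∃ s : ℕ, p - 1 = 2 ^ s := by
  refine ⟨(p - 1).primeFactorsList.length, Nat.eq_prime_pow_of_unique_prime_dvd (by omega) ?_⟩
  intro q hq hqd
  by_contra hq2
  have : Fact q.Prime := ⟨hq⟩
  have hqp : q ≠ p := by
    intro h
    have := Nat.le_of_dvd (by omega) hqd
    omega
  obtain ⟨Q⟩ := (inferInstance : Nonempty (Sylow q G))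
  have hcard : Nat.card (Q : Subgroup G) = q ^ (Nat.card G).factorization q :=
    Sylow.card_eq_multiplicity Q
  have hqG : q ∣ Nat.card G := dvd_trans hqd hdvd
  have hpos : 0 < (Nat.card G).factorization q :=
    Nat.Prime.factorization_pos_of_dvd hq Nat.card_pos.ne' hqG
  have h1 : q ∣ Nat.card (Q : Subgroup G) := by
    rw [hcard]
    exact dvd_pow_self q hpos.ne'
  have h2 : q ∣ p - 2 := dvd_trans h1 (hsyl q hq2 hqp Q)
  have e : p - 1 = (p - 2) + 1 := by omega
  rw [e] at hqd
  have h3 : q ∣ 1 := (Nat.dvd_add_right h2).mp hqd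
  have := Nat.le_of_dvd one_pos h3
  have := hq.two_le
  omega

end Cfsg.Agent.Helper16.ITO
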