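import Mathlib
import Cfsg.Agent.Lib.Helper16.SpUDefs
import Cfsg.Agent.Lib.Helper2.BNPair

/-!
# S2316 piece SPU-INV (helper7): a left descent forces an inversion

If `sr i * b * n ∈ B n B` for some `b ∈ B`, then the permutation `π` of the monomial matrix `n` satisfies
`key (π⁻¹ (rb i)) < key (π⁻¹ (ra i))`.
-/

set_option autoImplicit false
set_option linter.unusedSectionVars false
set_option linter.unusedVariables false

namespace Cfsg.Agent.Helper16.SpU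

open Matrix Cfsg.Agent.Helper6.SpN Cfsg.Agent.Helper13.SpBN Cfsg.Agent.Helper13.SylO
  Cfsg.Agent.Helper6.Uni Cfsg.Agent.Helper2.WordLen Cfsg.Agent.Helper2.BN Cfsg.Agent.Helper17.BNCox

section sp
variable {m : ℕ} {F : Type*} [Field F]

/-- if `π⁻¹` does not invert the simple root `i`, then `n⁻¹ X_i n ≤ B` -/
theorem spu_inv_conj_xr (i : Fin m) {n : symplecticGroup (Fin m) F}
    {π : Equiv.Perm (Fin m ⊕ Fin m)} (hn : IsMon n.1 π)
    (h : key (π⁻¹ (ra i)) < key (π⁻¹ (rb i))) (t : F) : n⁻¹ * xr i t * n ∈ bor m F := by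
  unfold xr
  unfold ra rb at h
  by_cases hi : i.val + 1 < m
  · simp only [dif_pos hi] at h ⊢
    exact conj_Tm_mem_bor (short_ne hi) inl_ne_ng_inl hn h t
  · simp only [dif_neg hi] at h ⊢
    exact conj_Lm_mem_bor _ hn h t

theorem spu_inv_ra_ne_rb (i : Fin m) : ra i ≠ rb i := by
  intro e
  have h1 := key_ra i
  have h2 := key_rb i
  rw [e] at h1
  omega

/-- PIECE SPU-INV: a left descent forces an inversion. -/
theorem inv_of_desc [Finite F] (i : Fin m) {n : symplecticGroup (Fin m) F}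
    {π : Equiv.Perm (Fin m ⊕ Fin m)} (hn : IsMon n.1 π)
    (h : ∃ b ∈ bor m F, ∃ b' ∈ bor m F, ∃ b'' ∈ bor m F, sr i * b * n = b' * n * b'') :
    key (π⁻¹ (rb i)) < key (π⁻¹ (ra i)) := by
  by_contra hlt
  have hne : key (π⁻¹ (ra i)) ≠ key (π⁻¹ (rb i)) := fun e =>
    spu_inv_ra_ne_rb i (π⁻¹.injective (key_injective e))
  have hlt' : key (π⁻¹ (ra i)) < key (π⁻¹ (rb i)) := by omega
  obtain ⟨b, hb, b', hb', b'', hb'', hEq⟩ := h
  obtain ⟨t, ht⟩ := split_r i hb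
  have hx := spu_inv_conj_xr i hn hlt' t
  -- the elements of `N`
  let nN : ↥(spBN m F).N := ⟨n, ⟨π, hn⟩⟩
  let sN : ↥(spBN m F).N := ⟨sr i * n, (mon m F).mul_mem (sr_mem_mon i) ⟨π, hn⟩⟩
  have hg1 : sr i * b * n ∈ C (spBN m F) (Cfsg.Agent.Helper2.BN.π (spBN m F) nN) := by
    rw [mem_C_iff]
    exact ⟨b', hb', b'', hb'', hEq⟩
  have hg2 : sr i * b * n ∈ C (spBN m F) (Cfsg.Agent.Helper2.BN.π (spBN m F) sN) := by
    rw [mem_C_iff]
    refine ⟨sr i * (b * (xr i t)⁻¹) * (sr i)⁻¹, ht, n⁻¹ * xr i t * n, hx, ?_⟩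
    show sr i * b * n = sr i * (b * (xr i t)⁻¹) * (sr i)⁻¹ * (sr i * n) * (n⁻¹ * xr i t * n)
    group
  have heq := C_inj (spBN m F) hg1 hg2
  rw [π_eq_iff] at heq
  have heq' : n⁻¹ * (sr i * n) ∈ bor m F := heq
  have hmon : IsMon (n⁻¹ * (sr i * n)).1 (π⁻¹ * (pr i * π)) :=
    hn.inv'.mul ((sr_isMon i).mul hn)
  have hone := perm_eq_one_of_mem_bor hmon heq'
  have hpr : pr i = 1 := by
    have h1 : pr i = π * (π⁻¹ * (pr i * π)) * π⁻¹ := by group
    rw [h1, hone]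
    group
  have h2 := pr_ra i
  rw [hpr, Equiv.Perm.one_apply] at h2
  exact spu_inv_ra_ne_rb i h2

end sp

end Cfsg.Agent.Helper16.SpU
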