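import Mathlib

/-!
# S2262 piece AO-NUM1 (helper7): `num_field`
-/

set_option autoImplicit false

namespace Cfsg.Agent.Helper17.AO

/-- `e * y ≤ y ^ e` for `2 ≤ y`, `1 ≤ e`. -/
theorem ao_num1_mul_le_pow (y e : ℕ) (hy : 2 ≤ y) (he : 1 ≤ e) : e * y ≤ y ^ e := by
  induction e, he using Nat.le_induction with
  | base => simp
  | succ n hn ih =>
    have h1 : y ≤ y ^ n := by
      calc y = y ^ 1 := (pow_one y).symm
        _ ≤ y ^ n := Nat.pow_le_pow_right (by omega) hn
    calc (n + 1) * y = n * y + y := by ring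
      _ ≤ y ^ n + y ^ n := by omega
      _ = 2 * y ^ n := by ring
      _ ≤ y * y ^ n := Nat.mul_le_mul_right _ hy
      _ = y ^ (n + 1) := by ring

/-- base case `d = 2`. -/
theorem ao_num1_base (x e : ℕ) (hx : 2 ≤ x) (he : 1 ≤ e) (hne : ¬(x = 2 ∧ e = 2)) :
    e * (1 + x) ≤ 1 + x ^ e := by
  rcases Nat.lt_or_ge e 3 with h3 | h3
  · interval_cases e
    · simp
    · -- e = 2
      have hx3 : 3 ≤ x := by
        rcases Nat.lt_or_ge x 3 with h | h
        · exfalso; apply hne; constructor <;> omega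
        · exact h
      nlinarith
  · induction e, h3 using Nat.le_induction with
    | base =>
      have : 9 * x ≤ x ^ 3 + 0 ∨ x = 2 := by
        rcases Nat.lt_or_ge x 3 with h | h
        · right; omega
        · left; nlinarith [Nat.mul_le_mul h h]
      rcases this with h | h
      · nlinarith
      · subst h; norm_num
    | succ n hn ih =>
      have ih' := ih (by omega) (by omega)
      have h1 : x + 1 ≤ x ^ n := by
        calc x + 1 ≤ x * x := by nlinarith
          _ = x ^ 2 := by ring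
          _ ≤ x ^ n := Nat.pow_le_pow_right (by omega) (by omega)
      have h2 : 2 * x ^ n ≤ x ^ (n + 1) := by
        calc 2 * x ^ n ≤ x * x ^ n := Nat.mul_le_mul_right _ hx
          _ = x ^ (n + 1) := by ring
      calc (n + 1) * (1 + x) = n * (1 + x) + (1 + x) := by ring
        _ ≤ (1 + x ^ n) + x ^ n := by omega
        _ ≤ 1 + x ^ (n + 1) := by omega

/-- the key inequality `e * ∑_{i<d} x^i ≤ ∑_{i<d} (x^e)^i`. -/
theorem ao_num1_sum_le (x e d : ℕ) (hx : 2 ≤ x) (he : 1 ≤ e) (hd : 2 ≤ d)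
    (hne : ¬(x = 2 ∧ e = 2 ∧ d = 2)) :
    e * (∑ i ∈ Finset.range d, x ^ i) ≤ ∑ i ∈ Finset.range d, (x ^ e) ^ i := by
  -- step
  have step : ∀ n : ℕ, 1 ≤ n →
      e * (∑ i ∈ Finset.range n, x ^ i) ≤ ∑ i ∈ Finset.range n, (x ^ e) ^ i →
      e * (∑ i ∈ Finset.range (n + 1), x ^ i) ≤ ∑ i ∈ Finset.range (n + 1), (x ^ e) ^ i := by
    intro n hn ih
    rw [Finset.sum_range_succ, Finset.sum_range_succ, Nat.mul_add]
    have h2 : 2 ≤ x ^ n := by
      calc 2 ≤ x := hx
        _ = x ^ 1 := (pow_one x).symm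
        _ ≤ x ^ n := Nat.pow_le_pow_right (by omega) hn
    have := ao_num1_mul_le_pow (x ^ n) e h2 he
    have e1 : (x ^ e) ^ n = (x ^ n) ^ e := by rw [← pow_mul, ← pow_mul, Nat.mul_comm]
    rw [e1]
    omega
  by_cases h22 : x = 2 ∧ e = 2
  · obtain ⟨rfl, rfl⟩ := h22
    have hd3 : 3 ≤ d := by
      rcases Nat.lt_or_ge d 3 with h | h
      · exfalso; apply hne; refine ⟨rfl, rfl, ?_⟩; omega
      · exact h
    induction d, hd3 using Nat.le_induction with
    | base => norm_num [Finset.sum_range_succ]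
    | succ n hn ih =>
      exact step n (by omega) (ih (by omega) (by intro h; omega))
  · induction d, hd using Nat.le_induction with
    | base =>
      have := ao_num1_base x e hx he h22
      simpa [Finset.sum_range_succ] using this
    | succ n hn ih =>
      exact step n (by omega) (ih (by intro h; exact h22 ⟨h.1, h.2.1⟩))

/-- AO-NUM1 -/
theorem num_field (x e d k : ℕ) (hx : 2 ≤ x) (he : 1 ≤ e) (hd : 2 ≤ d)
    (hne : ¬(x = 2 ∧ e = 2 ∧ d = 2)) (hk : (x - 1) * k ≤ x ^ d - 1) :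
    (x ^ e - 1) * (e * k) ≤ (x ^ e) ^ d - 1 := by
  have hG : (∑ i ∈ Finset.range d, x ^ i) * (x - 1) + 1 = x ^ d := by
    have := geom_sum_mul_add (x - 1) d
    rwa [Nat.sub_add_cancel (by omega : 1 ≤ x)] at this
  have hxe : 1 ≤ x ^ e := Nat.one_le_pow _ _ (by omega)
  have hH : (∑ i ∈ Finset.range d, (x ^ e) ^ i) * (x ^ e - 1) + 1 = (x ^ e) ^ d := by
    have := geom_sum_mul_add (x ^ e - 1) d
    rwa [Nat.sub_add_cancel hxe] at this
  have hkG : k ≤ ∑ i ∈ Finset.range d, x ^ i := by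
    have h1 : (x - 1) * k ≤ (x - 1) * ∑ i ∈ Finset.range d, x ^ i := by
      calc (x - 1) * k ≤ x ^ d - 1 := hk
        _ = (x - 1) * ∑ i ∈ Finset.range d, x ^ i := by
          rw [← hG]; simp [Nat.mul_comm]
    exact Nat.le_of_mul_le_mul_left h1 (by omega)
  have hS := ao_num1_sum_le x e d hx he hd hne
  calc (x ^ e - 1) * (e * k) ≤ (x ^ e - 1) * (e * ∑ i ∈ Finset.range d, x ^ i) :=
        Nat.mul_le_mul_left _ (Nat.mul_le_mul_left _ hkG)
    _ ≤ (x ^ e - 1) * ∑ i ∈ Finset.range d, (x ^ e) ^ i := Nat.mul_le_mul_left _ hS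
    _ = (x ^ e) ^ d - 1 := by
      rw [← hH]; simp [Nat.mul_comm]

end Cfsg.Agent.Helper17.AO
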