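import Mathlib

/-!
Auxiliary lemmas for the S3520 pieces A1, A2, COMM (helper7): semiregularity of a subgroup
centralized by a transitive subgroup, and the order of a regular subgroup.
-/

set_option autoImplicit false

namespace Cfsg.Agent.Helper7.Der2Aux

open MulAction

variable {G : Type*} [Group G] {X : Type*} [MulAction G X]

theorem exists_mem_smul_eq (A : Subgroup G) [IsPretransitive A X] (x y : X) :
    ∃ a ∈ A, a • x = y := by
  obtain ⟨a, ha⟩ := exists_smul_eq A x y
  exact ⟨(a : G), a.2, ha⟩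

theorem eq_one_of_fix [FaithfulSMul G X] (A K : Subgroup G) [IsPretransitive K X]
    (hcomm : ∀ a ∈ A, ∀ b ∈ K, a * b = b * a) (a : G) (ha : a ∈ A) (ω : X) (h : a • ω = ω) :
    a = 1 := by
  apply FaithfulSMul.eq_of_smul_eq_smul (α := X)
  intro ω'
  obtain ⟨b, hb, rfl⟩ := exists_mem_smul_eq K ω ω'
  rw [one_smul, ← mul_smul, hcomm a ha b hb, mul_smul, h]

theorem card_regular [Finite G] [Finite X] (A : Subgroup G) [IsPretransitive A X]
    (hsemi : ∀ a ∈ A, ∀ ω : X, a • ω = ω → a = 1) (x0 : X) :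
    Nat.card A = Nat.card X := by
  refine Nat.card_congr (Equiv.ofBijective (fun a : A => (a : G) • x0) ⟨?_, ?_⟩)
  · intro a b hab
    have h1 : ((a : G)⁻¹ * (b : G)) • x0 = x0 := by
      rw [mul_smul]
      have : (b : G) • x0 = (a : G) • x0 := hab.symm
      rw [this, inv_smul_smul]
    have h2 := hsemi _ (A.mul_mem (A.inv_mem a.2) b.2) x0 h1
    have h3 : (a : G) = (b : G) := by
      have := congrArg (fun t => (a : G) * t) h2
      simpa using this.symm
    exact Subtype.ext h3
  · intro y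
    obtain ⟨a, ha, hy⟩ := exists_mem_smul_eq A x0 y
    exact ⟨⟨a, ha⟩, hy⟩

end Cfsg.Agent.Helper7.Der2Aux
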