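import Mathlib
import Cfsg.Agent.Lib.Helper7.Der2Aux

/-!
S3520 PIECE A1 (helper7).
-/

set_option autoImplicit false

namespace Cfsg.Agent.Helper17.Der2

open MulAction Cfsg.Agent.Helper7.Der2Aux

variable {G : Type*} [Group G] {X : Type*} [MulAction G X]

/-- PIECE A1: a transitive abelian normal subgroup all of whose nonidentity elements are
conjugate in `G` forces 2-transitivity. -/
theorem two_transitive_of_abelian [IsPretransitive G X] (A : Subgroup G) [A.Normal]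
    [IsPretransitive A X] (hab : ∀ a ∈ A, ∀ b ∈ A, a * b = b * a)
    (hconj : ∀ a ∈ A, ∀ b ∈ A, a ≠ 1 → b ≠ 1 → IsConj a b) :
    IsMultiplyPretransitive G X 2 := by
  rw [is_two_pretransitive_iff]
  intro x y x' y' hxy hxy'
  obtain ⟨g, hg⟩ := exists_smul_eq G x x'
  have hy'' : g • y ≠ x' := by
    intro hcon
    rw [← hg] at hcon
    exact hxy (smul_left_cancel g hcon).symm
  obtain ⟨a, ha, hay⟩ := exists_mem_smul_eq A x' (g • y)
  obtain ⟨a', ha', hay'⟩ := exists_mem_smul_eq A x' y'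
  have ha1 : a ≠ 1 := by
    intro hcon
    rw [hcon, one_smul] at hay
    exact hy'' hay.symm
  have ha'1 : a' ≠ 1 := by
    intro hcon
    rw [hcon, one_smul] at hay'
    exact hxy' hay'
  obtain ⟨c, hc⟩ := isConj_iff.1 (hconj a ha a' ha' ha1 ha'1)
  obtain ⟨b, hb, hbc⟩ := exists_mem_smul_eq A x' (c • x')
  have hhx : (b⁻¹ * c) • x' = x' := by
    rw [mul_smul, ← hbc, inv_smul_smul]
  have hha : (b⁻¹ * c) * a * (b⁻¹ * c)⁻¹ = a' := by
    have e1 : (b⁻¹ * c) * a * (b⁻¹ * c)⁻¹ = b⁻¹ * (c * a * c⁻¹) * b := by group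
    rw [e1, hc, mul_assoc, hab a' ha' b hb, ← mul_assoc, inv_mul_cancel, one_mul]
  refine ⟨(b⁻¹ * c) * g, ?_, ?_⟩
  · rw [mul_smul, hg, hhx]
  · rw [mul_smul, ← hay, ← mul_smul, ← hay']
    have e2 : (b⁻¹ * c) * a = a' * (b⁻¹ * c) := by
      rw [← hha]; group
    rw [e2, mul_smul, hhx]

end Cfsg.Agent.Helper17.Der2
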