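import Mathlib
import Cfsg.Agent.Lib.Helper18.Derangement
import Cfsg.Agent.Lib.Helper7.Der2Aux

/-!
S3520 PIECE A2 (helper7).
-/

set_option autoImplicit false

namespace Cfsg.Agent.Helper17.Der2

open MulAction Cfsg.Agent.Helper7.Der2Aux

variable {G : Type*} [Group G] {X : Type*} [MulAction G X]

/-- PIECE A2: if all derangements lie in the transitive abelian normal subgroup `A` and form two
classes represented by `a₁ a₂`, then `G` is a Frobenius group with complement of order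
`(n - 1) / 2`. -/
theorem frobenius_of_der_le [Finite G] [Finite X] [FaithfulSMul G X] [IsPretransitive G X]
    (A : Subgroup G) [A.Normal] [IsPretransitive A X] (hab : ∀ a ∈ A, ∀ b ∈ A, a * b = b * a)
    (hder : ∀ g : G, (∀ ω : X, g • ω ≠ ω) → g ∈ A)
    (a₁ a₂ : G) (ha₁ : a₁ ∈ A) (ha₂ : a₂ ∈ A) (h₁ : a₁ ≠ 1) (h₂ : a₂ ≠ 1)
    (hnc : ¬ IsConj a₁ a₂)
    (hall : ∀ b ∈ A, b ≠ 1 → IsConj a₁ b ∨ IsConj a₂ b) (α : X) :
    (∀ g : G, g ≠ 1 → Nat.card (fixedBy X g) ≤ 1) ∧ ¬ 2 ∣ Nat.card X ∧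
      2 * Nat.card (stabilizer G α) = Nat.card X - 1 := by
  have hsA : ∀ a ∈ A, ∀ ω : X, a • ω = ω → a = 1 :=
    fun a ha ω h => eq_one_of_fix A A hab a ha ω h
  have hfix : ∀ g : G, g ≠ 1 → Nat.card (fixedBy X g) ≤ 1 := by
    intro g hg1
    by_cases hgA : g ∈ A
    · have : IsEmpty (fixedBy X g) := ⟨fun x => hg1 (hsA g hgA x.1 x.2)⟩
      rw [Nat.card_of_isEmpty]
      exact Nat.zero_le 1
    · exact ((Cfsg.Agent.Helper18.der_main A hder).2 g hgA).le
  have hfix2 : ∀ g : G, ∀ x y : X, g • x = x → g • y = y → x ≠ y → g = 1 := by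
    intro g x y hx hy hxy
    by_contra hg1
    have hsub : Subsingleton (fixedBy X g) := Finite.card_le_one_iff_subsingleton.1 (hfix g hg1)
    have : (⟨x, hx⟩ : fixedBy X g) = ⟨y, hy⟩ := Subsingleton.elim _ _
    exact hxy (congrArg Subtype.val this)
  refine ⟨hfix, ?_⟩
  -- the count
  set S : Subgroup G := stabilizer G α with hS
  set T : Set G := (A : Set G) \ {1} with hT
  have hmem : ∀ a ∈ A, a ≠ 1 → ∀ h : S, (h : G) * a * (h : G)⁻¹ ∈ T := by
    intro a ha ha1 h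
    refine ⟨(inferInstance : A.Normal).conj_mem a ha h, ?_⟩
    intro hcon
    have h3 : (h : G) * a * (h : G)⁻¹ = 1 := hcon
    apply ha1
    have := congrArg (fun t => (h : G)⁻¹ * t * (h : G)) h3
    simpa [mul_assoc] using this
  have hinj : ∀ a ∈ A, a ≠ 1 → ∀ h h' : S,
      (h : G) * a * (h : G)⁻¹ = (h' : G) * a * (h' : G)⁻¹ → h = h' := by
    intro a ha ha1 h h' he
    have hk : ((h' : G)⁻¹ * (h : G)) * a = a * ((h' : G)⁻¹ * (h : G)) := by
      have := congrArg (fun t => (h' : G)⁻¹ * t * (h : G)) he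
      simp only [mul_assoc, inv_mul_cancel, mul_one, inv_mul_cancel_left] at this
      rw [mul_assoc, this]
    have hkα : ((h' : G)⁻¹ * (h : G)) • α = α := by
      have hh : (h : G) • α = α := h.2
      have hh' : (h' : G) • α = α := h'.2
      rw [mul_smul, hh, inv_smul_eq_iff, hh']
    have hkaα : ((h' : G)⁻¹ * (h : G)) • (a • α) = a • α := by
      rw [← mul_smul, hk, mul_smul, hkα]
    have hne : α ≠ a • α := fun hcon => ha1 (hsA a ha α hcon.symm)
    have hk1 := hfix2 _ α (a • α) hkα hkaα hne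
    apply Subtype.ext
    have := congrArg (fun t => (h' : G) * t) hk1
    simpa using this
  set φ : S ⊕ S → T := fun s => Sum.elim
    (fun h : S => (⟨(h : G) * a₁ * (h : G)⁻¹, hmem a₁ ha₁ h₁ h⟩ : T))
    (fun h : S => (⟨(h : G) * a₂ * (h : G)⁻¹, hmem a₂ ha₂ h₂ h⟩ : T)) s with hφ
  have hφinj : Function.Injective φ := by
    rintro (h | h) (h' | h') he
    · have he' : (h : G) * a₁ * (h : G)⁻¹ = (h' : G) * a₁ * (h' : G)⁻¹ :=
        congrArg Subtype.val he
      rw [hinj a₁ ha₁ h₁ h h' he']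
    · exfalso
      have he' : (h : G) * a₁ * (h : G)⁻¹ = (h' : G) * a₂ * (h' : G)⁻¹ :=
        congrArg Subtype.val he
      apply hnc
      rw [isConj_iff]
      refine ⟨(h' : G)⁻¹ * (h : G), ?_⟩
      have := congrArg (fun t => (h' : G)⁻¹ * t * (h' : G)) he'
      simp only [mul_assoc, inv_mul_cancel, mul_one, inv_mul_cancel_left] at this
      rw [mul_inv_rev, inv_inv]
      simpa [mul_assoc] using this
    · exfalso
      have he' : (h : G) * a₂ * (h : G)⁻¹ = (h' : G) * a₁ * (h' : G)⁻¹ :=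
        congrArg Subtype.val he
      apply hnc
      rw [isConj_iff]
      refine ⟨(h : G)⁻¹ * (h' : G), ?_⟩
      have := congrArg (fun t => (h : G)⁻¹ * t * (h : G)) he'
      simp only [mul_assoc, inv_mul_cancel, mul_one, inv_mul_cancel_left] at this
      rw [mul_inv_rev, inv_inv]
      simpa [mul_assoc] using this.symm
    · have he' : (h : G) * a₂ * (h : G)⁻¹ = (h' : G) * a₂ * (h' : G)⁻¹ :=
        congrArg Subtype.val he
      rw [hinj a₂ ha₂ h₂ h h' he']
  have hsurj_aux : ∀ a ∈ A, ∀ b ∈ A, IsConj a b → ∃ h : S, (h : G) * a * (h : G)⁻¹ = b := by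
    intro a ha b hb hc
    obtain ⟨c, hc⟩ := isConj_iff.1 hc
    obtain ⟨b', hb', hbc⟩ := exists_mem_smul_eq A α (c • α)
    have hhS : b'⁻¹ * c ∈ S := by
      rw [hS, mem_stabilizer_iff, mul_smul, ← hbc, inv_smul_smul]
    refine ⟨⟨b'⁻¹ * c, hhS⟩, ?_⟩
    have e1 : (b'⁻¹ * c) * a * (b'⁻¹ * c)⁻¹ = b'⁻¹ * (c * a * c⁻¹) * b' := by group
    show (b'⁻¹ * c) * a * (b'⁻¹ * c)⁻¹ = b
    rw [e1, hc, mul_assoc, hab b hb b' hb', ← mul_assoc, inv_mul_cancel, one_mul]
  have hφsurj : Function.Surjective φ := by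
    rintro ⟨b, hbA, hb1⟩
    have hb1' : b ≠ 1 := hb1
    rcases hall b hbA hb1' with hc | hc
    · obtain ⟨h, hh⟩ := hsurj_aux a₁ ha₁ b hbA hc
      exact ⟨Sum.inl h, Subtype.ext hh⟩
    · obtain ⟨h, hh⟩ := hsurj_aux a₂ ha₂ b hbA hc
      exact ⟨Sum.inr h, Subtype.ext hh⟩
  have hcard1 : Nat.card (S ⊕ S) = Nat.card T :=
    Nat.card_congr (Equiv.ofBijective φ ⟨hφinj, hφsurj⟩)
  have hcard2 : Nat.card T = Nat.card A - 1 := by
    rw [Nat.card_coe_set_eq, hT, Set.ncard_sdiff_singleton_of_mem (show (1 : G) ∈ (A : Set G) from A.one_mem)]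
    rw [← Nat.card_coe_set_eq]
    rfl
  have hcard3 : Nat.card A = Nat.card X := card_regular A hsA α
  have hcard4 : Nat.card (S ⊕ S) = Nat.card S + Nat.card S := Nat.card_sum
  have hXpos : 0 < Nat.card X := Finite.card_pos_iff.2 ⟨α⟩
  have hmain : 2 * Nat.card S = Nat.card X - 1 := by
    rw [← hcard3, ← hcard2, ← hcard1, hcard4, two_mul]
  refine ⟨?_, hmain⟩
  omega

end Cfsg.Agent.Helper17.Der2
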