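import Mathlib
import Cfsg.Agent.Lib.Helper7.Der2Aux

/-!
S3520 PIECE COMM (helper7).
-/

set_option autoImplicit false

namespace Cfsg.Agent.Helper17.Der2

open MulAction Cfsg.Agent.Helper7.Der2Aux

variable {G : Type*} [Group G] {X : Type*} [MulAction G X]

/-- PIECE COMM: two commuting transitive subgroups, one of order divisible by two primes, give
three derangements of pairwise different orders. -/
theorem three_orders_of_commuting [Finite G] [Finite X] [FaithfulSMul G X] (N K : Subgroup G)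
    [IsPretransitive N X] [IsPretransitive K X] (hX : 2 ≤ Nat.card X)
    (hcomm : ∀ a ∈ N, ∀ b ∈ K, a * b = b * a) (p q : ℕ) (hp : p.Prime) (hq : q.Prime)
    (hpq : p ≠ q) (hpN : p ∣ Nat.card N) (hqN : q ∣ Nat.card N) :
    ∃ d₁ d₂ d₃ : G, (∀ ω : X, d₁ • ω ≠ ω) ∧ (∀ ω : X, d₂ • ω ≠ ω) ∧ (∀ ω : X, d₃ • ω ≠ ω) ∧
      orderOf d₁ ≠ orderOf d₂ ∧ orderOf d₁ ≠ orderOf d₃ ∧ orderOf d₂ ≠ orderOf d₃ := by
  have hXne : Nonempty X := by
    rw [← Finite.card_pos_iff]
    omega
  obtain ⟨x0⟩ := hXne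
  have hsN : ∀ a ∈ N, ∀ ω : X, a • ω = ω → a = 1 :=
    fun a ha ω h => eq_one_of_fix N K hcomm a ha ω h
  have hsK : ∀ b ∈ K, ∀ ω : X, b • ω = ω → b = 1 :=
    fun b hb ω h => eq_one_of_fix K N (fun b hb a ha => (hcomm a ha b hb).symm) b hb ω h
  have hcN : Nat.card N = Nat.card X := card_regular N hsN x0
  have hcK : Nat.card K = Nat.card X := card_regular K hsK x0
  have hqK : q ∣ Nat.card K := by rw [hcK, ← hcN]; exact hqN
  haveI : Fact p.Prime := ⟨hp⟩
  haveI : Fact q.Prime := ⟨hq⟩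
  obtain ⟨a', ha'⟩ := exists_prime_orderOf_dvd_card' p hpN
  obtain ⟨b', hb'⟩ := exists_prime_orderOf_dvd_card' q hqK
  set a : G := (a' : G) with hadef
  set b : G := (b' : G) with hbdef
  have haN : a ∈ N := a'.2
  have hbK : b ∈ K := b'.2
  have hoa : orderOf a = p := by rw [hadef, Subgroup.orderOf_coe]; exact ha'
  have hob : orderOf b = q := by rw [hbdef, Subgroup.orderOf_coe]; exact hb'
  have hab : Commute a b := hcomm a haN b hbK
  have ha1 : a ≠ 1 := by
    intro hcon
    rw [hcon, orderOf_one] at hoa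
    exact hp.one_lt.ne hoa
  have hb1 : b ≠ 1 := by
    intro hcon
    rw [hcon, orderOf_one] at hob
    exact hq.one_lt.ne hob
  have hcop : Nat.Coprime (orderOf a) (orderOf b) := by
    rw [hoa, hob]
    exact (Nat.coprime_primes hp hq).2 hpq
  have hoab : orderOf (a * b) = p * q := by
    rw [hab.orderOf_mul_eq_mul_orderOf_of_coprime hcop, hoa, hob]
  have haq : a ^ q ≠ 1 := by
    intro hcon
    have h1 : p ∣ q := by rw [← hoa]; exact orderOf_dvd_of_pow_eq_one hcon
    exact hpq ((Nat.prime_dvd_prime_iff_eq hp hq).1 h1)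
  refine ⟨a, b, a * b, ?_, ?_, ?_, ?_, ?_, ?_⟩
  · intro ω h
    exact ha1 (hsN a haN ω h)
  · intro ω h
    exact hb1 (hsK b hbK ω h)
  · intro ω h
    have h1 : (a * b) ^ q • ω = ω := by
      have : ∀ k : ℕ, (a * b) ^ k • ω = ω := by
        intro k
        induction k with
        | zero => rw [pow_zero, one_smul]
        | succ k ih => rw [pow_succ, mul_smul, h, ih]
      exact this q
    have h2 : (a * b) ^ q = a ^ q := by
      rw [hab.mul_pow, ← hob, pow_orderOf_eq_one, mul_one]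
    rw [h2] at h1
    exact haq (hsN _ (N.pow_mem haN q) ω h1)
  · rw [hoa, hob]; exact hpq
  · rw [hoa, hoab]
    intro hcon
    have : p * 1 = p * q := by rw [mul_one]; exact hcon
    have := Nat.eq_of_mul_eq_mul_left hp.pos this
    exact hq.one_lt.ne this
  · rw [hob, hoab]
    intro hcon
    have : 1 * q = p * q := by rw [one_mul]; exact hcon
    have := Nat.eq_of_mul_eq_mul_right hq.pos this
    exact hp.one_lt.ne this

end Cfsg.Agent.Helper17.Der2
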