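import Mathlib
import Cfsg.Agent.Lib.Helper20.A3Defs

set_option autoImplicit false
set_option linter.unusedSectionVars false
set_option linter.unusedVariables false

/-!
S3117 piece IDX2 (helper7 for helper20).
-/

namespace Cfsg.Agent.Helper20.A3

/-- **A3-IDX2.** A finite group with a solvable subgroup of index at most `2` is solvable. -/
theorem solv_of_index_le_two {G : Type*} [Group G] [Finite G] (H : Subgroup G)
    (hidx : H.index ≤ 2) (hH : Group.IsSolvable H) : Group.IsSolvable G := by
  have h0 : H.index ≠ 0 := Subgroup.index_ne_zero_of_finite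
  have hcases : H.index = 1 ∨ H.index = 2 := by omega
  rcases hcases with h1 | h2
  · have htop : H = ⊤ := Subgroup.index_eq_one.1 h1
    apply Group.isSolvable_of_surjective (f := H.subtype)
    intro g
    exact ⟨⟨g, htop ▸ Subgroup.mem_top g⟩, rfl⟩
  · haveI : H.Normal := Subgroup.normal_of_index_eq_two h2
    have hq : Group.IsSolvable (G ⧸ H) := by
      have hc : Nat.card (G ⧸ H) = 2 := by rw [← Subgroup.index_eq_card]; exact h2
      haveI : Fact (Nat.Prime 2) := ⟨Nat.prime_two⟩
      haveI : IsCyclic (G ⧸ H) := isCyclic_of_prime_card hc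
      exact Group.isSolvable_of_comm (fun a b => (IsCyclic.commGroup (α := G ⧸ H)).mul_comm a b)
    exact (Group.isSolvable_iff_subgroup_quotient H).2 ⟨hH, hq⟩

end Cfsg.Agent.Helper20.A3
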