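import Mathlib
import Cfsg.Agent.Lib.Helper20.A3Defs

set_option autoImplicit false
set_option linter.unusedSectionVars false
set_option linter.unusedVariables false

/-!
S3117 piece COMM (helper7 for helper20).
-/

namespace Cfsg.Agent.Helper20.A3

/-- **A3-COMM.** Automorphisms that are trivial on an abelian subgroup `N` and on `G/N`
(`x⁻¹ α(x) ∈ N`) commute. -/
theorem comm_of_stab {G : Type*} [Group G] (N : Subgroup G)
    (hN : ∀ a ∈ N, ∀ b ∈ N, a * b = b * a) (α β : MulAut G)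
    (hα1 : ∀ n ∈ N, α n = n) (hα2 : ∀ x, x⁻¹ * α x ∈ N)
    (hβ1 : ∀ n ∈ N, β n = n) (hβ2 : ∀ x, x⁻¹ * β x ∈ N) : α * β = β * α := by
  ext x
  show α (β x) = β (α x)
  have ha : α x = x * (x⁻¹ * α x) := by group
  have hb : β x = x * (x⁻¹ * β x) := by group
  have e1 : α (β x) = x * (x⁻¹ * α x) * (x⁻¹ * β x) := by
    conv_lhs => rw [hb]
    rw [map_mul, hα1 _ (hβ2 x)]
    conv_lhs => rw [ha]
  have e2 : β (α x) = x * (x⁻¹ * β x) * (x⁻¹ * α x) := by
    conv_lhs => rw [ha]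
    rw [map_mul, hβ1 _ (hα2 x)]
    conv_lhs => rw [hb]
  rw [e1, e2, mul_assoc x (x⁻¹ * α x) (x⁻¹ * β x), mul_assoc x (x⁻¹ * β x) (x⁻¹ * α x),
    hN _ (hα2 x) _ (hβ2 x)]

end Cfsg.Agent.Helper20.A3
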