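import Mathlib
import Cfsg.Agent.Lib.Helper20.A3Defs
import Cfsg.Agent.Lib.Helper12.Small60

set_option autoImplicit false
set_option linter.unusedSectionVars false
set_option linter.unusedVariables false

/-!
S3117 piece SMALL (helper7 for helper20).
-/

namespace Cfsg.Agent.Helper20.A3

/-- **A3-SMALL.** The automorphism group of a group of order at most `4` is solvable. -/
theorem solv_mulAut_of_card_le_four {W : Type*} [Group W] [Finite W] (h : Nat.card W ≤ 4) :
    Group.IsSolvable (MulAut W) := by
  have hinj : Function.Injective (fun g : MulAut W => (g.toEquiv : Equiv.Perm W)) := by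
    intro a b hab
    apply MulEquiv.ext
    intro x
    exact congrArg (fun e : Equiv.Perm W => e x) hab
  have h1 : Nat.card (MulAut W) ≤ Nat.card (Equiv.Perm W) :=
    Nat.card_le_card_of_injective _ hinj
  have h2 : Nat.card (Equiv.Perm W) = (Nat.card W).factorial := Nat.card_perm
  have h3 : (Nat.card W).factorial ≤ (4 : ℕ).factorial := Nat.factorial_le h
  have h4 : (4 : ℕ).factorial = 24 := by decide
  have hlt : Nat.card (MulAut W) < 60 := by omega
  exact Cfsg.Agent.Helper12.Small60.isSolvable_of_card_lt (Nat.card (MulAut W)) (MulAut W) rfl hlt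

end Cfsg.Agent.Helper20.A3
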