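import Mathlib
import Cfsg.Agent.Lib.Helper20.A3Defs
import Cfsg.Agent.Lib.Helper7.A3COMM
import Cfsg.Agent.Lib.Helper7.A3SMALL

set_option autoImplicit false
set_option linter.unusedSectionVars false
set_option linter.unusedVariables false

/-!
S3117 piece INV (helper7 for helper20).
-/

namespace Cfsg.Agent.Helper20.A3

section Abs

variable {W U : Type*} [Group W] [Group U] [Finite W] [Finite U]

/-- the image of an invariant subgroup -/
theorem inv_map_eq (R : Subgroup (MulAut W)) (N : Subgroup W)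
    (hN : ∀ g ∈ R, ∀ n ∈ N, g n ∈ N) (g : MulAut W) (hg : g ∈ R) :
    N.map (g : W ≃* W).toMonoidHom = N := by
  ext x
  constructor
  · rintro ⟨n, hn, rfl⟩
    exact hN g hg n hn
  · intro hx
    refine ⟨g⁻¹ x, hN g⁻¹ (R.inv_mem hg) x hx, ?_⟩
    show g (g⁻¹ x) = x
    exact MulEquiv.apply_symm_apply g x

/-- restriction to the invariant subgroup -/
noncomputable def invRes (R : Subgroup (MulAut W)) (N : Subgroup W)
    (hN : ∀ g ∈ R, ∀ n ∈ N, g n ∈ N) : ↥R →* MulAut ↥N where
  toFun g := ((g : MulAut W).subgroupMap N).trans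
    (MulEquiv.subgroupCongr (inv_map_eq R N hN g.1 g.2))
  map_one' := by
    apply MulEquiv.ext
    intro n
    apply Subtype.ext
    rfl
  map_mul' a b := by
    apply MulEquiv.ext
    intro n
    apply Subtype.ext
    rfl

theorem invRes_coe (R : Subgroup (MulAut W)) (N : Subgroup W)
    (hN : ∀ g ∈ R, ∀ n ∈ N, g n ∈ N) (g : ↥R) (n : ↥N) :
    ((invRes R N hN g n : ↥N) : W) = (g : MulAut W) (n : W) := rfl

/-- the induced action on the quotient -/
noncomputable def invQuot (R : Subgroup (MulAut W)) (N : Subgroup W) [N.Normal]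
    (hN : ∀ g ∈ R, ∀ n ∈ N, g n ∈ N) : ↥R →* MulAut (W ⧸ N) where
  toFun g := QuotientGroup.congr N N (g : MulAut W) (inv_map_eq R N hN g.1 g.2)
  map_one' := by
    apply MulEquiv.ext
    intro q
    induction q using QuotientGroup.induction_on with
    | H x => rfl
  map_mul' a b := by
    apply MulEquiv.ext
    intro q
    induction q using QuotientGroup.induction_on with
    | H x => rfl

theorem invQuot_mk (R : Subgroup (MulAut W)) (N : Subgroup W) [N.Normal]
    (hN : ∀ g ∈ R, ∀ n ∈ N, g n ∈ N) (g : ↥R) (x : W) :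
    invQuot R N hN g (x : W ⧸ N) = (((g : MulAut W) x : W) : W ⧸ N) := rfl

/-- **A3-INV.** A group of automorphisms of an elementary abelian `2`-group stabilising a
subgroup `N` with `#N ≤ 4` and `[W:N] ≤ 4` is solvable. -/
theorem solv_of_inv (hW : ∀ w : W, w * w = 1) (R : Subgroup (MulAut W)) (N : Subgroup W)
    (hN : ∀ g ∈ R, ∀ n ∈ N, g n ∈ N) (h1 : Nat.card N ≤ 4) (h2 : N.index ≤ 4) :
    Group.IsSolvable R := by
  -- `W` is abelian
  have hinv : ∀ w : W, w⁻¹ = w := fun w => inv_eq_of_mul_eq_one_left (hW w)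
  have hcomm : ∀ a b : W, a * b = b * a := by
    intro a b
    have h := hW (a * b)
    have e : a * b = (a * b)⁻¹ := (hinv (a * b)).symm
    rw [e, mul_inv_rev, hinv, hinv]
  haveI hNn : N.Normal := ⟨fun n hn g => by
    rw [hcomm g n, mul_assoc, mul_inv_cancel, mul_one]; exact hn⟩
  have hs1 : Group.IsSolvable (MulAut ↥N) := solv_mulAut_of_card_le_four h1
  have hs2 : Group.IsSolvable (MulAut (W ⧸ N)) := by
    apply solv_mulAut_of_card_le_four
    rw [← Subgroup.index_eq_card]
    exact h2
  let Φ : ↥R →* MulAut ↥N × MulAut (W ⧸ N) := (invRes R N hN).prod (invQuot R N hN)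
  have hker : Group.IsSolvable ↥Φ.ker := by
    apply Group.isSolvable_of_comm
    intro a b
    have ha : Φ a.1 = 1 := a.2
    have hb : Φ b.1 = 1 := b.2
    have ha1 : invRes R N hN a.1 = 1 := congrArg Prod.fst ha
    have ha2 : invQuot R N hN a.1 = 1 := congrArg Prod.snd ha
    have hb1 : invRes R N hN b.1 = 1 := congrArg Prod.fst hb
    have hb2 : invQuot R N hN b.1 = 1 := congrArg Prod.snd hb
    have fix : ∀ c : ↥R, invRes R N hN c = 1 → ∀ n ∈ N, (c : MulAut W) n = n := by
      intro c hc n hn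
      have := congrArg (fun e : MulAut ↥N => ((e ⟨n, hn⟩ : ↥N) : W)) hc
      simpa [invRes_coe] using this
    have quo : ∀ c : ↥R, invQuot R N hN c = 1 → ∀ x : W, x⁻¹ * (c : MulAut W) x ∈ N := by
      intro c hc x
      have := congrArg (fun e : MulAut (W ⧸ N) => e (x : W ⧸ N)) hc
      simp only [invQuot_mk, MulAut.one_apply] at this
      exact QuotientGroup.eq.1 this.symm
    have hcm := comm_of_stab N (fun a _ b _ => hcomm a b) (a.1 : MulAut W) (b.1 : MulAut W)
      (fix a.1 ha1) (quo a.1 ha2) (fix b.1 hb1) (quo b.1 hb2)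
    apply Subtype.ext
    apply Subtype.ext
    exact hcm
  exact Group.isSolvable_of_ker_le_range Φ.ker.subtype Φ (by rw [Subgroup.range_subtype])

end Abs

end Cfsg.Agent.Helper20.A3
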