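import Mathlib
import Cfsg.Agent.S0111

/-!
# S0508 piece NCOMP (helper7 for helper27): normal `2`-complement

`C` finite, Sylow `2`-subgroup `S` with a cyclic subgroup `S0` of index two containing a central
involution `t`, all elements of `S \ S0` involutions.  Then `C` has a normal `2`-complement.

Proof: let `N` be the intersection of all normal subgroups of index two.  By Thompson transfer
(S0111) no element of `S \ S0` lies in `N` (it cannot be conjugate into `S0`, whose only
involution is the central `t`), so the Sylow `2`-subgroups of `N` are cyclic and Mathlib's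
`IsCyclic.isComplement'` gives a normal `2`-complement `K` of `N`; it consists of the elements of
odd order of `N`, hence is normal in `C`, and `C / N` is a `2`-group.
-/

set_option autoImplicit false
set_option linter.unusedVariables false
set_option linter.unusedSectionVars false

namespace Cfsg.Agent.Helper27.GWB

universe u

namespace NCOMP

/-- A finite cyclic group has at most one involution. -/
theorem invol_unique {T : Type*} [Group T] [Finite T] [IsCyclic T] {x y : T}
    (hx : orderOf x = 2) (hy : orderOf y = 2) : x = y := by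
  classical
  have := Fintype.ofFinite T
  by_contra hxy
  have h1 : x ≠ 1 := by
    intro h; rw [h, orderOf_one] at hx; norm_num at hx
  have h2 : y ≠ 1 := by
    intro h; rw [h, orderOf_one] at hy; norm_num at hy
  have hle := IsCyclic.card_pow_eq_one_le (α := T) (n := 2) two_pos
  have hsub : ({1, x, y} : Finset T) ⊆ Finset.univ.filter (fun a : T => a ^ 2 = 1) := by
    intro a ha
    simp only [Finset.mem_insert, Finset.mem_singleton] at ha
    rw [Finset.mem_filter]
    refine ⟨Finset.mem_univ _, ?_⟩
    rcases ha with rfl | rfl | rfl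
    · simp
    · rw [← hx]; exact pow_orderOf_eq_one _
    · rw [← hy]; exact pow_orderOf_eq_one _
  have hcard : ({1, x, y} : Finset T).card = 3 := by
    rw [Finset.card_insert_of_notMem, Finset.card_insert_of_notMem, Finset.card_singleton]
    · simpa using hxy
    · simp only [Finset.mem_insert, Finset.mem_singleton, not_or]
      exact ⟨Ne.symm h1, Ne.symm h2⟩
  have := Finset.card_le_card hsub
  omega

/-- An element of odd order killed by a power of two is trivial. -/
theorem eq_one_of_odd_of_two_pow {T : Type*} [Group T] {x : T} (h1 : Odd (orderOf x))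
    {k : ℕ} (h2 : x ^ 2 ^ k = 1) : x = 1 := by
  have hd : orderOf x ∣ 2 ^ k := orderOf_dvd_of_pow_eq_one h2
  have hc : Nat.Coprime (orderOf x) (2 ^ k) :=
    Nat.Coprime.pow_right _ (Nat.coprime_two_right.2 h1)
  have := Nat.Coprime.eq_one_of_dvd hc hd
  exact orderOf_eq_one_iff.1 this

/-- A subgroup of odd order and `2`-power index has index `|S|`. -/
theorem index_eq_card_sylow {C : Type*} [Group C] [Finite C] (S : Sylow 2 C) (W : Subgroup C)
    (hW : Odd (Nat.card W)) (b : ℕ) (hb : W.index = 2 ^ b) :
    W.index = Nat.card (S : Subgroup C) := by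
  have hF : Fact (Nat.Prime 2) := ⟨Nat.prime_two⟩
  obtain ⟨k, hk⟩ := IsPGroup.iff_card.1 S.isPGroup'
  have h1 : Nat.card W * W.index = Nat.card C := W.card_mul_index
  have h2 : Nat.card (S : Subgroup C) * (S : Subgroup C).index = Nat.card C :=
    (S : Subgroup C).card_mul_index
  have h3 : ¬ 2 ∣ (S : Subgroup C).index := S.not_dvd_index
  have hcop1 : Nat.Coprime (2 ^ b) (S : Subgroup C).index :=
    Nat.Coprime.pow_left _ ((Nat.Prime.coprime_iff_not_dvd Nat.prime_two).2 h3)
  have hcop2 : Nat.Coprime (2 ^ k) (Nat.card W) :=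
    Nat.Coprime.pow_left _ (Nat.coprime_two_left.2 hW)
  have hd1 : 2 ^ b ∣ 2 ^ k := by
    have : 2 ^ b ∣ 2 ^ k * (S : Subgroup C).index := by
      rw [← hk, h2, ← h1, hb]; exact dvd_mul_left _ _
    exact hcop1.dvd_of_dvd_mul_right this
  have hd2 : 2 ^ k ∣ 2 ^ b := by
    have : 2 ^ k ∣ Nat.card W * 2 ^ b := by
      rw [← hb, h1, ← h2, hk]; exact dvd_mul_right _ _
    exact hcop2.dvd_of_dvd_mul_left this
  rw [hb, hk]
  exact Nat.dvd_antisymm hd1 hd2

end NCOMP

open NCOMP in
/-- PIECE NCOMP. -/
theorem exists_normal_two_complement {C : Type u} [Group C] [Finite C] (S : Sylow 2 C)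
    (S0 : Subgroup C) (hle : S0 ≤ (S : Subgroup C)) (hc : IsCyclic S0)
    (hi : S0.relIndex (S : Subgroup C) = 2)
    (t : C) (ht : orderOf t = 2) (htS0 : t ∈ S0) (htZ : ∀ c : C, c * t = t * c)
    (hinv : ∀ s ∈ (S : Subgroup C), s ∉ S0 → orderOf s = 2) :
    ∃ W : Subgroup C, W.Normal ∧ Odd (Nat.card W) ∧ W.index = Nat.card (S : Subgroup C) := by
  classical
  have hF : Fact (Nat.Prime 2) := ⟨Nat.prime_two⟩
  have : IsCyclic ↥S0 := hc
  -- the intersection of all normal subgroups of index two
  let N : Subgroup C := ⨅ M : {M : Subgroup C // M.Normal ∧ M.index = 2}, M.1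
  have hNn : N.Normal := Subgroup.normal_iInf_normal (fun M => M.2.1)
  have hsq : ∀ x : C, x ^ 2 ∈ N := by
    intro x
    rw [Subgroup.mem_iInf]
    intro M
    exact Subgroup.sq_mem_of_index_two M.2.2 x
  -- the index of `N` is a power of two
  have hNidx : ∃ a : ℕ, N.index = 2 ^ a := by
    have hp : IsPGroup 2 (C ⧸ N) := by
      intro q
      induction q using QuotientGroup.induction_on with
      | H x =>
        refine ⟨1, ?_⟩
        rw [pow_one, ← QuotientGroup.mk_pow, QuotientGroup.eq_one_iff]
        exact hsq x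
    obtain ⟨a, ha⟩ := IsPGroup.iff_card.1 hp
    exact ⟨a, by rw [Subgroup.index_eq_card]; exact ha⟩
  -- elements of `S` in `N` lie in `S0`
  have hNS : ∀ s ∈ (S : Subgroup C), s ∈ N → s ∈ S0 := by
    intro s hsS hsN
    by_contra hs0
    have hs2 : orderOf s = 2 := hinv s hsS hs0
    rcases Cfsg.Agent.S0111.result S S0 hle hi s hs2 hsS hs0 with ⟨M, hM, hMi, hsM⟩ | ⟨g, hg⟩
    · apply hsM
      have := (Subgroup.mem_iInf.1 hsN) ⟨M, hM, hMi⟩
      exact this
    · have ho : orderOf (g * s * g⁻¹) = 2 := by
        have := orderOf_injective (MulAut.conj g).toMonoidHom (MulAut.conj g).injective s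
        rw [← hs2, ← this]
        rfl
      have ho' : orderOf (⟨g * s * g⁻¹, hg⟩ : ↥S0) = 2 := by
        rw [← ho]; exact (Subgroup.orderOf_mk _ hg)
      have ht' : orderOf (⟨t, htS0⟩ : ↥S0) = 2 := by
        rw [← ht]; exact (Subgroup.orderOf_mk _ htS0)
      have heq := invol_unique ho' ht'
      have heq' : g * s * g⁻¹ = t := congrArg Subtype.val heq
      have : s = t := by
        have h1 : s = g⁻¹ * (g * s * g⁻¹) * g := by group
        rw [h1, heq', mul_assoc, ← htZ g]
        group
      exact hs0 (this ▸ htS0)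
  obtain ⟨a, ha⟩ := hNidx
  by_cases h2N : 2 ∣ Nat.card N
  swap
  · -- `N` has odd order
    have hodd : Odd (Nat.card N) := by
      rw [← Nat.not_even_iff_odd, even_iff_two_dvd]; exact h2N
    exact ⟨N, hNn, hodd, index_eq_card_sylow S N hodd a ha⟩
  · -- a Sylow `2`-subgroup of `N` is cyclic
    let P : Sylow 2 ↥N := default
    have hPc : IsCyclic ↥(P : Subgroup ↥N) := by
      obtain ⟨Q, hQ⟩ := P.exists_comap_subtype_eq
      obtain ⟨g, hg⟩ := MulAction.exists_smul_eq C Q S
      -- conjugation by `g` maps `P` into `S0`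
      have hmem : ∀ x : ↥(P : Subgroup ↥N), g * ((x : ↥N) : C) * g⁻¹ ∈ S0 := by
        intro x
        have hxQ : ((x : ↥N) : C) ∈ (Q : Subgroup C) := by
          have hx : (x : ↥N) ∈ Subgroup.comap N.subtype (Q : Subgroup C) := by
            rw [hQ]; exact x.2
          exact Subgroup.mem_comap.1 hx
        have hxS : g * ((x : ↥N) : C) * g⁻¹ ∈ (S : Subgroup C) := by
          rw [← hg]
          rw [Sylow.smul_def]
          have := Subgroup.smul_mem_pointwise_smul ((x : ↥N) : C) (MulAut.conj g) (Q : Subgroup C) hxQ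
          simpa [Sylow.pointwise_smul_def, MulAut.smul_def, MulAut.conj_apply] using this
        exact hNS _ hxS (hNn.conj_mem _ (x : ↥N).2 g)
      let f : ↥(P : Subgroup ↥N) →* ↥S0 :=
        { toFun := fun x => ⟨g * ((x : ↥N) : C) * g⁻¹, hmem x⟩
          map_one' := by
            apply Subtype.ext
            simp
          map_mul' := by
            intro x y
            apply Subtype.ext
            simp only [Subgroup.coe_mul]
            group }
      have hf : Function.Injective f := by
        intro x y hxy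
        have h1 : g * ((x : ↥N) : C) * g⁻¹ = g * ((y : ↥N) : C) * g⁻¹ :=
          congrArg Subtype.val hxy
        have h2 : ((x : ↥N) : C) = ((y : ↥N) : C) := mul_left_cancel (mul_right_cancel h1)
        exact Subtype.ext (Subtype.ext h2)
      exact isCyclic_of_injective f hf
    have hp : (Nat.card ↥N).minFac = 2 := (Nat.minFac_eq_two_iff _).2 h2N
    have hNC := IsCyclic.normalizer_le_centralizer hp hPc
    have hcomp := IsCyclic.isComplement' hp hPc
    set V := MonoidHom.transferSylow P hNC with hV
    have hKidx : V.ker.index = Nat.card (P : Subgroup ↥N) := hcomp.symm.index_eq_card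
    have hKodd : Odd (Nat.card V.ker) := by
      rw [← Nat.not_even_iff_odd, even_iff_two_dvd]
      exact MonoidHom.not_dvd_card_ker_transferSylow P hNC
    obtain ⟨k, hk⟩ := IsPGroup.iff_card.1 P.isPGroup'
    refine ⟨V.ker.map N.subtype, ?_, ?_, ?_⟩
    · -- normal in `C`
      refine ⟨fun w hw c => ?_⟩
      obtain ⟨x, hx, rfl⟩ := Subgroup.mem_map.1 hw
      have hyN : c * (x : C) * c⁻¹ ∈ N := hNn.conj_mem _ x.2 c
      refine Subgroup.mem_map.2 ⟨⟨c * (x : C) * c⁻¹, hyN⟩, ?_, rfl⟩
      rw [MonoidHom.mem_ker]
      -- the order of `y` is odd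
      have hox : Odd (orderOf x) := by
        have hd : orderOf (⟨x, hx⟩ : ↥V.ker) ∣ Nat.card V.ker := orderOf_dvd_natCard _
        rw [Subgroup.orderOf_mk] at hd
        exact hKodd.of_dvd_nat hd
      have hoy : orderOf (⟨c * (x : C) * c⁻¹, hyN⟩ : ↥N) = orderOf x := by
        rw [← Subgroup.orderOf_coe, ← Subgroup.orderOf_coe]
        have := orderOf_injective (MulAut.conj c).toMonoidHom (MulAut.conj c).injective (x : C)
        rw [← this]
        rfl
      have hoV : Odd (orderOf (V ⟨c * (x : C) * c⁻¹, hyN⟩)) := by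
        have hd := orderOf_map_dvd V (⟨c * (x : C) * c⁻¹, hyN⟩ : ↥N)
        rw [hoy] at hd
        exact hox.of_dvd_nat hd
      obtain ⟨j, hj⟩ := (P.isPGroup' : IsPGroup 2 ↥(P : Subgroup ↥N)) (V ⟨c * (x : C) * c⁻¹, hyN⟩)
      exact eq_one_of_odd_of_two_pow hoV hj
    · rw [Subgroup.card_map_of_injective N.subtype_injective]
      exact hKodd
    · have hodd : Odd (Nat.card (V.ker.map N.subtype)) := by
        rw [Subgroup.card_map_of_injective N.subtype_injective]
        exact hKodd
      refine index_eq_card_sylow S _ hodd (k + a) ?_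
      rw [Subgroup.index_map_subtype, hKidx, hk, ha, pow_add]
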