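import Mathlib

/-!
# S0978 piece IDX8 (helper7): a simple group with a subgroup of index 8 has no element of order 21 or 35

`no_index_eight` with the exact signature of `plans/S0978_Skel.lean.txt`; auxiliary lemmas in
`Cfsg.Agent.Helper28.Ord5040.IDX8`.
-/

set_option autoImplicit false

namespace Cfsg.Agent.Helper28.Ord5040

namespace IDX8

/-- a prime dividing the lcm of a multiset divides one of its members -/
theorem exists_dvd_of_prime_dvd_lcm {p : ℕ} (hp : p.Prime) (m : Multiset ℕ) (h : p ∣ m.lcm) :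
    ∃ a ∈ m, p ∣ a := by
  induction m using Multiset.induction_on with
  | empty =>
    rw [Multiset.lcm_zero] at h
    exact absurd (Nat.dvd_one.1 h) hp.one_lt.ne'
  | cons a s ih =>
    rw [Multiset.lcm_cons] at h
    have h1 : p ∣ a * s.lcm := h.trans (lcm_dvd (dvd_mul_right _ _) (dvd_mul_left _ _))
    rcases (Nat.Prime.dvd_mul hp).1 h1 with h2 | h2
    · exact ⟨a, Multiset.mem_cons_self _ _, h2⟩
    · obtain ⟨b, hb, hpb⟩ := ih h2
      exact ⟨b, Multiset.mem_cons_of_mem hb, hpb⟩

/-- two distinct primes dividing the lcm of a multiset of positive numbers: their sum is at most the sum -/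
theorem add_le_sum {p q : ℕ} (hp : p.Prime) (hq : q.Prime) (hpq : p ≠ q) (m : Multiset ℕ)
    (hpos : ∀ a ∈ m, 0 < a) (h1 : p ∣ m.lcm) (h2 : q ∣ m.lcm) : p + q ≤ m.sum := by
  obtain ⟨a, ha, hpa⟩ := exists_dvd_of_prime_dvd_lcm hp m h1
  obtain ⟨b, hb, hqb⟩ := exists_dvd_of_prime_dvd_lcm hq m h2
  by_cases hab : a = b
  · subst hab
    have h3 : p * q ∣ a :=
      Nat.Coprime.mul_dvd_of_dvd_of_dvd ((Nat.coprime_primes hp hq).2 hpq) hpa hqb
    have h4 : p * q ≤ a := Nat.le_of_dvd (hpos a ha) h3
    have h5 : a ≤ m.sum := Multiset.le_sum_of_mem ha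
    have h6 : p + q ≤ p * q := by
      have := hp.two_le
      have := hq.two_le
      nlinarith
    omega
  · have h3 : b ∈ m.erase a := (Multiset.mem_erase_of_ne (Ne.symm hab)).2 hb
    have h4 : a + (m.erase a).sum = m.sum := Multiset.sum_erase ha
    have h5 : b ≤ (m.erase a).sum := Multiset.le_sum_of_mem h3
    have h6 : p ≤ a := Nat.le_of_dvd (hpos a ha) hpa
    have h7 : q ≤ b := Nat.le_of_dvd (hpos b hb) hqb
    omega

/-- a permutation of a set with eight elements does not have order 21 or 35 -/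
theorem perm_order {α : Type*} [Fintype α] [DecidableEq α] (hα : Fintype.card α = 8)
    (σ : Equiv.Perm α) (h : orderOf σ = 21 ∨ orderOf σ = 35) : False := by
  have hsum : σ.cycleType.sum ≤ 8 := by
    rw [Equiv.Perm.sum_cycleType, ← hα]
    exact Finset.card_le_univ _
  have hpos : ∀ a ∈ σ.cycleType, 0 < a := fun a ha =>
    lt_of_lt_of_le (by norm_num) (Equiv.Perm.two_le_of_mem_cycleType ha)
  have hl : σ.cycleType.lcm = orderOf σ := Equiv.Perm.lcm_cycleType σ
  rcases h with h | h
  · rw [h] at hl
    have := add_le_sum (p := 3) (q := 7) (by norm_num) (by norm_num) (by norm_num) _ hpos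
      (by rw [hl]; norm_num) (by rw [hl]; norm_num)
    omega
  · rw [h] at hl
    have := add_le_sum (p := 5) (q := 7) (by norm_num) (by norm_num) (by norm_num) _ hpos
      (by rw [hl]; norm_num) (by rw [hl]; norm_num)
    omega

end IDX8

theorem no_index_eight {G : Type*} [Group G] [Finite G] [IsSimpleGroup G]
    (hG : ∃ x y : G, x * y ≠ y * x) (H : Subgroup G) (hH : H.index = 8) (z : G)
    (hz : orderOf z = 21 ∨ orderOf z = 35) : False := by
  classical
  haveI : Fintype (G ⧸ H) := Fintype.ofFinite _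
  have hcard : Fintype.card (G ⧸ H) = 8 := by
    rw [← Nat.card_eq_fintype_card, ← Subgroup.index_eq_card, hH]
  have hker : (MulAction.toPermHom G (G ⧸ H)).ker = ⊥ := by
    rw [← Subgroup.normalCore_eq_ker]
    rcases (H.normalCore_normal).eq_bot_or_eq_top with h | h
    · exact h
    · exfalso
      have h1 : H = ⊤ := top_le_iff.1 (h ▸ H.normalCore_le)
      rw [h1, Subgroup.index_top] at hH
      omega
  have hinj : Function.Injective (MulAction.toPermHom G (G ⧸ H)) :=
    (MonoidHom.ker_eq_bot_iff _).1 hker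
  have hord : orderOf (MulAction.toPermHom G (G ⧸ H) z) = orderOf z := orderOf_injective _ hinj z
  exact IDX8.perm_order hcard (MulAction.toPermHom G (G ⧸ H) z) (by rw [hord]; exact hz)

end Cfsg.Agent.Helper28.Ord5040
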