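import Mathlib
import Cfsg.Agent.Lib.Helper25.OInvDefs
import Cfsg.Agent.Lib.Helper13.InvNAsmA
import Cfsg.Agent.Lib.Helper13.InvNTableH
import Cfsg.Agent.Lib.Helper6.ChevLSL2
import Cfsg.Agent.Lib.Helper15.InvNNACT

/-!
# OINV-S1 piece NCALC (helper7 for helper25): the calculus of the cosets `H n_w` (the six `InN` lemmas)
-/

set_option autoImplicit false
set_option linter.unusedSectionVars false
set_option linter.unusedVariables false

namespace Cfsg.Agent.Helper25.OInv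

open Cfsg Cfsg.Lie Cfsg.Agent.Lead.Chev Cfsg.Agent.Helper13.InvN Cfsg.Agent.Helper6.ChevL
  Cfsg.Agent.Helper6.SL2Hom Matrix

variable {F : Type*} [Field F] {D : ChevalleyDatum} (hF : ChevFacts D F)
include hF

/-- `n_β = n_c (n_i h₁) n_c⁻¹` with `h₁ ∈ H`, for `β = c α_i` (any characteristic) -/
theorem ncalc_nact_conj (c : List ℕ) (hc : WOK D c) (i : ℕ) (hi : i < D.rank) :
    ∃ h1 ∈ D.diagonalSubgroup F, nGL D hF.xadd (reflWord D c (D.simple i)) =
      nWordGL D hF.xadd c * (nGL D hF.xadd (D.simple i) * h1) * (nWordGL D hF.xadd c)⁻¹ := by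
  have hsl := hF.simple_lt i hi
  have h1 := nWordGL_conj_nGLt D hF.xadd (etaOf D) hF.nsimple c hc (D.simple i) hsl 1
  rw [← nGL_eq_nGLt] at h1
  rcases signWord_sq D (etaOf D) c (fun j hj s => (hF.nsimple j (hc j hj)).sign s) (D.simple i) with h2 | h2
  · refine ⟨1, one_mem _, ?_⟩
    rw [h2] at h1
    rw [mul_one, h1, nGL_eq_nGLt]
    simp
  · obtain ⟨h0, hh0, e0⟩ := nGL_inv_eq D hF.xadd (D.simple i) hsl
    refine ⟨h0, hh0, ?_⟩
    rw [h2] at h1
    have h3 : (nGL D hF.xadd (reflWord D c (D.simple i)))⁻¹ =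
        nWordGL D hF.xadd c * nGL D hF.xadd (D.simple i) * (nWordGL D hF.xadd c)⁻¹ := by
      rw [h1, nGL_eq_nGLt, nGLt_inv]
      simp
    have h4 := congrArg (fun x => x⁻¹) h3
    simp only [inv_inv] at h4
    rw [h4, ← e0]
    group

/-- NCALC (1) -/
theorem InN.of_diag (h : GL D.Idx F) (hh : h ∈ D.diagonalSubgroup F) : InN hF h [] := by
  refine ⟨h, hh, ?_⟩
  rw [nWordGL_nil, mul_one]

/-- NCALC (2) -/
theorem InN.nWord (w : List ℕ) : InN hF (nWordGL D hF.xadd w) w :=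
  ⟨1, one_mem _, (one_mul _).symm⟩

/-- NCALC (3) -/
theorem InN.mul {t t' : GL D.Idx F} {w w' : List ℕ} (hw : WOK D w) (hw' : WOK D w') (h : InN hF t w)
    (h' : InN hF t' w') : InN hF (t * t') (w ++ w') := by
  obtain ⟨k, hk, rfl⟩ := h
  obtain ⟨k', hk', rfl⟩ := h'
  have h1 := nWordGL_conj_mem_diagonal D hF.xadd (etaOf D) hF.nsimple w hw k' hk'
  refine ⟨k * (nWordGL D hF.xadd w * k' * (nWordGL D hF.xadd w)⁻¹), mul_mem hk h1, ?_⟩
  rw [nWordGL_append]
  group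

/-- NCALC (4) -/
theorem InN.inv {t : GL D.Idx F} {w : List ℕ} (hw : WOK D w) (h : InN hF t w) : InN hF t⁻¹ w.reverse := by
  obtain ⟨k, hk, rfl⟩ := h
  obtain ⟨k0, hk0, e0⟩ := nWordGL_inv D hF.xadd (etaOf D) hF.nsimple hF.simple_lt w hw
  have hrw : WOK D w.reverse := hw.reverse
  have h1 := nWordGL_conj_mem_diagonal D hF.xadd (etaOf D) hF.nsimple w.reverse hrw k⁻¹ (inv_mem hk)
  refine ⟨k0 * (nWordGL D hF.xadd w.reverse * k⁻¹ * (nWordGL D hF.xadd w.reverse)⁻¹), mul_mem hk0 h1, ?_⟩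
  rw [_root_.mul_inv_rev, e0]
  group

/-- NCALC (5): same action on the roots, same coset -/
theorem InN.congr {t : GL D.Idx F} {w w' : List ℕ} (hw : WOK D w) (hw' : WOK D w') (h : InN hF t w)
    (hact : ∀ r < D.nroots, reflWord D w r = reflWord D w' r) : InN hF t w' := by
  obtain ⟨k, hk, rfl⟩ := h
  have h1 := hF.nWordGL_inv_mul_mem_diagonal w' w hw' hw (fun r hr => (hact r hr).symm)
  have h2 := nWordGL_conj_mem_diagonal D hF.xadd (etaOf D) hF.nsimple w' hw' _ h1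
  refine ⟨k * (nWordGL D hF.xadd w' * ((nWordGL D hF.xadd w')⁻¹ * nWordGL D hF.xadd w) *
    (nWordGL D hF.xadd w')⁻¹), mul_mem hk h2, ?_⟩
  group

/-- NCALC (6) -/
theorem InN.nGL_froot (hS : CorSize D) (hI : CorInj D) (c : List ℕ) (hc : WOK D c) (i : ℕ) (hi : i < D.rank) :
    InN hF (nGL D hF.xadd (froot D (c, i))) (refWord c i) := by
  unfold froot refWord
  simp only
  obtain ⟨h1, hh1, e1⟩ := ncalc_nact_conj hF c hc i hi
  obtain ⟨k0, hk0, e0⟩ := nWordGL_inv D hF.xadd (etaOf D) hF.nsimple hF.simple_lt c hc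
  have hci : WOK D (c ++ [i]) := hc.snoc hi
  have hk : nWordGL D hF.xadd (c ++ [i]) * (h1 * k0) * (nWordGL D hF.xadd (c ++ [i]))⁻¹ ∈ D.diagonalSubgroup F :=
    nWordGL_conj_mem_diagonal D hF.xadd (etaOf D) hF.nsimple (c ++ [i]) hci _ (mul_mem hh1 hk0)
  refine ⟨_, hk, ?_⟩
  have hs : nWordGL D hF.xadd [i] = nGL D hF.xadd (D.simple i) := by
    rw [nWordGL_cons, nWordGL_nil, mul_one]
  rw [e1, e0, nWordGL_append D hF.xadd (c ++ [i]) c.reverse, nWordGL_append D hF.xadd c [i], hs]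
  group

end Cfsg.Agent.Helper25.OInv
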