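import Mathlib
import Cfsg.Prelude.Def_Local
import Cfsg.Prelude.Def_SolvableStructure
import Cfsg.Agent.Lib.Helper22.SchPLDefs
import Cfsg.Agent.Lib.Helper3.Schmidt3
import Cfsg.Agent.Lib.Helper9.Basic

/-!
# S4394, piece SCHA: a Schmidt group with nontrivial normal Sylow `p`-subgroup `P` induces a
"Schmidt action" on `P`.
-/

set_option autoImplicit false
open Pointwise

namespace Cfsg.Agent.Helper22.SchPL

open Cfsg

/-- In a finite group, an element conjugating a subgroup into itself normalizes it. -/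
theorem scha_mem_normalizer {X : Type*} [Group X] [Finite X] {A : Subgroup X} {x : X}
    (h : ∀ a ∈ A, x * a * x⁻¹ ∈ A) : x ∈ Subgroup.normalizer (A : Set X) := by
  apply Cfsg.Agent.Helper9.mem_normalizer_of_map_conj_eq_self
  apply Subgroup.eq_of_le_of_card_ge
  · rintro y ⟨a, ha, rfl⟩
    simpa [MulAut.conj_apply] using h a ha
  · rw [Cfsg.Agent.Helper9.card_map_conj]

/-- Piece SCHA. -/
theorem exists_schAct {X : Type*} [Group X] [Finite X] (p : ℕ) [Fact p.Prime]
    (hX : Cfsg.IsMinimalNonNilpotent X) (P : Sylow p X) (hPn : (P : Subgroup X).Normal)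
    (hP1 : (P : Subgroup X) ≠ ⊥) :
    ∃ (q : ℕ) (α : MulAut ↥(P : Subgroup X)), SchAct p q ↥(P : Subgroup X) α := by
  classical
  obtain ⟨p', q', hp', hq', hne, P', Q', hcyc, hQn, hsup⟩ :=
    Cfsg.Agent.Helper3.minimalNonNilpotent_structure hX.1 hX.2
  have : Fact p'.Prime := ⟨hp'⟩
  have : Fact q'.Prime := ⟨hq'⟩
  have hpp : Fact p.Prime := inferInstance
  -- cardinality of X
  have hdisj : Disjoint (P' : Subgroup X) (Q' : Subgroup X) :=
    IsPGroup.disjoint_of_ne p' q' hne _ _ P'.isPGroup' Q'.isPGroup'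
  have hcompl : Subgroup.IsComplement' (P' : Subgroup X) (Q' : Subgroup X) := by
    apply Subgroup.isComplement'_of_disjoint_and_mul_eq_univ hdisj
    have := hQn
    rw [← Subgroup.mul_normal, hsup, Subgroup.coe_top]
  have hcardX : Nat.card X = Nat.card (P' : Subgroup X) * Nat.card (Q' : Subgroup X) :=
    hcompl.card_mul_card.symm
  -- p = q'
  have hpq' : p = q' := by
    obtain ⟨k, hk⟩ := IsPGroup.iff_card.mp P.isPGroup'
    have hk0 : k ≠ 0 := by
      rintro rfl
      apply hP1
      rw [pow_zero] at hk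
      exact Subgroup.card_eq_one.mp hk
    have hpdvd : p ∣ Nat.card X := by
      have h1 : p ∣ Nat.card (P : Subgroup X) := by
        rw [hk]; exact dvd_pow_self p hk0
      exact h1.trans (Subgroup.card_subgroup_dvd_card _)
    obtain ⟨a, ha⟩ := IsPGroup.iff_card.mp P'.isPGroup'
    obtain ⟨b, hb⟩ := IsPGroup.iff_card.mp Q'.isPGroup'
    rw [hcardX, ha, hb] at hpdvd
    rcases (Nat.Prime.dvd_mul hpp.out).mp hpdvd with h | h
    · -- p = p' : then both Sylows normal, X nilpotent
      have hpp' : p = p' := (Nat.prime_dvd_prime_iff_eq hpp.out hp').mp (hpp.out.dvd_of_dvd_pow h)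
      exfalso
      subst hpp'
      have := Sylow.unique_of_normal P hPn
      have hPP' : P' = P := Subsingleton.elim _ _
      apply hX.1
      have := hPn
      have := hQn
      refine Cfsg.Agent.Helper3.isNilpotent_of_sup_eq_top (P : Subgroup X) (Q' : Subgroup X)
        P.isPGroup'.isNilpotent Q'.isPGroup'.isNilpotent ?_
      rw [← hPP']; exact hsup
    · exact (Nat.prime_dvd_prime_iff_eq hpp.out hq').mp (hpp.out.dvd_of_dvd_pow h)
  subst hpq'
  have := Sylow.unique_of_normal P hPn
  have hQP : Q' = P := Subsingleton.elim _ _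
  subst hQP
  have := hQn
  -- generator of P'
  obtain ⟨g, hg⟩ := hcyc.exists_generator
  set y : X := (g : X) with hy
  have hzy : Subgroup.zpowers y = (P' : Subgroup X) := by
    ext x
    constructor
    · intro hx
      obtain ⟨k, rfl⟩ := Subgroup.mem_zpowers_iff.mp hx
      exact (P' : Subgroup X).zpow_mem g.2 k
    · intro hx
      obtain ⟨k, hk⟩ := Subgroup.mem_zpowers_iff.mp (hg ⟨x, hx⟩)
      refine Subgroup.mem_zpowers_iff.mpr ⟨k, ?_⟩
      have := congrArg Subtype.val hk
      simpa using this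
  have hsup' : (Q' : Subgroup X) ⊔ Subgroup.zpowers y = ⊤ := by
    rw [hzy, sup_comm]; exact hsup
  have hyq : IsPGroup p' (Subgroup.zpowers y) := by rw [hzy]; exact P'.isPGroup'
  have hinf : ∀ x : X, x ∈ (Q' : Subgroup X) → x ∈ Subgroup.zpowers y → x = 1 := by
    intro x hx1 hx2
    rw [hzy] at hx2
    have := hdisj.le_bot (Subgroup.mem_inf.mpr ⟨hx2, hx1⟩)
    exact Subgroup.mem_bot.mp this
  -- key: for a subgroup `H' ≤ Q'` normalized by a subgroup `C ≤ zpowers y` with `H' ⊔ C ≠ ⊤`,
  -- elements commute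
  have key : ∀ (H' C : Subgroup X), H' ≤ (Q' : Subgroup X) → C ≤ Subgroup.zpowers y →
      H' ⊔ C ≠ ⊤ → ∀ a ∈ H', ∀ b ∈ C, a * b = b * a := by
    intro H' C hH' hC hne' a ha b hb
    exact Cfsg.Agent.Helper3.commute_of_sup_nilpotent (Ne.symm hne) H' C
      (Q'.isPGroup'.to_le hH') (hyq.to_le hC) (hX.2 _ hne') a ha b hb
  -- y ≠ 1
  have hy1 : y ≠ 1 := by
    intro h1
    apply hX.1
    have htop : (Q' : Subgroup X) = ⊤ := by
      rw [← hsup', h1, Subgroup.zpowers_one_eq_bot, sup_bot_eq]
    have : IsPGroup p X := by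
      have := Q'.isPGroup'
      rw [htop] at this
      exact IsPGroup.of_equiv this Subgroup.topEquiv
    exact this.isNilpotent
  refine ⟨p', MulAut.conjNormal y, ?_⟩
  refine ⟨hp', hne, ?_, ?_, ?_⟩
  · -- α ^ p' = 1
    rw [← map_pow]
    ext v
    rw [MulAut.conjNormal_apply, MulAut.one_apply]
    have hKne : (Q' : Subgroup X) ⊔ Subgroup.zpowers (y ^ p') ≠ ⊤ := by
      intro htop
      have hymem : y ∈ ((Q' : Subgroup X) ⊔ Subgroup.zpowers (y ^ p') : Subgroup X) := by
        rw [htop]; exact Subgroup.mem_top y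
      have hset : ((Q' : Subgroup X) ⊔ Subgroup.zpowers (y ^ p') : Subgroup X) =
          ((Q' : Subgroup X) ⊔ Subgroup.zpowers (y ^ p') : Subgroup X) := rfl
      have hcoe := Subgroup.normal_mul (Q' : Subgroup X) (Subgroup.zpowers (y ^ p'))
      have hymem' : y ∈ ((Q' : Subgroup X) : Set X) * (Subgroup.zpowers (y ^ p') : Set X) := by
        rw [← hcoe]; exact hymem
      obtain ⟨v', hv', c, hc, hvc⟩ := Set.mem_mul.mp hymem'
      obtain ⟨k, hk⟩ := Subgroup.mem_zpowers_iff.mp hc
      -- v' = y * c⁻¹ ∈ zpowers y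
      have hv'z : v' ∈ Subgroup.zpowers y := by
        have : v' = y * c⁻¹ := by rw [← hvc]; group
        rw [this]
        refine Subgroup.mul_mem _ (Subgroup.mem_zpowers y) (Subgroup.inv_mem _ ?_)
        rw [← hk]
        exact Subgroup.zpow_mem _ (Subgroup.pow_mem _ (Subgroup.mem_zpowers y) _) _
      have hv1 : v' = 1 := hinf v' hv' hv'z
      rw [hv1, one_mul] at hvc
      -- y = (y^p')^k
      have hyk : y ^ ((p' : ℤ) * k - 1) = 1 := by
        rw [zpow_sub, zpow_one, zpow_mul, zpow_natCast, hk, hvc]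
        group
      have hdvd : (orderOf y : ℤ) ∣ (p' : ℤ) * k - 1 := orderOf_dvd_iff_zpow_eq_one.mpr hyk
      obtain ⟨j, hj⟩ := (IsPGroup.iff_orderOf.mp hyq) ⟨y, Subgroup.mem_zpowers y⟩
      rw [Subgroup.orderOf_mk] at hj
      have hj0 : j ≠ 0 := by
        rintro rfl
        rw [pow_zero] at hj
        exact hy1 (orderOf_eq_one_iff.mp hj)
      have hp'dvd : (p' : ℤ) ∣ (orderOf y : ℤ) := by
        rw [hj]; exact_mod_cast dvd_pow_self p' hj0
      have h2 : (p' : ℤ) ∣ (p' : ℤ) * k - 1 := hp'dvd.trans hdvd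
      have h3 : (p' : ℤ) ∣ 1 := by
        have h4 : (p' : ℤ) ∣ (p' : ℤ) * k := dvd_mul_right _ _
        have := dvd_sub h4 h2
        simpa using this
      have h5 : p' ∣ 1 := by exact_mod_cast h3
      exact hp'.one_lt.ne' (Nat.dvd_one.mp h5)
    have hcomm := key (Q' : Subgroup X) (Subgroup.zpowers (y ^ p')) le_rfl
      (by
        rw [Subgroup.zpowers_le]
        exact Subgroup.pow_mem _ (Subgroup.mem_zpowers y) _)
      hKne (v : X) v.2 (y ^ p') (Subgroup.mem_zpowers _)
    rw [← hcomm]; group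
  · -- α ≠ 1
    intro hα
    apply hX.1
    have hcent : ∀ v ∈ (Q' : Subgroup X), y * v = v * y := by
      intro v hv
      have := congrArg (fun f : MulAut ↥(Q' : Subgroup X) => ((f ⟨v, hv⟩ : ↥(Q' : Subgroup X)) : X)) hα
      simp only [MulAut.conjNormal_apply, MulAut.one_apply] at this
      calc y * v = y * v * y⁻¹ * y := by group
        _ = v * y := by rw [this]
    -- zpowers y is normal
    have hnorm : (Subgroup.zpowers y).Normal := by
      rw [← Subgroup.normalizer_eq_top_iff, eq_top_iff, ← hsup']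
      apply sup_le
      · intro v hv
        apply scha_mem_normalizer
        intro a ha
        obtain ⟨k, rfl⟩ := Subgroup.mem_zpowers_iff.mp ha
        have hc : Commute v (y ^ k) := (Commute.zpow_right (hcent v hv).symm k)
        have : v * y ^ k * v⁻¹ = y ^ k := by
          rw [hc.eq]; group
        rw [this]; exact Subgroup.zpow_mem _ (Subgroup.mem_zpowers y) k
      · exact Subgroup.le_normalizer
    have := hnorm
    exact Cfsg.Agent.Helper3.isNilpotent_of_sup_eq_top (Q' : Subgroup X) (Subgroup.zpowers y)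
      Q'.isPGroup'.isNilpotent hyq.isNilpotent hsup'
  · -- fixed pointwise
    intro H hH hinv h hh
    set H' : Subgroup X := H.map (Q' : Subgroup X).subtype with hH'
    have hH'le : H' ≤ (Q' : Subgroup X) := Subgroup.map_subtype_le H
    have hynorm : Subgroup.zpowers y ≤ Subgroup.normalizer (H' : Set X) := by
      rw [Subgroup.zpowers_le]
      apply scha_mem_normalizer
      rintro a ⟨a', ha', rfl⟩
      refine ⟨MulAut.conjNormal y a', hinv a' ha', ?_⟩
      simp [MulAut.conjNormal_apply]
    have hKne : H' ⊔ Subgroup.zpowers y ≠ ⊤ := by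
      intro htop
      obtain ⟨v, hv⟩ : ∃ v : ↥(Q' : Subgroup X), v ∉ H := by
        by_contra hcon
        push Not at hcon
        exact hH (eq_top_iff.mpr fun v _ => hcon v)
      have hvmem : (v : X) ∈ (Subgroup.zpowers y ⊔ H' : Subgroup X) := by
        rw [sup_comm, htop]; exact Subgroup.mem_top _
      have hcoe := Subgroup.coe_mul_of_left_le_normalizer_right (Subgroup.zpowers y) H' hynorm
      have hvmem' : (v : X) ∈ (Subgroup.zpowers y : Set X) * (H' : Set X) := by
        rw [← hcoe]; exact hvmem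
      obtain ⟨c, hc, h', hh', hch⟩ := Set.mem_mul.mp hvmem'
      have hcQ : c ∈ (Q' : Subgroup X) := by
        have : c = (v : X) * h'⁻¹ := by rw [← hch]; group
        rw [this]
        exact Subgroup.mul_mem _ v.2 (Subgroup.inv_mem _ (hH'le hh'))
      have hc1 : c = 1 := hinf c hcQ hc
      rw [hc1, one_mul] at hch
      obtain ⟨h'', hh'', hh''e⟩ := hh'
      apply hv
      have : h'' = v := Subtype.ext (by rw [← hch, ← hh''e]; rfl)
      rw [← this]; exact hh''
    have hcomm := key H' (Subgroup.zpowers y) hH'le le_rfl hKne (h : X) ⟨h, hh, rfl⟩ y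
      (Subgroup.mem_zpowers y)
    apply Subtype.ext
    rw [MulAut.conjNormal_apply, ← hcomm]; group

end Cfsg.Agent.Helper22.SchPL
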