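import Mathlib
import Cfsg.Prelude.Def_Transfer
import Cfsg.Agent.Lib.Helper20.SchDefs
import Cfsg.Agent.Lib.Helper22.SchPLDefs

/-!
# S4395 piece SCH-THETA, core (helper7)

The module isomorphism at the level of `X ⧸ N`, `N = derSub P`, with the conclusions of SCH-DER
(`derSub_facts`) and SCH-MODSUB (`exists_module_iso`, for `W = X ⧸ N`) as hypotheses.
-/

set_option autoImplicit false

namespace Cfsg.Agent.Helper20.Sch

open Cfsg.Agent.Helper22.SchPL (SchAct)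

universe u

variable {p q : ℕ}

/-- SCH-THETA, core. -/
theorem exists_theta_core {X : Type*} [Group X] [Finite X] (P : Subgroup X) [P.Normal] (y : X)
    (hyq : y ^ q ∈ Subgroup.center X)
    (N : Subgroup X) [N.Normal] (hN : N = derSub P)
    (F : Type*) [Field F] [Finite F] (μ : F)
    (hder : derSub P ≤ P ∧
      (∀ u ∈ P, u ^ p ∈ derSub P) ∧
      (∀ u ∈ P, ∀ v ∈ P, u * v * u⁻¹ * v⁻¹ ∈ derSub P) ∧
      (∀ H : Subgroup X, derSub P ≤ H → H ≤ P → H ≠ P → (∀ x ∈ H, y * x * y⁻¹ ∈ H) →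
        H = derSub P) ∧
      (∃ u ∈ P, u⁻¹ * (y * u * y⁻¹) ∉ derSub P))
    (hmod : ∀ (A : Subgroup (X ⧸ N)) (w : X ⧸ N),
      (∀ x ∈ A, ∀ y ∈ A, x * y = y * x) → (∀ x ∈ A, x ^ p = 1) →
      (∀ x ∈ A, w * x * w⁻¹ ∈ A) → (∀ x ∈ A, w ^ q * x * (w ^ q)⁻¹ = x) →
      (∃ x ∈ A, w * x * w⁻¹ ≠ x) →
      (∀ H : Subgroup (X ⧸ N), H ≤ A → (∀ x ∈ H, w * x * w⁻¹ ∈ H) → H = ⊥ ∨ H = A) →
      ∃ j : ℕ, j.Coprime q ∧ ∃ θ : Multiplicative F →* X ⧸ N, Function.Injective θ ∧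
        θ.range = A ∧
        ∀ x : F, θ (Multiplicative.ofAdd (μ * x)) =
          w ^ j * θ (Multiplicative.ofAdd x) * (w ^ j)⁻¹) :
    ∃ j : ℕ, j.Coprime q ∧ ∃ θ : Multiplicative F →* X ⧸ N, Function.Injective θ ∧
      θ.range = P.map (QuotientGroup.mk' N) ∧
      ∀ x : F, θ (Multiplicative.ofAdd (μ * x)) =
        (QuotientGroup.mk' N (y ^ j)) * θ (Multiplicative.ofAdd x) *
          (QuotientGroup.mk' N (y ^ j))⁻¹ := by
  obtain ⟨hNP, hpow, hcomm, hmin, u₀, hu₀P, hu₀⟩ := hder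
  rw [← hN] at hNP hpow hcomm hmin hu₀
  have hmk : ∀ x : X, QuotientGroup.mk' N x = (x : X ⧸ N) := fun _ => rfl
  have key := hmod (P.map (QuotientGroup.mk' N)) (QuotientGroup.mk' N y) ?_ ?_ ?_ ?_ ?_ ?_
  · obtain ⟨j, hj, θ, hθi, hθr, hθy⟩ := key
    refine ⟨j, hj, θ, hθi, hθr, ?_⟩
    intro x
    rw [hθy x, map_pow]
  · -- commutative
    rintro _ ⟨u, hu, rfl⟩ _ ⟨v, hv, rfl⟩
    rw [← map_mul, ← map_mul, hmk, hmk, QuotientGroup.eq]
    have h := hcomm v⁻¹ (P.inv_mem hv) u⁻¹ (P.inv_mem hu)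
    have e : (u * v)⁻¹ * (v * u) = v⁻¹ * u⁻¹ * v⁻¹⁻¹ * u⁻¹⁻¹ := by group
    rw [e]
    exact h
  · -- exponent p
    rintro _ ⟨u, hu, rfl⟩
    rw [← map_pow, hmk, QuotientGroup.eq_one_iff]
    exact hpow u hu
  · -- invariant
    rintro _ ⟨u, hu, rfl⟩
    refine ⟨y * u * y⁻¹, ?_, ?_⟩
    · exact Subgroup.Normal.conj_mem inferInstance u hu y
    · rw [map_mul, map_mul, map_inv]
  · -- `w ^ q` acts trivially
    rintro _ ⟨u, hu, rfl⟩
    rw [← map_pow, ← map_inv, ← map_mul, ← map_mul]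
    congr 1
    have h := Subgroup.mem_center_iff.1 hyq u
    rw [← h]
    group
  · -- nontrivial action
    refine ⟨QuotientGroup.mk' N u₀, ⟨u₀, hu₀P, rfl⟩, ?_⟩
    intro e
    apply hu₀
    rw [← map_inv, ← map_mul, ← map_mul, hmk, hmk, eq_comm, QuotientGroup.eq] at e
    exact e
  · -- irreducible
    intro H hHA hHw
    by_cases hH : H.comap (QuotientGroup.mk' N) = P
    · right
      rw [← hH, Subgroup.map_comap_eq_self_of_surjective (QuotientGroup.mk'_surjective N)]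
    · left
      have h1 : N ≤ H.comap (QuotientGroup.mk' N) := by
        intro x hx
        rw [Subgroup.mem_comap, hmk, (QuotientGroup.eq_one_iff x).2 hx]
        exact H.one_mem
      have h2 : H.comap (QuotientGroup.mk' N) ≤ P := by
        intro x hx
        rw [Subgroup.mem_comap] at hx
        obtain ⟨u, hu, hux⟩ := hHA hx
        rw [hmk, hmk, QuotientGroup.eq] at hux
        have : x = u * (u⁻¹ * x) := by group
        rw [this]
        exact P.mul_mem hu (hNP hux)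
      have h3 : ∀ x ∈ H.comap (QuotientGroup.mk' N), y * x * y⁻¹ ∈ H.comap (QuotientGroup.mk' N) := by
        intro x hx
        rw [Subgroup.mem_comap] at hx ⊢
        rw [map_mul, map_mul, map_inv]
        exact hHw _ hx
      have h4 := hmin _ h1 h2 hH h3
      rw [← Subgroup.map_comap_eq_self_of_surjective (QuotientGroup.mk'_surjective N) H, h4]
      rw [eq_bot_iff]
      rintro _ ⟨x, hx, rfl⟩
      rw [Subgroup.mem_bot, hmk, QuotientGroup.eq_one_iff]
      exact hx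

end Cfsg.Agent.Helper20.Sch
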