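import Mathlib
import Cfsg.Prelude.Def_Transfer
import Cfsg.Agent.Lib.Helper20.SchDefs
import Cfsg.Agent.Lib.Helper22.SchPLDefs
import Cfsg.Agent.Lib.Helper7.SchTHETACore
import Cfsg.Agent.Lib.Helper4.SchDER
import Cfsg.Agent.Lib.Helper8.SchMODSUB

/-!
# S4395 piece SCH-THETA (helper7): the module isomorphism at the level of `X ⧸ N`, `N = derSub P`
(from SCH-DER `derSub_facts` and SCH-MODSUB `exists_module_iso` via `exists_theta_core`).
-/

set_option autoImplicit false

namespace Cfsg.Agent.Helper20.Sch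

open Cfsg.Agent.Helper22.SchPL (SchAct)

universe u

variable {p q : ℕ} [Fact p.Prime] [Fact q.Prime]

section structure_

/-- SCH-THETA : the module isomorphism at the level of `X ⧸ N`, `N = derSub P`. -/
theorem exists_theta {X : Type*} [Group X] [Finite X] (hpq : p ≠ q) {a : ℕ}
    (ha : a = orderOf (p : ZMod q)) (P : Subgroup X) [P.Normal] (y : X)
    (hPp : IsPGroup p P) (hsup : P ⊔ Subgroup.zpowers y = ⊤) (hyq : y ^ q ∈ Subgroup.center X)
    (hact : SchAct p q ↥P (MulAut.conjNormal y))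
    (N : Subgroup X) [N.Normal] (hN : N = derSub P)
    (F : Type*) [Field F] [Finite F] (hF : Nat.card F = p ^ a) (μ : F) (hμ : orderOf μ = q) :
    ∃ j : ℕ, j.Coprime q ∧ ∃ θ : Multiplicative F →* X ⧸ N, Function.Injective θ ∧
      θ.range = P.map (QuotientGroup.mk' N) ∧
      ∀ x : F, θ (Multiplicative.ofAdd (μ * x)) =
        (QuotientGroup.mk' N (y ^ j)) * θ (Multiplicative.ofAdd x) *
          (QuotientGroup.mk' N (y ^ j))⁻¹ := by
  obtain ⟨_, _, h3, h4, h5, h6, h7, _⟩ := derSub_facts (p := p) (q := q) P y hPp hsup hact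
  exact exists_theta_core (p := p) (q := q) P y hyq N hN F μ ⟨h3, h4, h5, h6, h7⟩
    (fun A w hAcomm hAexp hwA hwq hne hirr =>
      exists_module_iso hpq ha A w hAcomm hAexp hwA hwq hne hirr F hF μ hμ)

end structure_

end Cfsg.Agent.Helper20.Sch
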