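import Mathlib

/-!
# S4150, piece SWAP (helper7, for helper2)

In a 2-transitive group of degree 13 containing an 11-cycle `g` fixing `a ≠ b`, some element
normalizing `⟨g⟩` swaps `a` and `b` (Sylow conjugacy in the two-point stabilizer).
-/

set_option autoImplicit false
set_option linter.style.haveILetI false
set_option linter.unusedVariables false

open Equiv Equiv.Perm MulAction Subgroup
open scoped Pointwise

namespace Cfsg.Agent.Helper2.AG

namespace SWAP

/-- the multiplicity of 11 in 13! is 1 -/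
theorem factorization_le_one (n : ℕ) (hn : n ∣ Nat.factorial 13) (h0 : n ≠ 0) (h11 : 11 ∣ n) :
    n.factorization 11 = 1 := by
  have h1 : n.factorization 11 ≤ (Nat.factorial 13).factorization 11 :=
    (Nat.factorization_le_iff_dvd h0 (Nat.factorial_ne_zero 13)).2 hn 11
  have h2 : (Nat.factorial 13).factorization 11 = 1 := by
    have e : Nat.factorial 13 = 11 * 566092800 := by decide
    rw [e, Nat.factorization_mul (by norm_num) (by norm_num)]
    have h3 : (11 : ℕ).factorization 11 = 1 := Nat.Prime.factorization_self (by norm_num)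
    have h4 : (566092800 : ℕ).factorization 11 = 0 := by
      apply Nat.factorization_eq_zero_of_not_dvd
      norm_num
    simp [h3, h4]
  have h5 : 1 ≤ n.factorization 11 := by
    have hp : Nat.Prime 11 := by norm_num
    exact (hp.dvd_iff_one_le_factorization h0).1 h11
  omega

end SWAP

section T13

variable {β : Type*} [Fintype β] [DecidableEq β]

open SWAP in
/-- SWAP -/
theorem exists_swap_normalizer (hβ : Fintype.card β = 13) (K : Subgroup (Perm β))
    [IsMultiplyPretransitive K β 2] {g : Perm β} (hgc : g.IsCycle)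
    (hg11 : g.support.card = 11) (hg : g ∈ K) {a b : β} (hab : a ≠ b)
    (ha : g a = a) (hb : g b = b) :
    ∃ n ∈ K, n * g * n⁻¹ ∈ zpowers g ∧ n a = b ∧ n b = a := by
  classical
  haveI : Fact (Nat.Prime 11) := ⟨by norm_num⟩
  -- the swapping element
  obtain ⟨u, hua, hub⟩ :=
    (is_two_pretransitive_iff (G := K) (α := β)).1 inferInstance hab hab.symm
  have hua' : (u : Perm β) a = b := hua
  have hub' : (u : Perm β) b = a := hub
  -- the two-point stabilizer
  let L : Subgroup (Perm β) := K ⊓ (stabilizer (Perm β) a ⊓ stabilizer (Perm β) b)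
  have hLmem : ∀ k : Perm β, k ∈ L ↔ k ∈ K ∧ k a = a ∧ k b = b := by
    intro k
    constructor
    · rintro ⟨h1, h2, h3⟩
      exact ⟨h1, h2, h3⟩
    · rintro ⟨h1, h2, h3⟩
      exact ⟨h1, h2, h3⟩
  have hgL : g ∈ L := (hLmem g).2 ⟨hg, ha, hb⟩
  set h : Perm β := (u : Perm β) * g * (u : Perm β)⁻¹ with hh
  have huinv_a : (u : Perm β)⁻¹ a = b := by
    rw [Perm.inv_eq_iff_eq]; exact hub'.symm
  have huinv_b : (u : Perm β)⁻¹ b = a := by
    rw [Perm.inv_eq_iff_eq]; exact hua'.symm
  have hhL : h ∈ L := by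
    rw [hLmem]
    refine ⟨K.mul_mem (K.mul_mem u.2 hg) (K.inv_mem u.2), ?_, ?_⟩
    · simp only [hh, Perm.mul_apply, huinv_a, hb, hub']
    · simp only [hh, Perm.mul_apply, huinv_b, ha, hua']
  -- orders
  have hog : orderOf g = 11 := by rw [hgc.orderOf, hg11]
  have hoh : orderOf h = 11 := by
    rw [← hog]
    have hsc : SemiconjBy (u : Perm β) g h := by
      rw [hh]; unfold SemiconjBy; group
    exact (hsc.orderOf_eq).symm
  let gL : L := ⟨g, hgL⟩
  let hL : L := ⟨h, hhL⟩
  have hogL : orderOf gL = 11 := by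
    rw [← hog]; exact Subgroup.orderOf_mk g hgL
  have hohL : orderOf hL = 11 := by
    rw [← hoh]; exact Subgroup.orderOf_mk h hhL
  have hcardL : (Nat.card L).factorization 11 = 1 := by
    apply factorization_le_one
    · have := Subgroup.card_subgroup_dvd_card L
      have hβ' : Nat.card β = 13 := by rw [Nat.card_eq_fintype_card, hβ]
      rw [Nat.card_perm, hβ'] at this
      exact this
    · exact Nat.card_pos.ne'
    · rw [← hogL]; exact orderOf_dvd_natCard gL
  have hc1 : Nat.card (zpowers gL) = 11 ^ (Nat.card L).factorization 11 := by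
    rw [Nat.card_zpowers, hogL, hcardL, pow_one]
  have hc2 : Nat.card (zpowers hL) = 11 ^ (Nat.card L).factorization 11 := by
    rw [Nat.card_zpowers, hohL, hcardL, pow_one]
  let P₁ : Sylow 11 L := Sylow.ofCard (zpowers gL) hc1
  let P₂ : Sylow 11 L := Sylow.ofCard (zpowers hL) hc2
  obtain ⟨l, hl⟩ := MulAction.exists_smul_eq L P₂ P₁
  have hmem : l * hL * l⁻¹ ∈ zpowers gL := by
    have h1 : hL ∈ (P₂ : Subgroup L) := mem_zpowers hL
    have h2 : MulAut.conj l • hL ∈ MulAut.conj l • (P₂ : Subgroup L) :=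
      Subgroup.smul_mem_pointwise_smul hL (MulAut.conj l) (P₂ : Subgroup L) h1
    have h3 : (MulAut.conj l • (P₂ : Subgroup L)) = ((l • P₂ : Sylow 11 L) : Subgroup L) := rfl
    rw [h3, hl] at h2
    exact h2
  obtain ⟨k, hk⟩ := mem_zpowers_iff.1 hmem
  have hk' : g ^ k = (l : Perm β) * h * (l : Perm β)⁻¹ := by
    have := congrArg (fun x : L => (x : Perm β)) hk
    simpa using this
  obtain ⟨hlK, hla, hlb⟩ := (hLmem (l : Perm β)).1 l.2
  refine ⟨(l : Perm β) * (u : Perm β), K.mul_mem hlK u.2, ?_, ?_, ?_⟩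
  · rw [mem_zpowers_iff]
    refine ⟨k, ?_⟩
    rw [hk', hh]
    group
  · rw [Perm.mul_apply, hua', hlb]
  · rw [Perm.mul_apply, hub', hla]

end T13

end Cfsg.Agent.Helper2.AG
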