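import Mathlib
import Cfsg.Agent.S0700
import Cfsg.Agent.Lib.Helper12.Small60

/-!
# S4150, piece T6SIMPLE (helper7, for helper2)

A 2-transitive group of degree 6 and order 60 is simple.
-/

set_option autoImplicit false
set_option linter.style.haveILetI false
set_option linter.unusedVariables false

open Equiv Equiv.Perm MulAction Subgroup

namespace Cfsg.Agent.Helper2.AG

namespace T6SIMPLE

/-- a nontrivial finite group has a minimal normal subgroup -/
theorem exists_min_normal {G : Type*} [Group G] [Finite G] [Nontrivial G] :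
    ∃ N : Subgroup G, N.Normal ∧ N ≠ ⊥ ∧
      ∀ K : Subgroup G, K.Normal → K ≤ N → K = ⊥ ∨ K = N := by
  have htop : (⊤ : Subgroup G).Normal ∧ (⊤ : Subgroup G) ≠ ⊥ := ⟨inferInstance, top_ne_bot⟩
  obtain ⟨N, -, hN⟩ := Finite.exists_le_minimal (p := fun K : Subgroup G => K.Normal ∧ K ≠ ⊥) htop
  refine ⟨N, hN.prop.1, hN.prop.2, ?_⟩
  intro K hKn hKN
  by_cases hK : K = ⊥
  · exact Or.inl hK
  · exact Or.inr (le_antisymm hKN (hN.le_of_le ⟨hKn, hK⟩ hKN))

/-- `6` is not a prime power -/
theorem six_ne_pow (p k : ℕ) (hp : p.Prime) : p ^ k ≠ 6 := by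
  intro h
  have h2 : (2 : ℕ) ∣ p ^ k := by rw [h]; norm_num
  have h3 : (3 : ℕ) ∣ p ^ k := by rw [h]; norm_num
  have e2 : 2 = p := (Nat.prime_dvd_prime_iff_eq Nat.prime_two hp).1 (Nat.prime_two.dvd_of_dvd_pow h2)
  have e3 : 3 = p := (Nat.prime_dvd_prime_iff_eq Nat.prime_three hp).1
    (Nat.prime_three.dvd_of_dvd_pow h3)
  omega

/-- a nontrivial normal subgroup of a 2-transitive subgroup of `Perm β` is transitive -/
theorem pretransitive_of_normal {β : Type*} [Fintype β] [DecidableEq β]
    (H : Subgroup (Perm β)) [IsMultiplyPretransitive H β 2] (N : Subgroup H) [N.Normal]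
    (hN : N ≠ ⊥) : IsPretransitive N β := by
  have hprim : IsPreprimitive H β := isPreprimitive_of_is_two_pretransitive inferInstance
  have hq : IsQuasiPreprimitive H β := IsPreprimitive.isQuasiPreprimitive
  apply hq.isPretransitive_of_normal
  intro hfix
  apply hN
  rw [eq_bot_iff]
  intro n hn
  rw [Subgroup.mem_bot]
  apply Subtype.ext
  apply Equiv.ext
  intro x
  have hx : x ∈ fixedPoints N β := by rw [hfix]; trivial
  have := hx ⟨n, hn⟩
  exact this

end T6SIMPLE

section T6

variable {β : Type*} [Fintype β] [DecidableEq β]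

open T6SIMPLE in
/-- T6SIMPLE -/
theorem isSimpleGroup_of_card_sixty_of_two_trans (hβ : Fintype.card β = 6)
    (H : Subgroup (Perm β)) [IsMultiplyPretransitive H β 2] (h60 : Nat.card H = 60) :
    IsSimpleGroup H := by
  classical
  haveI : Nontrivial H := by
    rw [← Finite.one_lt_card_iff_nontrivial, h60]; norm_num
  obtain ⟨N, hNn, hNb, hmin⟩ := exists_min_normal (G := H)
  haveI := hNn
  haveI htr : IsPretransitive N β := pretransitive_of_normal H N hNb
  -- `6 ∣ |N|`
  have hβ' : Nat.card β = 6 := by rw [Nat.card_eq_fintype_card, hβ]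
  obtain ⟨a⟩ : Nonempty β := by
    rw [← Fintype.card_pos_iff, hβ]; norm_num
  have hidx : (stabilizer N a).index = 6 := by
    rw [index_stabilizer_of_transitive, hβ']
  have hmul : Nat.card (stabilizer N a) * 6 = Nat.card N := by
    rw [← hidx]; exact (stabilizer N a).card_mul_index
  have hdvd60 : Nat.card N ∣ 60 := by
    rw [← h60]; exact Subgroup.card_subgroup_dvd_card N
  rcases Cfsg.Agent.S0700.result H inferInstance N hNb hmin with ⟨_, ⟨p, hp, hexp⟩, hstab⟩ | ⟨hsimple, _⟩
  · -- elementary abelian regular: order 6 is not a prime power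
    exfalso
    rw [hstab a, Subgroup.card_bot, one_mul] at hmul
    have hpg : IsPGroup p N := by
      intro n
      refine ⟨1, ?_⟩
      rw [pow_one]
      apply Subtype.ext
      have := hexp (n : H) n.2
      simpa using this
    haveI : Fact p.Prime := ⟨hp⟩
    obtain ⟨k, hk⟩ := hpg.exists_card_eq
    exact six_ne_pow p k hp (by rw [← hk, ← hmul])
  · -- simple: order 60
    have hN60 : Nat.card N = 60 := by
      by_contra hne
      have hlt : Nat.card N < 60 := by
        have := Nat.le_of_dvd (by norm_num) hdvd60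
        omega
      have hsol : Group.IsSolvable N :=
        Cfsg.Agent.Helper12.Small60.isSolvable_of_card_lt (Nat.card N) N rfl hlt
      have hcomm : ∀ a b : N, a * b = b * a := IsSimpleGroup.comm_iff_isSolvable.2 hsol
      letI : CommGroup N := { (inferInstance : Group N) with mul_comm := hcomm }
      have hprime : (Nat.card N).Prime := IsSimpleGroup.prime_card
      have h6 : 6 ∣ Nat.card N := ⟨Nat.card (stabilizer N a), by rw [← hmul, mul_comm]⟩
      have h2 : 2 ∣ Nat.card N := dvd_trans (by norm_num) h6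
      have h3 : 3 ∣ Nat.card N := dvd_trans (by norm_num) h6
      have e2 := (Nat.prime_dvd_prime_iff_eq Nat.prime_two hprime).1 h2
      have e3 := (Nat.prime_dvd_prime_iff_eq Nat.prime_three hprime).1 h3
      omega
    have htop : N = ⊤ := by
      apply Subgroup.eq_top_of_card_eq
      rw [hN60, h60]
    subst htop
    exact (Subgroup.topEquiv : (⊤ : Subgroup H) ≃* H).symm.isSimpleGroup

end T6

end Cfsg.Agent.Helper2.AG
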