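import Mathlib
import Cfsg.Agent.Lib.Helper2.TIHDefs
import Cfsg.Agent.Lib.Helper24.TIHOPI
import Cfsg.Agent.S4116

/-!
# S4118 piece FRAT (helper7): the Frattini argument `G = O N_G(H)`

`sup_normalizer_eq_top_of` with the exact signature of `plans/TIH_Skel.lean.txt`; auxiliary lemmas in `TIH.FRAT`.
-/

set_option autoImplicit false

namespace Cfsg.Agent.Helper2.TIH

open Cfsg

namespace FRAT

variable {G : Type*} [Group G]

/-- own copy of NPLE: the normalizer of a nontrivial subgroup of a TI subgroup `H` normalizes `H` -/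
theorem normalizer_le' (H : Subgroup G) (hTI : IsTISubset (H : Set G)) (P : Subgroup G) (hP : P ≤ H)
    (hP1 : P ≠ ⊥) : Subgroup.normalizer (P : Set G) ≤ Subgroup.normalizer (H : Set G) := by
  intro n hn
  by_contra hcon
  obtain ⟨x, hx, hx1⟩ : ∃ x : G, x ∈ P ∧ x ≠ 1 := by
    obtain ⟨x, hx⟩ := (Subgroup.ne_bot_iff_exists_ne_one).1 hP1
    exact ⟨(x : G), x.2, fun h => hx (Subtype.ext h)⟩
  have h1 : n * x * n⁻¹ ∈ P := (Subgroup.mem_normalizer_iff.1 hn x).1 hx
  exact hx1 (hTI n hcon x (hP hx) (hP h1))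

/-- conjugation by `g⁻¹` maps `g H g⁻¹` back into `H` -/
theorem map_conj_inv_le (H X : Subgroup G) (g : G)
    (hX : X ≤ H.map (MulAut.conj g).toMonoidHom) :
    X.map (MulAut.conj g⁻¹).toMonoidHom ≤ H := by
  rintro _ ⟨x, hx, rfl⟩
  obtain ⟨h, hh, rfl⟩ := hX hx
  simp only [MulEquiv.coe_toMonoidHom, MulAut.conj_apply, inv_inv]
  have : g⁻¹ * (g * h * g⁻¹) * g = h := by group
  rw [this]
  exact hh

/-- a normal subgroup is mapped into itself by conjugation -/
theorem map_conj_le_of_normal (N : Subgroup G) (hN : N.Normal) (g : G) :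
    N.map (MulAut.conj g).toMonoidHom ≤ N := by
  rintro _ ⟨x, hx, rfl⟩
  simp only [MulEquiv.coe_toMonoidHom, MulAut.conj_apply]
  exact hN.conj_mem x hx g

end FRAT

variable {G : Type*} [Group G] [Finite G] (H : Subgroup G)

theorem sup_normalizer_eq_top_of (hTI : IsTISubset (H : Set G)) (hcop : (Nat.card H).Coprime H.index)
    (K : Subgroup G) (hK : K.Normal) (hOK : piCore H ≤ K) (hne : K ≠ piCore H)
    (hKle : K ≤ piCore H ⊔ H)
    (hq : ∀ q : ℕ, q.Prime → q ∣ (piCore H).relIndex K → q ∣ Nat.card H) :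
    piCore H ⊔ Subgroup.normalizer (H : Set G) = ⊤ := by
  have hOn : (piCore H).Normal := piCore_normal H
  -- a prime dividing `[K : O]`
  have hrel : (piCore H).relIndex K ≠ 1 := by
    intro h
    exact hne (le_antisymm (Subgroup.relIndex_eq_one.1 h) hOK)
  obtain ⟨p, hp, hpd⟩ := Nat.exists_prime_and_dvd hrel
  haveI : Fact p.Prime := ⟨hp⟩
  have hpH : p ∣ Nat.card H := hq p hp hpd
  have hpK : p ∣ Nat.card K := hpd.trans (Subgroup.relIndex_dvd_card _ _)
  -- a Sylow `p`-subgroup of `K`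
  obtain ⟨P₀⟩ : Nonempty (Sylow p K) := inferInstance
  have hP₀ne : (P₀ : Subgroup K) ≠ ⊥ := P₀.ne_bot_of_dvd_card hpK
  set P₁ : Subgroup G := (P₀ : Subgroup K).map K.subtype with hP₁
  have hP₁ne : P₁ ≠ ⊥ := by
    intro h
    apply hP₀ne
    rw [hP₁, Subgroup.map_eq_bot_iff_of_injective _ K.subtype_injective] at h
    exact h
  have hP₁card : ∀ q : ℕ, q.Prime → q ∣ Nat.card P₁ → q ∣ Nat.card H := by
    intro q hqp hqd
    rw [hP₁, Subgroup.card_map_of_injective K.subtype_injective] at hqd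
    obtain ⟨n, hn⟩ := IsPGroup.iff_card.1 P₀.isPGroup'
    rw [hn] at hqd
    have := (Nat.prime_dvd_prime_iff_eq hqp hp).1 (hqp.dvd_of_dvd_pow hqd)
    rw [this]
    exact hpH
  obtain ⟨g, hg⟩ := Cfsg.Agent.S4116.result H hcop hTI P₁ hP₁card
  -- Frattini
  haveI : K.Normal := hK
  have hfr : Subgroup.normalizer (P₁ : Set G) ⊔ K = ⊤ := Sylow.normalizer_sup_eq_top P₀
  -- transport by `g⁻¹`
  set f : G ≃* G := MulAut.conj g⁻¹ with hf
  have h1 : (Subgroup.normalizer (P₁ : Set G) ⊔ K).map f.toMonoidHom = ⊤ := by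
    rw [hfr, ← MonoidHom.range_eq_map]
    exact MonoidHom.range_eq_top.2 f.surjective
  rw [Subgroup.map_sup, Subgroup.map_equiv_normalizer_eq] at h1
  have h2 : P₁.map f.toMonoidHom ≤ H := FRAT.map_conj_inv_le H P₁ g hg
  have h3 : P₁.map f.toMonoidHom ≠ ⊥ := by
    intro h
    apply hP₁ne
    rw [Subgroup.map_eq_bot_iff_of_injective _ f.injective] at h
    exact h
  have h4 := FRAT.normalizer_le' H hTI _ h2 h3
  have h5 : K.map f.toMonoidHom ≤ piCore H ⊔ Subgroup.normalizer (H : Set G) :=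
    (FRAT.map_conj_le_of_normal K hK g⁻¹).trans
      (hKle.trans (sup_le_sup le_rfl Subgroup.le_normalizer))
  rw [eq_top_iff, ← h1]
  exact sup_le (h4.trans le_sup_right) h5

end Cfsg.Agent.Helper2.TIH
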