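import Mathlib
import Cfsg.Agent.Lib.Helper2.TIHDefs
import Cfsg.Agent.Lib.Helper24.TIHOPI
import Cfsg.Agent.S4116

/-!
# S4118 piece KLE (helper7): `K ≤ O ⊔ H` for a normal `K ≥ O` with `[K : O]` a `π(H)`-number

`le_sup_of_pi_index` with the exact signature of `plans/TIH_Skel.lean.txt`; auxiliary lemmas in `TIH.KLE`.
-/

set_option autoImplicit false

namespace Cfsg.Agent.Helper2.TIH

open Cfsg

namespace KLE

variable {G : Type*} [Group G]

/-- conjugation by `g⁻¹` maps `g H g⁻¹` back into `H` -/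
theorem map_conj_inv_le (H X : Subgroup G) (g : G)
    (hX : X ≤ H.map (MulAut.conj g).toMonoidHom) :
    X.map (MulAut.conj g⁻¹).toMonoidHom ≤ H := by
  rintro _ ⟨x, hx, rfl⟩
  obtain ⟨h, hh, rfl⟩ := hX hx
  simp only [MulEquiv.coe_toMonoidHom, MulAut.conj_apply, inv_inv]
  have : g⁻¹ * (g * h * g⁻¹) * g = h := by group
  rw [this]
  exact hh

/-- a normal subgroup is mapped into itself by conjugation -/
theorem map_conj_le_of_normal (N : Subgroup G) (hN : N.Normal) (g : G) :
    N.map (MulAut.conj g).toMonoidHom ≤ N := by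
  rintro _ ⟨x, hx, rfl⟩
  simp only [MulEquiv.coe_toMonoidHom, MulAut.conj_apply]
  exact hN.conj_mem x hx g

/-- Schur–Zassenhaus inside `K`: a complement `X ≤ K` of `O` with `|X| = [K : O]` -/
theorem exists_compl [Finite G] (O K : Subgroup G) (hO : O.Normal) (hOK : O ≤ K)
    (hc : (Nat.card O).Coprime (O.relIndex K)) :
    ∃ X : Subgroup G, X ≤ K ∧ O ⊔ X = K ∧ Nat.card X = O.relIndex K := by
  haveI : (O.subgroupOf K).Normal := Subgroup.normal_subgroupOf
  have hcard : Nat.card (O.subgroupOf K) = Nat.card O :=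
    Nat.card_congr (Subgroup.subgroupOfEquivOfLe hOK).toEquiv
  have hc' : (Nat.card (O.subgroupOf K)).Coprime (O.subgroupOf K).index := by
    rw [hcard]
    exact hc
  obtain ⟨X', hX'⟩ := Subgroup.exists_right_complement'_of_coprime hc'
  refine ⟨X'.map K.subtype, Subgroup.map_subtype_le X', ?_, ?_⟩
  · have h1 := hX'.sup_eq_top
    have h2 : (O.subgroupOf K ⊔ X').map K.subtype = K := by
      rw [h1, ← MonoidHom.range_eq_map, Subgroup.range_subtype]
    rw [Subgroup.map_sup, Subgroup.subgroupOf_map_subtype, inf_eq_left.2 hOK] at h2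
    exact h2
  · rw [Subgroup.card_map_of_injective K.subtype_injective]
    have := hX'.symm.index_eq_card
    exact this.symm

end KLE

variable {G : Type*} [Group G] [Finite G] (H : Subgroup G)

theorem le_sup_of_pi_index (hTI : IsTISubset (H : Set G)) (hcop : (Nat.card H).Coprime H.index)
    (K : Subgroup G) (hK : K.Normal) (hOK : piCore H ≤ K)
    (hq : ∀ q : ℕ, q.Prime → q ∣ (piCore H).relIndex K → q ∣ Nat.card H) :
    K ≤ piCore H ⊔ H := by
  have hOn : (piCore H).Normal := piCore_normal H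
  have hOc : (Nat.card (piCore H)).Coprime (Nat.card H) := piCore_coprime H
  have hc : (Nat.card (piCore H)).Coprime ((piCore H).relIndex K) := by
    apply Nat.Coprime.symm
    rw [Nat.coprime_comm]
    apply Nat.coprime_of_dvd
    intro q hqp h1 h2
    have h3 := hq q hqp h2
    have := Nat.dvd_gcd h1 h3
    rw [hOc] at this
    exact hqp.one_lt.ne' (Nat.dvd_one.1 this)
  obtain ⟨X, hXK, hsup, hXcard⟩ := KLE.exists_compl (piCore H) K hOn hOK hc
  obtain ⟨g, hg⟩ := Cfsg.Agent.S4116.result H hcop hTI X (by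
    intro q hqp hqd
    rw [hXcard] at hqd
    exact hq q hqp hqd)
  intro k hk
  have hk' : g * k * g⁻¹ ∈ piCore H ⊔ X := by
    rw [hsup]
    exact hK.conj_mem k hk g
  have h1 : (MulAut.conj g⁻¹).toMonoidHom (g * k * g⁻¹) ∈
      (piCore H ⊔ X).map (MulAut.conj g⁻¹).toMonoidHom := Subgroup.mem_map_of_mem _ hk'
  have h2 : (MulAut.conj g⁻¹).toMonoidHom (g * k * g⁻¹) = k := by
    simp only [MulEquiv.coe_toMonoidHom, MulAut.conj_apply, inv_inv]
    group
  rw [h2, Subgroup.map_sup] at h1
  exact (sup_le_sup (KLE.map_conj_le_of_normal _ hOn _) (KLE.map_conj_inv_le H X g hg)) h1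

end Cfsg.Agent.Helper2.TIH
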