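import Mathlib
import Cfsg.Agent.Lib.Helper6.UniDefs

/-!
S2314 farm-out, PIECE UNI-FPC (helper7): fixed cosets counted through the elements.
-/

set_option autoImplicit false
set_option linter.unusedSectionVars false
set_option linter.unusedVariables false

namespace Cfsg.Agent.Helper6.Uni

open Cfsg Cfsg.Agent.Helper2.WordLen Cfsg.Agent.Helper2.BN Cfsg.Agent.Helper17.BNCox

section Generic

variable {M : Type*} [Group M]

/-- an element `x` conjugates `b` into `H` iff the coset `x H` is fixed by `b` -/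
theorem uni_fpc_mem_iff (H : Subgroup M) (b x : M) :
    x⁻¹ * b * x ∈ H ↔ (x : M ⧸ H) ∈ MulAction.fixedBy (M ⧸ H) b := by
  rw [MulAction.mem_fixedBy]
  have h1 : b • (x : M ⧸ H) = ((b * x : M) : M ⧸ H) := rfl
  rw [h1, QuotientGroup.eq]
  constructor
  · intro h
    have : (b * x)⁻¹ * x = (x⁻¹ * b * x)⁻¹ := by group
    rw [this]
    exact H.inv_mem h
  · intro h
    have : x⁻¹ * b * x = ((b * x)⁻¹ * x)⁻¹ := by group
    rw [this]
    exact H.inv_mem h

/-- PIECE UNI-FPC (pure Mathlib): fixed cosets counted through the elements. -/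
theorem card_fixedBy_mul_card [Finite M] (H : Subgroup M) (b : M) :
    Nat.card (MulAction.fixedBy (M ⧸ H) b) * Nat.card H = Nat.card {x : M // x⁻¹ * b * x ∈ H} := by
  have e1 : {x : M // x⁻¹ * b * x ∈ H} ≃
      ((QuotientGroup.mk : M → M ⧸ H) ⁻¹' (MulAction.fixedBy (M ⧸ H) b) : Set M) :=
    Equiv.subtypeEquivRight (fun x => uni_fpc_mem_iff H b x)
  have e2 := QuotientGroup.preimageMkEquivSubgroupProdSet H (MulAction.fixedBy (M ⧸ H) b)
  rw [Nat.card_congr e1, Nat.card_congr e2, Nat.card_prod, mul_comm]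

end Generic

end Cfsg.Agent.Helper6.Uni
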