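import Mathlib
import Cfsg.Agent.Lib.Helper20.A5QDefs

set_option autoImplicit false
set_option linter.unusedSectionVars false
set_option linter.unusedVariables false

/-!
S3106 pieces S2A1 / S2A2 (helper7 for helper20): shared elementary facts.
-/

namespace Cfsg.Agent.Helper20.A5Q

open Cfsg.Agent.Helper22.SecRank

section Generic

variable {Y : Type*} [Group Y] [Finite Y]

/-- a normal subgroup of order two is central -/
theorem s2a_central_of_card_two (U : Subgroup Y) (hUn : U.Normal) (hU : Nat.card U = 2) :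
    ∀ z ∈ U, ∀ g : Y, g * z * g⁻¹ = z := by
  intro z hz g
  by_cases hz1 : z = 1
  · subst hz1; group
  · obtain ⟨y, hy, huniq⟩ := (Nat.card_eq_two_iff' (1 : ↥U)).1 hU
    have h1 : (⟨z, hz⟩ : ↥U) = y := huniq _ (fun h => hz1 (congrArg Subtype.val h))
    have h2 : (⟨g * z * g⁻¹, hUn.conj_mem z hz g⟩ : ↥U) = y := by
      apply huniq
      intro h
      apply hz1
      have h3 : g * z * g⁻¹ = 1 := congrArg Subtype.val h
      have h4 : z = g⁻¹ * (g * z * g⁻¹) * g := by group
      rw [h4, h3]; group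
    exact congrArg Subtype.val (h2.trans h1.symm)

/-- a group of order two: two nonidentity elements coincide -/
theorem s2a_eq_of_card_two (U : Subgroup Y) (hU : Nat.card U = 2) (a b : Y) (ha : a ∈ U)
    (hb : b ∈ U) (ha1 : a ≠ 1) (hb1 : b ≠ 1) : a = b := by
  obtain ⟨y, hy, huniq⟩ := (Nat.card_eq_two_iff' (1 : ↥U)).1 hU
  have h1 : (⟨a, ha⟩ : ↥U) = y := huniq _ (fun h => ha1 (congrArg Subtype.val h))
  have h2 : (⟨b, hb⟩ : ↥U) = y := huniq _ (fun h => hb1 (congrArg Subtype.val h))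
  exact congrArg Subtype.val (h1.trans h2.symm)

/-- index two: the product of two elements outside lies inside -/
theorem s2a_idx2 (U Φ : Subgroup Y) (hUΦ : U ≤ Φ) (hU : Nat.card U = 2) (hΦ : Nat.card Φ = 4) :
    ∀ a ∈ Φ, ∀ b ∈ Φ, a ∉ U → b ∉ U → a * b ∈ U := by
  have hc : Nat.card (U.subgroupOf Φ) = 2 := by
    rw [← hU]
    exact Nat.card_congr (Subgroup.subgroupOfEquivOfLe hUΦ).toEquiv
  have hidx : (U.subgroupOf Φ).index = 2 := by
    have := Subgroup.card_mul_index (U.subgroupOf Φ)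
    rw [hc, hΦ] at this
    omega
  intro a ha b hb hna hnb
  have h := (Subgroup.mul_mem_iff_of_index_two hidx (a := (⟨a, ha⟩ : ↥Φ)) (b := ⟨b, hb⟩)).2
    ⟨fun h => absurd (Subgroup.mem_subgroupOf.1 h) hna,
     fun h => absurd (Subgroup.mem_subgroupOf.1 h) hnb⟩
  exact Subgroup.mem_subgroupOf.1 h

/-- a group of order four is abelian -/
theorem s2a_comm_of_card_four (Φ : Subgroup Y) (hΦ : Nat.card Φ = 4) :
    ∀ a ∈ Φ, ∀ b ∈ Φ, a * b = b * a := by
  haveI : Fact (Nat.Prime 2) := ⟨Nat.prime_two⟩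
  have h4 : Nat.card ↥Φ = 2 ^ 2 := by rw [hΦ]; norm_num
  have hc := IsPGroup.isMulCommutative_of_card_eq_prime_sq h4
  intro a ha b hb
  have := hc.is_comm.comm (⟨a, ha⟩ : ↥Φ) ⟨b, hb⟩
  exact congrArg Subtype.val this

/-- the cardinality of a subgroup of index two, given by an `Xor` criterion -/
theorem s2a_card_of_xor (P K : Subgroup Y) (hKP : K ≤ P) (x0 : Y) (hx0 : x0 ∈ P)
    (hxor : ∀ b ∈ P, Xor (b * x0 ∈ K) (b ∈ K)) : Nat.card P = 2 * Nat.card K := by
  have hidx : (K.subgroupOf P).index = 2 := by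
    rw [Subgroup.index_eq_two_iff]
    refine ⟨⟨x0, hx0⟩, ?_⟩
    intro b
    have := hxor b.1 b.2
    simpa [Subgroup.mem_subgroupOf] using this
  have hc : Nat.card (K.subgroupOf P) = Nat.card K :=
    Nat.card_congr (Subgroup.subgroupOfEquivOfLe hKP).toEquiv
  have := Subgroup.card_mul_index (K.subgroupOf P)
  rw [hc, hidx] at this
  omega

end Generic

end Cfsg.Agent.Helper20.A5Q
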