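import Mathlib
import Cfsg.Agent.Lib.Helper20.A5QDefs
import Cfsg.Agent.Lib.Helper2.A5QCOMMSQ
import Cfsg.Agent.Lib.Helper6.A5QHYPERCore
import Cfsg.Agent.Lib.Helper15.A5QFREE
import Cfsg.Agent.Lib.Helper7.A5QS2ABasic

set_option autoImplicit false
set_option linter.unusedSectionVars false
set_option linter.unusedVariables false

/-!
S3106 piece S2A1 (helper7 for helper20): `U ⊴ Y` of order `2` inside `Φ(P)` of order `4` forces
`Φ(P) ≤ Z(P)`.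
-/

namespace Cfsg.Agent.Helper20.A5Q

open Cfsg.Agent.Helper22.SecRank
open Cfsg.Agent.Helper20.A3

section Setting

variable {Y : Type*} [Group Y] [Finite Y] {P : Subgroup Y}

/-- **A5Q-S2A1.** -/
theorem s2a_central (h : A5S Y P) (U : Subgroup Y) (hUn : U.Normal) (hUΦ : U ≤ Sq P)
    (hU : Nat.card U = 2) (hΦ : Nat.card (Sq P) = 4) :
    ∀ u ∈ Sq P, ∀ x ∈ P, u * x = x * u := by
  have hPn := h.normal
  have hΦn : (Sq P).Normal := Sq_normal P hPn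
  obtain ⟨f, t, hf, -, -, -⟩ := h.elems
  have hUc := s2a_central_of_card_two U hUn hU
  have hidx := s2a_idx2 U (Sq P) hUΦ hU hΦ
  have hΦc := s2a_comm_of_card_four (Sq P) hΦ
  have hUsq : ∀ z ∈ U, z * z = 1 := by
    intro z hz
    have h1 : (⟨z, hz⟩ : ↥U) ^ Nat.card ↥U = 1 := pow_card_eq_one'
    rw [hU, pow_two] at h1
    exact congrArg Subtype.val h1
  intro φ₀ hφ₀ x hx
  by_cases hφU : φ₀ ∈ U
  · have h1 := hUc φ₀ hφU x
    calc φ₀ * x = (x * φ₀ * x⁻¹) * x := by rw [h1]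
      _ = x * φ₀ := by group
  · by_contra hne
    have hφinv : φ₀⁻¹ ∉ U := fun h' => hφU (by simpa using U.inv_mem h')
    -- the commutator map has values in `U`
    have hc : ∀ y ∈ P, φ₀ * y * φ₀⁻¹ * y⁻¹ ∈ U := by
      intro y hy
      have h1 : y * φ₀⁻¹ * y⁻¹ ∈ Sq P := hΦn.conj_mem _ ((Sq P).inv_mem hφ₀) y
      have h2 : y * φ₀⁻¹ * y⁻¹ ∉ U := by
        intro h'
        apply hφinv
        have h3 := hUn.conj_mem _ h' y⁻¹
        have e : y⁻¹ * (y * φ₀⁻¹ * y⁻¹) * y⁻¹⁻¹ = φ₀⁻¹ := by group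
        rwa [e] at h3
      have h3 := hidx φ₀ hφ₀ _ h1 hφU h2
      have e : φ₀ * (y * φ₀⁻¹ * y⁻¹) = φ₀ * y * φ₀⁻¹ * y⁻¹ := by group
      rwa [e] at h3
    -- multiplicativity
    have hmul : ∀ y ∈ P, ∀ z ∈ P, φ₀ * (y * z) * φ₀⁻¹ * (y * z)⁻¹ =
        (φ₀ * y * φ₀⁻¹ * y⁻¹) * (φ₀ * z * φ₀⁻¹ * z⁻¹) := by
      intro y hy z hz
      have hz' := hUc _ (hc z hz) y
      have e : φ₀ * (y * z) * φ₀⁻¹ * (y * z)⁻¹ =
          (φ₀ * y * φ₀⁻¹ * y⁻¹) * (y * (φ₀ * z * φ₀⁻¹ * z⁻¹) * y⁻¹) := by group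
      rw [e, hz']
    -- the centralizer of `φ₀` in `P`
    have hmemP₀ : ∀ y, y ∈ P ⊓ Subgroup.centralizer {φ₀} ↔
        (y ∈ P ∧ φ₀ * y * φ₀⁻¹ * y⁻¹ = 1) := by
      intro y
      simp only [Subgroup.mem_inf, Subgroup.mem_centralizer_iff, Set.mem_singleton_iff, forall_eq]
      constructor
      · rintro ⟨hy, hcomm⟩
        refine ⟨hy, ?_⟩
        rw [hcomm]; group
      · rintro ⟨hy, h1⟩
        refine ⟨hy, ?_⟩
        have e : φ₀ * y = (φ₀ * y * φ₀⁻¹ * y⁻¹) * (y * φ₀) := by group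
        rw [e, h1, one_mul]
    have hcx : φ₀ * x * φ₀⁻¹ * x⁻¹ ≠ 1 := by
      intro h1
      apply hne
      have e : φ₀ * x = (φ₀ * x * φ₀⁻¹ * x⁻¹) * (x * φ₀) := by group
      rw [e, h1, one_mul]
    have hxor : ∀ b ∈ P, Xor (b * x ∈ P ⊓ Subgroup.centralizer {φ₀})
        (b ∈ P ⊓ Subgroup.centralizer {φ₀}) := by
      intro b hb
      rw [hmemP₀, hmemP₀, hmul b hb x hx]
      by_cases hb1 : φ₀ * b * φ₀⁻¹ * b⁻¹ = 1
      · right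
        refine ⟨⟨hb, hb1⟩, ?_⟩
        rintro ⟨-, h2⟩
        rw [hb1, one_mul] at h2
        exact hcx h2
      · left
        refine ⟨⟨P.mul_mem hb hx, ?_⟩, ?_⟩
        · have e := s2a_eq_of_card_two U hU _ _ (hc b hb) (hc x hx) hb1 hcx
          rw [e]
          exact hUsq _ (hc x hx)
        · rintro ⟨-, h2⟩
          exact hb1 h2
    have hcard := s2a_card_of_xor P (P ⊓ Subgroup.centralizer {φ₀}) inf_le_left x hx hxor
    have hΦP₀ : Sq P ≤ P ⊓ Subgroup.centralizer {φ₀} := by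
      intro v hv
      rw [hmemP₀]
      refine ⟨Sq_le P hv, ?_⟩
      rw [hΦc φ₀ hφ₀ v hv]; group
    have hinv : ∀ y ∈ P ⊓ Subgroup.centralizer {φ₀},
        f * y * f⁻¹ ∈ P ⊓ Subgroup.centralizer {φ₀} := by
      intro y hy
      obtain ⟨hyP, hy1⟩ := (hmemP₀ y).1 hy
      have hycomm : φ₀ * y = y * φ₀ := by
        have e : φ₀ * y = (φ₀ * y * φ₀⁻¹ * y⁻¹) * (y * φ₀) := by group
        rw [e, hy1, one_mul]
      rw [hmemP₀]
      refine ⟨hPn.conj_mem y hyP f, ?_⟩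
      -- `ψ = f⁻¹ φ₀ f = φ₀ u` with `u ∈ U`
      have hψΦ : f⁻¹ * φ₀ * f ∈ Sq P := by
        have := hΦn.conj_mem φ₀ hφ₀ f⁻¹
        simpa using this
      have hψU : f⁻¹ * φ₀ * f ∉ U := by
        intro h'
        apply hφU
        have h3 := hUn.conj_mem _ h' f
        have e : f * (f⁻¹ * φ₀ * f) * f⁻¹ = φ₀ := by group
        rwa [e] at h3
      have hu : φ₀⁻¹ * (f⁻¹ * φ₀ * f) ∈ U :=
        hidx _ ((Sq P).inv_mem hφ₀) _ hψΦ hφinv hψU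
      have huy := hUc _ hu y
      -- `ψ` commutes with `y`
      have hψy : (f⁻¹ * φ₀ * f) * y = y * (f⁻¹ * φ₀ * f) := by
        have e1 : (f⁻¹ * φ₀ * f) = φ₀ * (φ₀⁻¹ * (f⁻¹ * φ₀ * f)) := by group
        have e2 : (φ₀⁻¹ * (f⁻¹ * φ₀ * f)) * y = y * (φ₀⁻¹ * (f⁻¹ * φ₀ * f)) := by
          calc (φ₀⁻¹ * (f⁻¹ * φ₀ * f)) * y
              = (y * (φ₀⁻¹ * (f⁻¹ * φ₀ * f)) * y⁻¹) * y := by rw [huy]
            _ = y * (φ₀⁻¹ * (f⁻¹ * φ₀ * f)) := by group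
        calc (f⁻¹ * φ₀ * f) * y = φ₀ * ((φ₀⁻¹ * (f⁻¹ * φ₀ * f)) * y) := by group
          _ = φ₀ * (y * (φ₀⁻¹ * (f⁻¹ * φ₀ * f))) := by rw [e2]
          _ = (φ₀ * y) * (φ₀⁻¹ * (f⁻¹ * φ₀ * f)) := by group
          _ = (y * φ₀) * (φ₀⁻¹ * (f⁻¹ * φ₀ * f)) := by rw [hycomm]
          _ = y * (f⁻¹ * φ₀ * f) := by group
      have e3 : φ₀ * (f * y * f⁻¹) * φ₀⁻¹ * (f * y * f⁻¹)⁻¹ =
          f * ((f⁻¹ * φ₀ * f) * y) * (f⁻¹ * φ₀⁻¹ * f) * y⁻¹ * f⁻¹ := by group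
      rw [e3, hψy]
      group
    exact no_hyper_core P (Sq P) (P ⊓ Subgroup.centralizer {φ₀}) h.normal h.pgroup f hf
      (free_V h f hf) hΦP₀ inf_le_left hcard hinv

end Setting

end Cfsg.Agent.Helper20.A5Q
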