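import Mathlib
import Cfsg.Agent.Lib.Helper20.A5QDefs
import Cfsg.Agent.Lib.Helper2.A5QCOMMSQ
import Cfsg.Agent.Lib.Helper6.A5QHYPERCore
import Cfsg.Agent.Lib.Helper15.A5QFREE
import Cfsg.Agent.Lib.Helper7.A5QS2ABasic

set_option autoImplicit false
set_option linter.unusedSectionVars false
set_option linter.unusedVariables false

/-!
S3106 piece S2A2 (helper7 for helper20): `U ⊴ Y` of order `2` inside `Φ(P)` of order `4`, central in
`P`, forces `Φ(P)` of exponent `2`.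
-/

namespace Cfsg.Agent.Helper20.A5Q

open Cfsg.Agent.Helper22.SecRank
open Cfsg.Agent.Helper20.A3

section Generic

variable {Y : Type*} [Group Y] [Finite Y]

/-- the elements of `P` whose square lies in `U`, a subgroup once squaring is multiplicative
modulo `U` -/
def s2a2P0 (P U : Subgroup Y)
    (hmul : ∀ x ∈ P, ∀ y ∈ P, x ^ 2 ∈ U → y ^ 2 ∈ U → (x * y) ^ 2 ∈ U) : Subgroup Y where
  carrier := {x | x ∈ P ∧ x ^ 2 ∈ U}
  mul_mem' := by
    rintro a b ⟨ha, ha2⟩ ⟨hb, hb2⟩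
    exact ⟨P.mul_mem ha hb, hmul a ha b hb ha2 hb2⟩
  one_mem' := ⟨P.one_mem, by simp⟩
  inv_mem' := by
    rintro a ⟨ha, ha2⟩
    refine ⟨P.inv_mem ha, ?_⟩
    have e : a⁻¹ ^ 2 = (a ^ 2)⁻¹ := by rw [inv_pow]
    rw [e]
    exact U.inv_mem ha2

theorem s2a2_mem_P0 (P U : Subgroup Y)
    (hmul : ∀ x ∈ P, ∀ y ∈ P, x ^ 2 ∈ U → y ^ 2 ∈ U → (x * y) ^ 2 ∈ U) (x : Y) :
    x ∈ s2a2P0 P U hmul ↔ (x ∈ P ∧ x ^ 2 ∈ U) := Iff.rfl

end Generic

section Setting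

variable {Y : Type*} [Group Y] [Finite Y] {P : Subgroup Y}

/-- **A5Q-S2A2.** -/
theorem s2a_exp (h : A5S Y P) (U : Subgroup Y) (hUn : U.Normal) (hUΦ : U ≤ Sq P)
    (hU : Nat.card U = 2) (hΦ : Nat.card (Sq P) = 4)
    (hcen : ∀ u ∈ Sq P, ∀ x ∈ P, u * x = x * u) : ∀ u ∈ Sq P, u ^ 2 = 1 := by
  have hPn := h.normal
  have hΦn : (Sq P).Normal := Sq_normal P hPn
  obtain ⟨f, t, hf, -, -, -⟩ := h.elems
  have hidx := s2a_idx2 U (Sq P) hUΦ hU hΦ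
  have hΦc := s2a_comm_of_card_four (Sq P) hΦ
  have hUsq : ∀ z ∈ U, z ^ 2 = 1 := by
    intro z hz
    have h1 : (⟨z, hz⟩ : ↥U) ^ Nat.card ↥U = 1 := pow_card_eq_one'
    rw [hU] at h1
    exact congrArg Subtype.val h1
  by_contra hcon
  push Not at hcon
  obtain ⟨u0, hu0, hu0sq⟩ := hcon
  have hu0U : u0 ∉ U := fun h' => hu0sq (hUsq u0 h')
  -- Claim A: involutions of `Φ` lie in `U`
  have hA : ∀ c ∈ Sq P, c ^ 2 = 1 → c ∈ U := by
    intro c hc hc2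
    by_contra hcU
    have h1 := hidx c hc u0 hu0 hcU hu0U
    have h2 := hUsq _ h1
    have h3 : (c * u0) ^ 2 = c ^ 2 * u0 ^ 2 := by
      have := hΦc c hc u0 hu0
      rw [pow_two, pow_two, pow_two]
      calc c * u0 * (c * u0) = c * (u0 * c) * u0 := by group
        _ = c * (c * u0) * u0 := by rw [this]
        _ = c * c * (u0 * u0) := by group
    rw [h3, hc2, one_mul] at h2
    exact hu0sq h2
  -- Claim B: squares of `Φ` lie in `U`
  have hB : ∀ v ∈ Sq P, v ^ 2 ∈ U := by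
    intro v hv
    by_cases hvU : v ∈ U
    · rw [hUsq v hvU]; exact U.one_mem
    · rw [pow_two]; exact hidx v hv v hv hvU hvU
  -- Claim C: commutators of `P` lie in `U`
  have hC : ∀ x ∈ P, ∀ y ∈ P, x * y * x⁻¹ * y⁻¹ ∈ U := by
    intro x hx y hy
    have hc := comm_mem_Sq P x y hx hy
    apply hA _ hc
    have hcx := hcen _ hc x hx
    have hx2 := hcen _ (sq_mem_Sq hx) y hy
    rw [pow_two] at hx2 ⊢
    calc x * y * x⁻¹ * y⁻¹ * (x * y * x⁻¹ * y⁻¹)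
        = (x * y * x⁻¹ * y⁻¹ * x) * (y * x⁻¹ * y⁻¹) := by group
      _ = (x * (x * y * x⁻¹ * y⁻¹)) * (y * x⁻¹ * y⁻¹) := by rw [hcx]
      _ = (x * x * y) * (x⁻¹ * x⁻¹ * y⁻¹) := by group
      _ = (y * (x * x)) * (x⁻¹ * x⁻¹ * y⁻¹) := by rw [hx2]
      _ = 1 := by group
  -- Claim D: squaring is multiplicative modulo `U`
  have hD : ∀ x ∈ P, ∀ y ∈ P, ((x * y) ^ 2 ∈ U ↔ x ^ 2 * y ^ 2 ∈ U) := by
    intro x hx y hy
    have hc := hC y hy x hx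
    have hcx := hcen _ (comm_mem_Sq P y x hy hx) x hx
    have e : (x * y) ^ 2 = (y * x * y⁻¹ * x⁻¹) * (x ^ 2 * y ^ 2) := by
      rw [pow_two, pow_two, pow_two]
      calc x * y * (x * y) = x * (y * x * y⁻¹ * x⁻¹) * (x * y * y) := by group
        _ = (y * x * y⁻¹ * x⁻¹ * x) * (x * y * y) := by rw [hcx]
        _ = (y * x * y⁻¹ * x⁻¹) * (x * x * (y * y)) := by group
    rw [e]
    exact Subgroup.mul_mem_cancel_left U hc
  have hmul : ∀ x ∈ P, ∀ y ∈ P, x ^ 2 ∈ U → y ^ 2 ∈ U → (x * y) ^ 2 ∈ U := by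
    intro x hx y hy hx2 hy2
    rw [hD x hx y hy]
    exact U.mul_mem hx2 hy2
  have hmem := s2a2_mem_P0 P U hmul
  -- an element whose square is not in `U`
  have hx0 : ∃ x0 ∈ P, x0 ^ 2 ∉ U := by
    by_contra hno
    push Not at hno
    apply hu0U
    have hle : Sq P ≤ U := by
      unfold Sq
      rw [Subgroup.closure_le]
      rintro x ⟨k, hk, rfl⟩
      exact hno k hk
    exact hle hu0
  obtain ⟨x0, hx0P, hx0U⟩ := hx0
  have hxor : ∀ b ∈ P, Xor (b * x0 ∈ s2a2P0 P U hmul) (b ∈ s2a2P0 P U hmul) := by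
    intro b hb
    rw [hmem, hmem, hD b hb x0 hx0P]
    by_cases hb2 : b ^ 2 ∈ U
    · right
      refine ⟨⟨hb, hb2⟩, ?_⟩
      rintro ⟨-, h2⟩
      exact hx0U ((Subgroup.mul_mem_cancel_left U hb2).1 h2)
    · left
      refine ⟨⟨P.mul_mem hb hx0P, ?_⟩, ?_⟩
      · exact hidx _ (sq_mem_Sq hb) _ (sq_mem_Sq hx0P) hb2 hx0U
      · rintro ⟨-, h2⟩
        exact hb2 h2
  have hP₀P : s2a2P0 P U hmul ≤ P := fun x hx => ((hmem x).1 hx).1
  have hcard := s2a_card_of_xor P (s2a2P0 P U hmul) hP₀P x0 hx0P hxor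
  have hΦP₀ : Sq P ≤ s2a2P0 P U hmul := by
    intro v hv
    rw [hmem]
    exact ⟨Sq_le P hv, hB v hv⟩
  have hinv : ∀ y ∈ s2a2P0 P U hmul, f * y * f⁻¹ ∈ s2a2P0 P U hmul := by
    intro y hy
    obtain ⟨hyP, hy2⟩ := (hmem y).1 hy
    rw [hmem]
    refine ⟨hPn.conj_mem y hyP f, ?_⟩
    have e : (f * y * f⁻¹) ^ 2 = f * y ^ 2 * f⁻¹ := by
      rw [pow_two, pow_two]; group
    rw [e]
    exact hUn.conj_mem _ hy2 f
  exact no_hyper_core P (Sq P) (s2a2P0 P U hmul) h.normal h.pgroup f hf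
    (free_V h f hf) hΦP₀ hP₀P hcard hinv

end Setting

end Cfsg.Agent.Helper20.A5Q
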