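import Mathlib
import Cfsg.Agent.Lib.Helper20.A5QDefs
import Cfsg.Agent.Lib.Helper6.A5QBR1
import Cfsg.Agent.Lib.Helper15.A5QVCARD
import Cfsg.Agent.Lib.Helper15.A5QFREE
import Cfsg.Agent.Lib.Helper18.A5QCINV3

set_option autoImplicit false
set_option linter.unusedSectionVars false
set_option linter.unusedVariables false

/-!
S3106 piece S2A3 (helper7 for helper20): with `Φ(P)` central of type `2^2`, every involution of `P`
lies in `Φ(P)` (translation of CINV3 to the ambient group).
-/

namespace Cfsg.Agent.Helper20.A5Q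

open Cfsg.Agent.Helper22.SecRank
open Cfsg.Agent.Helper20.A3

section Setting

variable {Y : Type*} [Group Y] [Finite Y] {P : Subgroup Y}

/-- membership in the Frattini subgroup of `↥P`, read in the ambient group -/
theorem s2a3_mem_frattini_iff (hP : IsPGroup 2 P) (x : ↥P) :
    x ∈ frattini ↥P ↔ (x : Y) ∈ Sq P := by
  rw [← frattini_map_eq_Sq P hP]
  constructor
  · intro hx
    exact Subgroup.mem_map_of_mem P.subtype hx
  · rintro ⟨y, hy, hyx⟩
    have : y = x := Subtype.ext hyx
    rwa [← this]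

/-- **A5Q-S2A3.** -/
theorem s2a_invol (h : A5S Y P) (hΦ : Nat.card (Sq P) = 4)
    (hcen : ∀ u ∈ Sq P, ∀ x ∈ P, u * x = x * u) (hexp : ∀ u ∈ Sq P, u ^ 2 = 1) :
    ∀ x ∈ P, x ^ 2 = 1 → x ∈ Sq P := by
  have hPn : P.Normal := h.normal
  have hP2 : IsPGroup 2 P := h.pgroup
  obtain ⟨f, t, hf, -, -, -⟩ := h.elems
  have hf5 : f ^ 5 = 1 := by rw [← hf]; exact pow_orderOf_eq_one f
  have hmem := s2a3_mem_frattini_iff hP2
  -- the hypotheses of CINV3
  have hΦc : frattini ↥P ≤ Subgroup.center ↥P := by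
    intro x hx
    rw [Subgroup.mem_center_iff]
    intro y
    apply Subtype.ext
    have := hcen (x : Y) ((hmem x).1 hx) (y : Y) y.2
    simpa using this.symm
  have hexp' : ∀ x ∈ frattini ↥P, x ^ 2 = 1 := by
    intro x hx
    apply Subtype.ext
    have := hexp (x : Y) ((hmem x).1 hx)
    simpa using this
  have h4 : Nat.card ↥(frattini ↥P) = 4 := by
    rw [← hΦ, ← frattini_map_eq_Sq P hP2]
    exact Nat.card_congr
      ((frattini ↥P).equivMapOfInjective P.subtype P.subtype_injective).toEquiv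
  have h16 : Nat.card (↥P ⧸ frattini ↥P) = 16 := by
    have h1 := Subgroup.card_eq_card_quotient_mul_card_subgroup (frattini ↥P)
    have h2 := card_P h
    rw [hΦ] at h2
    rw [h4, h2] at h1
    omega
  have hφ5 : (MulAut.conjNormal f : MulAut ↥P) ^ 5 = 1 := by
    rw [← map_pow, hf5, map_one]
  have hfree : ∀ x : ↥P, (MulAut.conjNormal f : MulAut ↥P) x * x⁻¹ ∈ frattini ↥P →
      x ∈ frattini ↥P := by
    intro x hx
    rw [hmem] at hx ⊢
    apply free_V h f hf (x : Y) x.2
    simpa using hx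
  have key := invol_mem_frattini hP2 hΦc hexp' h4 h16 (MulAut.conjNormal f : MulAut ↥P) hφ5 hfree
  intro x hx hx2
  have := key ⟨x, hx⟩ (by apply Subtype.ext; simpa using hx2)
  exact (hmem ⟨x, hx⟩).1 this

end Setting

end Cfsg.Agent.Helper20.A5Q
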