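import Mathlib
import Cfsg.Agent.Lib.Helper20.A5QDefs
import Cfsg.Agent.Lib.Helper20.A3Defs
import Cfsg.Agent.S3117

set_option autoImplicit false
set_option linter.unusedSectionVars false
set_option linter.unusedVariables false

/-!
S3106 piece S2A4 (helper7 for helper20): if all involutions of `P` lie in `Φ(P)` of order `4` and
exponent `2`, then `P` has exactly three involutions, `Aut(P)` is solvable (S3117), and `Y` is solvable.
-/

namespace Cfsg.Agent.Helper20.A5Q

open Cfsg.Agent.Helper22.SecRank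
open Cfsg.Agent.Helper20.A3

section Setting

variable {Y : Type*} [Group Y] [Finite Y] {P : Subgroup Y}

/-- the involutions of `P` are the nonidentity elements of `Sq P` -/
theorem s2a4_card_invol (hΦ : Nat.card (Sq P) = 4)
    (hexp : ∀ u ∈ Sq P, u ^ 2 = 1) (hinv : ∀ x ∈ P, x ^ 2 = 1 → x ∈ Sq P) :
    Nat.card {x : ↥P // orderOf x = 2} = 3 := by
  classical
  haveI : Fact (Nat.Prime 2) := ⟨Nat.prime_two⟩
  let e : {x : ↥P // orderOf x = 2} ≃ {u : ↥(Sq P) // u ≠ 1} :=
    { toFun := fun x => ⟨⟨(x.1 : Y), hinv _ x.1.2 (by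
          have h := pow_orderOf_eq_one x.1
          rw [x.2] at h
          exact congrArg Subtype.val h)⟩, by
        intro h1
        have h2 : (x.1 : Y) = 1 := congrArg Subtype.val h1
        have h3 : x.1 = 1 := Subtype.ext h2
        have h4 := x.2
        rw [h3, orderOf_one] at h4
        norm_num at h4⟩
      invFun := fun u => ⟨⟨(u.1 : Y), Sq_le P u.1.2⟩, by
        apply orderOf_eq_prime
        · apply Subtype.ext
          exact hexp _ u.1.2
        · intro h1
          apply u.2
          apply Subtype.ext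
          have h2 : ((⟨(u.1 : Y), Sq_le P u.1.2⟩ : ↥P) : Y) = ((1 : ↥P) : Y) :=
            congrArg Subtype.val h1
          exact h2⟩
      left_inv := fun x => rfl
      right_inv := fun u => rfl }
  rw [Nat.card_congr e]
  haveI : Fintype ↥(Sq P) := Fintype.ofFinite _
  rw [Nat.card_eq_fintype_card, Fintype.card_subtype, Finset.filter_ne' Finset.univ (1 : ↥(Sq P)),
    Finset.card_erase_of_mem (Finset.mem_univ _), Finset.card_univ, ← Nat.card_eq_fintype_card, hΦ]

/-- **A5Q-S2A4.** -/
theorem s2a_contra (h : A5S Y P) (hΦ : Nat.card (Sq P) = 4)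
    (hexp : ∀ u ∈ Sq P, u ^ 2 = 1) (hinv : ∀ x ∈ P, x ^ 2 = 1 → x ∈ Sq P) : False := by
  haveI : Fact (Nat.Prime 2) := ⟨Nat.prime_two⟩
  haveI := h.normal
  have h3 := s2a4_card_invol hΦ hexp hinv
  haveI hsA : Group.IsSolvable (MulAut ↥P) := Cfsg.Agent.S3117.result h.pgroup h3
  haveI hsP : Group.IsSolvable ↥P := by
    haveI : Group.IsNilpotent ↥P := h.pgroup.isNilpotent
    infer_instance
  apply h.ns
  refine Group.isSolvable_of_ker_le_range P.subtype (MulAut.conjNormal (H := P)) ?_
  intro y hy
  rw [Subgroup.range_subtype]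
  apply h.faith
  intro x hx
  have h1 : MulAut.conjNormal (H := P) y = 1 := hy
  have h2 := congrArg (fun φ : MulAut ↥P => ((φ ⟨x, hx⟩ : ↥P) : Y)) h1
  simp only [MulAut.conjNormal_apply, MulAut.one_apply] at h2
  rw [h2, mul_inv_cancel]
  exact Subgroup.one_mem _

end Setting

end Cfsg.Agent.Helper20.A5Q
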