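import Mathlib
import Cfsg.Agent.Lib.Helper20.CSDefs
import Cfsg.Agent.Lib.Helper1.CSNHALL

/-!
# S4016 piece RED0: a normal `p`- or `p'`-subgroup from a proper normal subgroup
-/

set_option autoImplicit false

universe u

namespace Cfsg.Agent.Helper20.CS

open Subgroup

variable {p : ℕ} [Fact p.Prime] {G : Type u} [Group G] [Finite G]

/-- A normal Hall subgroup `K'` of the normal subgroup `N`, seen in `G`, is normal in `G`. -/
theorem red0_map_normal {N : Subgroup G} (hN : N.Normal) (K' : Subgroup ↥N) (hK' : K'.Normal)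
    (hcop : (Nat.card ↥K').Coprime K'.index) : (K'.map N.subtype).Normal := by
  have hco : (K'.map N.subtype).subgroupOf N = K' :=
    comap_map_eq_self_of_injective (subtype_injective N) K'
  refine normal_of_normal_hall hN (map_subtype_le K') ?_ ?_
  · rw [hco]; exact hK'
  · have h1 : Nat.card ↥(K'.map N.subtype) = Nat.card ↥K' :=
      card_map_of_injective (subtype_injective N)
    have h2 : (K'.map N.subtype).relIndex N = K'.index := by
      unfold relIndex
      rw [hco]
    rw [h1, h2]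
    exact hcop

theorem red0_map_ne_bot {N : Subgroup G} (K' : Subgroup ↥N) (h : K' ≠ ⊥) :
    K'.map N.subtype ≠ ⊥ := by
  intro h0
  exact h ((map_eq_bot_iff_of_injective K' (subtype_injective N)).mp h0)

theorem exists_normal_p_or_p' (hsub : ∀ H : Subgroup G, H ≠ ⊤ → Concl p ↥H)
    (N : Subgroup G) (hN : N.Normal) (hN1 : N ≠ ⊥) (hN2 : N ≠ ⊤) :
    ∃ N₀ : Subgroup G, N₀.Normal ∧ N₀ ≠ ⊥ ∧ (IsPGroup p ↥N₀ ∨ ¬ p ∣ Nat.card ↥N₀) := by
  have hpp : p.Prime := Fact.out
  rcases hsub N hN2 with ⟨Q, K', hK'n, hc⟩ | hall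
  · -- normal `p`-complement `K'`
    have hidx : K'.index = Nat.card ↥(Q : Subgroup ↥N) := by
      have := hc.symm.index_eq_card
      exact this
    have hcard : Nat.card ↥K' = (Q : Subgroup ↥N).index := by
      have := hc.index_eq_card
      exact this.symm
    have hKp : ¬ p ∣ Nat.card ↥K' := by
      rw [hcard]; exact Q.not_dvd_index
    have hKcop : (Nat.card ↥K').Coprime K'.index := by
      rw [hidx]
      obtain ⟨n, hn⟩ := IsPGroup.iff_card.mp Q.isPGroup'
      rw [hn]
      exact Nat.Coprime.pow_right n ((Nat.Prime.coprime_iff_not_dvd hpp).mpr hKp).symm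
    have hKn := red0_map_normal hN K' hK'n hKcop
    by_cases hKb : K' = ⊥
    · refine ⟨N, hN, hN1, Or.inl ?_⟩
      have hQ : (Q : Subgroup ↥N) = ⊤ := by
        rw [hKb] at hc; exact isComplement'_bot_left.mp hc
      have h1 := Q.isPGroup'
      rw [hQ] at h1
      exact h1.of_equiv topEquiv
    · refine ⟨K'.map N.subtype, hKn, red0_map_ne_bot K' hKb, Or.inr ?_⟩
      rw [card_map_of_injective (subtype_injective N)]
      exact hKp
  · -- normal Sylow `p`-subgroup `Q`
    let Q : Sylow p ↥N := default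
    have hQn : (Q : Subgroup ↥N).Normal := hall Q
    have hQidx : ¬ p ∣ (Q : Subgroup ↥N).index := Q.not_dvd_index
    have hQcop : (Nat.card ↥(Q : Subgroup ↥N)).Coprime (Q : Subgroup ↥N).index := by
      obtain ⟨n, hn⟩ := IsPGroup.iff_card.mp Q.isPGroup'
      rw [hn]
      exact Nat.Coprime.pow_left n ((Nat.Prime.coprime_iff_not_dvd hpp).mpr hQidx)
    have hKn := red0_map_normal hN (Q : Subgroup ↥N) hQn hQcop
    by_cases hQb : (Q : Subgroup ↥N) = ⊥
    · refine ⟨N, hN, hN1, Or.inr ?_⟩
      rw [hQb, index_bot] at hQidx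
      exact hQidx
    · refine ⟨(Q : Subgroup ↥N).map N.subtype, hKn, red0_map_ne_bot _ hQb, Or.inl ?_⟩
      exact Q.isPGroup'.map N.subtype

end Cfsg.Agent.Helper20.CS
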