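import Mathlib
import Cfsg.Agent.Lib.Helper20.CSDefs

/-!
# S4016 pieces REDQ / REDP: shared auxiliary lemmas (prefix `red_`)
-/

set_option autoImplicit false

universe u

namespace Cfsg.Agent.Helper20.CS

open Subgroup

variable {p : ℕ} [Fact p.Prime] {G : Type u} [Group G] [Finite G]

/-- a normal `p'`-subgroup of `p`-power index is a normal `p`-complement -/
theorem red_hasNormalPComplement_of (N : Subgroup G) (hN : N.Normal)
    (hcop : ¬ p ∣ Nat.card ↥N) {m : ℕ} (hidx : N.index = p ^ m) :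
    Cfsg.HasNormalPComplement p G := by
  have hpp : p.Prime := Fact.out
  obtain ⟨P⟩ : Nonempty (Sylow p G) := inferInstance
  refine ⟨P, N, hN, ?_⟩
  have hcardX : Nat.card G = Nat.card ↥N * p ^ m := by
    rw [← hidx]; exact (N.card_mul_index).symm
  have hfac : (Nat.card G).factorization p = m := by
    rw [hcardX, Nat.factorization_mul (Nat.card_pos (α := ↥N)).ne' (pow_ne_zero _ hpp.ne_zero)]
    rw [Finsupp.add_apply, Nat.factorization_eq_zero_of_not_dvd hcop,
      hpp.factorization_pow, zero_add]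
    simp
  have hcardP : Nat.card ↥(P : Subgroup G) = p ^ m := by
    rw [Sylow.card_eq_multiplicity, hfac]
  apply Subgroup.isComplement'_of_coprime
  · rw [hcardP, ← hcardX]
  · rw [hcardP]
    exact Nat.Coprime.pow_right m ((Nat.Prime.coprime_iff_not_dvd hpp).mpr hcop).symm

/-- order of a full preimage -/
theorem red_card_comap_mk (N : Subgroup G) [N.Normal] (K : Subgroup (G ⧸ N)) :
    Nat.card ↥(K.comap (QuotientGroup.mk' N)) = Nat.card ↥K * Nat.card ↥N := by
  have h1 := (K.comap (QuotientGroup.mk' N)).card_mul_index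
  have h2 : (K.comap (QuotientGroup.mk' N)).index = K.index :=
    K.index_comap_of_surjective (QuotientGroup.mk'_surjective N)
  have h3 := K.card_mul_index
  have h4 := N.card_mul_index
  rw [Subgroup.index_eq_card] at h4
  have h5 : K.index ≠ 0 := index_ne_zero_of_finite
  rw [h2] at h1
  have h6 : Nat.card ↥(K.comap (QuotientGroup.mk' N)) * K.index =
      (Nat.card ↥K * Nat.card ↥N) * K.index := by
    rw [h1, ← h4, ← h3]; ring
  exact Nat.eq_of_mul_eq_mul_right (Nat.pos_of_ne_zero h5) h6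

/-- if all Sylow `p`-subgroups of `G ⧸ N₀` are normal then `P N₀` is normal in `G` -/
theorem red_sup_normal_of_quot (N₀ : Subgroup G) [N₀.Normal]
    (hall : ∀ P : Sylow p (G ⧸ N₀), (P : Subgroup (G ⧸ N₀)).Normal) (P : Sylow p G) :
    ((P : Subgroup G) ⊔ N₀).Normal := by
  have hs := QuotientGroup.mk'_surjective N₀
  have h1 : ((P.mapSurjective hs : Sylow p (G ⧸ N₀)) : Subgroup (G ⧸ N₀)).Normal := hall _
  rw [Sylow.coe_mapSurjective] at h1
  have h2 : (((P : Subgroup G).map (QuotientGroup.mk' N₀)).comap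
      (QuotientGroup.mk' N₀)).Normal := h1.comap _
  rwa [comap_map_eq, QuotientGroup.ker_mk'] at h2

/-- `Z N₀` is a `p'`-group if `Z` and the normal subgroup `N₀` are -/
theorem red_not_dvd_card_sup (N₀ : Subgroup G) [N₀.Normal] (Z : Subgroup G)
    (h1 : ¬ p ∣ Nat.card ↥N₀) (h2 : ¬ p ∣ Nat.card ↥Z) : ¬ p ∣ Nat.card ↥(Z ⊔ N₀) := by
  have hpp : p.Prime := Fact.out
  have e1 : N₀.relIndex (Z ⊔ N₀) = N₀.relIndex Z := relIndex_sup_right Z N₀
  have e2 : (⊥ : Subgroup G).relIndex N₀ * N₀.relIndex (Z ⊔ N₀) =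
      (⊥ : Subgroup G).relIndex (Z ⊔ N₀) := relIndex_mul_relIndex _ _ _ bot_le le_sup_right
  rw [relIndex_bot_left, relIndex_bot_left, e1] at e2
  rw [← e2]
  intro hd
  rcases (Nat.Prime.dvd_mul hpp).mp hd with hd | hd
  · exact h1 hd
  · exact h2 (hd.trans (relIndex_dvd_card _ _))

omit [Fact p.Prime] [Finite G] in
/-- a cyclic subgroup is commutative (elementwise form) -/
theorem red_comm_of_cyclic (P : Subgroup G) (hP : IsCyclic ↥P) :
    ∀ a ∈ P, ∀ b ∈ P, a * b = b * a := by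
  intro a ha b hb
  obtain ⟨g, hg⟩ := hP.exists_zpow_surjective
  obtain ⟨i, hi⟩ := hg ⟨a, ha⟩
  obtain ⟨j, hj⟩ := hg ⟨b, hb⟩
  have h1 : (⟨a, ha⟩ : ↥P) * ⟨b, hb⟩ = ⟨b, hb⟩ * ⟨a, ha⟩ := by
    rw [← hi, ← hj]
    exact ((Commute.refl g).zpow_zpow i j).eq
  exact congrArg Subtype.val h1

/-- if a Sylow `p`-subgroup is normal then all are -/
theorem red_all_normal_of_normal (P : Sylow p G) (hP : (P : Subgroup G).Normal) :
    ∀ Q : Sylow p G, (Q : Subgroup G).Normal := by
  intro Q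
  obtain ⟨g, rfl⟩ := MulAction.exists_smul_eq G P Q
  rw [Sylow.smul_eq_of_normal]
  exact hP

end Cfsg.Agent.Helper20.CS
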