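import Mathlib
import Cfsg.Agent.Lib.Helper20.CSDefs
import Cfsg.Agent.Lib.Helper22.Burnside
import Cfsg.Agent.Lib.Helper7.CSREDAux
import Cfsg.Agent.Lib.Helper7.CSRED0

/-!
# S4016 piece REDP: lifting the conclusion through a normal `p`-subgroup
-/

set_option autoImplicit false

universe u

namespace Cfsg.Agent.Helper20.CS

open Subgroup

variable {p : ℕ} [Fact p.Prime] {G : Type u} [Group G] [Finite G]

theorem concl_of_normal_p (h : Hyp p G) (N₀ : Subgroup G) [N₀.Normal] (hN₀ : IsPGroup p ↥N₀)
    (hq : Concl p (G ⧸ N₀))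
    (hp' : ∀ K : Subgroup G, K.Normal → K ≠ ⊥ → ¬ p ∣ Nat.card ↥K → Concl p G) : Concl p G := by
  have hpp : p.Prime := Fact.out
  let P : Sylow p G := default
  have hN₀P : N₀ ≤ (P : Subgroup G) := hN₀.le_sylow_of_normal P
  have hPcomm := red_comm_of_cyclic (P : Subgroup G) (h.1 P)
  rcases hq with ⟨Pb, Hb, hHbn, hc⟩ | hall
  · -- normal `p`-complement `Hb` of the quotient
    set H : Subgroup G := Hb.comap (QuotientGroup.mk' N₀) with hH
    have hHn : H.Normal := hHbn.comap _
    have hN₀H : N₀ ≤ H := by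
      intro n hn
      rw [hH, mem_comap]
      have h1 : QuotientGroup.mk' N₀ n = 1 := (QuotientGroup.eq_one_iff n).mpr hn
      rw [h1]; exact one_mem _
    have hHcard : Nat.card ↥H = Nat.card ↥Hb * Nat.card ↥N₀ := red_card_comap_mk N₀ Hb
    have hHidx : H.index = Hb.index :=
      Hb.index_comap_of_surjective (QuotientGroup.mk'_surjective N₀)
    have hHbidx : Hb.index = Nat.card ↥(Pb : Subgroup (G ⧸ N₀)) := hc.symm.index_eq_card
    have hHbcard : Nat.card ↥Hb = (Pb : Subgroup (G ⧸ N₀)).index := hc.index_eq_card.symm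
    have hHbp : ¬ p ∣ Nat.card ↥Hb := by rw [hHbcard]; exact Pb.not_dvd_index
    obtain ⟨n, hn⟩ := IsPGroup.iff_card.mp Pb.isPGroup'
    have hHidx' : H.index = p ^ n := by rw [hHidx, hHbidx, hn]
    -- `C = C_G(N₀)`
    set C : Subgroup G := centralizer (N₀ : Set G) with hC
    have hCn : C.Normal := normal_centralizer
    have hPC : (P : Subgroup G) ≤ C := by
      intro x hx
      rw [hC, mem_centralizer_iff]
      intro m hm
      exact hPcomm m (hN₀P hm) x hx
    set D : Subgroup G := H ⊓ C with hD
    have hDn : D.Normal := Subgroup.normal_inf_normal H C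
    have hN₀D : N₀ ≤ D := le_inf hN₀H (hN₀P.trans hPC)
    have hQp : IsPGroup p ↥(N₀.subgroupOf D) := hN₀.comap_subtype
    have hQidx : ¬ p ∣ (N₀.subgroupOf D).index := by
      have e1 : N₀.relIndex D * D.relIndex H = N₀.relIndex H :=
        relIndex_mul_relIndex _ _ _ hN₀D inf_le_left
      have e2 : Nat.card ↥N₀ * N₀.relIndex H = Nat.card ↥H := by
        have := relIndex_mul_relIndex ⊥ N₀ H bot_le hN₀H
        rwa [relIndex_bot_left, relIndex_bot_left] at this
      have e3 : N₀.relIndex H = Nat.card ↥Hb := by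
        have h0 : 0 < Nat.card ↥N₀ := Nat.card_pos
        have : Nat.card ↥N₀ * N₀.relIndex H = Nat.card ↥N₀ * Nat.card ↥Hb := by
          rw [e2, hHcard, mul_comm]
        exact Nat.eq_of_mul_eq_mul_left h0 this
      intro hd
      apply hHbp
      rw [← e3, ← e1]
      exact Dvd.dvd.mul_right hd _
    let Q : Sylow p ↥D := hQp.toSylow hQidx
    have hQcent : normalizer ((Q : Subgroup ↥D) : Set ↥D) ≤
        centralizer ((Q : Subgroup ↥D) : Set ↥D) := by
      intro x _
      rw [mem_centralizer_iff]
      intro m hm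
      have hm' : (m : G) ∈ N₀ := mem_subgroupOf.mp hm
      have hx : (x : G) ∈ C := x.2.2
      rw [hC, mem_centralizer_iff] at hx
      exact Subtype.ext (hx _ hm')
    obtain ⟨Q', K', hK'n, hcK⟩ :=
      Cfsg.Agent.Helper22.hasNormalPComplement_of_normalizer_le_centralizer Q hQcent
    have hK'card : Nat.card ↥K' = (Q' : Subgroup ↥D).index := hcK.index_eq_card.symm
    have hK'idx : K'.index = Nat.card ↥(Q' : Subgroup ↥D) := hcK.symm.index_eq_card
    have hK'p : ¬ p ∣ Nat.card ↥K' := by rw [hK'card]; exact Q'.not_dvd_index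
    have hK'cop : (Nat.card ↥K').Coprime K'.index := by
      rw [hK'idx]
      obtain ⟨a, ha⟩ := IsPGroup.iff_card.mp Q'.isPGroup'
      rw [ha]
      exact Nat.Coprime.pow_right a ((Nat.Prime.coprime_iff_not_dvd hpp).mpr hK'p).symm
    have hKn : (K'.map D.subtype).Normal := red0_map_normal hDn K' hK'n hK'cop
    by_cases hKb : K' = ⊥
    · right
      refine red_all_normal_of_normal P ?_
      have hQ'top : (Q' : Subgroup ↥D) = ⊤ := by
        rw [hKb] at hcK; exact isComplement'_bot_left.mp hcK
      have hDp : IsPGroup p ↥D := by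
        have h1 := Q'.isPGroup'
        rw [hQ'top] at h1
        exact h1.of_equiv topEquiv
      have hCp : IsPGroup p ↥C := by
        obtain ⟨a, ha⟩ := IsPGroup.iff_card.mp hDp
        have h1 : D.relIndex C = H.relIndex C := inf_relIndex_right H C
        have h2 : H.relIndex C ∣ p ^ n := by
          rw [← hHidx']; exact relIndex_dvd_index_of_normal H C
        obtain ⟨b, -, hb⟩ := (Nat.dvd_prime_pow hpp).mp h2
        have h3 : Nat.card ↥D * D.relIndex C = Nat.card ↥C := by
          have := relIndex_mul_relIndex ⊥ D C bot_le inf_le_right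
          rwa [relIndex_bot_left, relIndex_bot_left] at this
        refine IsPGroup.of_card (n := a + b) ?_
        rw [← h3, ha, h1, hb, pow_add]
      have hPC' : C = (P : Subgroup G) := P.is_maximal' hCp hPC
      rw [← hPC']; exact hCn
    · refine hp' (K'.map D.subtype) hKn (red0_map_ne_bot K' hKb) ?_
      rw [card_map_of_injective (subtype_injective D)]
      exact hK'p
  · right
    refine red_all_normal_of_normal P ?_
    have h1 := red_sup_normal_of_quot N₀ hall P
    rwa [sup_eq_left.mpr hN₀P] at h1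

end Cfsg.Agent.Helper20.CS
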