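import Mathlib
import Cfsg.Agent.Lib.Helper20.CSDefs
import Cfsg.Agent.Lib.Helper22.Burnside
import Cfsg.Agent.Lib.Helper20.CyclicSylowAut
import Cfsg.Agent.Lib.Helper20.PrimaryParts
import Cfsg.Agent.Lib.Helper7.CSREDAux
import Cfsg.Agent.Lib.Helper1.CSNHALL

/-!
# S4016 piece REDQ: lifting the conclusion through a normal `p'`-subgroup
-/

set_option autoImplicit false

universe u

namespace Cfsg.Agent.Helper20.CS

open Subgroup

variable {p : ℕ} [Fact p.Prime] {G : Type u} [Group G] [Finite G]

omit [Fact p.Prime] [Finite G] in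
/-- the commutator `⁅k, w⁆` centralizes `n ∈ N₀` when `k` centralizes the normal subgroup `N₀` -/
theorem redq_comm_identity (N₀ : Subgroup G) [hN : N₀.Normal] {k w n : G}
    (hk : ∀ m ∈ N₀, k * m = m * k) (hn : n ∈ N₀) :
    n * (k * w * k⁻¹ * w⁻¹) = k * w * k⁻¹ * w⁻¹ * n := by
  have hn' : w⁻¹ * n * w ∈ N₀ := by
    have := hN.conj_mem n hn w⁻¹
    simpa using this
  have e2 : k * n = n * k := hk n hn
  have e1 : k⁻¹ * (w⁻¹ * n * w) = (w⁻¹ * n * w) * k⁻¹ := by
    have := hk _ hn'
    calc k⁻¹ * (w⁻¹ * n * w) = k⁻¹ * ((w⁻¹ * n * w) * k) * k⁻¹ := by group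
      _ = k⁻¹ * (k * (w⁻¹ * n * w)) * k⁻¹ := by rw [this]
      _ = (w⁻¹ * n * w) * k⁻¹ := by group
  calc n * (k * w * k⁻¹ * w⁻¹) = (n * k) * w * k⁻¹ * w⁻¹ := by group
    _ = (k * n) * w * k⁻¹ * w⁻¹ := by rw [e2]
    _ = k * w * ((w⁻¹ * n * w) * k⁻¹) * w⁻¹ := by group
    _ = k * w * (k⁻¹ * (w⁻¹ * n * w)) * w⁻¹ := by rw [e1]
    _ = k * w * k⁻¹ * w⁻¹ * n := by group

theorem concl_of_normal_p' (h : Hyp p G) (N₀ : Subgroup G) [N₀.Normal]
    (hN₀ : ¬ p ∣ Nat.card ↥N₀) (hq : Concl p (G ⧸ N₀)) : Concl p G := by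
  have hpp : p.Prime := Fact.out
  rcases hq with ⟨Pb, Kb, hKbn, hc⟩ | hall
  · left
    have hKn : (Kb.comap (QuotientGroup.mk' N₀)).Normal := hKbn.comap _
    have hcard := red_card_comap_mk N₀ Kb
    have hidx : (Kb.comap (QuotientGroup.mk' N₀)).index = Kb.index :=
      Kb.index_comap_of_surjective (QuotientGroup.mk'_surjective N₀)
    have hKbidx : Kb.index = Nat.card ↥(Pb : Subgroup (G ⧸ N₀)) := hc.symm.index_eq_card
    have hKbcard : Nat.card ↥Kb = (Pb : Subgroup (G ⧸ N₀)).index := hc.index_eq_card.symm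
    obtain ⟨n, hn⟩ := IsPGroup.iff_card.mp Pb.isPGroup'
    refine red_hasNormalPComplement_of _ hKn ?_ (m := n) (by rw [hidx, hKbidx, hn])
    rw [hcard]
    intro hd
    rcases (Nat.Prime.dvd_mul hpp).mp hd with hd | hd
    · rw [hKbcard] at hd; exact Pb.not_dvd_index hd
    · exact hN₀ hd
  · let P : Sylow p G := default
    by_cases hNC : normalizer ((P : Subgroup G) : Set G) ≤ centralizer ((P : Subgroup G) : Set G)
    · left
      exact Cfsg.Agent.Helper22.hasNormalPComplement_of_normalizer_le_centralizer P hNC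
    · right
      refine red_all_normal_of_normal P ?_
      have hcycP : IsCyclic ↥(P : Subgroup G) := h.1 P
      have hPcomm := red_comm_of_cyclic (P : Subgroup G) hcycP
      obtain ⟨g, hgN, hgC⟩ := Set.not_subset.mp hNC
      obtain ⟨u, v, hguv, huv, ⟨k, hk⟩, hvcop, huz, hvz⟩ :=
        Cfsg.Agent.Helper20.exists_pPart_decomp p g (orderOf_pos g)
      have hzN : zpowers g ≤ normalizer ((P : Subgroup G) : Set G) := zpowers_le.mpr hgN
      have huN : u ∈ normalizer ((P : Subgroup G) : Set G) := hzN huz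
      have hvN : v ∈ normalizer ((P : Subgroup G) : Set G) := hzN hvz
      have huP : u ∈ (P : Subgroup G) :=
        Cfsg.Agent.Helper20.mem_sylow_of_mem_normalizer_of_orderOf_csa P huN ⟨k, hk⟩
      have hvC : v ∉ centralizer ((P : Subgroup G) : Set G) := by
        intro hv
        apply hgC
        rw [SetLike.mem_coe, hguv]
        refine mul_mem ?_ hv
        rw [mem_centralizer_iff]
        intro w hw
        exact hPcomm w hw u huP
      -- `Z = ⟨v⟩` is a `p'`-group
      have hZcard : ¬ p ∣ Nat.card ↥(zpowers v) := by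
        rw [Nat.card_zpowers]
        intro hd
        exact hpp.one_lt.ne' (Nat.Coprime.eq_one_of_dvd hvcop.symm hd)
      have hab := h.2 (zpowers v ⊔ N₀) (red_not_dvd_card_sup N₀ (zpowers v) hN₀ hZcard)
      have hZN₀ : ∀ k ∈ zpowers v, ∀ m ∈ N₀, k * m = m * k := fun k hk m hm =>
        hab k (mem_sup_left hk) m (mem_sup_right hm)
      -- `⁅Z, P⁆ = P`
      have hZle : zpowers v ≤ normalizer ((P : Subgroup G) : Set G) := zpowers_le.mpr hvN
      have hcop : (Nat.card ↥(P : Subgroup G)).Coprime (Nat.card ↥(zpowers v)) := by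
        obtain ⟨n, hn⟩ := IsPGroup.iff_card.mp P.isPGroup'
        rw [hn]
        exact Nat.Coprime.pow_left n ((Nat.Prime.coprime_iff_not_dvd hpp).mpr hZcard)
      have hcomm : ⁅zpowers v, (P : Subgroup G)⁆ = (P : Subgroup G) := by
        rcases IsPGroup.commutator_eq_bot_or_commutator_eq_self (P := (P : Subgroup G))
          (K := zpowers v) P.isPGroup' hZle hcop with h0 | h1
        · exfalso
          rw [commutator_eq_bot_iff_le_centralizer] at h0
          exact hvC (h0 (mem_zpowers v))
        · exact h1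
      have hPcent : (P : Subgroup G) ≤ centralizer (N₀ : Set G) := by
        rw [← hcomm, commutator_le]
        intro k hk w hw
        rw [mem_centralizer_iff]
        intro n hn
        rw [commutatorElement_def]
        exact redq_comm_identity N₀ (hZN₀ k hk) hn
      have hN₀cent : N₀ ≤ centralizer ((P : Subgroup G) : Set G) := by
        intro n hn
        rw [mem_centralizer_iff]
        intro w hw
        have := hPcent hw
        rw [mem_centralizer_iff] at this
        exact (this n hn).symm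
      have hle : (P : Subgroup G) ⊔ N₀ ≤ normalizer ((P : Subgroup G) : Set G) :=
        sup_le le_normalizer (hN₀cent.trans (centralizer_le_normalizer _))
      have hsubn : ((P : Subgroup G).subgroupOf ((P : Subgroup G) ⊔ N₀)).Normal :=
        (normal_subgroupOf_iff_le_normalizer le_sup_left).mpr hle
      have hcop2 : (Nat.card ↥(P : Subgroup G)).Coprime
          ((P : Subgroup G).relIndex ((P : Subgroup G) ⊔ N₀)) := by
        obtain ⟨n, hn⟩ := IsPGroup.iff_card.mp P.isPGroup'
        rw [hn]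
        refine Nat.Coprime.pow_left n ((Nat.Prime.coprime_iff_not_dvd hpp).mpr ?_)
        intro hd
        exact P.not_dvd_index (hd.trans (relIndex_dvd_index_of_le le_sup_left))
      exact normal_of_normal_hall (red_sup_normal_of_quot N₀ hall P) le_sup_left hsubn hcop2

end Cfsg.Agent.Helper20.CS
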