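import Mathlib
import Cfsg.Agent.Lib.Helper20.GL4SubDefs
import Cfsg.Agent.S0494

/-!
# S2553, piece ID60 (helper7, for helper20)

A finite group `K` with a normal simple subgroup `S` of order 60 and `C_K(S) = 1` is
isomorphic to `A₅` or `S₅`: `K` acts faithfully on the five Sylow 2-subgroups of `S`.
-/

set_option autoImplicit false

namespace Cfsg.Agent.Helper20.GL4Sub

namespace ID60

open scoped Pointwise

/-- the action of `K` on the Sylow 2-subgroups of the normal subgroup `S` -/
@[reducible] noncomputable def act {K : Type*} [Group K] (S : Subgroup K) [S.Normal] :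
    MulAction K (Sylow 2 S) :=
  MulAction.compHom _ (MulAut.conjNormal : K →* MulAut S)

theorem conjNormal_coe {K : Type*} [Group K] (S : Subgroup K) [S.Normal] (s : S) :
    (MulAut.conjNormal (s : K) : MulAut S) = MulAut.conj s := by
  ext h
  simp [MulAut.conjNormal_apply]

end ID60

open ID60 in
/-- ID60 -/
theorem id60 {K : Type*} [Group K] [Finite K] (S : Subgroup K) [S.Normal] (hS : IsSimpleGroup S)
    (h60 : Nat.card S = 60) (hC : Subgroup.centralizer (S : Set K) = ⊥) :
    Nonempty (K ≃* alternatingGroup (Fin 5)) ∨ Nonempty (K ≃* Equiv.Perm (Fin 5)) := by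
  classical
  have : Fact (Nat.Prime 2) := ⟨Nat.prime_two⟩
  let _ : MulAction K (Sylow 2 S) := act S
  -- five Sylow 2-subgroups
  have hcard5 : Nat.card (Sylow 2 S) = 5 := by
    obtain ⟨P⟩ : Nonempty (Sylow 2 S) := inferInstance
    rw [Sylow.card_eq_index_normalizer P]
    exact Cfsg.Agent.Helper2.simple_sixty_index_normalizer h60 P
  set φ : K →* Equiv.Perm (Sylow 2 S) := MulAction.toPermHom K (Sylow 2 S) with hφ
  -- the kernel meets `S` trivially
  have hker_smul : ∀ k : K, k ∈ φ.ker → ∀ P : Sylow 2 S,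
      (MulAut.conjNormal k : MulAut S) • P = P := by
    intro k hk P
    have h1 : φ k = 1 := hk
    have h2 : φ k P = P := by rw [h1]; rfl
    exact h2
  have hinter : (φ.ker.subgroupOf S) = ⊥ := by
    have : (φ.ker.subgroupOf S).Normal := Subgroup.Normal.subgroupOf (MonoidHom.normal_ker φ) S
    rcases (inferInstance : (φ.ker.subgroupOf S).Normal).eq_bot_or_eq_top with hb | ht
    · exact hb
    · exfalso
      obtain ⟨P⟩ : Nonempty (Sylow 2 S) := inferInstance
      have hidx : (Subgroup.normalizer ((P : Subgroup S) : Set S)).index = 5 :=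
        Cfsg.Agent.Helper2.simple_sixty_index_normalizer h60 P
      have htop : Subgroup.normalizer ((P : Subgroup S) : Set S) = ⊤ := by
        rw [eq_top_iff]
        intro s _
        have hs : s ∈ φ.ker.subgroupOf S := by rw [ht]; trivial
        have hs' : (s : K) ∈ φ.ker := hs
        have h3 := hker_smul (s : K) hs' P
        rw [conjNormal_coe] at h3
        exact Sylow.smul_eq_iff_mem_normalizer.1 h3
      rw [htop, Subgroup.index_top] at hidx
      omega
  have hinf : φ.ker ⊓ S = ⊥ := by
    rw [eq_bot_iff]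
    intro x hx
    have hx1 : (⟨x, hx.2⟩ : S) ∈ φ.ker.subgroupOf S := hx.1
    rw [hinter, Subgroup.mem_bot] at hx1
    have := congrArg Subtype.val hx1
    simpa using this
  have hkerbot : φ.ker = ⊥ := by
    rw [eq_bot_iff, ← hC]
    intro k hk
    rw [Subgroup.mem_centralizer_iff]
    intro s hs
    have hmem : k * s * k⁻¹ * s⁻¹ ∈ φ.ker ⊓ S := by
      refine ⟨?_, ?_⟩
      · have h1 : s * k⁻¹ * s⁻¹ ∈ φ.ker :=
          (MonoidHom.normal_ker φ).conj_mem _ (φ.ker.inv_mem hk) s
        have h2 : k * (s * k⁻¹ * s⁻¹) ∈ φ.ker := φ.ker.mul_mem hk h1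
        have e : k * s * k⁻¹ * s⁻¹ = k * (s * k⁻¹ * s⁻¹) := by group
        rw [e]; exact h2
      · have h1 : k * s * k⁻¹ ∈ S := (inferInstance : S.Normal).conj_mem s hs k
        exact S.mul_mem h1 (S.inv_mem hs)
    rw [hinf, Subgroup.mem_bot] at hmem
    have : k * s = s * k := by
      have e : k * s = (k * s * k⁻¹ * s⁻¹) * (s * k) := by group
      rw [e, hmem, one_mul]
    exact this.symm
  have hinj : Function.Injective φ := (MonoidHom.ker_eq_bot_iff φ).1 hkerbot
  -- cardinalities
  have hperm : Nat.card (Equiv.Perm (Sylow 2 S)) = 120 := by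
    rw [Nat.card_perm, hcard5]; rfl
  have hdvd1 : Nat.card K ∣ 120 := by
    rw [← hperm]; exact Subgroup.card_dvd_of_injective φ hinj
  have hdvd2 : 60 ∣ Nat.card K := by
    rw [← h60]; exact Subgroup.card_subgroup_dvd_card S
  have hK : Nat.card K = 60 ∨ Nat.card K = 120 := by
    obtain ⟨a, ha⟩ := hdvd2
    obtain ⟨b, hb⟩ := hdvd1
    have hpos : 0 < Nat.card K := Nat.card_pos
    have : a * b = 2 := by
      have : 60 * (a * b) = 60 * 2 := by rw [← mul_assoc, ← ha, ← hb]
      omega
    have ha' : a ∣ 2 := ⟨b, this.symm⟩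
    have ha2 : a ≤ 2 := Nat.le_of_dvd (by norm_num) ha'
    interval_cases a
    · omega
    · left; omega
    · right; omega
  rcases hK with hK | hK
  · left
    have htop : S = ⊤ := by
      apply Subgroup.eq_top_of_card_eq
      rw [h60, hK]
    obtain ⟨e⟩ := Cfsg.Agent.Helper2.simple_sixty_equiv_alternating h60
    have e1 : S ≃* K := (MulEquiv.subgroupCongr htop).trans Subgroup.topEquiv
    exact ⟨e1.symm.trans e⟩
  · right
    have hbij : Function.Bijective φ :=
      hinj.bijective_of_nat_card_le (by rw [hperm, hK])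
    have e5 : Sylow 2 S ≃ Fin 5 := Finite.equivFinOfCardEq hcard5
    exact ⟨(MulEquiv.ofBijective φ hbij).trans (Equiv.permCongrHom e5)⟩

end Cfsg.Agent.Helper20.GL4Sub
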