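import Mathlib
import Cfsg.Agent.Lib.Helper20.GL4SubDefs

/-!
# S2553, piece MOVED (helper7, for helper20)

A simple subgroup of order 360 of the alternating group of degree 8 moves exactly 6 points.
-/

set_option autoImplicit false

namespace Cfsg.Agent.Helper20.GL4Sub

namespace MOVED

/-- the inclusion of a subgroup of `A8` into the symmetric group -/
def incl (S : Subgroup A8) : ↥S →* Equiv.Perm (Fin 8) :=
  (alternatingGroup (Fin 8)).subtype.comp S.subtype

theorem incl_injective (S : Subgroup A8) : Function.Injective (incl S) := by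
  intro a b hab
  have h1 : ((a : A8) : Equiv.Perm (Fin 8)) = ((b : A8) : Equiv.Perm (Fin 8)) := hab
  exact Subtype.ext (Subtype.ext h1)

/-- the action of a subgroup of `A8` on the 8 points -/
@[reducible] def act (S : Subgroup A8) : MulAction ↥S (Fin 8) :=
  MulAction.compHom (Fin 8) (incl S)

/-- divisors of 360 between 6 and 8 -/
theorem arith (n m : ℕ) (h : m * n = 360) (h6 : 6 ≤ n) (h8 : n ≤ 8) :
    n = 6 ∨ (n = 8 ∧ m = 45) := by
  interval_cases n
  · left; rfl
  · omega
  · right; exact ⟨rfl, by omega⟩

end MOVED

open MOVED in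
/-- MOVED -/
theorem card_moved (h6 : Idx6) (h45 : Ord45) (h15 : NoFix15) (S : Subgroup A8)
    (hS : IsSimpleGroup S) (h : Nat.card S = 360) : Nat.card (moved S) = 6 := by
  classical
  let _ : MulAction ↥S (Fin 8) := act S
  have hsmul : ∀ (s : S) (x : Fin 8), s • x = ((s : A8) : Equiv.Perm (Fin 8)) x :=
    fun _ _ => rfl
  have hmoved : ∀ x, x ∈ moved S ↔ ∃ s : S, s • x ≠ x := by
    intro x
    constructor
    · rintro ⟨s, hs, hx⟩
      exact ⟨⟨s, hs⟩, hx⟩
    · rintro ⟨s, hx⟩
      exact ⟨(s : A8), s.2, hx⟩
  -- orbits of moved points have size 6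
  have key : ∀ x ∈ moved S, (MulAction.orbit S x).ncard = 6 := by
    intro x hx
    set T : Subgroup S := MulAction.stabilizer S x with hTdef
    have hT : T ≠ ⊤ := by
      intro ht
      obtain ⟨s, hs⟩ := (hmoved x).1 hx
      apply hs
      have : s ∈ T := by rw [ht]; trivial
      exact this
    have h6' : 6 ≤ T.index := h6 S h T hT
    have hidx : T.index = (MulAction.orbit S x).ncard := MulAction.index_stabilizer S x
    have hle8 : (MulAction.orbit S x).ncard ≤ 8 := by
      have := Set.ncard_le_card (MulAction.orbit S x)
      simpa using this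
    have hmul : Nat.card T * T.index = 360 := by rw [T.card_mul_index, h]
    rcases arith T.index (Nat.card T) hmul h6' (hidx ▸ hle8) with h1 | ⟨_, h2⟩
    · rw [← hidx]; exact h1
    · exfalso
      obtain ⟨g, hg⟩ := h45 T h2
      have hfix : (incl S (g : S)) x = x := by
        have : (g : S) • x = x := g.2
        exact this
      apply h15 (incl S (g : S)) x hfix
      rw [orderOf_injective (incl S) (incl_injective S), Subgroup.orderOf_coe, hg]
  -- `moved S` is nonempty
  have hne : ∃ x, x ∈ moved S := by
    have hnt : Nontrivial S := by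
      rw [← Finite.one_lt_card_iff_nontrivial, h]; norm_num
    obtain ⟨s, hs⟩ := exists_ne (1 : S)
    have hs' : incl S s ≠ 1 := by
      intro h1
      apply hs
      apply incl_injective S
      rw [h1, map_one]
    have hex : ∃ x, (incl S s) x ≠ x := by
      by_contra hcon
      push Not at hcon
      exact hs' (Equiv.ext hcon)
    obtain ⟨x, hx⟩ := hex
    exact ⟨x, (hmoved x).2 ⟨s, hx⟩⟩
  obtain ⟨x₀, hx₀⟩ := hne
  have hset : moved S = MulAction.orbit S x₀ := by
    ext y
    constructor
    · intro hy
      by_contra hyn
      have hdisj : Disjoint (MulAction.orbit S x₀) (MulAction.orbit S y) := by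
        rw [Set.disjoint_left]
        intro z hz1 hz2
        apply hyn
        have e1 : MulAction.orbit S z = MulAction.orbit S x₀ := MulAction.orbit_eq_iff.2 hz1
        have e2 : MulAction.orbit S z = MulAction.orbit S y := MulAction.orbit_eq_iff.2 hz2
        rw [← e1, e2]
        exact MulAction.mem_orbit_self y
      have h12 := Set.ncard_union_eq hdisj
      rw [key x₀ hx₀, key y hy] at h12
      have hle := Set.ncard_le_card (MulAction.orbit S x₀ ∪ MulAction.orbit S y)
      rw [h12] at hle
      simp at hle
    · intro hy
      by_contra hyn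
      have hall : ∀ s : S, s • y = y := by
        intro s
        by_contra hs
        exact hyn ((hmoved y).2 ⟨s, hs⟩)
      have e1 : MulAction.orbit S y = MulAction.orbit S x₀ := MulAction.orbit_eq_iff.2 hy
      have hsub : MulAction.orbit S y ⊆ {y} := by
        rintro z ⟨s, rfl⟩
        exact hall s
      have hc : (MulAction.orbit S y).ncard ≤ 1 := by
        have := Set.ncard_le_ncard hsub (Set.finite_singleton y)
        simpa using this
      rw [e1, key x₀ hx₀] at hc
      omega
  rw [hset, Nat.card_coe_set_eq]
  exact key x₀ hx₀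

end Cfsg.Agent.Helper20.GL4Sub
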