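import Mathlib
import Cfsg.Prelude.Def_Transfer
import Cfsg.Agent.Lib.Helper20.SchDefs
import Cfsg.Agent.Lib.Helper22.SchPLDefs

/-!
# S4395 piece SCH-BOUND, core (helper7)

The assembly `t ≤ a₀` with the inputs STRUCT, DER, THETA, COMMFORM (and a field `F` with an element `μ`
of order `q`) as hypotheses.
-/

set_option autoImplicit false

namespace Cfsg.Agent.Helper20.Sch

open Cfsg.Agent.Helper22.SchPL (SchAct)

universe u

variable {p q : ℕ} [Fact p.Prime] [Fact q.Prime]

/-- `|P| = |N| * |PN/N|` for `N ≤ P`, `N` normal -/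
theorem sch_bound_card_map {Y : Type*} [Group Y] [Finite Y] (P N : Subgroup Y) [N.Normal]
    (hNP : N ≤ P) : Nat.card P = Nat.card N * Nat.card (P.map (QuotientGroup.mk' N)) := by
  set f : ↥P →* Y ⧸ N := (QuotientGroup.mk' N).comp P.subtype with hf
  have h1 := Subgroup.card_mul_index f.ker
  rw [Subgroup.index_ker] at h1
  have h2 : f.range = P.map (QuotientGroup.mk' N) := by
    rw [hf, MonoidHom.range_comp, Subgroup.range_subtype]
  have h3 : f.ker = N.subgroupOf P := by
    ext x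
    rw [MonoidHom.mem_ker, Subgroup.mem_subgroupOf, hf, MonoidHom.comp_apply,
      QuotientGroup.mk'_apply, QuotientGroup.eq_one_iff]
    rfl
  have h4 : Nat.card (N.subgroupOf P) = Nat.card N :=
    Nat.card_congr (Subgroup.subgroupOfEquivOfLe hNP).toEquiv
  rw [h2, h3, h4] at h1
  exact h1.symm

/-- SCH-BOUND, core: the inputs as hypotheses. -/
theorem card_bound_core {Y : Type*} [Group Y] [Finite Y] {a t : ℕ}
    (a₀ : ℕ) (ha₀ : a₀ = if a % 2 = 1 then a else 3 * a / 2)
    (F : Type*) [Field F] [Finite F] (hF : Nat.card F = p ^ a) (μ : F)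
    (P : Subgroup Y) [P.Normal] (y : Y) (hPcard : Nat.card P = p ^ t)
    (hder : (derSub P).Normal ∧ derSub P ≤ Subgroup.center Y ∧ derSub P ≤ P)
    (htheta : ∀ (N : Subgroup Y) [N.Normal] (_ : N = derSub P),
      ∃ j : ℕ, j.Coprime q ∧ ∃ θ : Multiplicative F →* Y ⧸ N, Function.Injective θ ∧
        θ.range = P.map (QuotientGroup.mk' N) ∧
        ∀ x : F, θ (Multiplicative.ofAdd (μ * x)) =
          (QuotientGroup.mk' N (y ^ j)) * θ (Multiplicative.ofAdd x) *
            (QuotientGroup.mk' N (y ^ j))⁻¹)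
    (hcomm : ∀ (y₁ : Y) (N : Subgroup Y) [N.Normal] (_ : N = derSub P)
      (_ : N ≤ Subgroup.center Y) (θ : Multiplicative F →* Y ⧸ N)
      (_ : θ.range = P.map (QuotientGroup.mk' N))
      (_ : ∀ x : F, θ (Multiplicative.ofAdd (μ * x)) =
        (QuotientGroup.mk' N y₁) * θ (Multiplicative.ofAdd x) * (QuotientGroup.mk' N y₁)⁻¹),
      Nat.card N ≤ p ^ (a₀ - a)) : t ≤ a₀ := by
  have hp : p.Prime := Fact.out
  obtain ⟨hNn, hNc, hNP⟩ := hder
  have : (derSub P).Normal := hNn
  obtain ⟨j, _, θ, hθi, hθr, hθy⟩ := htheta (derSub P) rfl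
  have hN := hcomm (y ^ j) (derSub P) rfl hNc θ hθr hθy
  have h1 := sch_bound_card_map P (derSub P) hNP
  have h2 : Nat.card (P.map (QuotientGroup.mk' (derSub P))) = p ^ a := by
    rw [← hθr, ← hF]
    have e : Multiplicative F ≃ θ.range := (MonoidHom.ofInjective hθi).toEquiv
    rw [← Nat.card_congr e]
    rfl
  rw [h2, hPcard] at h1
  have haa : a ≤ a₀ := by
    rw [ha₀]
    split_ifs <;> omega
  have h3 : p ^ t ≤ p ^ a₀ := by
    rw [h1]
    calc Nat.card (derSub P) * p ^ a ≤ p ^ (a₀ - a) * p ^ a := Nat.mul_le_mul_right _ hN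
      _ = p ^ a₀ := by rw [← pow_add]; congr 1; omega
  exact (Nat.pow_le_pow_iff_right hp.one_lt).1 h3

end Cfsg.Agent.Helper20.Sch
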