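import Mathlib
import Cfsg.Prelude.Def_Transfer
import Cfsg.Agent.Lib.Helper20.SchDefs
import Cfsg.Agent.Lib.Helper22.SchPLDefs
import Cfsg.Agent.Lib.Helper11.SchMU
import Cfsg.Agent.Lib.Helper7.SchBOUNDCore
import Cfsg.Agent.Lib.Helper7.SchTHETA
import Cfsg.Agent.Lib.Helper4.SchDER
import Cfsg.Agent.Lib.Helper9.SchSTRUCT
import Cfsg.Agent.Lib.Helper22.SchCOMMFORM

/-!
# S4395 piece SCH-BOUND (helper7): `t ≤ a₀` for a minimal non-`p`-nilpotent group of order `p^t q^r`
(assembly of STRUCT, DER, THETA, COMMFORM, MU via `card_bound_core`).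
-/

set_option autoImplicit false

namespace Cfsg.Agent.Helper20.Sch

open Cfsg.Agent.Helper22.SchPL (SchAct)

universe u

variable {p q : ℕ} [Fact p.Prime] [Fact q.Prime]

section structure_

/-- SCH-BOUND (assembly: STRUCT, DER, THETA, COMMFORM). -/
theorem card_bound {Y : Type*} [Group Y] [Finite Y] (hpq : p ≠ q) {a r t : ℕ}
    (ha : a = orderOf (p : ZMod q)) (a₀ : ℕ) (ha₀ : a₀ = if a % 2 = 1 then a else 3 * a / 2)
    (hY : MinNonPNilp p Y) (hcard : Nat.card Y = p ^ t * q ^ r) : t ≤ a₀ := by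
  have hp : p.Prime := Fact.out
  obtain ⟨P, hP, y, hPcard, _, hyq, hsup, hact⟩ := exists_struct hpq hY hcard
  have : P.Normal := hP
  have hPp : IsPGroup p P := IsPGroup.of_card hPcard
  have hapos : 0 < a := a_pos hpq ha
  have hF : Nat.card (GaloisField p a) = p ^ a := GaloisField.card p a hapos.ne'
  obtain ⟨μ, hμ⟩ := exists_mu (GaloisField p a) hpq ha hF
  obtain ⟨h1, h2, h3, _⟩ := derSub_facts (p := p) (q := q) P y hPp hsup hact
  exact card_bound_core (p := p) (q := q) a₀ ha₀ (GaloisField p a) hF μ P y hPcard ⟨h1, h2, h3⟩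
    (fun N _ hN => exists_theta hpq ha P y hPp hsup hyq hact N hN (GaloisField p a) hF μ hμ)
    (fun y₁ N _ hN hNc θ hθr hθy =>
      card_derSub_le hpq ha P y₁ N hN hNc (GaloisField p a) hF μ hμ θ hθr hθy a₀ ha₀)

end structure_

end Cfsg.Agent.Helper20.Sch
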