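import Mathlib
import Cfsg.Prelude.Def_Blocks
import Cfsg.Agent.Lib.Helper24.CharLinear
import Cfsg.Agent.Lib.Helper24.CharInduced
import Cfsg.Agent.Lib.Helper24.CharComplete
import Cfsg.Agent.Lib.Helper10.BR996Defs
import Cfsg.Agent.Lib.Helper21.BTDefs
import Cfsg.Agent.Lib.Helper21.BHDefs

/-!
# S4504 piece QUOTA (helper7): `quot_card`, `quot_cent`, `quot_reg`, `quot_perfect`

Exact signatures of `plans/S4504_Skel1.lean.txt` (section `GH`).  Auxiliary lemmas in `Cfsg.Agent.Helper21.BH.QUOTA`.
-/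

set_option autoImplicit false
set_option linter.unusedSectionVars false
set_option linter.unusedVariables false

namespace Cfsg.Agent.Helper21.BH

open scoped ComplexConjugate
open Cfsg Cfsg.Agent.Helper24 Cfsg.Agent.Helper10.BR996 Cfsg.Agent.Helper21.BT

universe u

namespace QUOTA

/-- an element of the centre whose `p`-th power is trivial is trivial when `p ∤ |Z(G)|` -/
theorem center_pow_eq_one {G : Type u} [Group G] [Finite G] {p : ℕ} (hp : p.Prime)
    (hZ : ¬ p ∣ Nat.card (Subgroup.center G)) (z : G) (hz : z ∈ Subgroup.center G) (hzp : z ^ p = 1) :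
    z = 1 := by
  have h1 : orderOf z ∣ p := orderOf_dvd_of_pow_eq_one hzp
  have h2 : orderOf z ∣ Nat.card (Subgroup.center G) := Subgroup.orderOf_dvd_natCard _ hz
  rcases (Nat.dvd_prime hp).1 h1 with h | h
  · exact orderOf_eq_one_iff.1 h
  · exact absurd (h ▸ h2) hZ

/-- `|G| = p * m` with `p ∤ m` when the Sylow `p`-subgroup has order `p` -/
theorem exists_card_eq {G : Type u} [Group G] [Finite G] {p : ℕ} [Fact p.Prime] (P : Sylow p G)
    (hP : Nat.card P = p) : ∃ m : ℕ, Nat.card G = p * m ∧ ¬ p ∣ m := by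
  have hp : p.Prime := Fact.out
  have h1 := P.card_eq_multiplicity
  rw [hP] at h1
  have h2 : (Nat.card G).factorization p = 1 := by
    have := Nat.pow_right_injective hp.two_le (show p ^ 1 = p ^ (Nat.card G).factorization p by
      rw [pow_one]; exact h1)
    exact this.symm
  have hdvd : p ∣ Nat.card G := by
    have := (P : Subgroup G).card_subgroup_dvd_card
    rwa [hP] at this
  obtain ⟨m, hm⟩ := hdvd
  refine ⟨m, hm, ?_⟩
  rintro ⟨k, rfl⟩
  have h3 : p ^ 2 ∣ Nat.card G := ⟨k, by rw [hm]; ring⟩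
  have h4 := (hp.pow_dvd_iff_le_factorization (Nat.card_pos (α := G)).ne').1 h3
  omega

/-- a `p`-element centralizing the Sylow subgroup `P` lies in `P` -/
theorem mem_sylow_of_centralizes {G : Type u} [Group G] [Finite G] {p : ℕ} [Fact p.Prime] (P : Sylow p G)
    (y : G) (hy : y ∈ Subgroup.centralizer ((P : Subgroup G) : Set G)) (hyp : y ^ p = 1) :
    y ∈ (P : Subgroup G) := by
  have hp : p.Prime := Fact.out
  have h1 : IsPGroup p (Subgroup.zpowers y) := by
    have hd : orderOf y ∣ p := orderOf_dvd_of_pow_eq_one hyp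
    rcases (Nat.dvd_prime hp).1 hd with h | h
    · exact IsPGroup.of_card (n := 0) (by rw [Nat.card_zpowers, h, pow_zero])
    · exact IsPGroup.of_card (n := 1) (by rw [Nat.card_zpowers, h, pow_one])
  have h2 : Subgroup.zpowers y ≤ Subgroup.normalizer ((P : Subgroup G) : Set G) := by
    rw [Subgroup.zpowers_le]
    exact Subgroup.centralizer_le_normalizer _ hy
  have h3 := IsPGroup.to_sup_of_normal_right' h1 P.isPGroup' h2
  have h4 := P.is_maximal' h3 le_sup_right
  rw [← h4]
  exact Subgroup.mem_sup_left (Subgroup.mem_zpowers y)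

/-- the image in `H` of an element of `C_G(P)` lies in the image of `P` -/
theorem map_mem_of_centralizes {G : Type u} [Group G] [Finite G] {H : Type u} [Group H] {p : ℕ}
    [Fact p.Prime] (P : Sylow p G) (π : G →* H) (hker : π.ker = Subgroup.center G)
    (hP : Nat.card P = p)
    (hV : ∀ v ∈ Subgroup.centralizer ((P : Subgroup G) : Set G), ¬ p ∣ orderOf v → v ∈ Subgroup.center G)
    (x : G) (hx : x ∈ Subgroup.centralizer ((P : Subgroup G) : Set G)) :
    π x ∈ (P : Subgroup G).map π := by
  have hp : p.Prime := Fact.out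
  obtain ⟨m, hm, hpm⟩ := exists_card_eq P hP
  -- `x ^ p` is `p`-regular, hence central
  have h1 : (x ^ p) ^ m = 1 := by
    rw [← pow_mul, ← hm]
    exact pow_card_eq_one'
  have h2 : ¬ p ∣ orderOf (x ^ p) := fun h => hpm (h.trans (orderOf_dvd_of_pow_eq_one h1))
  have h3 : x ^ p ∈ Subgroup.center G := hV _ (pow_mem hx p) h2
  have h4 : (π x) ^ p = 1 := by
    rw [← map_pow, ← MonoidHom.mem_ker, hker]
    exact h3
  -- `x ^ m` is a `p`-element of `C_G(P)`, hence lies in `P`
  have h5 : (x ^ m) ^ p = 1 := by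
    rw [← pow_mul, mul_comm, ← hm]
    exact pow_card_eq_one'
  have h6 : x ^ m ∈ (P : Subgroup G) := mem_sylow_of_centralizes P _ (pow_mem hx m) h5
  have h7 : (π x) ^ m ∈ (P : Subgroup G).map π := by
    rw [← map_pow]
    exact Subgroup.mem_map_of_mem π h6
  have h8 : m.Coprime (orderOf (π x)) := by
    have hd : orderOf (π x) ∣ p := orderOf_dvd_of_pow_eq_one h4
    have hc : m.Coprime p := ((Nat.Prime.coprime_iff_not_dvd hp).2 hpm).symm
    exact Nat.Coprime.coprime_dvd_right hd hc
  obtain ⟨k, hk⟩ := exists_pow_eq_self_of_coprime h8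
  rw [← hk]
  exact pow_mem h7 k

end QUOTA

section GH

variable {G : Type u} [Group G] [Fintype G] [Fintype (IrrCharacter G)]
  [Fintype (Subgroup.center G)]
variable {H : Type u} [Group H] [Fintype H] [Fintype (IrrCharacter H)]
variable {p : ℕ} [Fact p.Prime] {P : Sylow p G} {w : ℕ} {ζ ζ' : IrrCharacter G} {z₁ z₂ : G}
variable (π : G →* H)

local notation "𝒞" => Subgroup.centralizer ((P : Subgroup G) : Set G)
local notation "𝒩" => Subgroup.normalizer ((P : Subgroup G) : Set G)

/-- PIECE QUOT (1). -/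
theorem quot_card (hπ : Function.Surjective π) (hker : π.ker = Subgroup.center G)
    (C : Cfg p P w ζ ζ' z₁ z₂) : Nat.card ((P : Subgroup G).map π) = p := by
  have hp : p.Prime := Fact.out
  have h1 : Nat.card ((P : Subgroup G).map π) ∣ p := by
    have := Subgroup.card_map_dvd (P : Subgroup G) π
    rwa [C.hP] at this
  rcases (Nat.dvd_prime hp).1 h1 with h | h
  · exfalso
    have h2 : (P : Subgroup G).map π = ⊥ := Subgroup.card_eq_one.1 h
    rw [Subgroup.map_eq_bot_iff, hker] at h2
    have h3 := Subgroup.card_dvd_of_le h2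
    rw [C.hP] at h3
    exact C.hZ h3
  · exact h

/-- PIECE QUOT (2): `C_H(P̄) = P̄`. -/
theorem quot_cent (hπ : Function.Surjective π) (hker : π.ker = Subgroup.center G)
    (C : Cfg p P w ζ ζ' z₁ z₂) :
    Subgroup.centralizer (((P : Subgroup G).map π : Subgroup H) : Set H) ≤ (P : Subgroup G).map π := by
  have hp : p.Prime := Fact.out
  intro y hy
  obtain ⟨x, rfl⟩ := hπ y
  apply QUOTA.map_mem_of_centralizes P π hker C.hP C.hV
  rw [Subgroup.mem_centralizer_iff]
  intro a ha
  -- `z = x a x⁻¹ a⁻¹` is central with `z ^ p = 1`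
  have ha' : a ∈ (P : Subgroup G) := ha
  have hcomm : π a * π x = π x * π a :=
    (Subgroup.mem_centralizer_iff.1 hy) (π a) (Subgroup.mem_map_of_mem π ha')
  have hz : x * a * x⁻¹ * a⁻¹ ∈ Subgroup.center G := by
    rw [← hker, MonoidHom.mem_ker, map_mul, map_mul, map_mul, map_inv, map_inv, ← hcomm]
    group
  have hap : a ^ p = 1 := by
    have := Subgroup.orderOf_dvd_natCard (P : Subgroup G) ha'
    rw [C.hP] at this
    exact orderOf_dvd_iff_pow_eq_one.1 this
  set z := x * a * x⁻¹ * a⁻¹ with hzdef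
  have e1 : x * a * x⁻¹ = z * a := by rw [hzdef]; group
  have hza : Commute z a := (Subgroup.mem_center_iff.1 hz a).symm
  have e2 : (x * a * x⁻¹) ^ p = z ^ p * a ^ p := by
    rw [e1, hza.mul_pow]
  have e3 : (x * a * x⁻¹) ^ p = 1 := by
    rw [conj_pow, hap, mul_one, mul_inv_cancel]
  have hzp : z ^ p = 1 := by
    rw [e3, hap, mul_one] at e2
    exact e2.symm
  have hz1 : z = 1 := QUOTA.center_pow_eq_one hp C.hZ z hz hzp
  have : x * a * x⁻¹ = a := by rw [e1, hz1, one_mul]
  calc a * x = (x * a * x⁻¹) * x := by rw [this]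
    _ = x * a := by group

/-- PIECE QUOT (5). -/
theorem quot_reg (hπ : Function.Surjective π) (hker : π.ker = Subgroup.center G)
    (C : Cfg p P w ζ ζ' z₁ z₂) (x : G) : p ∣ orderOf (π x) ↔ p ∣ orderOf x := by
  have hp : p.Prime := Fact.out
  constructor
  · intro h
    exact h.trans (orderOf_map_dvd π x)
  · intro h
    by_contra hn
    have h1 : x ^ orderOf (π x) ∈ Subgroup.center G := by
      rw [← hker, MonoidHom.mem_ker, map_pow, pow_orderOf_eq_one]
    have h2 : (x ^ orderOf (π x)) ^ Nat.card (Subgroup.center G) = 1 :=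
      orderOf_dvd_iff_pow_eq_one.1 (Subgroup.orderOf_dvd_natCard (Subgroup.center G) h1)
    rw [← pow_mul] at h2
    have h3 := h.trans (orderOf_dvd_of_pow_eq_one h2)
    rcases (Nat.Prime.dvd_mul hp).1 h3 with h4 | h4
    · exact hn h4
    · exact C.hZ h4

/-- PIECE QUOT (6). -/
theorem quot_perfect (hπ : Function.Surjective π) (hperf : commutator G = ⊤) : commutator H = ⊤ := by
  rw [_root_.commutator_def] at hperf ⊢
  have h1 := Subgroup.map_commutator (⊤ : Subgroup G) ⊤ π
  rw [hperf, Subgroup.map_top_of_surjective π hπ] at h1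
  exact h1.symm

end GH

end Cfsg.Agent.Helper21.BH
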