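import Mathlib
import Cfsg.Agent.Lib.Helper5.TIAlgDefs
import Cfsg.Agent.Lib.Helper2.AltArtin

/-!
# S1786 sub-project TI-ALG, piece TIALG-ARTIN (helper7)

Artin's theorem for words in two letters, in helper5's `FreeMagma (Fin 2)` / `alg_ev` form: a bridge to
helper2's `Cfsg.Agent.Helper2.Alt.artin_words` (words `AWord`).
-/

set_option autoImplicit false

namespace Cfsg.Agent.Helper26.TI

open Cfsg.Agent.Helper2.Alt

/-- translation of words -/
def tialg_artin_toA : FreeMagma (Fin 2) → AWord
  | FreeMagma.of i => AWord.of (decide (i = 0))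
  | FreeMagma.mul u v => AWord.mul (tialg_artin_toA u) (tialg_artin_toA v)

theorem tialg_artin_ev {D : Type*} [NonUnitalNonAssocRing D] (x y : D) (u : FreeMagma (Fin 2)) :
    alg_ev x y u = (tialg_artin_toA u).ev x y := by
  induction u with
  | ih1 i =>
    fin_cases i
    · rfl
    · rfl
  | ih2 u v hu hv =>
    rw [alg_ev_mul, hu, hv]
    rfl

/-! ### TIALG-ARTIN (Artin: words in two letters associate) -/
theorem alg_artin {D : Type*} [NonUnitalNonAssocRing D]
    (hl : ∀ x y : D, x * (x * y) = x * x * y) (hr : ∀ x y : D, y * x * x = y * (x * x))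
    (x y : D) (u v w : FreeMagma (Fin 2)) :
    associator (alg_ev x y u) (alg_ev x y v) (alg_ev x y w) = 0 := by
  rw [tialg_artin_ev, tialg_artin_ev, tialg_artin_ev]
  exact artin_words ⟨hl, hr⟩ x y _ _ _ _ le_rfl

end Cfsg.Agent.Helper26.TI
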