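import Mathlib
import Cfsg.Agent.Lib.Helper8.TIG5Defs

/-!
# S1786 Part G, step G5, piece TI-G5-6A (helper7): `D = C_P(A)` has exponent 2
-/

set_option autoImplicit false

namespace Cfsg.Agent.Helper26.TI

variable {G : Type*} [Group G] {V A P PA U : Subgroup G}

/-- TI-G5-6A.  `D` has exponent 2. -/
theorem g5_D_sq (h : G5Data V A P PA U) (hnt : NoTwist V A PA)
    (h4 : ∀ d ∈ g5D A P, ∀ e ∈ g5E V PA, cm d e ∈ A)
    (h5 : ∀ y ∈ PA, ∀ d ∈ g5D A P, cm y d ∈ g5E V PA) :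
    ∀ d ∈ g5D A P, d * d = 1 := by
  intro d hd
  obtain ⟨hdP, hdA⟩ := mem_g5D.1 hd
  have htV : d * d ∈ V := h.sq_P d hdP
  have hcomm : ∀ y ∈ PA, (d * d) * y = y * (d * d) := by
    intro y hy
    have hy' : y⁻¹ ∈ PA := PA.inv_mem hy
    have he : cm d y⁻¹ ∈ g5E V PA := by
      have h1 := h5 y⁻¹ hy' d hd
      have h2 : cm d y⁻¹ = (cm y⁻¹ d)⁻¹ := by unfold cm; group
      rw [h2]
      exact (g5E V PA).inv_mem h1
    have hePA : cm d y⁻¹ ∈ PA := (mem_g5E.1 he).1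
    have ha3 : cm d (cm d y⁻¹) * (cm d y⁻¹ * cm d y⁻¹) ∈ A :=
      A.mul_mem (h4 d hd _ he) (h.sq_PA _ hePA)
    have hkey : cm y (d * d) = cm d (cm d y⁻¹) * (cm d y⁻¹ * cm d y⁻¹) := by
      have hc := h.A_central _ ha3 y hy
      have e1 : cm y (d * d) = y * ((cm d (cm d y⁻¹) * (cm d y⁻¹ * cm d y⁻¹)) * y⁻¹) := by
        unfold cm; group
      rw [e1, ← mul_assoc, ← hc, mul_assoc, mul_inv_cancel, mul_one]
    have h1 := hnt y hy (d * d) htV (by rw [hkey]; exact ha3)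
    unfold cm at h1
    have e2 : y * (d * d) = (y * (d * d) * y⁻¹ * (d * d)⁻¹) * ((d * d) * y) := by group
    rw [e2, h1, one_mul]
  have htA : d * d ∈ A :=
    h.cent_PA (d * d) (fun a ha => h.VA_comm (d * d) htV a ha) hcomm
  exact h.VA_inf _ htV htA

end Cfsg.Agent.Helper26.TI
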