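import Mathlib
import Cfsg.Prelude.Def_Transfer
import Cfsg.Agent.Lib.Helper7.Coprime
import Cfsg.Agent.Lib.Helper7.PLocal
import Cfsg.Agent.Lib.Helper7.PLocal7
import Cfsg.Agent.Lib.Helper1.CommutatorBasic
import Cfsg.Agent.Lib.Helper1.CharacteristicMap
import Cfsg.Agent.Lib.Helper21.PGroupFrattini
import Cfsg.Agent.Lib.Helper22.ClassTwo
import Cfsg.Agent.S0027

set_option autoImplicit false

namespace Cfsg.Agent.Helper7

open Subgroup
open scoped commutatorElement

variable {G : Type*} [Group G]

/-- For odd `p`: a `p'`-group `A` normalizing the `p`-group `P` and centralizing every element of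
order `p` of `P` centralizes `P`. -/
theorem le_centralizer_of_forall_orderOf_eq_prime_aux [Finite G] (p : ℕ) [Fact p.Prime]
    (hp : p ≠ 2) (A : Subgroup G) (hcop : (Nat.card ↥A).Coprime p) :
    ∀ n : ℕ, ∀ P : Subgroup G, Nat.card ↥P = n → IsPGroup p ↥P →
      A ≤ Subgroup.normalizer (P : Set G) →
      (∀ x ∈ P, orderOf x = p → A ≤ Subgroup.centralizer ({x} : Set G)) →
      A ≤ Subgroup.centralizer (P : Set G) := by
  have hpp := (Fact.out : p.Prime)
  intro n
  induction n using Nat.strong_induction_on with
  | _ n ih =>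
    intro P hPn hP hAP hfix
    have hcopP : (Nat.card ↥A).Coprime (Nat.card ↥P) := by
      obtain ⟨k, hk⟩ := hP.exists_card_eq
      rw [hk]
      exact Nat.Coprime.pow_right k hcop
    have hsolv : Group.IsSolvable ↥A ∨ Group.IsSolvable ↥P := Or.inr (isSolvable_of_isPGroup hP)
    have hPAle : ⁅P, A⁆ ≤ P := commutator_le_of_le_normalizer hAP
    by_cases hPA : ⁅P, A⁆ = P
    · -- the main case
      by_cases hPbot : P = ⊥
      · rw [hPbot]
        intro a _
        rw [Subgroup.mem_centralizer_iff]
        intro x hx
        rw [Subgroup.mem_bot.mp hx, one_mul, mul_one]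
      haveI : Nontrivial ↥P := (Subgroup.nontrivial_iff_ne_bot P).mpr hPbot
      set N := (frattini ↥P).map P.subtype with hN
      have hNP : N ≤ P := Subgroup.map_subtype_le _
      have hNlt : N < P := by
        refine lt_of_le_of_ne hNP ?_
        intro heq
        obtain ⟨K, hK, -⟩ := (eq_top_or_exists_le_coatom (⊥ : Subgroup ↥P)).resolve_left bot_ne_top
        have h1 : frattini ↥P ≤ K := frattini_le_coatom hK
        have h2 : frattini ↥P = ⊤ := by
          apply Subgroup.map_injective P.subtype_injective
          rw [← hN, heq, ← MonoidHom.range_eq_map, P.range_subtype]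
        rw [h2] at h1
        exact hK.1 (top_le_iff.mp h1)
      haveI : (frattini ↥P).Characteristic := frattini_characteristic
      have hAN : A ≤ Subgroup.normalizer (N : Set G) :=
        hAP.trans (Cfsg.Agent.Helper1.normalizer_le_normalizer_map_of_characteristic P (frattini ↥P))
      have hPN : P ≤ Subgroup.normalizer (N : Set G) :=
        Subgroup.le_normalizer.trans
          (Cfsg.Agent.Helper1.normalizer_le_normalizer_map_of_characteristic P (frattini ↥P))
      have hAcN : A ≤ Subgroup.centralizer (N : Set G) :=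
        ih _ (by rw [← hPn]; exact card_lt_card_of_lt hNlt) N rfl (hP.to_le hNP) hAN
          (fun x hx hxo => hfix x (hNP hx) hxo)
      have hAN0 : ⁅A, N⁆ = ⊥ := by
        rw [Subgroup.commutator_eq_bot_iff_le_centralizer]; exact hAcN
      have hNA0 : ⁅N, A⁆ = ⊥ := by rw [Subgroup.commutator_comm]; exact hAN0
      -- three subgroups lemma: `N` is central in `P`
      have hPN0 : ⁅P, N⁆ = ⊥ := by
        have h1 : ⁅⁅A, N⁆, P⁆ = ⊥ := by rw [hAN0, Subgroup.commutator_bot_left]
        have h2 : ⁅⁅N, P⁆, A⁆ = ⊥ := by
          have : ⁅N, P⁆ ≤ N := commutator_le_of_le_normalizer hPN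
          exact le_bot_iff.mp ((Subgroup.commutator_mono this le_rfl).trans hNA0.le)
        have h3 := Subgroup.commutator_commutator_eq_bot_of_rotate h1 h2
        rw [hPA] at h3
        exact h3
      have hNcent : ∀ x ∈ N, ∀ y ∈ P, y * x = x * y := by
        intro x hx y hy
        rw [Subgroup.commutator_eq_bot_iff_le_centralizer] at hPN0
        exact ((Subgroup.mem_centralizer_iff.mp (hPN0 hy)) x hx).symm
      have hfrat_center : frattini ↥P ≤ Subgroup.center ↥P := by
        intro z hz
        rw [Subgroup.mem_center_iff]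
        intro g
        apply Subtype.ext
        exact hNcent (z : G) ⟨z, hz, rfl⟩ (g : G) g.2
      -- commutators in `P` are central
      have hc : ∀ a b : ↥P, ⁅a, b⁆ ∈ Subgroup.center ↥P := by
        intro a b
        apply hfrat_center
        rw [commutatorElement_def]
        exact Cfsg.Agent.Helper21.commutator_mem_frattini_of_isPGroup hP a b
      -- the `p`-power map is a homomorphism
      have hpow : ∀ u v : ↥P, (u * v) ^ p = u ^ p * v ^ p := by
        intro u v
        have hc' : ∀ g : ↥P, g * ⁅v, u⁆ = ⁅v, u⁆ * g :=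
          fun g => Subgroup.mem_center_iff.1 (hc v u) g
        have h := Cfsg.Agent.Helper22.mul_pow_eq_of_central u v ⁅v, u⁆ hc'
          (Cfsg.Agent.Helper22.mul_eq_commutator_mul u v) p
        have hcp : ⁅v, u⁆ ^ p = 1 := by
          rw [← Cfsg.Agent.Helper22.commutator_pow_left_of_central u v (hc v u) p]
          have hvp : v ^ p ∈ Subgroup.center ↥P :=
            hfrat_center (Cfsg.Agent.Helper21.pow_mem_frattini_of_isPGroup hP v)
          rw [commutatorElement_def, ← Subgroup.mem_center_iff.1 hvp u]
          group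
        have hdvd : p ∣ p.choose 2 := by
          apply hpp.dvd_choose_self (by norm_num)
          have := hpp.two_le
          omega
        obtain ⟨k, hk⟩ := hdvd
        rw [h, hk, pow_mul, hcp, one_pow, one_mul]
      -- conclusion
      intro a ha
      rw [Subgroup.mem_centralizer_iff]
      intro x hx
      have haxP : a * x * a⁻¹ ∈ P := (Subgroup.mem_normalizer_iff.mp (hAP ha) x).mp hx
      set z := x⁻¹ * (a * x * a⁻¹) with hz
      have hzP : z ∈ P := P.mul_mem (P.inv_mem hx) haxP
      have hzp : z ^ p = 1 := by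
        have h1 := hpow (⟨x, hx⟩⁻¹ : ↥P) ⟨a * x * a⁻¹, haxP⟩
        have h2 := congrArg Subtype.val h1
        simp only [Subgroup.coe_pow, Subgroup.coe_mul, Subgroup.coe_inv] at h2
        rw [← hz] at h2
        rw [h2]
        have hxpN : x ^ p ∈ N :=
          ⟨(⟨x, hx⟩ : ↥P) ^ p, Cfsg.Agent.Helper21.pow_mem_frattini_of_isPGroup hP _, rfl⟩
        have h3 : a * x ^ p = x ^ p * a := by
          have := (Subgroup.mem_centralizer_iff.mp (hAcN ha)) (x ^ p) hxpN
          exact this.symm
        have h4 : (a * x * a⁻¹) ^ p = x ^ p := by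
          rw [conj_pow]
          calc a * x ^ p * a⁻¹ = x ^ p * a * a⁻¹ := by rw [h3]
            _ = x ^ p := by group
        rw [h4, inv_pow, inv_mul_cancel]
      have hza : a * z * a⁻¹ = z := by
        by_cases hz1 : z = 1
        · rw [hz1]; group
        · have hzo : orderOf z = p := orderOf_eq_prime hzp hz1
          have := hfix z hzP hzo ha
          rw [Subgroup.mem_centralizer_singleton_iff] at this
          calc a * z * a⁻¹ = z * a * a⁻¹ := by rw [this]
            _ = z := by group
      have hcopz : (orderOf a).Coprime (orderOf z) := by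
        have h1 : orderOf a ∣ Nat.card ↥A := by
          have := orderOf_dvd_natCard (⟨a, ha⟩ : ↥A)
          rwa [Subgroup.orderOf_mk] at this
        have h2 : orderOf z ∣ p := orderOf_dvd_of_pow_eq_one hzp
        exact Nat.Coprime.coprime_dvd_left h1 (Nat.Coprime.coprime_dvd_right h2 hcop)
      have := conj_eq_self_of_coprime a x (isOfFinOrder_of_finite a) hza hcopz
      calc x * a = (a * x * a⁻¹) * a := by rw [this]
        _ = a * x := by group
    · have hlt : ⁅P, A⁆ < P := lt_of_le_of_ne hPAle hPA
      have hAn : A ≤ Subgroup.normalizer ((⁅P, A⁆ : Subgroup G) : Set G) :=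
        Cfsg.Agent.Helper1.le_normalizer_commutator_right P A
      have h1 := ih _ (by rw [← hPn]; exact card_lt_card_of_lt hlt) ⁅P, A⁆ rfl (hP.to_le hPAle) hAn
        (fun x hx hxo => hfix x (hPAle hx) hxo)
      have h2 : ⁅⁅P, A⁆, A⁆ = ⊥ := by
        rw [Subgroup.commutator_eq_bot_iff_le_centralizer, Subgroup.le_centralizer_iff]
        exact h1
      rw [Cfsg.Agent.S0027.result A P hAP hcopP hsolv] at h2
      rw [Subgroup.commutator_eq_bot_iff_le_centralizer, Subgroup.le_centralizer_iff] at h2
      exact h2

end Cfsg.Agent.Helper7
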