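import Mathlib
import Cfsg.Prelude.Def_Local
import Cfsg.Prelude.Def_SolvableStructure
import Cfsg.Agent.Lib.Helper22.SchPLDefs
import Cfsg.Agent.Lib.Helper14.Basic

/-!
# S4394, piece QUOT: transfer of piece CYC to `G ⧸ O_p(G)`.
-/

set_option autoImplicit false
open Pointwise

namespace Cfsg.Agent.Helper22.SchPL

open Cfsg

variable {G : Type*} [Group G] [Finite G] {p : ℕ} [Fact p.Prime]

/-- Piece QUOT: transfer of CYC to `G ⧸ O_p(G)` (the input CYC is the hypothesis `hcyc`). -/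
theorem relIndex_pCore_eq (hG : IsPSolvable p G)
    (Q : Sylow p G) (Z : Subgroup G) (h : SESub p (Q : Subgroup G) Z)
    (hZF : Z ≤ pCore p G) (hnn : ¬ (Q : Subgroup G).Normal)
    (hTI : ∀ g : G, MulAut.conj g • (Q : Subgroup G) ≠ (Q : Subgroup G) →
      (Q : Subgroup G) ⊓ MulAut.conj g • (Q : Subgroup G) = pCore p G)
    (hcyc : ∀ (S : Sylow p (G ⧸ pCore p G)),
      (∀ a ∈ (S : Subgroup (G ⧸ pCore p G)), ∀ b ∈ (S : Subgroup (G ⧸ pCore p G)), a * b = b * a) →
      (∀ a ∈ (S : Subgroup (G ⧸ pCore p G)), a ^ p = 1) →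
      (∀ g : G ⧸ pCore p G, MulAut.conj g • (S : Subgroup (G ⧸ pCore p G)) ≠ S →
        (S : Subgroup (G ⧸ pCore p G)) ⊓ MulAut.conj g • (S : Subgroup (G ⧸ pCore p G)) = ⊥) →
      Nat.card ↥(S : Subgroup (G ⧸ pCore p G)) ∣ p) :
    (pCore p G).relIndex (Q : Subgroup G) = p := by
  classical
  set F : Subgroup G := pCore p G with hF
  have hFQ : F ≤ (Q : Subgroup G) := Cfsg.Agent.Helper14.pCore_le_sylow Q
  have hsurj : Function.Surjective (QuotientGroup.mk' F) := QuotientGroup.mk'_surjective F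
  set S : Sylow p (G ⧸ F) := Q.mapSurjective hsurj with hS
  have hScoe : (S : Subgroup (G ⧸ F)) = (Q : Subgroup G).map (QuotientGroup.mk' F) :=
    Sylow.coe_mapSurjective hsurj Q
  have hmemF : ∀ x : G, (QuotientGroup.mk' F x = 1) ↔ x ∈ F := by
    intro x
    rw [QuotientGroup.mk'_apply, QuotientGroup.eq_one_iff]
  -- abelian
  have hab : ∀ a ∈ (S : Subgroup (G ⧸ F)), ∀ b ∈ (S : Subgroup (G ⧸ F)), a * b = b * a := by
    intro a ha b hb
    rw [hScoe] at ha hb
    obtain ⟨x, hx, rfl⟩ := ha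
    obtain ⟨y, hy, rfl⟩ := hb
    have hc : x * y * x⁻¹ * y⁻¹ ∈ F := hZF (h.comm_mem x hx y hy)
    have h1 := (hmemF _).mpr hc
    rw [map_mul, map_mul, map_mul, map_inv, map_inv] at h1
    calc QuotientGroup.mk' F x * QuotientGroup.mk' F y
        = (QuotientGroup.mk' F x * QuotientGroup.mk' F y * (QuotientGroup.mk' F x)⁻¹ *
            (QuotientGroup.mk' F y)⁻¹) * (QuotientGroup.mk' F y * QuotientGroup.mk' F x) := by group
      _ = QuotientGroup.mk' F y * QuotientGroup.mk' F x := by rw [h1, one_mul]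
  -- exponent p
  have hexp : ∀ a ∈ (S : Subgroup (G ⧸ F)), a ^ p = 1 := by
    intro a ha
    rw [hScoe] at ha
    obtain ⟨x, hx, rfl⟩ := ha
    rw [← map_pow]
    exact (hmemF _).mpr (hZF (h.pow_mem x hx))
  -- TI
  have hTI' : ∀ g : G ⧸ F, MulAut.conj g • (S : Subgroup (G ⧸ F)) ≠ S →
      (S : Subgroup (G ⧸ F)) ⊓ MulAut.conj g • (S : Subgroup (G ⧸ F)) = ⊥ := by
    intro gb hgb
    obtain ⟨g, rfl⟩ := hsurj gb
    have hQg : MulAut.conj g • (Q : Subgroup G) ≠ (Q : Subgroup G) := by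
      intro heq
      apply hgb
      ext xb
      rw [Subgroup.mem_pointwise_smul_iff_inv_smul_mem, hScoe]
      constructor
      · rintro ⟨x, hx, hxe⟩
        refine ⟨g * x * g⁻¹, ?_, ?_⟩
        · rw [← heq]
          exact Subgroup.smul_mem_pointwise_smul x _ _ hx
        · rw [map_mul, map_mul, map_inv, hxe]
          simp [MulAut.smul_def, mul_assoc]
      · rintro ⟨x, hx, rfl⟩
        refine ⟨g⁻¹ * x * g, ?_, ?_⟩
        · have : x ∈ MulAut.conj g • (Q : Subgroup G) := by rw [heq]; exact hx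
          rw [Subgroup.mem_pointwise_smul_iff_inv_smul_mem] at this
          have h2 : (MulAut.conj g)⁻¹ • x = g⁻¹ * x * g := by
            simp [MulAut.smul_def, mul_assoc]
          rw [h2] at this
          exact this
        · simp [MulAut.smul_def, mul_assoc]
    have hint := hTI g hQg
    rw [eq_bot_iff]
    intro xb hxb
    obtain ⟨hx1, hx2⟩ := Subgroup.mem_inf.mp hxb
    rw [hScoe] at hx1
    rw [Subgroup.mem_pointwise_smul_iff_inv_smul_mem, hScoe] at hx2
    obtain ⟨a, ha, rfl⟩ := hx1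
    obtain ⟨b, hb, hbe⟩ := hx2
    -- mk b = mk (g⁻¹ a g), so b⁻¹ * (g⁻¹ a g) ∈ F ≤ Q, hence g⁻¹ a g ∈ Q
    have hbe' : QuotientGroup.mk' F b = QuotientGroup.mk' F (g⁻¹ * a * g) := by
      rw [hbe]
      simp [MulAut.smul_def, mul_assoc]
    have hmem : b⁻¹ * (g⁻¹ * a * g) ∈ F := by
      rw [← hmemF, map_mul, map_inv, hbe']
      group
    have hQmem : g⁻¹ * a * g ∈ (Q : Subgroup G) := by
      have := (Q : Subgroup G).mul_mem hb (hFQ hmem)
      rwa [mul_inv_cancel_left] at this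
    have haQg : a ∈ MulAut.conj g • (Q : Subgroup G) := by
      rw [Subgroup.mem_pointwise_smul_iff_inv_smul_mem]
      simpa [MulAut.smul_def, mul_assoc] using hQmem
    have haF : a ∈ F := by
      rw [← hint]
      exact Subgroup.mem_inf.mpr ⟨ha, haQg⟩
    rw [Subgroup.mem_bot]
    exact (hmemF a).mpr haF
  have hdvd := hcyc S hab hexp hTI'
  have hcard : Nat.card ↥(S : Subgroup (G ⧸ F)) = F.relIndex (Q : Subgroup G) := by
    rw [hScoe, ← Subgroup.relIndex_ker, QuotientGroup.ker_mk']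
  rw [hcard] at hdvd
  rcases (Nat.dvd_prime (Fact.out : p.Prime)).mp hdvd with h1 | h1
  · exfalso
    apply hnn
    have hQF : (Q : Subgroup G) ≤ F := Subgroup.relIndex_eq_one.mp h1
    have : (Q : Subgroup G) = F := le_antisymm hQF hFQ
    rw [this]
    infer_instance
  · exact h1

end Cfsg.Agent.Helper22.SchPL
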