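import Mathlib
import Cfsg.Agent.Lib.Helper26.MHDefs
import Cfsg.Agent.Lib.Helper25.MHINV1

/-!
# S4221 (M. Hall) — piece INV2 (helper7): transport between 4-sets; type-independence of the
centralizer orders ((I4) of `plans/S4221_proof.md`).
-/

set_option autoImplicit false

namespace Cfsg.Agent.Helper26.MH

open MulAction Cfsg.Agent.Helper22.SharpFour

namespace INV2

section gen

variable {G : Type*} [Group G] {α : Type*} [MulAction G α]

theorem isInv_conj {t : G} (ht : IsInv t) (g : G) : IsInv (g * t * g⁻¹) := by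
  refine ⟨?_, ?_⟩
  · have : g * t * g⁻¹ * (g * t * g⁻¹) = g * (t * t) * g⁻¹ := by group
    rw [this, ht.1, mul_one, mul_inv_cancel]
  · intro h
    apply ht.2
    have : t = g⁻¹ * (g * t * g⁻¹) * g := by group
    rw [this, h, mul_one, inv_mul_cancel]

theorem conj_smul (g t : G) (x : α) : (g * t * g⁻¹) • (g • x) = g • (t • x) := by
  rw [← mul_smul, inv_mul_cancel_right, mul_smul]

theorem tyA_conj {t : G} {p q r s : α} (hA : TyA t p q r s) (g : G) :
    TyA (g * t * g⁻¹) (g • p) (g • q) (g • r) (g • s) := by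
  obtain ⟨h1, h2, h3, h4⟩ := hA
  refine ⟨?_, ?_, ?_, ?_⟩ <;> rw [conj_smul] <;> simp [*]

theorem tyC_conj {t : G} {p q r s : α} (hC : TyC t p q r s) (g : G) :
    TyC (g * t * g⁻¹) (g • p) (g • q) (g • r) (g • s) := by
  obtain ⟨h1, h2, h3, h4⟩ := hC
  refine ⟨?_, ?_, ?_, ?_⟩ <;> rw [conj_smul] <;> simp [*]

/-- conjugation by `g` maps `C_{St4(p q r s)}(t)` into `C_{St4(gp gq gr gs)}(g t g⁻¹)` -/
theorem conj_mem_cen {t g x : G} {p q r s : α} (hx : x ∈ cen (St4 G p q r s) t) :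
    g * x * g⁻¹ ∈ cen (St4 G (g • p) (g • q) (g • r) (g • s)) (g * t * g⁻¹) := by
  rw [mem_cen, mem_St4] at hx ⊢
  obtain ⟨⟨h1, h2, h3, h4⟩, hc⟩ := hx
  refine ⟨⟨?_, ?_, ?_, ?_⟩, ?_⟩
  · rw [conj_smul, h1]
  · rw [conj_smul, h2]
  · rw [conj_smul, h3]
  · rw [conj_smul, h4]
  · have e1 : g * x * g⁻¹ * (g * t * g⁻¹) = g * (x * t) * g⁻¹ := by group
    have e2 : g * t * g⁻¹ * (g * x * g⁻¹) = g * (t * x) * g⁻¹ := by group
    rw [e1, e2, hc]

theorem card_cen_of_conj {t t' g : G} {p q r s p' q' r' s' : α}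
    (hp : g • p = p') (hq : g • q = q') (hr : g • r = r') (hs : g • s = s')
    (ht : g * t * g⁻¹ = t') :
    Nat.card (cen (St4 G p q r s) t) = Nat.card (cen (St4 G p' q' r' s') t') := by
  subst hp hq hr hs ht
  refine Nat.card_congr
    { toFun := fun x => ⟨g * x.1 * g⁻¹, conj_mem_cen x.2⟩
      invFun := fun y => ⟨g⁻¹ * y.1 * g, ?_⟩
      left_inv := ?_
      right_inv := ?_ }
  · have := conj_mem_cen (g := g⁻¹) y.2
    simpa only [inv_inv, inv_smul_smul, inv_mul_cancel_left, mul_assoc, inv_mul_cancel,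
      mul_one] using this
  · intro x
    apply Subtype.ext
    show g⁻¹ * (g * x.1 * g⁻¹) * g = x.1
    group
  · intro y
    apply Subtype.ext
    show g * (g⁻¹ * y.1 * g) * g⁻¹ = y.1
    group

end gen

end INV2

variable {G : Type*} [Group G] [Finite G] {α : Type*} [Fintype α] [DecidableEq α] [MulAction G α]

theorem exists_conj_tyA (h : Hall G α) {p q r s p' q' r' s' : α} (hd : D4 p q r s) (hd' : D4 p' q' r' s')
    {t t' : G} (ht : IsInv t) (ht' : IsInv t') (hA : TyA t p q r s) (hA' : TyA t' p' q' r' s') :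
    ∃ g : G, g • p = p' ∧ g • q = q' ∧ g • r = r' ∧ g • s = s' ∧ g * t * g⁻¹ = t' := by
  obtain ⟨g₀, hp, hq, hr, hs⟩ := h.tr p q r s p' q' r' s' hd hd'
  have hA₁ : TyA (g₀ * t * g₀⁻¹) p' q' r' s' := by
    have := INV2.tyA_conj hA g₀
    rwa [hp, hq, hr, hs] at this
  obtain ⟨y, hy, hyt⟩ := conj_tyA h hd' ht' (INV2.isInv_conj ht g₀) hA' hA₁
  rw [mem_St4] at hy
  refine ⟨y * g₀, ?_, ?_, ?_, ?_, ?_⟩
  · rw [mul_smul, hp, hy.1]
  · rw [mul_smul, hq, hy.2.1]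
  · rw [mul_smul, hr, hy.2.2.1]
  · rw [mul_smul, hs, hy.2.2.2]
  · rw [← hyt]; group

theorem exists_conj_tyC (h : Hall G α) {p q r s p' q' r' s' : α} (hd : D4 p q r s) (hd' : D4 p' q' r' s')
    {t t' : G} (ht : IsInv t) (ht' : IsInv t') (hC : TyC t p q r s) (hC' : TyC t' p' q' r' s') :
    ∃ g : G, g • p = p' ∧ g • q = q' ∧ g • r = r' ∧ g • s = s' ∧ g * t * g⁻¹ = t' := by
  obtain ⟨g₀, hp, hq, hr, hs⟩ := h.tr p q r s p' q' r' s' hd hd'
  have hC₁ : TyC (g₀ * t * g₀⁻¹) p' q' r' s' := by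
    have := INV2.tyC_conj hC g₀
    rwa [hp, hq, hr, hs] at this
  obtain ⟨y, hy, hyt⟩ := conj_tyC h hd' ht' (INV2.isInv_conj ht g₀) hC' hC₁
  rw [mem_St4] at hy
  refine ⟨y * g₀, ?_, ?_, ?_, ?_, ?_⟩
  · rw [mul_smul, hp, hy.1]
  · rw [mul_smul, hq, hy.2.1]
  · rw [mul_smul, hr, hy.2.2.1]
  · rw [mul_smul, hs, hy.2.2.2]
  · rw [← hyt]; group

theorem card_cen_tyA (h : Hall G α) {p q r s p' q' r' s' : α} (hd : D4 p q r s) (hd' : D4 p' q' r' s')
    {t t' : G} (ht : IsInv t) (ht' : IsInv t') (hA : TyA t p q r s) (hA' : TyA t' p' q' r' s') :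
    Nat.card (cen (St4 G p q r s) t) = Nat.card (cen (St4 G p' q' r' s') t') := by
  obtain ⟨g, hp, hq, hr, hs, hg⟩ := exists_conj_tyA h hd hd' ht ht' hA hA'
  exact INV2.card_cen_of_conj hp hq hr hs hg

theorem card_cen_tyC (h : Hall G α) {p q r s p' q' r' s' : α} (hd : D4 p q r s) (hd' : D4 p' q' r' s')
    {t t' : G} (ht : IsInv t) (ht' : IsInv t') (hC : TyC t p q r s) (hC' : TyC t' p' q' r' s') :
    Nat.card (cen (St4 G p q r s) t) = Nat.card (cen (St4 G p' q' r' s') t') := by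
  obtain ⟨g, hp, hq, hr, hs, hg⟩ := exists_conj_tyC h hd hd' ht ht' hC hC'
  exact INV2.card_cen_of_conj hp hq hr hs hg

end Cfsg.Agent.Helper26.MH
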