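import Mathlib
import Cfsg.Agent.Lib.Helper23.S61Defs
import Cfsg.Agent.Lib.Helper2.SzBorelSub
import Cfsg.Agent.Lib.Helper2.SzBorel

/-!
# S2861, piece S61-SZA: in `Sz(F)`, an elementary abelian `2`-subgroup `Y` of order `|F|` normalized
by a maximal subgroup `B ≥ Y` is a conjugate of the centre `ZSz` of the unipotent subgroup, and `B` is
the corresponding conjugate of the point stabilizer.
-/

set_option autoImplicit false
set_option linter.unusedVariables false

namespace Cfsg.Agent.Helper23.S61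

open Cfsg Cfsg.Agent.Helper2.Sz
open scoped Pointwise

/-- membership in a conjugate subgroup -/
theorem s61_sza_mem_conj {T : Type*} [Group T] (g x : T) (H : Subgroup T) :
    x ∈ MulAut.conj g • H ↔ g⁻¹ * x * g ∈ H := by
  rw [Subgroup.mem_pointwise_smul_iff_inv_smul_mem, MulAut.smul_def, ← map_inv,
    MulAut.conj_apply, inv_inv]

/-- PIECE S61-SZA -/
theorem sz_conj {F : Type*} [Field F] [Fintype F] {m : ℕ} (S : SzData F m) (hm : 1 ≤ m)
    (hF : Fintype.card F = 2 ^ (2 * m + 1)) (B Y : Subgroup (Cfsg.Sz F m)) (hB : IsCoatom B)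
    (hYB : Y ≤ B) (hBY : ∀ b ∈ B, ∀ y ∈ Y, b * y * b⁻¹ ∈ Y) (hYel : IsElementaryAbelian 2 Y)
    (hYcard : Nat.card Y = Fintype.card F) :
    ∃ g : Cfsg.Sz F m, Y = MulAut.conj g • S.ZSz ∧
      B = MulAut.conj g • MulAction.stabilizer (Cfsg.Sz F m) (SzData.pInf F) := by
  classical
  have : Fact (Nat.Prime 2) := ⟨Nat.prime_two⟩
  have hfin : Finite (Cfsg.Sz F m) := inferInstance
  -- `Y` is a `2`-group
  have hYp : IsPGroup 2 Y := by
    intro y
    refine ⟨1, ?_⟩
    apply Subtype.ext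
    rw [pow_one, Subgroup.coe_pow, Subgroup.coe_one]
    exact hYel.2 y.1 y.2
  obtain ⟨P, hYP⟩ := hYp.exists_le_sylow
  obtain ⟨g, hg⟩ := S.exists_conj_QSz hm hF P
  have hYeq : Y = MulAut.conj g • S.ZSz := by
    have hle : Y ≤ MulAut.conj g • S.ZSz := by
      intro y hy
      rw [s61_sza_mem_conj]
      have h1 : y ∈ MulAut.conj g • S.QSz := by
        rw [← hg]
        exact hYP hy
      rw [s61_sza_mem_conj] at h1
      apply S.mem_ZSz_of_mul_self h1
      have h2 : y * y = 1 := by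
        have := hYel.2 y hy
        rwa [pow_two] at this
      calc g⁻¹ * y * g * (g⁻¹ * y * g) = g⁻¹ * (y * y) * g := by group
        _ = 1 := by rw [h2]; group
    have hcard : Nat.card (MulAut.conj g • S.ZSz : Subgroup (Cfsg.Sz F m)) = Nat.card Y := by
      rw [← Nat.card_congr (Subgroup.equivSMul (MulAut.conj g) S.ZSz).toEquiv, S.card_ZSz, hYcard]
    exact Subgroup.eq_of_le_of_card_ge hle (le_of_eq hcard)
  refine ⟨g, hYeq, ?_⟩
  · -- `B` is the conjugate of the point stabilizer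
    -- a nontrivial element of the centre
    have hZ1 : 1 < Nat.card S.ZSz := by
      rw [S.card_ZSz, hF]
      exact Nat.one_lt_two_pow (by omega)
    obtain ⟨z, hz, hz1⟩ : ∃ z ∈ S.ZSz, z ≠ 1 := by
      have hne : S.ZSz ≠ ⊥ := by
        intro h
        rw [h, Subgroup.card_bot] at hZ1
        exact lt_irrefl _ hZ1
      exact (Subgroup.ne_bot_iff_exists_ne_one.1 hne).elim (fun z hz => ⟨z.1, z.2, fun h => hz (Subtype.ext h)⟩)
    have hy : g * z * g⁻¹ ∈ Y := by
      rw [hYeq, s61_sza_mem_conj]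
      have : g⁻¹ * (g * z * g⁻¹) * g = z := by group
      rw [this]
      exact hz
    have hBle : B ≤ MulAut.conj g • MulAction.stabilizer (Cfsg.Sz F m) (SzData.pInf F) := by
      intro b hb
      rw [s61_sza_mem_conj]
      have h1 : b * (g * z * g⁻¹) * b⁻¹ ∈ Y := hBY b hb _ hy
      rw [hYeq, s61_sza_mem_conj] at h1
      have h2 : (g⁻¹ * b⁻¹ * g)⁻¹ * z * (g⁻¹ * b⁻¹ * g) ∈ S.QSz := by
        have : (g⁻¹ * b⁻¹ * g)⁻¹ * z * (g⁻¹ * b⁻¹ * g) = g⁻¹ * (b * (g * z * g⁻¹) * b⁻¹) * g := by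
          group
        rw [this]
        exact S.ZSz_le_QSz h1
      have h3 := S.mem_stabilizer_of_conj_mem_QSz (S.ZSz_le_QSz hz) hz1 h2
      have h4 := Subgroup.inv_mem _ h3
      have : (g⁻¹ * b⁻¹ * g)⁻¹ = g⁻¹ * b * g := by group
      rwa [this] at h4
    have hne : MulAut.conj g • MulAction.stabilizer (Cfsg.Sz F m) (SzData.pInf F) ≠ ⊤ := by
      intro h
      apply S.stabilizer_ne_top
      rw [eq_top_iff]
      intro x _
      have h5 : g * x * g⁻¹ ∈ MulAut.conj g • MulAction.stabilizer (Cfsg.Sz F m) (SzData.pInf F) := by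
        rw [h]
        exact Subgroup.mem_top _
      rw [s61_sza_mem_conj] at h5
      have : g⁻¹ * (g * x * g⁻¹) * g = x := by group
      rwa [this] at h5
    rcases hB.le_iff.1 hBle with h | h
    · exact absurd h hne
    · exact h.symm

end Cfsg.Agent.Helper23.S61
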