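import Mathlib
import Cfsg.Agent.Lib.Helper23.Sp4Defs

/-!
# S6002 piece B: an `MData` group has exactly ten non-central involutions (helper7)
-/

set_option autoImplicit false

namespace Cfsg.Agent.Helper7.Sp4B

open Matrix Cfsg.Agent.Helper23.Sp4

section alg

variable {M : Type*} [Monoid M] [HasDistribNeg M]

theorem sq_mul_of_anti {t y : M} (h : y * t = -(t * y)) :
    (t * y) * (t * y) = -((t * t) * (y * y)) := by
  calc (t * y) * (t * y) = t * ((y * t) * y) := by simp only [mul_assoc]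
    _ = t * ((-(t * y)) * y) := by rw [h]
    _ = -((t * t) * (y * y)) := by simp only [neg_mul, mul_neg, mul_assoc]

theorem anti_mul_left {t y : M} (h : y * t = -(t * y)) :
    (t * y) * t = -(t * (t * y)) := by
  calc (t * y) * t = t * (y * t) := by rw [mul_assoc]
    _ = -(t * (t * y)) := by rw [h, mul_neg]

theorem anti_symm {a b : M} (h : a * b = -(b * a)) : b * a = -(a * b) := by
  rw [h, neg_neg]

end alg

theorem anti_inv {G : Type*} [Group G] [HasDistribNeg G] {t y : G} (h : y * t = -(t * y)) :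
    y⁻¹ * t = -(t * y⁻¹) := by
  have h1 : t * y⁻¹ = -(y⁻¹ * t) := by
    calc t * y⁻¹ = y⁻¹ * (y * t) * y⁻¹ := by rw [inv_mul_cancel_left]
      _ = y⁻¹ * (-(t * y)) * y⁻¹ := by rw [h]
      _ = -(y⁻¹ * t * (y * y⁻¹)) := by simp only [mul_neg, neg_mul, mul_assoc]
      _ = -(y⁻¹ * t) := by rw [mul_inv_cancel, mul_one]
  rw [h1, neg_neg]

section

variable {F : Type*} [Field F]

theorem neg_one_ne_one (h2 : (2 : F) ≠ 0) : (-1 : GL (Fin 4) F) ≠ 1 := by
  intro h
  have h1 : ((-1 : GL (Fin 4) F) : Matrix (Fin 4) (Fin 4) F) 0 0 =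
      ((1 : GL (Fin 4) F) : Matrix (Fin 4) (Fin 4) F) 0 0 := by rw [h]
  rw [Units.val_neg, Units.val_one, Matrix.neg_apply, Matrix.one_apply_eq] at h1
  exact h2 (by linear_combination (-1 : F) * h1)

theorem ne_neg_self (h2 : (2 : F) ≠ 0) (x : GL (Fin 4) F) : x ≠ -x := by
  intro h
  apply neg_one_ne_one h2
  have h1 : x⁻¹ * x = x⁻¹ * (-x) := congrArg (fun g => x⁻¹ * g) h
  rw [mul_neg, inv_mul_cancel] at h1
  exact h1.symm

theorem not_comm_and_anti (h2 : (2 : F) ≠ 0) {x y : GL (Fin 4) F} (h : x * y = y * x)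
    (h' : x * y = -(y * x)) : False :=
  ne_neg_self h2 (y * x) (h.symm.trans h')

/-- elements of `R` anticommuting with `t` -/
def Aset (R : Subgroup (GL (Fin 4) F)) (t : GL (Fin 4) F) : Set (GL (Fin 4) F) :=
  {y | y ∈ R ∧ y * t = -(t * y)}

/-- elements of `R` commuting with `t` -/
def Cset (R : Subgroup (GL (Fin 4) F)) (t : GL (Fin 4) F) : Set (GL (Fin 4) F) :=
  {y | y ∈ R ∧ y * t = t * y}

/-- involutions of `R` anticommuting with `t` -/
def ATset (R : Subgroup (GL (Fin 4) F)) (t : GL (Fin 4) F) : Set (GL (Fin 4) F) :=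
  {y | y ∈ Aset R t ∧ y * y = 1}

/-- elements of square `-1` of `R` anticommuting with `t` -/
def AUset (R : Subgroup (GL (Fin 4) F)) (t : GL (Fin 4) F) : Set (GL (Fin 4) F) :=
  {y | y ∈ Aset R t ∧ y * y = -1}

variable {R : Subgroup (GL (Fin 4) F)}

theorem neg_mem_R (hM : MData R) {x : GL (Fin 4) F} (hx : x ∈ R) : -x ∈ R := by
  have : -x = (-1) * x := by rw [neg_one_mul]
  rw [this]
  exact R.mul_mem hM.neg_mem hx

theorem exists_anti (hM : MData R) {t : GL (Fin 4) F} (ht : t ∈ R) (h1 : t ≠ 1)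
    (hn1 : t ≠ -1) : ∃ y ∈ R, y * t = -(t * y) := by
  by_contra hcon
  push Not at hcon
  have hc : ∀ x ∈ R, (t : Matrix (Fin 4) (Fin 4) F) * (x : Matrix (Fin 4) (Fin 4) F) =
      (x : Matrix (Fin 4) (Fin 4) F) * (t : Matrix (Fin 4) (Fin 4) F) := by
    intro x hx
    rcases hM.comm x hx t ht with h | h
    · have h3 : ((t * x : GL (Fin 4) F) : Matrix (Fin 4) (Fin 4) F) =
          ((x * t : GL (Fin 4) F) : Matrix (Fin 4) (Fin 4) F) := by rw [h]
      rwa [Units.val_mul, Units.val_mul] at h3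
    · exact absurd h (hcon x hx)
  obtain ⟨c, hc'⟩ := hM.centM _ hc
  have hc0 : c ≠ 0 := by
    rintro rfl
    have h3 : ((t * t⁻¹ : GL (Fin 4) F) : Matrix (Fin 4) (Fin 4) F) = 1 := by
      rw [mul_inv_cancel]; rfl
    rw [Units.val_mul, hc', zero_smul, zero_mul] at h3
    have h4 := congrFun (congrFun h3 0) 0
    rw [Matrix.zero_apply, Matrix.one_apply_eq] at h4
    exact zero_ne_one h4
  have hsc : t ∈ Cfsg.Geo.scalars (Fin 4) F :=
    (Cfsg.Geo.mem_scalars_iff t).2 ⟨Units.mk0 c hc0, by rw [Units.val_mk0]; exact hc'⟩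
  rcases hM.scalar t ht hsc with h | h
  · exact h1 h
  · exact hn1 h

theorem ncard_R (hM : MData R) : (R : Set (GL (Fin 4) F)).ncard = 32 := by
  rw [← Nat.card_coe_set_eq]; exact hM.card

variable [Finite F]

theorem card_anti (hM : MData R) {t y₀ : GL (Fin 4) F} (ht : t ∈ R) (hy₀ : y₀ ∈ R)
    (h : y₀ * t = -(t * y₀)) : (Aset R t).ncard = 16 ∧ (Cset R t).ncard = 16 := by
  have hU : (R : Set (GL (Fin 4) F)) = Aset R t ∪ Cset R t := by
    ext y
    constructor
    · intro hy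
      rcases hM.comm y hy t ht with h' | h'
      · exact Or.inr ⟨hy, h'⟩
      · exact Or.inl ⟨hy, h'⟩
    · rintro (hy | hy) <;> exact hy.1
  have hD : Disjoint (Aset R t) (Cset R t) := by
    rw [Set.disjoint_left]
    rintro y ⟨_, h1⟩ ⟨_, h2⟩
    exact not_comm_and_anti hM.two_ne h2 h1
  have hI : Aset R t = (fun c => y₀ * c) '' Cset R t := by
    ext y
    constructor
    · rintro ⟨hy, hya⟩
      refine ⟨y₀⁻¹ * y, ⟨R.mul_mem (R.inv_mem hy₀) hy, ?_⟩, ?_⟩
      · have hi := anti_inv h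
        calc y₀⁻¹ * y * t = y₀⁻¹ * (y * t) := by rw [mul_assoc]
          _ = -((y₀⁻¹ * t) * y) := by rw [hya, mul_neg, mul_assoc]
          _ = t * (y₀⁻¹ * y) := by rw [hi, neg_mul, neg_neg, mul_assoc]
      · show y₀ * (y₀⁻¹ * y) = y
        rw [mul_inv_cancel_left]
    · rintro ⟨c, ⟨hc, hcc⟩, rfl⟩
      refine ⟨R.mul_mem hy₀ hc, ?_⟩
      calc y₀ * c * t = y₀ * (t * c) := by rw [mul_assoc, hcc]
        _ = (y₀ * t) * c := by rw [mul_assoc]
        _ = -(t * (y₀ * c)) := by rw [h, neg_mul, mul_assoc]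
  have hAC : (Aset R t).ncard = (Cset R t).ncard := by
    rw [hI]; exact Set.ncard_image_of_injective _ (mul_right_injective y₀)
  have hsum := Set.ncard_union_eq hD (Set.toFinite _) (Set.toFinite _)
  rw [← hU, ncard_R hM] at hsum
  omega

theorem card_anti_invol (hM : MData R) {t : GL (Fin 4) F} (ht : t ∈ R) (htt : t * t = 1)
    (hA : (Aset R t).ncard = 16) : (ATset R t).ncard = 8 := by
  have hU : Aset R t = ATset R t ∪ AUset R t := by
    ext y; constructor
    · intro hy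
      rcases hM.sq y hy.1 with h | h
      · exact Or.inl ⟨hy, h⟩
      · exact Or.inr ⟨hy, h⟩
    · rintro (hy | hy) <;> exact hy.1
  have hD : Disjoint (ATset R t) (AUset R t) := by
    rw [Set.disjoint_left]
    rintro y ⟨_, h1⟩ ⟨_, h2⟩
    exact neg_one_ne_one hM.two_ne (h2.symm.trans h1)
  have hI : AUset R t = (fun c => t * c) '' ATset R t := by
    ext y; constructor
    · rintro ⟨⟨hy, hya⟩, hyy⟩
      refine ⟨t * y, ⟨⟨R.mul_mem ht hy, anti_mul_left hya⟩, ?_⟩, ?_⟩
      · rw [sq_mul_of_anti hya, htt, hyy, one_mul, neg_neg]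
      · show t * (t * y) = y
        rw [← mul_assoc, htt, one_mul]
    · rintro ⟨c, ⟨⟨hc, hca⟩, hcc⟩, rfl⟩
      refine ⟨⟨R.mul_mem ht hc, anti_mul_left hca⟩, ?_⟩
      show t * c * (t * c) = -1
      rw [sq_mul_of_anti hca, htt, hcc, one_mul]
  have hAC : (AUset R t).ncard = (ATset R t).ncard := by
    rw [hI]; exact Set.ncard_image_of_injective _ (mul_right_injective t)
  have hsum := Set.ncard_union_eq hD (Set.toFinite _) (Set.toFinite _)
  rw [← hU, hA] at hsum
  omega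

theorem exists_invol (hM : MData R) : ∃ t ∈ R, t * t = 1 ∧ t ≠ 1 ∧ t ≠ -1 := by
  have hR := ncard_R hM
  obtain ⟨x, hxR, hx⟩ : ∃ x ∈ (R : Set (GL (Fin 4) F)), x ∉ ({1, -1} : Set (GL (Fin 4) F)) := by
    apply Set.exists_mem_notMem_of_ncard_lt_ncard _ (Set.toFinite _)
    rw [hR, Set.ncard_pair (neg_one_ne_one hM.two_ne).symm]
    norm_num
  have hxR' : x ∈ R := hxR
  have hx1 : x ≠ 1 := fun h => hx (by simp [h])
  have hxn : x ≠ -1 := fun h => hx (by simp [h])
  rcases hM.sq x hxR' with hxx | hxx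
  · exact ⟨x, hxR', hxx, hx1, hxn⟩
  obtain ⟨y₀, hy₀, hy₀x⟩ := exists_anti hM hxR' hx1 hxn
  obtain ⟨-, hC⟩ := card_anti hM hxR' hy₀ hy₀x
  have e1 : ({-x} : Set (GL (Fin 4) F)).ncard = 1 := Set.ncard_singleton _
  have e2 : ({x, -x} : Set (GL (Fin 4) F)).ncard ≤ 2 :=
    (Set.ncard_insert_le _ _).trans (by omega)
  have e3 : ({-1, x, -x} : Set (GL (Fin 4) F)).ncard ≤ 3 :=
    (Set.ncard_insert_le _ _).trans (by omega)
  have e4 : ({1, -1, x, -x} : Set (GL (Fin 4) F)).ncard ≤ 4 :=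
    (Set.ncard_insert_le _ _).trans (by omega)
  obtain ⟨y, hyC, hy⟩ : ∃ y ∈ Cset R x, y ∉ ({1, -1, x, -x} : Set (GL (Fin 4) F)) := by
    apply Set.exists_mem_notMem_of_ncard_lt_ncard _ (Set.toFinite _)
    rw [hC]; omega
  obtain ⟨hyR, hyx⟩ := hyC
  simp only [Set.mem_insert_iff, Set.mem_singleton_iff, not_or] at hy
  obtain ⟨hy1, hyn, hyx', hynx⟩ := hy
  rcases hM.sq y hyR with hyy | hyy
  · exact ⟨y, hyR, hyy, hy1, hyn⟩
  refine ⟨x * y, R.mul_mem hxR' hyR, ?_, ?_, ?_⟩
  · calc x * y * (x * y) = x * (y * x) * y := by simp only [mul_assoc]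
      _ = (x * x) * (y * y) := by rw [hyx]; simp only [mul_assoc]
      _ = 1 := by rw [hxx, hyy, neg_mul_neg, one_mul]
  · intro h
    apply hynx
    have h5 : x * (-x) = 1 := by rw [mul_neg, hxx, neg_neg]
    exact mul_left_cancel (h.trans h5.symm)
  · intro h
    apply hyx'
    exact mul_left_cancel (h.trans hxx.symm)

/-- PIECE B of S6002. -/
theorem card_invol {F : Type*} [Field F] [Finite F] {R : Subgroup (GL (Fin 4) F)}
    (hM : MData R) :
    Nat.card {t : GL (Fin 4) F // t ∈ R ∧ t * t = 1 ∧ t ≠ 1 ∧ t ≠ -1} = 10 := by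
  obtain ⟨t, ht, htt, ht1, htn⟩ := exists_invol hM
  obtain ⟨y₀, hy₀, hy₀t⟩ := exists_anti hM ht ht1 htn
  obtain ⟨hA, -⟩ := card_anti hM ht hy₀ hy₀t
  have hAT := card_anti_invol hM ht htt hA
  have h2 := hM.two_ne
  have hS : ({s | s ∈ R ∧ s * s = 1 ∧ s ≠ 1 ∧ s ≠ -1} : Set (GL (Fin 4) F)) =
      ATset R t ∪ {t, -t} := by
    ext s
    constructor
    · rintro ⟨hs, hss, hs1, hsn⟩
      rcases hM.comm s hs t ht with h | h
      · right
        rcases hM.minus s hs t ht hss htt h with h' | h' | h' | h' | h' | h'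
        · exact absurd h' hs1
        · exact absurd h' hsn
        · exact absurd h' ht1
        · exact absurd h' htn
        · exact Or.inl h'
        · exact Or.inr h'
      · left
        exact ⟨⟨hs, h⟩, hss⟩
    · rintro (⟨⟨hs, hsa⟩, hss⟩ | hs)
      · refine ⟨hs, hss, ?_, ?_⟩
        · rintro rfl
          rw [one_mul, mul_one] at hsa
          exact ne_neg_self h2 t hsa
        · rintro rfl
          rw [neg_one_mul, mul_neg_one, neg_neg] at hsa
          exact ne_neg_self h2 t hsa.symm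
      · rcases hs with rfl | hs
        · exact ⟨ht, htt, ht1, htn⟩
        · have hs' : s = -t := hs
          subst hs'
          refine ⟨neg_mem_R hM ht, ?_, ?_, ?_⟩
          · rw [neg_mul_neg, htt]
          · intro h
            apply htn
            rw [← h, neg_neg]
          · intro h
            apply ht1
            exact neg_injective h
  have hD : Disjoint (ATset R t) ({t, -t} : Set (GL (Fin 4) F)) := by
    rw [Set.disjoint_left]
    rintro s ⟨⟨_, hsa⟩, _⟩ hs
    rcases hs with rfl | hs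
    · exact ne_neg_self h2 _ hsa
    · have hs' : s = -t := hs
      subst hs'
      rw [neg_mul, mul_neg, neg_neg] at hsa
      exact ne_neg_self h2 _ hsa.symm
  have key : Nat.card ↥({s | s ∈ R ∧ s * s = 1 ∧ s ≠ 1 ∧ s ≠ -1} : Set (GL (Fin 4) F)) = 10 := by
    rw [Nat.card_coe_set_eq, hS, Set.ncard_union_eq hD (Set.toFinite _) (Set.toFinite _), hAT,
      Set.ncard_pair (ne_neg_self h2 t)]
  exact key

end

end Cfsg.Agent.Helper7.Sp4B
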