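import Mathlib
import Cfsg.Agent.Lib.Helper23.Sp4Defs
import Cfsg.Agent.Lib.Helper7.Sp4B

/-!
# S6002 piece F: five pairwise anticommuting involutions in an `MData` group (helper7)
-/

set_option autoImplicit false

namespace Cfsg.Agent.Helper7.Sp4F

open Matrix Cfsg.Agent.Helper23.Sp4 Cfsg.Agent.Helper7.Sp4B

variable {F : Type*} [Field F] [Finite F]

/-- one greedy step: pick `s` in a nonempty finite set and remove `±s` -/
theorem step (S : Set (GL (Fin 4) F)) (h : 0 < S.ncard) :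
    ∃ s ∈ S, S.ncard ≤ (S \ {s, -s}).ncard + 2 := by
  obtain ⟨s, hs⟩ := (Set.ncard_pos (Set.toFinite S)).1 h
  refine ⟨s, hs, ?_⟩
  have h1 := Set.ncard_le_ncard_sdiff_add_ncard S ({s, -s} : Set (GL (Fin 4) F)) (Set.toFinite _)
  have e1 : ({-s} : Set (GL (Fin 4) F)).ncard = 1 := Set.ncard_singleton _
  have e2 : ({s, -s} : Set (GL (Fin 4) F)).ncard ≤ 2 :=
    (Set.ncard_insert_le _ _).trans (by omega)
  omega

/-- PIECE F of S6002. -/
theorem exists_gammas {F : Type*} [Field F] [Finite F] {R : Subgroup (GL (Fin 4) F)}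
    (hM : MData R)
    (hcard : Nat.card {t : GL (Fin 4) F // t ∈ R ∧ t * t = 1 ∧ t ≠ 1 ∧ t ≠ -1} = 10) :
    ∃ t : Fin 5 → GL (Fin 4) F, (∀ i, t i ∈ R) ∧ (∀ i, t i * t i = 1) ∧
      (∀ i j, i ≠ j → t i * t j = -(t j * t i)) := by
  set S : Set (GL (Fin 4) F) := {s | s ∈ R ∧ s * s = 1 ∧ s ≠ 1 ∧ s ≠ -1} with hSdef
  have hS : S.ncard = 10 := by
    rw [← Nat.card_coe_set_eq]; exact hcard
  have anti : ∀ s ∈ S, ∀ t ∈ S, s ∉ ({t, -t} : Set (GL (Fin 4) F)) → s * t = -(t * s) := by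
    rintro s ⟨hs, hss, hs1, hsn⟩ t ⟨ht, htt, ht1, htn⟩ hst
    simp only [Set.mem_insert_iff, Set.mem_singleton_iff, not_or] at hst
    rcases hM.comm s hs t ht with h | h
    · rcases hM.minus s hs t ht hss htt h with h' | h' | h' | h' | h' | h'
      · exact absurd h' hs1
      · exact absurd h' hsn
      · exact absurd h' ht1
      · exact absurd h' htn
      · exact absurd h' hst.1
      · exact absurd h' hst.2
    · exact h
  obtain ⟨t0, ht0, c0⟩ := step S (by omega)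
  obtain ⟨t1, ht1, c1⟩ := step (S \ {t0, -t0}) (by omega)
  obtain ⟨t2, ht2, c2⟩ := step ((S \ {t0, -t0}) \ {t1, -t1}) (by omega)
  obtain ⟨t3, ht3, c3⟩ := step (((S \ {t0, -t0}) \ {t1, -t1}) \ {t2, -t2}) (by omega)
  obtain ⟨t4, ht4, c4⟩ := step ((((S \ {t0, -t0}) \ {t1, -t1}) \ {t2, -t2}) \ {t3, -t3})
    (by omega)
  have m0 : t0 ∈ S := ht0
  have m1 : t1 ∈ S := ht1.1
  have m2 : t2 ∈ S := ht2.1.1
  have m3 : t3 ∈ S := ht3.1.1.1
  have m4 : t4 ∈ S := ht4.1.1.1.1
  have h10 := anti t1 m1 t0 m0 ht1.2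
  have h20 := anti t2 m2 t0 m0 ht2.1.2
  have h21 := anti t2 m2 t1 m1 ht2.2
  have h30 := anti t3 m3 t0 m0 ht3.1.1.2
  have h31 := anti t3 m3 t1 m1 ht3.1.2
  have h32 := anti t3 m3 t2 m2 ht3.2
  have h40 := anti t4 m4 t0 m0 ht4.1.1.1.2
  have h41 := anti t4 m4 t1 m1 ht4.1.1.2
  have h42 := anti t4 m4 t2 m2 ht4.1.2
  have h43 := anti t4 m4 t3 m3 ht4.2
  refine ⟨![t0, t1, t2, t3, t4], ?_, ?_, ?_⟩
  · intro i
    fin_cases i
    · exact m0.1
    · exact m1.1
    · exact m2.1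
    · exact m3.1
    · exact m4.1
  · intro i
    fin_cases i
    · exact m0.2.1
    · exact m1.2.1
    · exact m2.2.1
    · exact m3.2.1
    · exact m4.2.1
  · intro i j hij
    fin_cases i <;> fin_cases j <;>
    first
    | exact absurd rfl hij
    | exact h10 | exact h20 | exact h21 | exact h30 | exact h31 | exact h32
    | exact h40 | exact h41 | exact h42 | exact h43
    | exact anti_symm h10 | exact anti_symm h20 | exact anti_symm h21 | exact anti_symm h30
    | exact anti_symm h31 | exact anti_symm h32 | exact anti_symm h40 | exact anti_symm h41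
    | exact anti_symm h42 | exact anti_symm h43

end Cfsg.Agent.Helper7.Sp4F
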