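import Mathlib
import Cfsg.Agent.Lib.Helper23.HKKGrp

/-!
Piece HKK-GHB of helper23's farm-out for S3779 (Higman–Kreknin–Kostrikin), part 1:
the dependency-free statements `cmk_*` with their exact skeleton signatures, and the cores of the
`hbr_*` statements with the statements of GLC (`Gam_comm_mem`) and GCC (`comm_*_mod`) as hypotheses.
-/

set_option autoImplicit false
set_option linter.unusedSectionVars false
set_option linter.unusedVariables false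

namespace Cfsg.Agent.Helper23.HKK

open scoped DirectSum commutatorElement

variable (G : Type*) [Group G]

theorem cmk_surj (w : ℕ) (x : Comp G w) : ∃ (a : G) (ha : a ∈ Gam G w), x = cmk G w a ha := by
  obtain ⟨⟨a, ha⟩, h⟩ := QuotientGroup.mk_surjective (Additive.toMul x)
  refine ⟨a, ha, ?_⟩
  unfold cmk
  rw [h]
  rfl

theorem cmk_mul (w : ℕ) (a b : G) (ha : a ∈ Gam G w) (hb : b ∈ Gam G w) :
    cmk G w (a * b) (mul_mem ha hb) = cmk G w a ha + cmk G w b hb := rfl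

theorem cmk_inv (w : ℕ) (a : G) (ha : a ∈ Gam G w) : cmk G w a⁻¹ (inv_mem ha) = - cmk G w a ha := rfl

theorem cmk_eq_iff (w : ℕ) (a b : G) (ha : a ∈ Gam G w) (hb : b ∈ Gam G w) :
    cmk G w a ha = cmk G w b hb ↔ a⁻¹ * b ∈ Gam G (w + 1) := by
  unfold cmk
  rw [Additive.ofMul.injective.eq_iff, QuotientGroup.eq, Subgroup.mem_subgroupOf]
  rfl

theorem cmk_eq_zero_iff (w : ℕ) (a : G) (ha : a ∈ Gam G w) : cmk G w a ha = 0 ↔ a ∈ Gam G (w + 1) := by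
  have h := cmk_eq_iff G w 1 a (one_mem _) ha
  rw [inv_one, one_mul] at h
  rw [← h]
  constructor
  · intro e; rw [e]; rfl
  · intro e; rw [← e]; rfl

/-- the representative of a class is in `γ_w` and congruent to any element defining the class -/
theorem ghb_rep_spec (w : ℕ) (a : G) (ha : a ∈ Gam G w) :
    rep G w (cmk G w a ha) ∈ Gam G w ∧ (rep G w (cmk G w a ha))⁻¹ * a ∈ Gam G (w + 1) := by
  refine ⟨(Quotient.out (Additive.toMul (cmk G w a ha)) : Gam G w).2, ?_⟩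
  have h1 : cmk G w (rep G w (cmk G w a ha))
      ((Quotient.out (Additive.toMul (cmk G w a ha)) : Gam G w).2) = cmk G w a ha := by
    unfold cmk rep
    apply congrArg Additive.ofMul
    exact Quotient.out_eq' _
  exact (cmk_eq_iff G w _ a _ ha).1 h1

/-- core of `hbr_cmk` -/
theorem ghb_hbr_cmk_core
    (hGLC : ∀ (i j : ℕ) (a b : G), a ∈ Gam G i → b ∈ Gam G j → ⁅a, b⁆ ∈ Gam G (i + j))
    (hCC : ∀ (i j : ℕ) (a a' b b' : G), a ∈ Gam G i → a' ∈ Gam G i → b ∈ Gam G j → b' ∈ Gam G j →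
      a⁻¹ * a' ∈ Gam G (i + 1) → b⁻¹ * b' ∈ Gam G (j + 1) →
      (⁅a, b⁆)⁻¹ * ⁅a', b'⁆ ∈ Gam G (i + j + 1))
    (i j : ℕ) (a b : G) (ha : a ∈ Gam G i) (hb : b ∈ Gam G j) (hab : ⁅a, b⁆ ∈ Gam G (i + j)) :
    hbr G i j (cmk G i a ha) (cmk G j b hb) = cmk G (i + j) ⁅a, b⁆ hab := by
  obtain ⟨ha1, ha2⟩ := ghb_rep_spec G i a ha
  obtain ⟨hb1, hb2⟩ := ghb_rep_spec G j b hb
  unfold hbr
  rw [dif_pos (hGLC i j _ _ ha1 hb1)]
  rw [cmk_eq_iff]
  exact hCC i j _ a _ b ha1 ha hb1 hb ha2 hb2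

/-- core of `hbr_add_left` -/
theorem ghb_hbr_add_left_core
    (hGLC : ∀ (i j : ℕ) (a b : G), a ∈ Gam G i → b ∈ Gam G j → ⁅a, b⁆ ∈ Gam G (i + j))
    (hCC : ∀ (i j : ℕ) (a a' b b' : G), a ∈ Gam G i → a' ∈ Gam G i → b ∈ Gam G j → b' ∈ Gam G j →
      a⁻¹ * a' ∈ Gam G (i + 1) → b⁻¹ * b' ∈ Gam G (j + 1) →
      (⁅a, b⁆)⁻¹ * ⁅a', b'⁆ ∈ Gam G (i + j + 1))
    (hML : ∀ (i j : ℕ) (a a' b : G), a ∈ Gam G i → a' ∈ Gam G i → b ∈ Gam G j →
      (⁅a * a', b⁆)⁻¹ * (⁅a, b⁆ * ⁅a', b⁆) ∈ Gam G (i + j + 1))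
    (i j : ℕ) (x x' : Comp G i) (y : Comp G j) :
    hbr G i j (x + x') y = hbr G i j x y + hbr G i j x' y := by
  obtain ⟨a, ha, rfl⟩ := cmk_surj G i x
  obtain ⟨a', ha', rfl⟩ := cmk_surj G i x'
  obtain ⟨b, hb, rfl⟩ := cmk_surj G j y
  rw [← cmk_mul G i a a' ha ha']
  rw [ghb_hbr_cmk_core G hGLC hCC i j (a * a') b (mul_mem ha ha') hb (hGLC i j _ _ (mul_mem ha ha') hb),
    ghb_hbr_cmk_core G hGLC hCC i j a b ha hb (hGLC i j _ _ ha hb),
    ghb_hbr_cmk_core G hGLC hCC i j a' b ha' hb (hGLC i j _ _ ha' hb),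
    ← cmk_mul, cmk_eq_iff]
  exact hML i j a a' b ha ha' hb

/-- core of `hbr_add_right` -/
theorem ghb_hbr_add_right_core
    (hGLC : ∀ (i j : ℕ) (a b : G), a ∈ Gam G i → b ∈ Gam G j → ⁅a, b⁆ ∈ Gam G (i + j))
    (hCC : ∀ (i j : ℕ) (a a' b b' : G), a ∈ Gam G i → a' ∈ Gam G i → b ∈ Gam G j → b' ∈ Gam G j →
      a⁻¹ * a' ∈ Gam G (i + 1) → b⁻¹ * b' ∈ Gam G (j + 1) →
      (⁅a, b⁆)⁻¹ * ⁅a', b'⁆ ∈ Gam G (i + j + 1))
    (hMR : ∀ (i j : ℕ) (a b b' : G), a ∈ Gam G i → b ∈ Gam G j → b' ∈ Gam G j →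
      (⁅a, b * b'⁆)⁻¹ * (⁅a, b⁆ * ⁅a, b'⁆) ∈ Gam G (i + j + 1))
    (i j : ℕ) (x : Comp G i) (y y' : Comp G j) :
    hbr G i j x (y + y') = hbr G i j x y + hbr G i j x y' := by
  obtain ⟨a, ha, rfl⟩ := cmk_surj G i x
  obtain ⟨b, hb, rfl⟩ := cmk_surj G j y
  obtain ⟨b', hb', rfl⟩ := cmk_surj G j y'
  rw [← cmk_mul G j b b' hb hb']
  rw [ghb_hbr_cmk_core G hGLC hCC i j a (b * b') ha (mul_mem hb hb') (hGLC i j _ _ ha (mul_mem hb hb')),
    ghb_hbr_cmk_core G hGLC hCC i j a b ha hb (hGLC i j _ _ ha hb),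
    ghb_hbr_cmk_core G hGLC hCC i j a b' ha hb' (hGLC i j _ _ ha hb'),
    ← cmk_mul, cmk_eq_iff]
  exact hMR i j a b b' ha hb hb'

/-- core of `hbrHom_apply` -/
theorem ghb_hbrHom_apply_core
    (hL : ∀ (i j : ℕ) (x x' : Comp G i) (y : Comp G j),
      hbr G i j (x + x') y = hbr G i j x y + hbr G i j x' y)
    (hR : ∀ (i j : ℕ) (x : Comp G i) (y y' : Comp G j),
      hbr G i j x (y + y') = hbr G i j x y + hbr G i j x y')
    (i j : ℕ) (x : Comp G i) (y : Comp G j) : hbrHom G i j x y = hbr G i j x y := by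
  unfold hbrHom
  rw [dif_pos ⟨hL i j, hR i j⟩]
  rfl

/-- core of `brHom_of_of` -/
theorem ghb_brHom_of_of_core
    (hA : ∀ (i j : ℕ) (x : Comp G i) (y : Comp G j), hbrHom G i j x y = hbr G i j x y)
    (i j : ℕ) (x : Comp G i) (y : Comp G j) :
    brHom G (DirectSum.of (Comp G) i x) (DirectSum.of (Comp G) j y) =
      DirectSum.of (Comp G) (i + j) (hbr G i j x y) := by
  unfold brHom
  rw [DirectSum.toAddMonoid_of, AddMonoidHom.flip_apply, DirectSum.toAddMonoid_of,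
    AddMonoidHom.flip_apply, AddMonoidHom.comp_apply, AddMonoidHom.compHom_apply_apply,
    AddMonoidHom.comp_apply, hA]

end Cfsg.Agent.Helper23.HKK
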