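import Mathlib
import Cfsg.Agent.Lib.Helper23.HKKGrp
import Cfsg.Agent.Lib.Helper11.HKKGLC
import Cfsg.Agent.Lib.Helper18.HKKGCCCore
import Cfsg.Agent.Lib.Helper7.HKKGHB1

/-!
Piece HKK-GHB of helper23's farm-out for S3779 (Higman–Kreknin–Kostrikin), part 2: the exact skeleton
signatures of `hbr_cmk`, `hbr_add_left`, `hbr_add_right`, `hbrHom_apply`, `brHom_of_of`
(from the cores in `HKKGHB1`, helper11's GLC and helper18's GCC cores).
-/

set_option autoImplicit false
set_option linter.unusedSectionVars false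
set_option linter.unusedVariables false

namespace Cfsg.Agent.Helper23.HKK

open scoped DirectSum commutatorElement

variable (G : Type*) [Group G]

theorem hbr_cmk (i j : ℕ) (a b : G) (ha : a ∈ Gam G i) (hb : b ∈ Gam G j) :
    hbr G i j (cmk G i a ha) (cmk G j b hb) = cmk G (i + j) ⁅a, b⁆ (Gam_comm_mem G i j a b ha hb) :=
  ghb_hbr_cmk_core G (Gam_comm_mem G) (gcc_comm_congr_mod G (Gam_comm_mem G) (Gam_comm_top G))
    i j a b ha hb (Gam_comm_mem G i j a b ha hb)

theorem hbr_add_left (i j : ℕ) (x x' : Comp G i) (y : Comp G j) :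
    hbr G i j (x + x') y = hbr G i j x y + hbr G i j x' y :=
  ghb_hbr_add_left_core G (Gam_comm_mem G) (gcc_comm_congr_mod G (Gam_comm_mem G) (Gam_comm_top G))
    (gcc_comm_mul_left_mod G (Gam_comm_mem G) (Gam_comm_top G)) i j x x' y

theorem hbr_add_right (i j : ℕ) (x : Comp G i) (y y' : Comp G j) :
    hbr G i j x (y + y') = hbr G i j x y + hbr G i j x y' :=
  ghb_hbr_add_right_core G (Gam_comm_mem G) (gcc_comm_congr_mod G (Gam_comm_mem G) (Gam_comm_top G))
    (gcc_comm_mul_right_mod G (Gam_comm_mem G) (Gam_comm_top G)) i j x y y'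

theorem hbrHom_apply (i j : ℕ) (x : Comp G i) (y : Comp G j) : hbrHom G i j x y = hbr G i j x y :=
  ghb_hbrHom_apply_core G (hbr_add_left G) (hbr_add_right G) i j x y

theorem brHom_of_of (i j : ℕ) (x : Comp G i) (y : Comp G j) :
    brHom G (DirectSum.of (Comp G) i x) (DirectSum.of (Comp G) j y) =
      DirectSum.of (Comp G) (i + j) (hbr G i j x y) :=
  ghb_brHom_of_of_core G (hbrHom_apply G) i j x y

end Cfsg.Agent.Helper23.HKK
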