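import Mathlib
import Cfsg.Agent.Lib.Lead.NC2Defs

/-!
# S3894 (n = 2) piece N2-FIELD (helper7): `exists_pow_four_ne_one`, `exists_sq_eq_neg_one`
-/

set_option autoImplicit false

namespace Cfsg.Agent.Lead.NC2

open Matrix

variable {F : Type*} [Field F]

section fin

variable [Fintype F]

theorem nc2_field_card_le_five (h : ∀ a : F, a ≠ 0 → a ^ 4 = 1) : Fintype.card F ≤ 5 := by
  classical
  by_contra hcon
  push Not at hcon
  have hcard : 4 < (Finset.univ.filter (fun s : F => s ≠ 0)).card := by
    have : (Finset.univ.filter (fun s : F => s ≠ 0)) = Finset.univ.erase 0 := by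
      ext s; simp
    rw [this, Finset.card_erase_of_mem (Finset.mem_univ _), Finset.card_univ]
    omega
  have hz : (Polynomial.X ^ 4 - Polynomial.C (1 : F) : Polynomial F) = 0 := by
    apply Polynomial.eq_zero_of_degree_lt_of_eval_finset_eq_zero
      (Finset.univ.filter (fun s : F => s ≠ 0))
    · rw [Polynomial.degree_X_pow_sub_C (by norm_num)]
      exact_mod_cast hcard
    · intro s hs
      have hs0 : s ≠ 0 := by simpa using hs
      simp [h s hs0]
  exact (Polynomial.monic_X_pow_sub_C (1 : F) (by norm_num : (4 : ℕ) ≠ 0)).ne_zero hz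

theorem exists_pow_four_ne_one (hq : 4 ≤ Fintype.card F) (h5 : Fintype.card F ≠ 5) :
    ∃ a : F, a ≠ 0 ∧ a ^ 4 ≠ 1 := by
  classical
  by_contra hcon
  push Not at hcon
  have hle := nc2_field_card_le_five hcon
  have h4 : Fintype.card F = 4 := by omega
  have hall : ∀ a : F, a = 0 ∨ a = 1 := by
    intro a
    by_cases ha : a = 0
    · exact Or.inl ha
    · right
      have h3 := FiniteField.pow_card_sub_one_eq_one a ha
      rw [h4] at h3
      have h44 := hcon a ha
      calc a = a ^ 3 * a := by rw [h3, one_mul]
        _ = a ^ 4 := by ring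
        _ = 1 := h44
  have hsub : (Finset.univ : Finset F) ⊆ {0, 1} := by
    intro a _
    rcases hall a with h | h <;> simp [h]
  have := Finset.card_le_card hsub
  rw [Finset.card_univ, h4] at this
  have h2 : ({0, 1} : Finset F).card ≤ 2 := Finset.card_le_two
  omega

theorem exists_sq_eq_neg_one (h5 : Fintype.card F = 5) : ∃ a : F, a ≠ 0 ∧ a ^ 2 = -1 ∧ a ^ 2 ≠ 1 := by
  have h50 : (5 : F) = 0 := by
    have := Nat.cast_card_eq_zero F
    rw [h5] at this
    exact_mod_cast this
  have h2 : (2 : F) ≠ 0 := by
    intro h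
    have : (1 : F) = 0 := by linear_combination h50 - 2 * h
    exact one_ne_zero this
  refine ⟨2, h2, by linear_combination h50, ?_⟩
  intro h
  have h3 : (3 : F) = 0 := by linear_combination h
  have : (1 : F) = 0 := by linear_combination 2 * h3 - h50
  exact one_ne_zero this

end fin

end Cfsg.Agent.Lead.NC2
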