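import Mathlib
import Cfsg.Agent.Lib.Helper27.P13Defs

/-!
# S2916 part (D), piece PROJINV (helper7 for helper27): `PSL(3, ZMod 3)` preserves the lines of the
projective plane.
-/

set_option autoImplicit false
set_option linter.unusedVariables false
set_option linter.unusedSectionVars false

namespace Cfsg.Agent.Helper27.P13

open Finset

open scoped Matrix

/-- `(s v) ⬝ w = v ⬝ (sᵀ w)` on the projective plane -/
theorem projinv_orth (s : Matrix.SpecialLinearGroup (Fin 3) (ZMod 3)) (p w : PP) :
    Projectivization.orthogonal (s • p) w ↔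
      Projectivization.orthogonal p (Matrix.SpecialLinearGroup.transpose s • w) := by
  induction p using Projectivization.ind with
  | _ v hv =>
    induction w using Projectivization.ind with
    | _ u hu =>
      rw [Projectivization.smul_mk, Projectivization.smul_mk, Projectivization.orthogonal_mk,
        Projectivization.orthogonal_mk]
      rw [Matrix.SpecialLinearGroup.smul_def, Matrix.SpecialLinearGroup.smul_def,
        Matrix.smul_eq_mulVec, Matrix.smul_eq_mulVec]
      have : (Matrix.SpecialLinearGroup.transpose s).1 = (s.1)ᵀ := rfl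
      rw [this, Matrix.mulVec_transpose, dotProduct_comm (s.1 *ᵥ v) u, Matrix.dotProduct_mulVec,
        dotProduct_comm]

/-- PIECE PROJINV.  `PSL(3, ZMod 3)` preserves `LP`. -/
theorem LP_inv [DecidableEq PP] (g : Matrix.ProjectiveSpecialLinearGroup (Fin 3) (ZMod 3)) :
    ∀ l ∈ LP, l.image (fun p => g • p) ∈ LP := by
  obtain ⟨s, rfl⟩ := QuotientGroup.mk_surjective g
  rintro l ⟨w, rfl⟩
  refine ⟨Matrix.SpecialLinearGroup.transpose s⁻¹ • w, ?_⟩
  ext x
  simp only [Finset.mem_image, Finset.mem_filter, Finset.mem_univ, true_and]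
  constructor
  · rintro ⟨p, hp, rfl⟩
    rw [Matrix.ProjectiveSpecialLinearGroup.smul_proj_mk]
    have h := (projinv_orth s⁻¹ (s • p) w).1
    rw [inv_smul_smul] at h
    exact h hp
  · intro hx
    refine ⟨s⁻¹ • x, (projinv_orth s⁻¹ x w).2 hx, ?_⟩
    rw [Matrix.ProjectiveSpecialLinearGroup.smul_proj_mk, smul_inv_smul]

end Cfsg.Agent.Helper27.P13
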