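import Mathlib
import Cfsg.Agent.Lib.Helper27.P13Defs

/-!
# S2916 part (D), piece PROJSTEINER (helper7 for helper27): the projective plane over `ZMod 3`
is a Steiner system `S(2,4,13)`.
-/

set_option autoImplicit false
set_option linter.unusedVariables false
set_option linter.unusedSectionVars false

namespace Cfsg.Agent.Helper27.P13

open Finset

/-- the line `(nvec j)^⊥` in terms of indices -/
def projsteiner_lineF (j : Fin 13) : Finset (Fin 13) :=
  Finset.univ.filter (fun i => nvec i ⬝ᵥ nvec j = 0)

theorem projsteiner_card_lineF : ∀ j : Fin 13, (projsteiner_lineF j).card = 4 := by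
  decide

theorem projsteiner_two : ∀ i k : Fin 13, i ≠ k →
    ∃ j : Fin 13, nvec i ⬝ᵥ nvec j = 0 ∧ nvec k ⬝ᵥ nvec j = 0 ∧
      ∀ j' : Fin 13, nvec i ⬝ᵥ nvec j' = 0 → nvec k ⬝ᵥ nvec j' = 0 → j' = j := by
  decide

theorem projsteiner_orth (i j : Fin 13) :
    Projectivization.orthogonal (ppt i) (ppt j) ↔ nvec i ⬝ᵥ nvec j = 0 := by
  unfold ppt
  exact Projectivization.orthogonal_mk _ _

/-- PIECE PROJSTEINER.  `(PP, LP)` is a Steiner system `S(2,4,13)`. -/
theorem LP_steiner (hb : Function.Bijective ppt) :
    @Cfsg.IsSteinerSystem PP 2 4 LP := by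
  classical
  constructor
  · rintro b ⟨w, rfl⟩
    obtain ⟨j, rfl⟩ := hb.2 w
    have h : @Finset.filter PP (fun p => Projectivization.orthogonal p (ppt j))
        (Classical.decPred _) Finset.univ = (projsteiner_lineF j).map ⟨ppt, hb.1⟩ := by
      ext p
      obtain ⟨i, rfl⟩ := hb.2 p
      simp only [Finset.mem_filter, Finset.mem_univ, true_and, Finset.mem_map,
        Function.Embedding.coeFn_mk, projsteiner_orth, projsteiner_lineF]
      constructor
      · intro h
        exact ⟨i, h, rfl⟩
      · rintro ⟨i', h, he⟩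
        have := hb.1 he
        subst this
        exact h
    rw [h, Finset.card_map]
    exact projsteiner_card_lineF j
  · intro s hs
    obtain ⟨p, q, hpq, rfl⟩ := Finset.card_eq_two.1 hs
    obtain ⟨i, rfl⟩ := hb.2 p
    obtain ⟨k, rfl⟩ := hb.2 q
    have hik : i ≠ k := fun h => hpq (by rw [h])
    obtain ⟨j, hij, hkj, huniq⟩ := projsteiner_two i k hik
    refine ⟨@Finset.filter PP (fun p => Projectivization.orthogonal p (ppt j))
        (Classical.decPred _) Finset.univ, ⟨⟨ppt j, rfl⟩, ?_⟩, ?_⟩
    · intro x hx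
      rw [Finset.mem_insert, Finset.mem_singleton] at hx
      rw [Finset.mem_filter]
      refine ⟨Finset.mem_univ _, ?_⟩
      rcases hx with rfl | rfl
      · exact (projsteiner_orth i j).2 hij
      · exact (projsteiner_orth k j).2 hkj
    · rintro b' ⟨⟨w, rfl⟩, hsub⟩
      obtain ⟨j', rfl⟩ := hb.2 w
      have h1 : ppt i ∈ @Finset.filter PP (fun p => Projectivization.orthogonal p (ppt j'))
          (Classical.decPred _) Finset.univ := hsub (by simp)
      have h2 : ppt k ∈ @Finset.filter PP (fun p => Projectivization.orthogonal p (ppt j'))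
          (Classical.decPred _) Finset.univ := hsub (by simp)
      rw [Finset.mem_filter] at h1 h2
      have := huniq j' ((projsteiner_orth i j').1 h1.2) ((projsteiner_orth k j').1 h2.2)
      rw [this]

end Cfsg.Agent.Helper27.P13
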