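import Mathlib
import Cfsg.Agent.Lib.Helper26.L33Defs
import Cfsg.Agent.Lib.Helper15.GL23Defs
import Cfsg.Agent.Lib.Helper7.ZStar3
import Cfsg.Agent.Lib.Helper16.CyclicMaxTransfer

/-!
# S2916 piece A1 (helper7 for helper26): `t` is not isolated

If `t` were isolated, the `Z*`-theorem gives a normal subgroup `N` of odd order with `t` central
modulo `N`.  The involution `t` fixes a point of every coset `gN`, so `G = C N`; `C ∩ N = 1` since
`O(C) = 1`; hence `G / N ≅ C` has a normal subgroup of index two, against `O²(G) = G`.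
-/

set_option autoImplicit false
set_option linter.unusedVariables false
set_option linter.unusedSectionVars false

namespace Cfsg.Agent.Helper26.L33

open Cfsg Cfsg.Agent.Helper15.GL23

universe u v

section A

variable {G : Type u} [Group G] [Finite G]

namespace A1

/-- an involution central modulo a normal subgroup `N` of odd order fixes a point of every coset
of `N` -/
theorem exists_comm_in_coset (t : G) (ht : orderOf t = 2) (N : Subgroup G) (hN : N.Normal)
    (hodd : Odd (Nat.card N)) (hc : ∀ g : G, t * g * t⁻¹ * g⁻¹ ∈ N) (g : G) :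
    ∃ n ∈ N, t * (g * n) = (g * n) * t := by
  classical
  have hF : Fact (Nat.Prime 2) := ⟨Nat.prime_two⟩
  haveI : Fintype ↥N := Fintype.ofFinite _
  have htt : t * t = 1 := by rw [← pow_two, ← ht]; exact pow_orderOf_eq_one t
  have htinv : t⁻¹ = t := inv_eq_of_mul_eq_one_left htt
  -- the twisted conjugation on `N`
  have hmem : ∀ n : ↥N, g⁻¹ * (t * (g * (n : G)) * t⁻¹) ∈ N := by
    intro n
    have h1 : g⁻¹ * t * g * t⁻¹ ∈ N := by
      have := N.inv_mem (hc g⁻¹)
      have e : (t * g⁻¹ * t⁻¹ * g⁻¹⁻¹)⁻¹ = g⁻¹ * t * g * t⁻¹ := by group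
      rwa [e] at this
    have h2 : t * (n : G) * t⁻¹ ∈ N := hN.conj_mem _ n.2 t
    have e : g⁻¹ * (t * (g * (n : G)) * t⁻¹) = (g⁻¹ * t * g * t⁻¹) * (t * (n : G) * t⁻¹) := by
      group
    rw [e]
    exact N.mul_mem h1 h2
  let σ : ↥N → ↥N := fun n => ⟨g⁻¹ * (t * (g * (n : G)) * t⁻¹), hmem n⟩
  have hσ : Function.Involutive σ := by
    intro n
    apply Subtype.ext
    show g⁻¹ * (t * (g * (g⁻¹ * (t * (g * (n : G)) * t⁻¹))) * t⁻¹) = (n : G)
    rw [htinv]
    calc g⁻¹ * (t * (g * (g⁻¹ * (t * (g * (n : G)) * t))) * t)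
        = g⁻¹ * ((t * t) * (g * (n : G)) * (t * t)) := by group
      _ = (n : G) := by rw [htt]; group
  have hpow : (hσ.toPerm σ) ^ 2 ^ 1 = 1 := by
    rw [pow_one, pow_two]
    ext n
    simp only [Equiv.Perm.coe_mul, Function.comp_apply, Function.Involutive.coe_toPerm,
      Equiv.Perm.coe_one, id_eq]
    rw [hσ n]
  have hnd : ¬ 2 ∣ Fintype.card ↥N := by
    rw [← Nat.card_eq_fintype_card, ← even_iff_two_dvd, Nat.not_even_iff_odd]
    exact hodd
  obtain ⟨n, hn⟩ := Equiv.Perm.exists_fixed_point_of_prime hnd hpow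
  refine ⟨n, n.2, ?_⟩
  have h1 : g⁻¹ * (t * (g * (n : G)) * t⁻¹) = (n : G) := congrArg Subtype.val hn
  have h2 : t * (g * (n : G)) * t⁻¹ = g * (n : G) := by
    have h3 := congrArg (fun y => g * y) h1
    simpa [mul_assoc] using h3
  calc t * (g * (n : G)) = (t * (g * (n : G)) * t⁻¹) * t := by group
    _ = (g * (n : G)) * t := by rw [h2]

end A1

/-! ### PIECE A1 (Z*-theorem) -/
theorem not_isolated (hO : Cfsg.pResidual 2 G = ⊤) (t : G) (ht : orderOf t = 2)
    (hL : Like (Subgroup.centralizer ({t} : Set G)) (tC t))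
    (hF : HFacts (Subgroup.centralizer ({t} : Set G))) : ¬ Cfsg.IsIsolated t := by
  intro hiso
  obtain ⟨N, hN, hodd, hc⟩ := Cfsg.Agent.Helper7.ZStar.zstar_exists t ht hiso
  haveI := hN
  -- `C ∩ N = 1`
  have hinf : N.subgroupOf (Subgroup.centralizer ({t} : Set G)) = ⊥ := by
    apply hF.odd_normal _ (Subgroup.Normal.subgroupOf hN _)
    have hd : Nat.card ↥(N.subgroupOf (Subgroup.centralizer ({t} : Set G))) ∣ Nat.card N := by
      have hinj : Function.Injective
          ((Subgroup.centralizer ({t} : Set G)).subtype.subgroupComap N) := by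
        intro a b hab
        have := congrArg Subtype.val hab
        exact Subtype.ext (Subtype.ext this)
      exact Subgroup.card_dvd_of_injective _ hinj
    exact hodd.of_dvd_nat hd
  -- the composite `C → G → G / N`
  let f : ↥(Subgroup.centralizer ({t} : Set G)) →* G ⧸ N :=
    (QuotientGroup.mk' N).comp (Subgroup.centralizer ({t} : Set G)).subtype
  have hfinj : Function.Injective f := by
    rw [injective_iff_map_eq_one]
    intro c hcf
    have hcN : (c : G) ∈ N := by
      have : ((c : G) : G ⧸ N) = 1 := hcf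
      exact (QuotientGroup.eq_one_iff _).1 this
    have hmem : c ∈ N.subgroupOf (Subgroup.centralizer ({t} : Set G)) :=
      Subgroup.mem_subgroupOf.2 hcN
    rw [hinf] at hmem
    exact Subgroup.mem_bot.1 hmem
  have hfsurj : Function.Surjective f := by
    intro q
    obtain ⟨g, rfl⟩ := QuotientGroup.mk_surjective q
    obtain ⟨n, hn, hcomm⟩ := A1.exists_comm_in_coset t ht N hN hodd hc g
    have hmem : g * n ∈ Subgroup.centralizer ({t} : Set G) := by
      rw [Subgroup.mem_centralizer_iff]
      intro y hy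
      rw [Set.mem_singleton_iff] at hy
      subst hy
      exact hcomm
    refine ⟨⟨g * n, hmem⟩, ?_⟩
    show ((g * n : G) : G ⧸ N) = (g : G ⧸ N)
    rw [QuotientGroup.eq]
    have e : (g * n)⁻¹ * g = n⁻¹ := by group
    rw [e]
    exact N.inv_mem hn
  let e : ↥(Subgroup.centralizer ({t} : Set G)) ≃* G ⧸ N :=
    MulEquiv.ofBijective f ⟨hfinj, hfsurj⟩
  obtain ⟨M, hMn, hMi⟩ := hF.index_two
  haveI := hMn
  have hMe : (M.map e.toMonoidHom).Normal :=
    Subgroup.Normal.map hMn e.toMonoidHom e.surjective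
  have hLn : ((M.map e.toMonoidHom).comap (QuotientGroup.mk' N)).Normal :=
    Subgroup.Normal.comap hMe _
  have hLi : ((M.map e.toMonoidHom).comap (QuotientGroup.mk' N)).index = 2 := by
    rw [Subgroup.index_comap_of_surjective _ (QuotientGroup.mk'_surjective N)]
    have : (M.map e.toMonoidHom).index = M.index := by
      have h := Subgroup.index_map_equiv M e
      simpa using h
    rw [this, hMi]
  exact Cfsg.Agent.Helper16.index_ne_two_of_pResidual_eq_top hO _ hLn hLi

end A

end Cfsg.Agent.Helper26.L33
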