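import Mathlib
import Cfsg.Agent.Lib.Helper16.CyclicMaxTransfer

/-!
# S0508 piece FUS (helper7 for helper27): one class of involutions

`G` simple, Sylow `2`-subgroup `S` of order at least `4` with a cyclic subgroup `S0` of index two:
all involutions of `G` are conjugate (Thompson transfer, via helper16's
`involution_conj_of_cyclic_index_two`).
-/

set_option autoImplicit false
set_option linter.unusedVariables false
set_option linter.unusedSectionVars false

namespace Cfsg.Agent.Helper27.GWB

universe u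

variable {G : Type u} [Group G] [Finite G]

namespace FUS

/-- A simple group containing a subgroup of order at least `4` has no normal subgroup of index
two. -/
theorem no_index_two [IsSimpleGroup G] (S : Subgroup G) (hS4 : 4 ≤ Nat.card S)
    (M : Subgroup G) (hM : M.Normal) : M.index ≠ 2 := by
  intro hidx
  rcases hM.eq_bot_or_eq_top with h | h
  · rw [h, Subgroup.index_bot] at hidx
    have := Subgroup.card_le_card_group S
    omega
  · rw [h, Subgroup.index_top] at hidx
    norm_num at hidx

end FUS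

/-- PIECE FUS. -/
theorem all_invol_conj [IsSimpleGroup G] (S : Sylow 2 G) (hS4 : 4 ≤ Nat.card (S : Subgroup G))
    (t : G) (ht : orderOf t = 2)
    (S0 : Subgroup G) (hle : S0 ≤ (S : Subgroup G)) (hc : IsCyclic S0)
    (hi : S0.relIndex (S : Subgroup G) = 2) (htS0 : t ∈ S0) :
    ∀ x y : G, orderOf x = 2 → orderOf y = 2 → IsConj x y := by
  have hF : Fact (Nat.Prime 2) := ⟨Nat.prime_two⟩
  -- the order of `S`
  obtain ⟨k, hk⟩ := (IsPGroup.iff_card.1 S.isPGroup')
  have hk2 : 2 ≤ k := by
    by_contra hlt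
    have : k = 0 ∨ k = 1 := by omega
    rcases this with rfl | rfl <;> rw [hk] at hS4 <;> norm_num at hS4
  -- the order of `S0`
  have hcardS0 : Nat.card S0 * 2 = 2 ^ k := by
    have h1 := Subgroup.card_mul_index (S0.subgroupOf (S : Subgroup G))
    rw [Nat.card_congr (Subgroup.subgroupOfEquivOfLe hle).toEquiv] at h1
    have h2 : (S0.subgroupOf (S : Subgroup G)).index = 2 := hi
    rw [h2, hk] at h1
    exact h1
  obtain ⟨n, rfl⟩ : ∃ n, k = n + 1 := ⟨k - 1, by omega⟩
  have hcardS0' : Nat.card S0 = 2 ^ n := by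
    rw [pow_succ] at hcardS0
    exact Nat.eq_of_mul_eq_mul_right two_pos hcardS0
  have hn : 1 ≤ n := by omega
  -- a generator of `S0`
  obtain ⟨a, ha⟩ := hc.exists_generator
  have hao : orderOf (a : G) = 2 ^ n := by
    rw [Subgroup.orderOf_coe, orderOf_eq_card_of_forall_mem_zpowers ha, hcardS0']
  have haT : (a : G) ∈ (S : Subgroup G) := hle a.2
  have hno := FUS.no_index_two (S : Subgroup G) hS4
  intro x y hx hy
  obtain ⟨g, hg⟩ := Cfsg.Agent.Helper16.involution_conj_of_cyclic_index_two S hn haT hao hk hno x hx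
  obtain ⟨g', hg'⟩ :=
    Cfsg.Agent.Helper16.involution_conj_of_cyclic_index_two S hn haT hao hk hno y hy
  rw [isConj_iff]
  refine ⟨g'⁻¹ * g, ?_⟩
  have : g * x * g⁻¹ = g' * y * g'⁻¹ := by rw [hg, hg']
  calc g'⁻¹ * g * x * (g'⁻¹ * g)⁻¹ = g'⁻¹ * (g * x * g⁻¹) * g' := by group
    _ = g'⁻¹ * (g' * y * g'⁻¹) * g' := by rw [this]
    _ = y := by group

end Cfsg.Agent.Helper27.GWB
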