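import Mathlib
import Cfsg.Agent.Lib.Helper24.KF9CharCore
import Cfsg.Agent.Lib.Helper15.GL23Defs
import Cfsg.Agent.Lib.Helper3.J1Defs

/-!
# S0448 piece XIS (helper7 for helper3): rational values of a character at a real element of order 3, and the
trace `χ(y) + χ(y²)` at a real element of order 5.
-/

set_option autoImplicit false
set_option linter.unusedSectionVars false
set_option linter.unusedVariables false
set_option linter.unusedSimpArgs false

namespace Cfsg.Agent.Helper3.J1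

open Cfsg Cfsg.Agent.Helper24 Cfsg.Agent.Helper16.KF9 Cfsg.Agent.Helper15.GL23
open scoped ComplexConjugate

universe u

/-- integer data of a cube root of unity: `μ + μ² = p` -/
theorem xis_root3 {μ : ℂ} (h : μ ^ 3 = 1) : ∃ p : ℤ, μ + μ ^ 2 = (p : ℂ) := by
  rcases charcore_cube h with h0 | h0
  · subst h0
    exact ⟨2, by norm_num⟩
  · refine ⟨-1, ?_⟩
    push_cast; linear_combination h0

/-- integer data of a fifth root of unity: `μ + μ² + μ³ + μ⁴ = p` -/
theorem xis_root5 {μ : ℂ} (h : μ ^ 5 = 1) : ∃ p : ℤ, μ + μ ^ 2 + μ ^ 3 + μ ^ 4 = (p : ℂ) := by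
  have hfac : (μ - 1) * (μ ^ 4 + μ ^ 3 + μ ^ 2 + μ + 1) = 0 := by
    have h1 : (μ - 1) * (μ ^ 4 + μ ^ 3 + μ ^ 2 + μ + 1) = μ ^ 5 - 1 := by ring
    rw [h1, h, sub_self]
  rcases mul_eq_zero.mp hfac with h0 | h0
  · have h1 : μ = 1 := sub_eq_zero.mp h0
    subst h1
    exact ⟨4, by norm_num⟩
  · refine ⟨-1, ?_⟩
    push_cast; linear_combination h0

section Chr

variable {G : Type u} [Group G] [Finite G]

/-- PIECE XIS: rational values: at a real element of order 3, and the trace `χ(y) + χ(y²)` at a real element of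
order 5 -/
theorem vals_xs {χ : G → ℂ} (hχ : IsCharacter G χ) {x y : G} (ox : orderOf x = 3)
    (hx : IsConj x x⁻¹) (oy : orderOf y = 5) (hy : IsConj y y⁻¹) :
    ∃ ξ s : ℤ, χ x = (ξ : ℂ) ∧ χ y + χ (y ^ 2) = (s : ℂ) := by
  have hcf := isClassFunction_of_isCharacter hχ
  obtain ⟨n, ρ, rfl⟩ := hχ
  -- the element of order 3
  have hx3 : x ^ 3 = 1 := by rw [← ox]; exact pow_orderOf_eq_one x
  obtain ⟨μ, hμ, hk⟩ := charcore_roots ρ x (by norm_num : 0 < 3) hx3
  have hroot := fun i => xis_root3 (hμ i)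
  choose p h1 using hroot
  have s1 : ρ.character x = ∑ i, μ i := by simpa using hk 1
  have s2 : ρ.character (x ^ 2) = ∑ i, μ i ^ 2 := hk 2
  have hx2 : x ^ 2 = x⁻¹ := by
    rw [eq_inv_iff_mul_eq_one, ← pow_succ]; exact hx3
  have e12 : ρ.character (x ^ 2) = ρ.character x := by
    rw [hx2]
    obtain ⟨c, hc'⟩ := isConj_iff.mp hx
    rw [← hc']; exact hcf x c
  have hx2' : (2 : ℂ) * ρ.character x = ((∑ i, p i : ℤ) : ℂ) := by
    have : (2 : ℂ) * ρ.character x = ∑ i, (μ i + μ i ^ 2) := by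
      rw [Finset.sum_add_distrib, ← s1, ← s2, e12]; ring
    rw [this, Finset.sum_congr rfl (fun i _ => h1 i)]
    push_cast
    rfl
  obtain ⟨ξ, hξ⟩ := charcore_int_of_two_mul _ (isIntegral_char ρ x) _ hx2'
  -- the element of order 5
  have hy5 : y ^ 5 = 1 := by rw [← oy]; exact pow_orderOf_eq_one y
  obtain ⟨ν, hν, hl⟩ := charcore_roots ρ y (by norm_num : 0 < 5) hy5
  have hroot5 := fun i => xis_root5 (hν i)
  choose q h5 using hroot5
  have t1 : ρ.character y = ∑ i, ν i := by simpa using hl 1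
  have t2 : ρ.character (y ^ 2) = ∑ i, ν i ^ 2 := hl 2
  have t3 : ρ.character (y ^ 3) = ∑ i, ν i ^ 3 := hl 3
  have t4 : ρ.character (y ^ 4) = ∑ i, ν i ^ 4 := hl 4
  have hy4 : y ^ 4 = y⁻¹ := by
    rw [eq_inv_iff_mul_eq_one, ← pow_succ]; exact hy5
  have hy3 : y ^ 3 = (y ^ 2)⁻¹ := by
    rw [eq_inv_iff_mul_eq_one, ← pow_add]; exact hy5
  obtain ⟨c, hc'⟩ := isConj_iff.mp hy
  have e14 : ρ.character (y ^ 4) = ρ.character y := by
    rw [hy4, ← hc']; exact hcf y c
  have e23 : ρ.character (y ^ 3) = ρ.character (y ^ 2) := by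
    have e : (y ^ 2)⁻¹ = c * y ^ 2 * c⁻¹ := by
      rw [← inv_pow, ← hc']
      simp [pow_two]
    rw [hy3, e]; exact hcf (y ^ 2) c
  have hy2' : (2 : ℂ) * (ρ.character y + ρ.character (y ^ 2)) = ((∑ i, q i : ℤ) : ℂ) := by
    have : (2 : ℂ) * (ρ.character y + ρ.character (y ^ 2)) =
        ∑ i, (ν i + ν i ^ 2 + ν i ^ 3 + ν i ^ 4) := by
      rw [Finset.sum_add_distrib, Finset.sum_add_distrib, Finset.sum_add_distrib,
        ← t1, ← t2, ← t3, ← t4, e14, e23]; ring
    rw [this, Finset.sum_congr rfl (fun i _ => h5 i)]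
    push_cast
    rfl
  obtain ⟨s, hs⟩ := charcore_int_of_two_mul _
    ((isIntegral_char ρ y).add (isIntegral_char ρ (y ^ 2))) _ hy2'
  exact ⟨ξ, s, hξ, hs⟩

end Chr

end Cfsg.Agent.Helper3.J1
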