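import Mathlib
import Cfsg.Agent.Lib.Helper3.M24IdxDefs

/-!
# S1589 piece IDX-P0A (helper7): the Sylow 2-subgroup `P0` of `M24` preserves the octad `oct0` and is
transitive on it (checks on helper29's explicit list `PC` of the 1024 elements of `P0`).
-/

set_option autoImplicit false
open Cfsg

namespace Cfsg.Agent.Helper3.M24Idx

open Cfsg.Agent.Helper27 Cfsg.Agent.Helper29 Cfsg.Agent.Helper29.M24
open Cfsg.Agent.Helper29.M23Idx
open Cfsg.Agent.Helper29.FusM23 (Q23)
open Cfsg.Agent.Helper29.Syl2 (P0)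
open Cfsg.Agent.Helper29.IdxTools
open Cfsg.Agent.S0358 (idx)
open scoped Pointwise

/-- the action of a listed element on the indices -/
theorem m24idx_p0a_idx (W : List ℕ) (c : ℕ) (hr : Repr c W) (a : GolayPt) :
    idx (evalW W a) = appF c (idx a) := by
  rw [idx_evalW W hr.1, ← hr.2 _ (M24.idx_lt _)]
  rfl

set_option maxRecDepth 100000 in
theorem m24idx_p0a_PC_oct :
    (Cfsg.Agent.Helper29.Syl2.PC.all fun q => (List.range 24).all fun x =>
      octMask.testBit (appF q.2 x) == octMask.testBit x) = true := by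
  decide +kernel

/-- IDX-P0A -/
theorem P0_smul_oct0 (g : Equiv.Perm GolayPt) (hg : g ∈ P0) : g • oct0 = oct0 := by
  obtain ⟨q, hq, hr, rfl⟩ := Cfsg.Agent.Helper29.Syl2.P0_sub g hg
  have h := m24idx_p0a_PC_oct
  rw [List.all_eq_true] at h
  have h2 := h q hq
  rw [List.all_eq_true] at h2
  rw [smul_eq_iff_forall]
  intro a
  unfold oct0
  rw [mem_maskSet, mem_maskSet, m24idx_p0a_idx q.1 q.2 hr a]
  have h3 := h2 _ (List.mem_range.2 (M24.idx_lt a))
  rw [beq_iff_eq] at h3
  rw [h3]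

set_option maxRecDepth 100000 in
theorem m24idx_p0a_PC_trans :
    ((List.range 24).all fun k => !octMask.testBit k ||
      Cfsg.Agent.Helper29.Syl2.PC.any fun q => Nat.beq (appF q.2 23) k) = true := by
  decide +kernel

/-- IDX-P0A -/
theorem P0_trans_oct0 (w : GolayPt) (hw : w ∈ oct0) : ∃ g ∈ P0, g (dec 23) = w := by
  unfold oct0 at hw
  rw [mem_maskSet] at hw
  have h := m24idx_p0a_PC_trans
  rw [List.all_eq_true] at h
  have h2 := h _ (List.mem_range.2 (M24.idx_lt w))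
  rw [hw] at h2
  simp only [Bool.not_true, Bool.false_or, List.any_eq_true] at h2
  obtain ⟨q, hq, hqk⟩ := h2
  obtain ⟨hr, hfin⟩ := searchCAll_sound Cfsg.Agent.Helper29.Syl2.lvlC Cfsg.Agent.Helper29.Syl2.finC q
    ((Cfsg.Agent.Helper29.Syl2.PC_mem_search q).1 hq)
  refine ⟨evalW q.1, Cfsg.Agent.Helper29.Syl2.mem_P0_of_fin q.1 q.2 hr hfin, ?_⟩
  apply M24.idx_injective
  rw [m24idx_p0a_idx q.1 q.2 hr]
  have h23 : idx (dec 23) = 23 := idx_dec ⟨23, by norm_num⟩
  rw [h23]
  exact Nat.eq_of_beq_eq_true hqk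

end Cfsg.Agent.Helper3.M24Idx
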