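import Mathlib
import Cfsg.Agent.Lib.Helper6.WeilDefs

/-!
Auxiliary lemmas for the Weyl operator pieces of S2347 (helper7).
-/

set_option autoImplicit false
set_option linter.unusedSectionVars false
set_option linter.unusedSimpArgs false

namespace Cfsg.Agent.Helper7.WeilAux

open Matrix Cfsg.Agent.Helper2.Symp Cfsg.Agent.Helper6.Weil

variable {n : ℕ} {F : Type*} [Field F]

theorem vA_add (v w : Fin n ⊕ Fin n → F) : vA (v + w) = vA v + vA w := rfl

theorem vB_add (v w : Fin n ⊕ Fin n → F) : vB (v + w) = vB v + vB w := rfl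

theorem vA_zero : vA (0 : Fin n ⊕ Fin n → F) = 0 := rfl

theorem vB_zero : vB (0 : Fin n ⊕ Fin n → F) = 0 := rfl

theorem vA_elim (a b : Fin n → F) : vA (Sum.elim a b) = a := rfl

theorem vB_elim (a b : Fin n → F) : vB (Sum.elim a b) = b := rfl

theorem elim_vA_vB (v : Fin n ⊕ Fin n → F) : Sum.elim (vA v) (vB v) = v := by
  funext k
  cases k <;> rfl

/-- the symplectic form in coordinates -/
theorem Bf_eq_vAB (v w : Fin n ⊕ Fin n → F) :
    Bf v w = vB v ⬝ᵥ vA w - vA v ⬝ᵥ vB w := by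
  rw [Bf_def, Matrix.J, Matrix.fromBlocks_mulVec]
  simp only [dotProduct, Fintype.sum_sum_type, Sum.elim_inl, Sum.elim_inr, Pi.add_apply,
    Matrix.zero_mulVec, Pi.zero_apply, zero_add, add_zero, Matrix.neg_mulVec, Matrix.one_mulVec,
    Pi.neg_apply, Function.comp_apply, vA, vB]
  simp only [mul_neg, Finset.sum_neg_distrib]
  ring

variable [Fintype F]

/-- orthogonality: the sum of `ψ (t ⬝ᵥ s)` over `s` for `t = 0` -/
theorem sum_psi_dot_zero (ψ : AddChar F ℂ) :
    ∑ s : Fin n → F, ψ ((0 : Fin n → F) ⬝ᵥ s) = (Fintype.card F : ℂ) ^ n := by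
  simp only [zero_dotProduct, AddChar.map_zero_eq_one, Finset.sum_const, Finset.card_univ,
    Fintype.card_pi_const, nsmul_eq_mul, mul_one, Nat.cast_pow]

/-- orthogonality: the sum of `ψ (t ⬝ᵥ s)` over `s` for `t ≠ 0` -/
theorem sum_psi_dot_of_ne (ψ : AddChar F ℂ) (hψ : ψ ≠ 1) (t : Fin n → F) (ht : t ≠ 0) :
    ∑ s : Fin n → F, ψ (t ⬝ᵥ s) = 0 := by
  classical
  obtain ⟨z, hz⟩ : ∃ z, ψ z ≠ 1 := by
    by_contra hcon
    push Not at hcon
    exact hψ (by ext z; simpa using hcon z)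
  obtain ⟨i, hi⟩ : ∃ i, t i ≠ 0 := by
    by_contra hcon
    push Not at hcon
    exact ht (funext hcon)
  set s0 : Fin n → F := Pi.single i (z / t i) with hs0
  have hts0 : t ⬝ᵥ s0 = z := by
    rw [hs0, dotProduct_single]
    field_simp
  have hshift : ∑ s : Fin n → F, ψ (t ⬝ᵥ s) = ψ z * ∑ s : Fin n → F, ψ (t ⬝ᵥ s) := by
    rw [Finset.mul_sum]
    rw [← Fintype.sum_equiv (Equiv.addRight s0) (fun s => ψ (t ⬝ᵥ (s + s0)))
      (fun s => ψ (t ⬝ᵥ s)) (fun s => rfl)]
    refine Finset.sum_congr rfl (fun s _ => ?_)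
    rw [dotProduct_add, hts0, AddChar.map_add_eq_mul, mul_comm]
  have h1 : (1 - ψ z) * ∑ s : Fin n → F, ψ (t ⬝ᵥ s) = 0 := by
    rw [sub_mul, one_mul, ← hshift, sub_self]
  rcases mul_eq_zero.1 h1 with h | h
  · exact absurd (sub_eq_zero.1 h).symm hz
  · exact h

/-- summation over a vector equals summation over its two halves -/
theorem sum_vAB (G : (Fin n → F) → (Fin n → F) → ℂ) :
    ∑ v : Fin n ⊕ Fin n → F, G (vA v) (vB v) = ∑ a : Fin n → F, ∑ b : Fin n → F, G a b := by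
  rw [← Fintype.sum_prod_type']
  exact Fintype.sum_equiv (Equiv.sumArrowEquivProdArrow (Fin n) (Fin n) F) _ _ (fun v => rfl)

end Cfsg.Agent.Helper7.WeilAux
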