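import Mathlib
import Cfsg.Agent.Lib.Helper6.WeilDefs
import Cfsg.Agent.Lib.Helper7.WeilHWAux

/-!
S2347 PIECE HWLI (helper7): the Weyl operators are linearly independent.
-/

set_option autoImplicit false

namespace Cfsg.Agent.Helper6.Weil

open Matrix Cfsg.Agent.Helper2.Symp Cfsg.Agent.Helper7.WeilAux
open scoped Cfsg.Agent.Helper2.Symp

variable {n : ℕ} {F : Type*} [Field F] [Fintype F]

/-- PIECE HWLI: the Weyl operators are linearly independent -/
theorem hw_linearIndependent (ψ : AddChar F ℂ) (hψ : ψ ≠ 1) (h2 : (2 : F) ≠ 0) :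
    LinearIndependent ℂ (fun v : Fin n ⊕ Fin n → F => hw ψ v) := by
  classical
  rw [Fintype.linearIndependent_iff]
  intro g hg v0
  set a0 : Fin n → F := vA v0 with ha0
  set b0 : Fin n → F := vB v0 with hb0
  set h : Fin n → F := (2 : F)⁻¹ • a0 with hh
  have hhh : h + h = a0 := by
    rw [hh, ← add_smul]
    have : (2 : F)⁻¹ + 2⁻¹ = 1 := by field_simp; norm_num
    rw [this, one_smul]
  -- step 1: for all `s`, `∑ v with vA v = a0, g v * ψ (-(vB v ⬝ᵥ s)) = 0`
  have step1 : ∀ s : Fin n → F,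
      ∑ v : Fin n ⊕ Fin n → F, (if vA v = a0 then g v * ψ (-(vB v ⬝ᵥ s)) else 0) = 0 := by
    intro s
    have h1 : (∑ c, g c • hw ψ c) (Pi.single (s + h) (1 : ℂ)) (s - h) = 0 := by
      rw [hg]; rfl
    rw [LinearMap.sum_apply, Finset.sum_apply] at h1
    refine Eq.trans ?_ h1
    refine Finset.sum_congr rfl (fun v _ => ?_)
    rw [LinearMap.smul_apply, Pi.smul_apply, hw_apply, smul_eq_mul]
    by_cases hv : vA v = a0
    · rw [if_pos hv, hv]
      have e1 : s - h + a0 = s + h := by rw [← hhh]; abel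
      rw [e1, Pi.single_eq_same, mul_one]
      congr 2
      rw [dotProduct_sub, hh, dotProduct_smul, smul_eq_mul, dotProduct_comm a0 (vB v)]
      field_simp
      ring
    · rw [if_neg hv]
      have e2 : s - h + vA v ≠ s + h := by
        intro hcon
        apply hv
        have : vA v = (s + h) - (s - h) := by rw [← hcon]; abel
        rw [this, ← hhh]; abel
      rw [Pi.single_eq_of_ne e2, mul_zero, mul_zero]
  -- step 2: multiply by `ψ (b0 ⬝ᵥ s)` and sum over `s`
  have step2 : ∑ s : Fin n → F, ψ (b0 ⬝ᵥ s) *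
      ∑ v : Fin n ⊕ Fin n → F, (if vA v = a0 then g v * ψ (-(vB v ⬝ᵥ s)) else 0) = 0 := by
    refine Finset.sum_eq_zero (fun s _ => ?_)
    rw [step1 s, mul_zero]
  have step3 : ∑ s : Fin n → F, ψ (b0 ⬝ᵥ s) *
      ∑ v : Fin n ⊕ Fin n → F, (if vA v = a0 then g v * ψ (-(vB v ⬝ᵥ s)) else 0) =
      g v0 * (Fintype.card F : ℂ) ^ n := by
    simp_rw [Finset.mul_sum]
    rw [Finset.sum_comm]
    rw [Finset.sum_eq_single v0]
    · simp_rw [if_pos ha0.symm]
      have : ∀ s : Fin n → F, ψ (b0 ⬝ᵥ s) * (g v0 * ψ (-(vB v0 ⬝ᵥ s))) = g v0 := by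
        intro s
        rw [← hb0, mul_comm (g v0), ← mul_assoc, ← AddChar.map_add_eq_mul, add_neg_cancel,
          AddChar.map_zero_eq_one, one_mul]
      simp_rw [this]
      rw [Finset.sum_const, Finset.card_univ, Fintype.card_pi_const, nsmul_eq_mul, mul_comm,
        Nat.cast_pow]
    · intro v _ hv
      by_cases hvA : vA v = a0
      · simp_rw [if_pos hvA]
        have hvB : b0 - vB v ≠ 0 := by
          intro hcon
          apply hv
          rw [← elim_vA_vB v, ← elim_vA_vB v0, hvA, ← ha0, ← hb0, (sub_eq_zero.1 hcon)]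
        have : ∀ s : Fin n → F, ψ (b0 ⬝ᵥ s) * (g v * ψ (-(vB v ⬝ᵥ s))) =
            g v * ψ ((b0 - vB v) ⬝ᵥ s) := by
          intro s
          rw [mul_comm (g v), ← mul_assoc, ← AddChar.map_add_eq_mul, mul_comm, sub_dotProduct,
            sub_eq_add_neg]
        simp_rw [this]
        rw [← Finset.mul_sum, sum_psi_dot_of_ne ψ hψ _ hvB, mul_zero]
      · simp_rw [if_neg hvA, mul_zero]
        exact Finset.sum_const_zero
    · intro hcon
      exact absurd (Finset.mem_univ v0) hcon
  rw [step3] at step2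
  rcases mul_eq_zero.1 step2 with h | h
  · exact h
  · exfalso
    have : (Fintype.card F : ℂ) ≠ 0 := by
      exact_mod_cast Fintype.card_ne_zero
    exact pow_ne_zero n this h

end Cfsg.Agent.Helper6.Weil
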