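import Mathlib
import Cfsg.Agent.Lib.Helper6.WeilDefs
import Cfsg.Agent.Lib.Helper7.WeilHWAux

/-!
S2347 PIECE HWMUL (helper7): `hw_zero`, `hw_mul`.
-/

set_option autoImplicit false

namespace Cfsg.Agent.Helper6.Weil

open Matrix Cfsg.Agent.Helper2.Symp Cfsg.Agent.Helper7.WeilAux
open scoped Cfsg.Agent.Helper2.Symp

variable {n : ℕ} {F : Type*} [Field F] [Fintype F]

/-- PIECE HWMUL (a) -/
theorem hw_zero (ψ : AddChar F ℂ) : hw ψ (0 : Fin n ⊕ Fin n → F) = 1 := by
  refine LinearMap.ext (fun f => funext (fun x => ?_))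
  rw [hw_apply, vA_zero, vB_zero]
  simp only [zero_dotProduct, neg_zero, zero_div, sub_zero, AddChar.map_zero_eq_one, one_mul,
    add_zero, Module.End.one_apply]

/-- PIECE HWMUL (b): `π(v) π(w) = ψ(B(v,w)/2) π(v+w)` -/
theorem hw_mul (ψ : AddChar F ℂ) (h2 : (2 : F) ≠ 0) (v w : Fin n ⊕ Fin n → F) :
    hw ψ v * hw ψ w = ψ (Bf v w / 2) • hw ψ (v + w) := by
  refine LinearMap.ext (fun f => funext (fun x => ?_))
  rw [Module.End.mul_apply, hw_apply, hw_apply, LinearMap.smul_apply, Pi.smul_apply, hw_apply,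
    smul_eq_mul, vA_add, vB_add, Bf_eq_vAB, ← mul_assoc, ← mul_assoc, ← AddChar.map_add_eq_mul,
    ← AddChar.map_add_eq_mul, add_assoc x]
  congr 2
  simp only [add_dotProduct, dotProduct_add]
  rw [dotProduct_comm (vB w) (vA v), dotProduct_comm (vB v) (vA w)]
  field_simp
  ring

end Cfsg.Agent.Helper6.Weil
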