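import Mathlib
import Cfsg.Agent.Lib.Helper6.WeilDefs
import Cfsg.Agent.Lib.Helper7.WeilHWAux

/-!
S2347 PIECE HWSUM (helper7): the sum of all Weyl operators is `q^n` times the parity operator.
-/

set_option autoImplicit false

namespace Cfsg.Agent.Helper6.Weil

open Matrix Cfsg.Agent.Helper2.Symp Cfsg.Agent.Helper7.WeilAux
open scoped Cfsg.Agent.Helper2.Symp

variable {n : ℕ} {F : Type*} [Field F] [Fintype F]

/-- PIECE HWSUM: the sum of all Weyl operators is `q^n` times the parity operator -/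
theorem sum_hw (ψ : AddChar F ℂ) (hψ : ψ ≠ 1) (h2 : (2 : F) ≠ 0) :
    ∑ v : Fin n ⊕ Fin n → F, hw ψ v = ((Fintype.card F : ℂ) ^ n) • par n F := by
  classical
  refine LinearMap.ext (fun f => funext (fun x => ?_))
  rw [LinearMap.sum_apply, Finset.sum_apply, LinearMap.smul_apply, Pi.smul_apply, par_apply,
    smul_eq_mul]
  refine ((Finset.sum_congr rfl (fun v _ => hw_apply ψ v f x)).trans ?_)
  refine (sum_vAB (fun a b : Fin n → F => ψ (-(b ⬝ᵥ x) - (a ⬝ᵥ b) / 2) * f (x + a))).trans ?_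
  have e2 : ∀ a : Fin n → F, ∑ b : Fin n → F, ψ (-(b ⬝ᵥ x) - (a ⬝ᵥ b) / 2) * f (x + a) =
      f (x + a) * ∑ b : Fin n → F, ψ ((-(x + (2 : F)⁻¹ • a)) ⬝ᵥ b) := by
    intro a
    rw [Finset.mul_sum]
    refine Finset.sum_congr rfl (fun b _ => ?_)
    rw [mul_comm]
    congr 2
    rw [neg_dotProduct, add_dotProduct, smul_dotProduct, smul_eq_mul, dotProduct_comm b x]
    field_simp
    ring
  simp_rw [e2]
  rw [Finset.sum_eq_single (-(x + x))]
  · have e3 : -(x + (2 : F)⁻¹ • (-(x + x))) = 0 := by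
      rw [smul_neg, smul_add, ← add_smul]
      have : (2 : F)⁻¹ + 2⁻¹ = 1 := by field_simp; norm_num
      rw [this, one_smul, add_neg_cancel, neg_zero]
    rw [e3, sum_psi_dot_zero, mul_comm]
    congr 2
    abel
  · intro a _ ha
    have e4 : -(x + (2 : F)⁻¹ • a) ≠ 0 := by
      intro hcon
      apply ha
      have h3 : (2 : F)⁻¹ • a = -x := by
        have := neg_eq_zero.1 hcon
        exact (eq_neg_of_add_eq_zero_right this)
      have h4 : a = (2 : F) • ((2 : F)⁻¹ • a) := by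
        rw [smul_smul, mul_inv_cancel₀ h2, one_smul]
      rw [h4, h3, two_smul, neg_add]
    rw [sum_psi_dot_of_ne ψ hψ _ e4, mul_zero]
  · intro hcon
    exact absurd (Finset.mem_univ _) hcon

end Cfsg.Agent.Helper6.Weil
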