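import Mathlib
import Cfsg.Prelude.Def_Local
import Cfsg.Agent.Lib.Helper7.Quasisimple

set_option autoImplicit false

namespace Cfsg.Agent.Helper7

open Equiv Equiv.Perm
open scoped commutatorElement

section Simple

variable {H : Type*} [Group H]

/-- a non-abelian simple group is quasisimple. -/
theorem isQuasisimple_of_isSimpleGroup_of_not_comm [IsSimpleGroup H]
    (hna : ∃ a b : H, a * b ≠ b * a) : Cfsg.IsQuasisimple H := by
  obtain ⟨a, b, hab⟩ := hna
  have hcomm : commutator H = ⊤ := by
    rcases (inferInstance : (commutator H).Normal).eq_bot_or_eq_top with h | h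
    · exfalso
      apply hab
      have h1 : ⁅a, b⁆ ∈ commutator H := Subgroup.commutator_mem_commutator (Subgroup.mem_top a) (Subgroup.mem_top b)
      rw [h, Subgroup.mem_bot] at h1
      exact commutatorElement_eq_one_iff_mul_comm.mp h1
    · exact h
  have hcen : Subgroup.center H = ⊥ := by
    rcases (inferInstance : (Subgroup.center H).Normal).eq_bot_or_eq_top with h | h
    · exact h
    · exfalso
      apply hab
      have h1 : a ∈ Subgroup.center H := by rw [h]; exact Subgroup.mem_top a
      exact (Subgroup.mem_center_iff.mp h1 b).symm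
  refine ⟨⟨hcomm⟩, ?_⟩
  haveI : Nontrivial (H ⧸ Subgroup.center H) := by
    refine ⟨⟨(QuotientGroup.mk a : H ⧸ Subgroup.center H), 1, ?_⟩⟩
    intro h
    rw [QuotientGroup.eq_one_iff, hcen, Subgroup.mem_bot] at h
    apply hab
    rw [h, one_mul, mul_one]
  exact IsSimpleGroup.isSimpleGroup_of_surjective (QuotientGroup.mk' (Subgroup.center H))
    (QuotientGroup.mk'_surjective _)

end Simple

variable {α : Type*} [Fintype α] [DecidableEq α]

/-- the even permutations fixing every point of `S`. -/
def altFix (S : Finset α) : Subgroup ↥(alternatingGroup α) where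
  carrier := {g | ∀ x ∈ S, (g : Perm α) x = x}
  one_mem' := by
    intro x _
    rfl
  mul_mem' := by
    intro g h hg hh x hx
    show (g : Perm α) ((h : Perm α) x) = x
    rw [hh x hx, hg x hx]
  inv_mem' := by
    intro g hg x hx
    show ((g : Perm α)⁻¹) x = x
    rw [Perm.inv_eq_iff_eq]
    exact (hg x hx).symm

theorem mem_altFix {S : Finset α} {g : ↥(alternatingGroup α)} :
    g ∈ altFix S ↔ ∀ x ∈ S, (g : Perm α) x = x := Iff.rfl

/-- the 3-cycle `x ↦ b ↦ a ↦ x` as an element of the alternating group. -/
def threeCyc (x a b : α) (hxa : x ≠ a) (hxb : x ≠ b) (hab : a ≠ b) : ↥(alternatingGroup α) :=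
  ⟨swap x a * swap x b, (isThreeCycle_swap_mul_swap_same hxa hxb hab).mem_alternatingGroup⟩

theorem threeCyc_apply_self (x a b : α) (hxa : x ≠ a) (hxb : x ≠ b) (hab : a ≠ b) :
    ((threeCyc x a b hxa hxb hab : ↥(alternatingGroup α)) : Perm α) x = b := by
  show (swap x a * swap x b) x = b
  rw [Perm.mul_apply, swap_apply_left, swap_apply_of_ne_of_ne hxb.symm hab.symm]

theorem threeCyc_apply_of_ne (x a b : α) (hxa : x ≠ a) (hxb : x ≠ b) (hab : a ≠ b) (y : α)
    (hyx : y ≠ x) (hya : y ≠ a) (hyb : y ≠ b) :
    ((threeCyc x a b hxa hxb hab : ↥(alternatingGroup α)) : Perm α) y = y := by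
  show (swap x a * swap x b) y = y
  rw [Perm.mul_apply, swap_apply_of_ne_of_ne hyx hyb, swap_apply_of_ne_of_ne hyx hya]

theorem threeCyc_mem_altFix (S : Finset α) (x a b : α) (hxa : x ≠ a) (hxb : x ≠ b) (hab : a ≠ b)
    (hx : x ∉ S) (ha : a ∉ S) (hb : b ∉ S) : threeCyc x a b hxa hxb hab ∈ altFix S := by
  intro y hy
  apply threeCyc_apply_of_ne
  · rintro rfl; exact hx hy
  · rintro rfl; exact ha hy
  · rintro rfl; exact hb hy

/-- permutations fixing `S` and `Sᶜ` pointwise commute. -/
theorem commute_of_mem_altFix_compl {S : Finset α} {g h : ↥(alternatingGroup α)}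
    (hg : g ∈ altFix S) (hh : h ∈ altFix Sᶜ) : g * h = h * g := by
  apply Subtype.ext
  show (g : Perm α) * (h : Perm α) = (h : Perm α) * (g : Perm α)
  apply Perm.Disjoint.commute
  intro x
  by_cases hx : x ∈ S
  · exact Or.inl (hg x hx)
  · exact Or.inr (hh x (Finset.mem_compl.mpr hx))

/-- the centralizer of the even permutations supported on `S` (`|S| ≥ 4`) fixes `S` pointwise. -/
theorem centralizer_altFix_compl (S : Finset α) (hS : 4 ≤ S.card) :
    Subgroup.centralizer ((altFix Sᶜ : Subgroup ↥(alternatingGroup α)) : Set ↥(alternatingGroup α))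
      = altFix S := by
  apply le_antisymm
  · intro g hg x hx
    by_contra hne
    have hcard : 1 < ((S.erase x).erase ((g : Perm α) x)).card := by
      have h1 : (S.erase x).card = S.card - 1 := Finset.card_erase_of_mem hx
      have h2 := Finset.pred_card_le_card_erase (s := S.erase x) (a := (g : Perm α) x)
      omega
    obtain ⟨a, ha, b, hb, hab⟩ := Finset.one_lt_card.mp hcard
    simp only [Finset.mem_erase] at ha hb
    obtain ⟨hay, hax, haS⟩ := ha
    obtain ⟨hby, hbx, hbS⟩ := hb
    have hc : threeCyc x a b (Ne.symm hax) (Ne.symm hbx) hab ∈ altFix Sᶜ := by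
      apply threeCyc_mem_altFix
      · simpa using hx
      · simpa using haS
      · simpa using hbS
    have hcomm := hg _ hc
    have h1 := congrArg (fun k : ↥(alternatingGroup α) => (k : Perm α) x) hcomm
    simp only [Subgroup.coe_mul, Perm.mul_apply] at h1
    rw [threeCyc_apply_self, threeCyc_apply_of_ne _ _ _ _ _ _ _ hne (Ne.symm hay) (Ne.symm hby)] at h1
    exact hbx ((g : Perm α).injective h1).symm
  · intro g hg h hh
    exact (commute_of_mem_altFix_compl hg hh).symm

theorem centralizer_altFix (S : Finset α) (hS : 4 ≤ Sᶜ.card) :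
    Subgroup.centralizer ((altFix S : Subgroup ↥(alternatingGroup α)) : Set ↥(alternatingGroup α))
      = altFix Sᶜ := by
  have := centralizer_altFix_compl Sᶜ hS
  rwa [compl_compl] at this

end Cfsg.Agent.Helper7
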