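import Mathlib
import Cfsg.Prelude.Def_Local
import Cfsg.Agent.Lib.Helper7.AltStd1

set_option autoImplicit false

namespace Cfsg.Agent.Helper7

open Equiv Equiv.Perm

variable {α : Type*} [Fintype α] [DecidableEq α]

theorem exists_four_of_card (T : Finset α) (hT : 4 ≤ T.card) :
    ∃ x ∈ T, ∃ a ∈ T, ∃ b ∈ T, ∃ d ∈ T, x ≠ a ∧ x ≠ b ∧ x ≠ d ∧ a ≠ b ∧ a ≠ d ∧ b ≠ d := by
  have hne : T.Nonempty := Finset.card_pos.mp (by omega)
  obtain ⟨x, hx⟩ := hne
  have h1 : 2 < (T.erase x).card := by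
    rw [Finset.card_erase_of_mem hx]; omega
  obtain ⟨a, ha, b, hb, d, hd, hab, had, hbd⟩ := Finset.two_lt_card.mp h1
  simp only [Finset.mem_erase] at ha hb hd
  exact ⟨x, hx, a, ha.2, b, hb.2, d, hd.2, Ne.symm ha.1, Ne.symm hb.1, Ne.symm hd.1, hab, had, hbd⟩

/-- the embedding of `Alt(Sᶜ)` onto `altFix S`. -/
def altFixHom (S : Finset α) : ↥(alternatingGroup {x // x ∉ S}) →* ↥(altFix S) where
  toFun σ := ⟨⟨ofSubtype (σ : Perm {x // x ∉ S}), by
      rw [Equiv.Perm.mem_alternatingGroup, sign_ofSubtype]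
      exact Equiv.Perm.mem_alternatingGroup.mp σ.2⟩, by
      intro x hx
      exact ofSubtype_apply_of_not_mem _ (by simpa using hx)⟩
  map_one' := by
    apply Subtype.ext
    apply Subtype.ext
    simp
  map_mul' := by
    intro σ τ
    apply Subtype.ext
    apply Subtype.ext
    simp

theorem altFixHom_surjective (S : Finset α) : Function.Surjective (altFixHom S) := by
  intro ℓ
  have hℓ : ∀ x ∈ S, ((ℓ : ↥(alternatingGroup α)) : Perm α) x = x := ℓ.2
  have h₁ : ∀ x, ((((ℓ : ↥(alternatingGroup α)) : Perm α) x) ∉ S) ↔ x ∉ S := by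
    intro x
    constructor
    · intro h hx
      rw [hℓ x hx] at h
      exact h hx
    · intro hx h
      have := hℓ _ h
      exact hx (((ℓ : ↥(alternatingGroup α)) : Perm α).injective this ▸ h)
  have h₂ : ∀ x, ((ℓ : ↥(alternatingGroup α)) : Perm α) x ≠ x → x ∉ S := by
    intro x hx hxS
    exact hx (hℓ x hxS)
  have h3 : ofSubtype (subtypePerm ((ℓ : ↥(alternatingGroup α)) : Perm α) h₁)
      = ((ℓ : ↥(alternatingGroup α)) : Perm α) := ofSubtype_subtypePerm h₁ h₂
  refine ⟨⟨subtypePerm ((ℓ : ↥(alternatingGroup α)) : Perm α) h₁, ?_⟩, ?_⟩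
  · rw [Equiv.Perm.mem_alternatingGroup, ← sign_ofSubtype, h3]
    exact Equiv.Perm.mem_alternatingGroup.mp (ℓ : ↥(alternatingGroup α)).2
  · apply Subtype.ext
    apply Subtype.ext
    exact h3

theorem altFix_not_comm (S : Finset α) (hS : 4 ≤ Sᶜ.card) :
    ∃ a b : ↥(altFix S), a * b ≠ b * a := by
  obtain ⟨x, hx, a, ha, b, hb, d, hd, hxa, hxb, hxd, hab, had, hbd⟩ := exists_four_of_card Sᶜ hS
  rw [Finset.mem_compl] at hx ha hb hd
  refine ⟨⟨threeCyc x a b hxa hxb hab, threeCyc_mem_altFix S x a b hxa hxb hab hx ha hb⟩,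
    ⟨threeCyc x a d hxa hxd had, threeCyc_mem_altFix S x a d hxa hxd had hx ha hd⟩, ?_⟩
  intro h
  have h1 := congrArg (fun k : ↥(altFix S) => ((k : ↥(alternatingGroup α)) : Perm α) x) h
  simp only [Subgroup.coe_mul, Perm.mul_apply] at h1
  rw [threeCyc_apply_self, threeCyc_apply_self,
    threeCyc_apply_of_ne x a b hxa hxb hab d (Ne.symm hxd) (Ne.symm had) (Ne.symm hbd),
    threeCyc_apply_of_ne x a d hxa hxd had b (Ne.symm hxb) (Ne.symm hab) hbd] at h1
  exact hbd h1.symm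

theorem altFix_isSimpleGroup (S : Finset α) (hS : 5 ≤ Sᶜ.card) : IsSimpleGroup ↥(altFix S) := by
  have hcard : 5 ≤ Nat.card {x // x ∉ S} := by
    rw [Nat.card_eq_fintype_card, Fintype.card_subtype]
    have : (Finset.univ.filter fun x => x ∉ S) = Sᶜ := by
      ext x; simp
    rw [this]; exact hS
  haveI : IsSimpleGroup ↥(alternatingGroup {x // x ∉ S}) := alternatingGroup.isSimpleGroup hcard
  haveI : Nontrivial ↥(altFix S) := by
    obtain ⟨a, b, hab⟩ := altFix_not_comm S (by omega)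
    refine ⟨⟨a, 1, ?_⟩⟩
    rintro rfl
    apply hab
    rw [one_mul, mul_one]
  exact IsSimpleGroup.isSimpleGroup_of_surjective (altFixHom S) (altFixHom_surjective S)

theorem altFix_isQuasisimple (S : Finset α) (hS : 5 ≤ Sᶜ.card) : Cfsg.IsQuasisimple ↥(altFix S) := by
  haveI := altFix_isSimpleGroup S hS
  exact isQuasisimple_of_isSimpleGroup_of_not_comm (altFix_not_comm S (by omega))

end Cfsg.Agent.Helper7
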