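import Mathlib
import Cfsg.Prelude.Def_Local
import Cfsg.Agent.Lib.Helper7.Layer
import Cfsg.Agent.Lib.Helper7.FStar
import Cfsg.Agent.Lib.Helper15.SylowIn
import Cfsg.Agent.Lib.Helper15.ChermakDelgado

set_option autoImplicit false

namespace Cfsg.Agent.Helper7

open Subgroup
open scoped commutatorElement

variable {G : Type*} [Group G]

theorem map_conj_centralizer_singleton (g y : G) :
    (Subgroup.centralizer ({y} : Set G)).map (MulAut.conj g).toMonoidHom =
      Subgroup.centralizer ({g * y * g⁻¹} : Set G) := by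
  ext x
  rw [Cfsg.Agent.Helper15.mem_map_conj_iff, Subgroup.mem_centralizer_singleton_iff,
    Subgroup.mem_centralizer_singleton_iff]
  constructor
  · intro h
    calc x * (g * y * g⁻¹) = g * ((g⁻¹ * x * g) * y) * g⁻¹ := by group
      _ = g * (y * (g⁻¹ * x * g)) * g⁻¹ := by rw [h]
      _ = g * y * g⁻¹ * x := by group
  · intro h
    calc g⁻¹ * x * g * y = g⁻¹ * (x * (g * y * g⁻¹)) * g := by group
      _ = g⁻¹ * (g * y * g⁻¹ * x) * g := by rw [h]
      _ = y * (g⁻¹ * x * g) := by group

/-- conjugation transports components of subgroups -/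
theorem isComponent_subgroupOf_map_conj {L K : Subgroup G} (g : G)
    (hL : Cfsg.IsComponent (L.subgroupOf K)) :
    Cfsg.IsComponent ((L.map (MulAut.conj g).toMonoidHom).subgroupOf
      (K.map (MulAut.conj g).toMonoidHom)) := by
  set ψ : ↥K ≃* ↥(K.map (MulAut.conj g).toMonoidHom) :=
    K.equivMapOfInjective (MulAut.conj g).toMonoidHom (MulAut.conj g).injective with hψ
  have h1 := isComponent_map_mulEquiv ψ hL
  have h2 : (L.subgroupOf K).map ψ.toMonoidHom =
      (L.map (MulAut.conj g).toMonoidHom).subgroupOf (K.map (MulAut.conj g).toMonoidHom) := by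
    ext z
    rw [Subgroup.mem_subgroupOf]
    constructor
    · rintro ⟨k, hk, rfl⟩
      have hk' : (k : G) ∈ L := Subgroup.mem_subgroupOf.mp hk
      exact ⟨(k : G), hk', rfl⟩
    · rintro ⟨l, hl, hlz⟩
      have hlK : l ∈ K := by
        obtain ⟨k, hk, hkz⟩ := z.2
        have : (MulAut.conj g) l = (MulAut.conj g) k := by
          rw [← MulEquiv.coe_toMonoidHom, hlz, hkz]
        rw [(MulAut.conj g).injective this]
        exact hk
      refine ⟨⟨l, hlK⟩, Subgroup.mem_subgroupOf.mpr hl, ?_⟩
      apply Subtype.ext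
      exact hlz
  rw [← h2]
  exact h1

/-- distinct components of a subgroup commute -/
theorem commutator_eq_bot_of_isComponent_subgroupOf [Finite G] {L M K : Subgroup G}
    (hLK : L ≤ K) (hMK : M ≤ K) (hL : Cfsg.IsComponent (L.subgroupOf K))
    (hM : Cfsg.IsComponent (M.subgroupOf K)) (hne : L ≠ M) : ⁅L, M⁆ = ⊥ := by
  have hne' : L.subgroupOf K ≠ M.subgroupOf K := by
    intro h
    apply hne
    rw [← Subgroup.map_subgroupOf_eq_of_le hLK, ← Subgroup.map_subgroupOf_eq_of_le hMK, h]
  have h1 := component_commutator_eq_bot_of_ne hL hM hne'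
  have h2 := congrArg (Subgroup.map K.subtype) h1
  rw [Subgroup.map_commutator, Subgroup.map_subgroupOf_eq_of_le hLK,
    Subgroup.map_subgroupOf_eq_of_le hMK, Subgroup.map_bot] at h2
  exact h2

theorem normalizer_le_normalizer_centralizer (L : Subgroup G) :
    Subgroup.normalizer (L : Set G) ≤
      Subgroup.normalizer ((Subgroup.centralizer (L : Set G) : Subgroup G) : Set G) :=
  (Subgroup.normal_subgroupOf_iff_le_normalizer (Subgroup.centralizer_le_normalizer _)).mp
    (Subgroup.normal_subgroupOf_centralizer_normalizer _)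

/-- Criterion for a standard subgroup. -/
theorem isStandardSubgroup_of_forall_component [Finite G] (x : G) (hx : orderOf x = 2)
    (L : Subgroup G) (hLx : L ≤ Subgroup.centralizer ({x} : Set G))
    (hL : Cfsg.IsComponent (L.subgroupOf (Subgroup.centralizer ({x} : Set G))))
    (hne : ∀ y : G, orderOf y = 2 → y ∈ Subgroup.centralizer (L : Set G) →
      L ≤ Subgroup.centralizer ({y} : Set G) ∧
        Cfsg.IsComponent (L.subgroupOf (Subgroup.centralizer ({y} : Set G))))
    (hnc : ∀ g : G, L.map (MulAut.conj g).toMonoidHom ≠ L →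
      ⁅L, L.map (MulAut.conj g).toMonoidHom⁆ ≠ ⊥) : Cfsg.IsStandardSubgroup L := by
  have hxL : x ∈ Subgroup.centralizer (L : Set G) := by
    rw [Subgroup.mem_centralizer_iff]
    intro l hl
    have := hLx hl
    rw [Subgroup.mem_centralizer_singleton_iff] at this
    exact this
  -- the key step
  have key : ∀ g y : G, orderOf y = 2 → y ∈ Subgroup.centralizer (L : Set G) →
      y ∈ Subgroup.centralizer ((L.map (MulAut.conj g).toMonoidHom : Subgroup G) : Set G) →
      L.map (MulAut.conj g).toMonoidHom = L := by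
    intro g y hy hyL hyLg
    by_contra hcon
    obtain ⟨h1, h2⟩ := hne y hy hyL
    rw [Cfsg.Agent.Helper15.centralizer_map_conj, Cfsg.Agent.Helper15.mem_map_conj_iff] at hyLg
    have hy' : orderOf (g⁻¹ * y * g) = 2 := by
      have hsc : SemiconjBy g⁻¹ y (g⁻¹ * y * g) := by
        show g⁻¹ * y = g⁻¹ * y * g * g⁻¹
        group
      rw [← hsc.orderOf_eq]
      exact hy
    obtain ⟨h3, h4⟩ := hne _ hy' hyLg
    have h5 := isComponent_subgroupOf_map_conj g h4
    have h6 : g * (g⁻¹ * y * g) * g⁻¹ = y := by group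
    rw [map_conj_centralizer_singleton, h6] at h5
    have h7 : L.map (MulAut.conj g).toMonoidHom ≤ Subgroup.centralizer ({y} : Set G) := by
      have := Cfsg.Agent.Helper15.map_conj_mono h3 g
      rw [map_conj_centralizer_singleton, h6] at this
      exact this
    exact hnc g hcon (commutator_eq_bot_of_isComponent_subgroupOf h1 h7 h2 h5 (Ne.symm hcon))
  refine ⟨?_, ⟨?_, ?_⟩, hnc, ?_⟩
  · exact isQuasisimple_of_mulEquiv (Subgroup.subgroupOfEquivOfLe hLx) hL.2
  · -- even order
    have h1 : orderOf (⟨x, hxL⟩ : ↥(Subgroup.centralizer (L : Set G))) = 2 := by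
      rw [← hx]
      exact Subgroup.orderOf_mk x hxL
    rw [even_iff_two_dvd, ← h1]
    exact orderOf_dvd_natCard _
  · intro g hg
    by_contra hodd
    rw [Nat.not_odd_iff_even, even_iff_two_dvd] at hodd
    haveI : Fact (Nat.Prime 2) := ⟨Nat.prime_two⟩
    obtain ⟨⟨y, hyK⟩, hy⟩ := exists_prime_orderOf_dvd_card' (G := ↥(Subgroup.centralizer (L : Set G) ⊓
      (Subgroup.centralizer (L : Set G)).map (MulAut.conj g).toMonoidHom)) 2 hodd
    have hy2 : orderOf y = 2 := by
      rw [← hy]
      exact (Subgroup.orderOf_mk y hyK).symm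
    obtain ⟨hy1, hy3⟩ := Subgroup.mem_inf.mp hyK
    rw [← Cfsg.Agent.Helper15.centralizer_map_conj] at hy3
    have := key g y hy2 hy1 hy3
    exact hg (normalizer_le_normalizer_centralizer L
      (Cfsg.Agent.Helper15.mem_normalizer_of_map_conj_eq this))
  · apply le_antisymm (normalizer_le_normalizer_centralizer L)
    intro g hg
    have h1 := Cfsg.Agent.Helper15.map_conj_eq_of_mem_normalizer hg
    rw [← Cfsg.Agent.Helper15.centralizer_map_conj] at h1
    have hx2 : x ∈ Subgroup.centralizer ((L.map (MulAut.conj g).toMonoidHom : Subgroup G) : Set G) := by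
      rw [h1]; exact hxL
    exact Cfsg.Agent.Helper15.mem_normalizer_of_map_conj_eq (key g x hx hxL hx2)

end Cfsg.Agent.Helper7
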