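import Mathlib
import Cfsg.Prelude.Def_Local
import Cfsg.Agent.Lib.Helper7.AltStd2
import Cfsg.Agent.Lib.Helper7.Standard

set_option autoImplicit false

namespace Cfsg.Agent.Helper7

open Equiv Equiv.Perm

variable {α : Type*} [Fintype α] [DecidableEq α]

theorem mem_iff_apply_mem_of_forall (T : Finset α) (f : Perm α) (h : ∀ x ∈ T, f x ∈ T) (x : α) :
    x ∈ T ↔ f x ∈ T := by
  constructor
  · exact h x
  · intro hx
    have himg : T.image f = T := by
      apply Finset.eq_of_subset_of_card_le
      · intro y hy
        obtain ⟨z, hz, rfl⟩ := Finset.mem_image.mp hy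
        exact h z hz
      · rw [Finset.card_image_of_injective _ f.injective]
    rw [← himg] at hx
    obtain ⟨z, hz, hzx⟩ := Finset.mem_image.mp hx
    rwa [← f.injective hzx]

theorem mem_normalizer_altFix_of_iff (T : Finset α) (g : ↥(alternatingGroup α))
    (h : ∀ x, x ∈ T ↔ (g : Perm α) x ∈ T) :
    g ∈ Subgroup.normalizer ((altFix T : Subgroup ↥(alternatingGroup α)) : Set ↥(alternatingGroup α)) := by
  rw [Subgroup.mem_normalizer_iff]
  intro k
  constructor
  · intro hk x hx
    show (g : Perm α) ((k : Perm α) ((g : Perm α)⁻¹ x)) = x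
    have h1 : (g : Perm α)⁻¹ x ∈ T := by
      rw [h]; simpa using hx
    rw [hk _ h1]; simp
  · intro hk x hx
    have h1 := hk _ ((h x).mp hx)
    have h2 : (g : Perm α) ((k : Perm α) ((g : Perm α)⁻¹ ((g : Perm α) x))) = (g : Perm α) x := h1
    rw [show (g : Perm α)⁻¹ ((g : Perm α) x) = x by simp] at h2
    exact (g : Perm α).injective h2

theorem mem_normalizer_altFix_compl_of_forall (T : Finset α) (g : ↥(alternatingGroup α))
    (h : ∀ x ∈ T, (g : Perm α) x ∈ T) :
    g ∈ Subgroup.normalizer ((altFix Tᶜ : Subgroup ↥(alternatingGroup α)) : Set ↥(alternatingGroup α)) := by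
  apply mem_normalizer_altFix_of_iff
  intro x
  rw [Finset.mem_compl, Finset.mem_compl, mem_iff_apply_mem_of_forall T (g : Perm α) h x]

/-- an even permutation of order two moves at least four points. -/
theorem four_le_card_support_of_orderOf_eq_two (u : Perm α) (hu : u ∈ alternatingGroup α)
    (h2 : orderOf u = 2) : 4 ≤ u.support.card := by
  by_contra hlt
  have hcases : u.support.card = 0 ∨ u.support.card = 1 ∨ u.support.card = 2 ∨ u.support.card = 3 := by
    omega
  rcases hcases with h | h | h | h
  · rw [Finset.card_eq_zero, Perm.support_eq_empty_iff] at h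
    rw [h, orderOf_one] at h2
    omega
  · exact Perm.card_support_ne_one u h
  · rw [Perm.card_support_eq_two] at h
    have := h.sign_eq
    rw [Equiv.Perm.mem_alternatingGroup] at hu
    rw [hu] at this
    exact absurd this (by decide)
  · rw [card_support_eq_three_iff] at h
    rw [h.orderOf] at h2
    omega

/-- a product of two disjoint transpositions, in the alternating group. -/
def dblSwap (a b c d : α) (hab : a ≠ b) (hcd : c ≠ d) : ↥(alternatingGroup α) :=
  ⟨swap a b * swap c d, by
    rw [Equiv.Perm.mem_alternatingGroup, map_mul, Perm.sign_swap hab, Perm.sign_swap hcd]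
    decide⟩

theorem orderOf_dblSwap (a b c d : α) (hab : a ≠ b) (hac : a ≠ c) (had : a ≠ d) (hbc : b ≠ c)
    (hbd : b ≠ d) (hcd : c ≠ d) :
    orderOf (dblSwap a b c d hab hcd : ↥(alternatingGroup α)) = 2 := by
  apply orderOf_eq_prime
  · apply Subtype.ext
    show (swap a b * swap c d) ^ 2 = 1
    have hcomm : Commute (swap a b) (swap c d) := by
      apply Perm.Disjoint.commute
      intro x
      by_cases hx : x = a
      · right; subst hx; exact swap_apply_of_ne_of_ne hac had
      · by_cases hx' : x = b
        · right; subst hx'; exact swap_apply_of_ne_of_ne hbc hbd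
        · left; exact swap_apply_of_ne_of_ne hx hx'
    rw [hcomm.mul_pow, pow_two, pow_two, swap_mul_self, swap_mul_self, one_mul]
  · intro h
    have h1 := congrArg (fun k : ↥(alternatingGroup α) => (k : Perm α) a) h
    have h2 : (swap a b * swap c d) a = a := h1
    rw [Perm.mul_apply, swap_apply_of_ne_of_ne hac had, swap_apply_left] at h2
    exact hab h2.symm

theorem dblSwap_mem_altFix (S : Finset α) (a b c d : α) (hab : a ≠ b) (hcd : c ≠ d)
    (ha : a ∉ S) (hb : b ∉ S) (hc : c ∉ S) (hd : d ∉ S) :
    dblSwap a b c d hab hcd ∈ altFix S := by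
  intro x hx
  show (swap a b * swap c d) x = x
  have hxa : x ≠ a := by rintro rfl; exact ha hx
  have hxb : x ≠ b := by rintro rfl; exact hb hx
  have hxc : x ≠ c := by rintro rfl; exact hc hx
  have hxd : x ≠ d := by rintro rfl; exact hd hx
  rw [Perm.mul_apply, swap_apply_of_ne_of_ne hxc hxd, swap_apply_of_ne_of_ne hxa hxb]

end Cfsg.Agent.Helper7
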