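import Mathlib
import Cfsg.Prelude.Def_Local
import Cfsg.Agent.Lib.Helper7.AltStd3

set_option autoImplicit false

namespace Cfsg.Agent.Helper7

open Equiv Equiv.Perm
open scoped commutatorElement

variable {α : Type*} [Fintype α] [DecidableEq α]

theorem altFix_compl_isTightlyEmbedded (Δ : Finset α) (h4 : Δ.card = 4) :
    Cfsg.IsTightlyEmbedded (altFix Δᶜ : Subgroup ↥(alternatingGroup α)) := by
  haveI : Fact (Nat.Prime 2) := ⟨Nat.prime_two⟩
  constructor
  · obtain ⟨a, ha, b, hb, c, hc, d, hd, hab, hac, had, hbc, hbd, hcd⟩ :=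
      exists_four_of_card Δ (by omega)
    have hmem : dblSwap a b c d hab hcd ∈ (altFix Δᶜ : Subgroup ↥(alternatingGroup α)) := by
      apply dblSwap_mem_altFix <;> simpa
    have h2 : orderOf (⟨dblSwap a b c d hab hcd, hmem⟩ : ↥(altFix Δᶜ : Subgroup ↥(alternatingGroup α))) = 2 := by
      rw [← Subgroup.orderOf_coe]
      exact orderOf_dblSwap a b c d hab hac had hbc hbd hcd
    rw [even_iff_two_dvd, ← h2]
    exact orderOf_dvd_natCard _
  · intro g hg
    have hg' : g⁻¹ ∉ Subgroup.normalizer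
        ((altFix Δᶜ : Subgroup ↥(alternatingGroup α)) : Set ↥(alternatingGroup α)) := by
      intro h
      apply hg
      have := inv_mem h
      simpa using this
    have hex : ¬ ∀ x ∈ Δ, ((g⁻¹ : ↥(alternatingGroup α)) : Perm α) x ∈ Δ :=
      fun h => hg' (mem_normalizer_altFix_compl_of_forall Δ g⁻¹ h)
    push Not at hex
    obtain ⟨y, hyΔ, hy⟩ := hex
    by_contra hodd
    rw [Nat.not_odd_iff_even, even_iff_two_dvd] at hodd
    obtain ⟨u, hu⟩ := exists_prime_orderOf_dvd_card' 2 hodd
    have huK : (u : ↥(alternatingGroup α)) ∈ altFix Δᶜ := u.2.1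
    have huKg : (u : ↥(alternatingGroup α)) ∈
        (altFix Δᶜ : Subgroup ↥(alternatingGroup α)).map (MulAut.conj g).toMonoidHom := u.2.2
    have hu2 : orderOf (((u : ↥(alternatingGroup α)) : Perm α)) = 2 := by
      rw [Subgroup.orderOf_coe, Subgroup.orderOf_coe]
      exact hu
    have h4le := four_le_card_support_of_orderOf_eq_two _ (u : ↥(alternatingGroup α)).2 hu2
    have hsub : (((u : ↥(alternatingGroup α)) : Perm α)).support ⊆ Δ.erase y := by
      intro x hx
      rw [Perm.mem_support] at hx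
      rw [Finset.mem_erase]
      constructor
      · rintro rfl
        apply hx
        obtain ⟨k, hk, hku⟩ := huKg
        rw [← hku]
        show (g : Perm α) ((k : Perm α) ((g : Perm α)⁻¹ x)) = x
        have h1 : (g : Perm α)⁻¹ x ∈ Δᶜ := by
          rw [Finset.mem_compl]; exact hy
        rw [hk _ h1]; simp
      · by_contra hxΔ
        exact hx (huK x (Finset.mem_compl.mpr hxΔ))
    have := Finset.card_le_card hsub
    rw [Finset.card_erase_of_mem hyΔ, h4] at this
    omega

theorem altFix_commutator_conj_ne_bot (Δ : Finset α) (h4 : Δ.card = 4)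
    (hn : 9 ≤ Fintype.card α) (g : ↥(alternatingGroup α)) :
    ⁅(altFix Δ : Subgroup ↥(alternatingGroup α)),
      (altFix Δ : Subgroup ↥(alternatingGroup α)).map (MulAut.conj g).toMonoidHom⁆ ≠ ⊥ := by
  intro hcomm
  have hcompl : Δᶜ.card = Fintype.card α - 4 := by rw [Finset.card_compl, h4]
  have hK : Subgroup.centralizer ((altFix Δ : Subgroup ↥(alternatingGroup α)) : Set ↥(alternatingGroup α))
      = altFix Δᶜ := centralizer_altFix Δ (by omega)
  have h1 : (altFix Δ : Subgroup ↥(alternatingGroup α)).map (MulAut.conj g).toMonoidHom ≤ altFix Δᶜ := by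
    rw [← hK]
    apply Subgroup.commutator_eq_bot_iff_le_centralizer.mp
    rwa [Subgroup.commutator_comm]
  -- a point z with z ∉ Δ and g z ∉ Δ
  obtain ⟨z, hzΔ, hgz⟩ : ∃ z, z ∉ Δ ∧ (g : Perm α) z ∉ Δ := by
    have hcard : (Δ ∪ Δ.image ((g : Perm α)⁻¹ : Perm α)).card < (Finset.univ : Finset α).card := by
      have h1 := Finset.card_union_le Δ (Δ.image ((g : Perm α)⁻¹ : Perm α))
      have h2 := Finset.card_image_le (s := Δ) (f := ((g : Perm α)⁻¹ : Perm α))
      rw [Finset.card_univ]
      omega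
    obtain ⟨z, _, hz⟩ := Finset.exists_mem_notMem_of_card_lt_card hcard
    rw [Finset.mem_union, not_or] at hz
    refine ⟨z, hz.1, fun h => hz.2 ?_⟩
    rw [Finset.mem_image]
    exact ⟨_, h, by simp⟩
  have hcard2 : 1 < (Δᶜ.erase z).card := by
    rw [Finset.card_erase_of_mem (Finset.mem_compl.mpr hzΔ)]; omega
  obtain ⟨a, ha, b, hb, hab⟩ := Finset.one_lt_card.mp hcard2
  simp only [Finset.mem_erase, Finset.mem_compl] at ha hb
  have hc : threeCyc z a b (Ne.symm ha.1) (Ne.symm hb.1) hab ∈ altFix Δ :=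
    threeCyc_mem_altFix Δ z a b _ _ _ hzΔ ha.2 hb.2
  have h2 : (MulAut.conj g).toMonoidHom (threeCyc z a b (Ne.symm ha.1) (Ne.symm hb.1) hab)
      ∈ altFix Δᶜ := h1 (Subgroup.mem_map_of_mem _ hc)
  have h3 := h2 ((g : Perm α) z) (Finset.mem_compl.mpr hgz)
  have h4' : (g : Perm α) (((threeCyc z a b (Ne.symm ha.1) (Ne.symm hb.1) hab :
      ↥(alternatingGroup α)) : Perm α) ((g : Perm α)⁻¹ ((g : Perm α) z))) = (g : Perm α) z := h3
  rw [show (g : Perm α)⁻¹ ((g : Perm α) z) = z by simp, threeCyc_apply_self] at h4'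
  exact hb.1 ((g : Perm α).injective h4')

theorem altFix_isStandardSubgroup (Δ : Finset α) (h4 : Δ.card = 4) (hn : 9 ≤ Fintype.card α) :
    Cfsg.IsStandardSubgroup (altFix Δ : Subgroup ↥(alternatingGroup α)) := by
  have hcompl : Δᶜ.card = Fintype.card α - 4 := by rw [Finset.card_compl, h4]
  have hK : Subgroup.centralizer ((altFix Δ : Subgroup ↥(alternatingGroup α)) : Set ↥(alternatingGroup α))
      = altFix Δᶜ := centralizer_altFix Δ (by omega)
  have hL : Subgroup.centralizer ((altFix Δᶜ : Subgroup ↥(alternatingGroup α)) : Set ↥(alternatingGroup α))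
      = altFix Δ := centralizer_altFix_compl Δ (by omega)
  refine ⟨altFix_isQuasisimple Δ (by omega), ?_, ?_, ?_⟩
  · rw [hK]
    exact altFix_compl_isTightlyEmbedded Δ h4
  · intro g _
    exact altFix_commutator_conj_ne_bot Δ h4 hn g
  · rw [hK]
    apply le_antisymm
    · have := normalizer_le_normalizer_centralizer (altFix Δ : Subgroup ↥(alternatingGroup α))
      rwa [hK] at this
    · have := normalizer_le_normalizer_centralizer (altFix Δᶜ : Subgroup ↥(alternatingGroup α))
      rwa [hL] at this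

end Cfsg.Agent.Helper7
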