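import Mathlib
import Cfsg.Prelude.Def_OddOrder
import Cfsg.Prelude.Def_OddOrderLocal
import Cfsg.Agent.Lib.Helper8.BG149F
import Cfsg.Agent.Lib.Helper11.BG1413A
import Cfsg.Agent.Lib.Helper27.BGTyA
import Cfsg.Agent.Lib.Helper18.BG13P4
import Cfsg.Agent.Lib.Helper7.ExtLayer

/-!
# BG 14.12 (S1376), part A: the setting (helper7)

`M` maximal, `x ∈ M_σ#`, `C_G(x) ≰ M`, `N` maximal over `C_G(x)` with `κ(N) ≠ ∅`.  We produce a
standard factorisation `N = K U N_σ` with `M ∩ N = U K`, the partner `N*` of `N`, and show that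
helper8's configuration `Cfg N K N* U M` of BG 14.9 holds; hence `κ(M) = ∅`, `U ≤ M_σ`, `M_σ` is
nilpotent, `M ∩ N*` is a complement of `M_σ` in `M`, `K ≤ F(M ∩ N*)`, `C_{M ∩ N*}(M_σ) = 1`.
-/

set_option autoImplicit false

namespace Cfsg.Agent.Helper7.BG1412

open Cfsg Subgroup
open Cfsg.Agent.Helper16.BG147 (Ctx Kst St1430 St1431 St1432 St1351b St1378b)
open Cfsg.Agent.Helper22.BG13 (Hyp1350 Hyp1417 Hyp1418)
open Cfsg.Agent.Helper16.BG149 (Hyp1352 Hyp1364)
open Cfsg.Agent.Helper8.BG149 (Cfg Hyp1429)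
open Cfsg.Agent.Helper16.BG145 (St1375)

universe u

variable {G : Type u} [Group G] [Finite G]

/-- existence part of the frozen statement S1366 -/
def Hyp1366 (G : Type u) [Group G] [Finite G] : Prop :=
  ∀ (M : Subgroup G) (_ : IsCoatom M) (K U : Subgroup G) (_ : IsSigmaDecomposition M K U)
    (_ : K ≠ ⊥), ∃ Mstar : Subgroup G, IsCoatom Mstar ∧
      K = sigmaCore Mstar ⊓
        centralizer ((sigmaCore M ⊓ centralizer (K : Set G) : Subgroup G) : Set G) ∧
      IsPiHallOf (kappa Mstar) (sigmaCore M ⊓ centralizer (K : Set G)) Mstar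

/-- the frozen statement S1353 -/
def Hyp1353 (G : Type u) [Group G] [Finite G] : Prop :=
  ∀ (M : Subgroup G) (_ : IsCoatom M) (K U : Subgroup G) (_ : IsSigmaDecomposition M K U),
    ∀ k ∈ K, k ≠ 1 → U ⊓ centralizer ({k} : Set G) = ⊥

/-- the frozen rows used in the setting of BG 14.12 -/
structure Hyps (G : Type u) [Group G] [Finite G] : Prop where
  hG : IsMinSimpleOddOrder G
  h30 : St1430 G
  h31 : St1431 G
  h32 : St1432 G
  h51 : St1351b G
  h78 : St1378b G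
  h50 : Hyp1350 G
  h17 : Hyp1417 G
  h18 : Hyp1418 G
  h29 : Hyp1429 G
  hUT : Cfsg.Agent.Helper23.BG10.UniqThm G
  h15 : Cfsg.Agent.Helper20.BG12.H1415 G
  h20 : Cfsg.Agent.Helper21.BG143.Hyp1420 G
  h75 : St1375 G
  h52 : Hyp1352 G
  h64 : Hyp1364 G
  h66 : Hyp1366 G
  h53 : Hyp1353 G

omit [Finite G] in
/-- Hall subgroups are transported by conjugation -/
theorem isPiHallOf_map_conj' {π : Set ℕ} {H M : Subgroup G} (h : IsPiHallOf π H M) (g : G) :
    IsPiHallOf π (H.map (MulAut.conj g).toMonoidHom) (M.map (MulAut.conj g).toMonoidHom) := by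
  refine ⟨Subgroup.map_mono h.1, ?_, ?_⟩
  · intro p hp hd
    rw [Cfsg.Agent.Helper15.card_map_conj] at hd
    exact h.2.1 p hp hd
  · intro p hp hpπ hd
    rw [Subgroup.relIndex_map_map_of_injective _ _ (MulAut.conj g).injective] at hd
    exact h.2.2 p hp hpπ hd

omit [Finite G] in
/-- complements are transported by conjugation -/
theorem isComplIn_map_conj' {A B N : Subgroup G} (h : IsComplIn A B N) (g : G) :
    IsComplIn (A.map (MulAut.conj g).toMonoidHom) (B.map (MulAut.conj g).toMonoidHom)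
      (N.map (MulAut.conj g).toMonoidHom) := by
  refine ⟨Subgroup.map_mono h.1, Subgroup.map_mono h.2.1, ?_, ?_⟩
  · rw [← Subgroup.map_inf_eq _ _ _ (MulAut.conj g).injective, h.2.2.1, Subgroup.map_bot]
  · rintro _ ⟨n, hn, rfl⟩
    obtain ⟨a, ha, b, hb, rfl⟩ := h.2.2.2 n hn
    exact ⟨_, ⟨a, ha, rfl⟩, _, ⟨b, hb, rfl⟩, map_mul _ a b⟩

/-- `U K` is a complement of `N_σ` in `N` -/
theorem isComplIn_sup {N K U : Subgroup G} (hKU : IsSigmaDecomposition N K U)
    (h50 : IsPiHallOf (sigma N) (sigmaCore N) N) : IsComplIn (U ⊔ K) (sigmaCore N) N := by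
  refine ⟨sup_le hKU.compl.1 hKU.hall.1, Cfsg.Agent.Helper22.BG13.sigmaCore_le N, ?_, ?_⟩
  · rw [eq_bot_iff]
    rintro z ⟨hz1, hz2⟩
    obtain ⟨u, hu, k, hk, rfl⟩ := Cfsg.Agent.Helper22.BG13.exists_mul_of_mem_sup hKU.normal hz1
    have h1 : u ∈ U ⊓ (K ⊔ sigmaCore N) := by
      refine ⟨hu, ?_⟩
      have e : u = (u * k) * k⁻¹ := by group
      rw [e]
      exact Subgroup.mul_mem _ (Subgroup.mem_sup_right hz2)
        (Subgroup.mem_sup_left (Subgroup.inv_mem _ hk))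
    rw [hKU.compl.2.2.1, Subgroup.mem_bot] at h1
    subst h1
    rw [one_mul] at hz2 ⊢
    have h2 : k ∈ K ⊓ sigmaCore N := ⟨hk, hz2⟩
    rw [Cfsg.Agent.Helper27.BGTy.K_inf_sigmaCore hKU.hall h50] at h2
    exact h2
  · intro m hm
    obtain ⟨u, hu, s, hs, k, hk, rfl⟩ := Cfsg.Agent.Helper27.BGTy.exists_factor hKU hm
    refine ⟨u * k, Subgroup.mul_mem _ (Subgroup.mem_sup_left hu) (Subgroup.mem_sup_right hk),
      k⁻¹ * s * k, ?_, by group⟩
    have hkn := Cfsg.Agent.Helper27.BGTy.K_le_normalizer_sigmaCore hKU.hall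
      (Subgroup.inv_mem _ hk)
    have h3 := (mem_normalizer_iff.mp hkn s).mp hs
    rwa [inv_inv] at h3

/-- a standard factorisation of `N` is transported by conjugation with an element of `N` -/
theorem isSigmaDecomposition_map_conj {N K U : Subgroup G} (hKU : IsSigmaDecomposition N K U)
    {n : G} (hn : n ∈ N) :
    IsSigmaDecomposition N (K.map (MulAut.conj n).toMonoidHom)
      (U.map (MulAut.conj n).toMonoidHom) := by
  have hN : N.map (MulAut.conj n).toMonoidHom = N :=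
    Cfsg.Agent.Helper15.map_conj_eq_self_of_mem hn
  have hσ : (sigmaCore N).map (MulAut.conj n).toMonoidHom = sigmaCore N :=
    Cfsg.Agent.Helper15.map_conj_eq_of_mem_normalizer
      (Cfsg.Agent.Helper22.BG13.le_normalizer_sigmaCore N hn)
  refine ⟨Cfsg.Agent.Helper18.BG13P.isCyclic_map_conj hKU.cyclic n, ?_, ?_,
    Cfsg.Agent.Helper7.le_normalizer_map_conj hKU.normal n⟩
  · have h1 := isPiHallOf_map_conj' hKU.hall n
    rwa [hN] at h1
  · have h1 := isComplIn_map_conj' hKU.compl n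
    rwa [hN, Subgroup.map_sup, hσ] at h1

/-- The setting of BG 14.12, with everything the later steps need. Roles: `N ⊇ C_G(x)`,
`N = K U N_σ`, `Ns = N*` the partner of `N`. -/
structure Setup (M N Ns K U : Subgroup G) (x : G) : Prop where
  d : Cfg N K Ns U M
  hKp : (Nat.card K).Prime
  hx : x ∈ sigmaCore M
  hx1 : x ≠ 1
  hxM : ¬ centralizer ({x} : Set G) ≤ M
  hxN : centralizer ({x} : Set G) ≤ N
  hxU : x ∈ U
  hMN : M ⊓ N = U ⊔ K
  hNF : sigmaCore N = fittingHallOf N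
  hCx : sigmaCore N ⊓ centralizer ({x} : Set G) ≠ ⊥
  hE : IsComplIn (M ⊓ Ns) (sigmaCore M) M
  hKF : K ≤ fittingOf (M ⊓ Ns)
  hKNF : K ≤ fittingHallOf Ns
  hnil : Group.IsNilpotent ↥(sigmaCore M)
  hcent : (M ⊓ Ns) ⊓ centralizer ((sigmaCore M : Subgroup G) : Set G) = ⊥

/-- BG 14.12, the setting. -/
theorem exists_setup (h : Hyps G) {M N : Subgroup G} (hM : IsCoatom M) {x : G}
    (hx : x ∈ sigmaCore M) (hx1 : x ≠ 1) (hxM : ¬ centralizer ({x} : Set G) ≤ M)
    (hN : IsCoatom N) (hxN : centralizer ({x} : Set G) ≤ N) (hkN : (kappa N).Nonempty) :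
    ∃ Ns K U : Subgroup G, Setup M N Ns K U x := by
  have hG := h.hG
  -- S1375
  obtain ⟨N₀, ⟨-, -⟩, huniq, hNF, -, hcomplC, hcompl, hdec⟩ := h.h75 M hM x hx hx1 hxM
  have hNN₀ : N = N₀ := huniq N hN hxN
  subst hNN₀
  haveI hsolvN : Group.IsSolvable ↥N := hG.2.2.2 N hN.1
  have hσN : IsPiHallOf (sigma N) (sigmaCore N) N := (h.h50 N hN).1
  -- a standard factorisation of `N`
  obtain ⟨K₀, hK₀⟩ := Cfsg.Agent.Helper1.PiHall.exists_isPiHallOf (kappa N) N
  have hK₀c : IsCyclic ↥K₀ := h.h51 N hN K₀ hK₀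
  obtain ⟨U₀, hKU₀⟩ := (h.h52 N hN K₀ hK₀c hK₀).1
  -- conjugate it into `M ∩ N`
  obtain ⟨n, hn, hconj⟩ := Cfsg.Agent.Helper11.BG1413.exists_conj_of_isComplIn hσN
    (isComplIn_sup hKU₀ hσN) hcompl
  set K := K₀.map (MulAut.conj n).toMonoidHom with hKdef
  set U := U₀.map (MulAut.conj n).toMonoidHom with hUdef
  have hKU : IsSigmaDecomposition N K U := isSigmaDecomposition_map_conj hKU₀ hn
  have hMN : M ⊓ N = U ⊔ K := by
    rw [← hconj, Subgroup.map_sup]
  have hUM : U ≤ M := (le_sup_left.trans hMN.ge).trans inf_le_left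
  have hKM : K ≤ M := (le_sup_right.trans hMN.ge).trans inf_le_left
  -- `K ≠ 1`
  have hK1 : K ≠ ⊥ := by
    obtain ⟨p, hp⟩ := hkN
    intro hK
    have h1 : ¬ p ∣ K.relIndex N := hKU.hall.2.2 p hp.1 hp
    apply h1
    rw [hK, Subgroup.relIndex_bot_left]
    exact hp.2.1
  obtain ⟨hU1, hxA, hxσN⟩ := hdec K U hKU
  have h53 : ∀ k ∈ K, k ≠ 1 → U ⊓ centralizer ({k} : Set G) = ⊥ := h.h53 N hN K U hKU
  -- the partner
  obtain ⟨Ns, hNs, hKst, hKstH⟩ := h.h66 N hN K U hKU hK1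
  have c : Ctx N K Ns :=
    { hG := hG, hM := hN, hMs := hNs, cyc := hKU.cyclic, hall := hKU.hall, hK1 := hK1,
      hKst := hKst, hKstH := hKstH, h30 := h.h30, h31 := h.h31, h32 := h.h32, h51 := h.h51,
      h78 := h.h78 }
  -- `M` is not conjugate to `N`
  have hnM : ∀ g : G, M ≠ N.map (MulAut.conj g).toMonoidHom := by
    intro g hg
    apply hxσN
    have hσ : sigma M = sigma N := by
      rw [hg, Cfsg.Agent.Helper16.BG145.sigma_map_conj]
    have hxN' : x ∈ N := hxN (by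
      rw [mem_centralizer_iff]
      intro w hw
      rw [Set.mem_singleton_iff] at hw
      rw [hw])
    have hzp : zpowers x ≤ sigmaCore N := by
      apply Cfsg.Agent.Helper22.BG13.le_sigmaCore_of_isPiNum h.h50 hN
        ((zpowers_le (H := N)).mpr hxN')
      intro p hp hpd
      rw [Nat.card_zpowers] at hpd
      rw [← hσ]
      exact Cfsg.Agent.Helper16.BG145.prime_mem_sigma_of_mem_sigmaCore hx p hp hpd
    exact hzp (mem_zpowers x)
  -- `M` is not conjugate to `N*`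
  have hnMs : ∀ g : G, M ≠ Ns.map (MulAut.conj g).toMonoidHom := by
    intro g hg
    have h1 := (c.symm.h31 Ns hNs (Kst N K) hKstH c.symm.hK1).1 g
    have hgNs : g ∈ Ns := by
      by_contra hgn
      have h2 := h1 hgn
      apply hK1
      rw [eq_bot_iff, ← h2, ← hg]
      refine le_inf ?_ hKM
      rw [← hKst]
    have hMNs : M = Ns := by
      rw [hg]
      exact Cfsg.Agent.Helper15.map_conj_eq_self_of_mem hgNs
    apply hU1
    rw [eq_bot_iff, ← hKU.compl.2.2.1]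
    refine le_inf le_rfl ?_
    have h3 : U ≤ N ⊓ Ns := le_inf hKU.compl.1 (hMNs ▸ hUM)
    rw [c.inf_Ms] at h3
    exact h3.trans (sup_le_sup_left c.Kst_le_sigmaCore K)
  have d : Cfg N K Ns U M :=
    { c := c, hKU := hKU, hU1 := hU1, hUfree := h53, hH := hM, hUH := hUM, hKH := hKM,
      hnM := hnM, hnMs := hnMs, h50 := h.h50, h17 := h.h17, h18 := h.h18,
      hHσ := Cfsg.Agent.Helper17.BG11.sigmaCore_ne_bot' hG hM }
  have hpK : (Nat.card K).Prime :=
    Cfsg.Agent.Helper19.BGKPrime.card_K_prime_of_U_ne_bot hG hN hσN hKU hK1 hU1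
      (h.h30 N hN K hKU.hall hK1).1 h53
  have hKNF : K ≤ fittingHallOf Ns := Cfsg.Agent.Helper16.BG149.K_le_fittingHallOf d.c h.h52 h.h64
  obtain ⟨hE, hKF⟩ := Cfsg.Agent.Helper16.BG149.compl_of_cfg d hpK h.hUT h.h15 h.h20 h.h29
    h.h75 hKNF
  have hUσ : U ≤ sigmaCore M := d.U_le_sigmaCore
  have hKσ : K ⊓ sigmaCore M = ⊥ := d.K_inf_sigmaCore_H
  -- `x ∈ U`
  have hxMN : x ∈ U ⊔ K := by
    rw [← hMN]
    refine ⟨Cfsg.Agent.Helper22.BG13.sigmaCore_le M hx, hxN ?_⟩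
    rw [mem_centralizer_iff]
    intro w hw
    rw [Set.mem_singleton_iff] at hw
    rw [hw]
  have hxU : x ∈ U := by
    obtain ⟨u, hu, k, hk, hxe⟩ := Cfsg.Agent.Helper22.BG13.exists_mul_of_mem_sup hKU.normal hxMN
    have h1 : k ∈ K ⊓ sigmaCore M := by
      refine ⟨hk, ?_⟩
      have e : k = u⁻¹ * x := by rw [hxe]; group
      rw [e]
      exact Subgroup.mul_mem _ (Subgroup.inv_mem _ (hUσ hu)) hx
    rw [hKσ, Subgroup.mem_bot] at h1
    rw [hxe, h1, mul_one]
    exact hu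
  -- `C_{N_σ}(x) ≠ 1`
  have hCx : sigmaCore N ⊓ centralizer ({x} : Set G) ≠ ⊥ := by
    intro hbot
    apply hxM
    intro z hz
    obtain ⟨a, ha, b, hb, rfl⟩ := hcomplC.2.2.2 z hz
    rw [hbot, Subgroup.mem_bot] at hb
    rw [hb, mul_one]
    exact ha.1
  -- `C_{M ∩ N*}(M_σ) = 1`
  have hcent : (M ⊓ Ns) ⊓ centralizer ((sigmaCore M : Subgroup G) : Set G) = ⊥ := by
    rw [eq_bot_iff]
    rintro y ⟨hy1, hy2⟩
    rw [Subgroup.mem_bot]
    have hyx : y ∈ centralizer ({x} : Set G) := by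
      rw [mem_centralizer_iff]
      intro w hw
      rw [Set.mem_singleton_iff] at hw
      rw [hw]
      exact (mem_centralizer_iff.mp hy2) x hx
    have hyMN : y ∈ U ⊔ K := by
      rw [← hMN]
      exact ⟨hy1.1, hxN hyx⟩
    obtain ⟨u, hu, k, hk, hye⟩ := Cfsg.Agent.Helper22.BG13.exists_mul_of_mem_sup hKU.normal hyMN
    have hk1 : k = 1 := by
      by_contra hk1
      apply hU1
      rw [eq_bot_iff, ← h53 k hk hk1]
      refine le_inf le_rfl ?_
      intro v hv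
      rw [mem_centralizer_iff]
      intro w hw
      rw [Set.mem_singleton_iff] at hw
      rw [hw]
      -- `k = u⁻¹ * y` commutes with `v`
      have e : k = u⁻¹ * y := by rw [hye]; group
      have h1 : v * y = y * v := (mem_centralizer_iff.mp hy2) v (hUσ hv)
      have h2 : u * v = v * u := d.U_comm u hu v hv
      have h2' : v * u⁻¹ = u⁻¹ * v := by
        calc v * u⁻¹ = u⁻¹ * (u * v) * u⁻¹ := by group
          _ = u⁻¹ * (v * u) * u⁻¹ := by rw [h2]
          _ = u⁻¹ * v := by group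
      rw [e]
      symm
      calc v * (u⁻¹ * y) = (v * u⁻¹) * y := by group
        _ = (u⁻¹ * v) * y := by rw [h2']
        _ = u⁻¹ * (v * y) := by group
        _ = u⁻¹ * (y * v) := by rw [h1]
        _ = u⁻¹ * y * v := by group
    have hyU : y ∈ U := by
      rw [hye, hk1, mul_one]
      exact hu
    have h4 : y ∈ (M ⊓ Ns) ⊓ sigmaCore M := ⟨hy1, hUσ hyU⟩
    rw [hE.2.2.1, Subgroup.mem_bot] at h4
    exact h4
  exact ⟨Ns, K, U,
    { d := d, hKp := hpK, hx := hx, hx1 := hx1, hxM := hxM, hxN := hxN, hxU := hxU, hMN := hMN,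
      hNF := hNF, hCx := hCx, hE := hE, hKF := hKF, hKNF := hKNF,
      hnil := d.nilpotent_sigmaCore_H h.h29, hcent := hcent }⟩

end Cfsg.Agent.Helper7.BG1412
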