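import Mathlib
import Cfsg.Prelude.Def_OddOrder
import Cfsg.Prelude.Def_OddOrderLocal
import Cfsg.Agent.Lib.Helper7.BG1412A
import Cfsg.Agent.Lib.Helper22.BG127B

/-!
# BG 14.12 (S1376), part B: `M_F` is not a TI-subset (helper7)
-/

set_option autoImplicit false

namespace Cfsg.Agent.Helper7.BG1412

open Cfsg Subgroup
open Cfsg.Agent.Helper22.BG13 (Hyp1350)

universe u

variable {G : Type u} [Group G] [Finite G]

/-- In the setting of BG 14.12, `M_F` is not a TI-subset of `G`: `x ∈ M_σ ≤ M_F` is centralised by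
an element outside `M = N_G(M_F)`. -/
theorem not_isTISubset {M N Ns K U : Subgroup G} {x : G} (s : Setup M N Ns K U x) :
    ¬ IsTISubset (fittingHallOf M : Set G) := by
  intro hTI
  have hG := s.d.c.hG
  have hM : IsCoatom M := s.d.hH
  have hσ : IsPiHallOf (sigma M) (sigmaCore M) M := (s.d.h50 M hM).1
  have hcop : (Nat.card ↥(sigmaCore M)).Coprime ((sigmaCore M).relIndex M) :=
    Cfsg.Agent.Helper27.BGTy.coprime_sigmaCore_relIndex hσ
  have hσF : sigmaCore M ≤ fittingHallOf M :=
    Cfsg.Agent.Helper7.le_fittingHallOf (Cfsg.Agent.Helper22.BG13.sigmaCore_le M)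
      (Cfsg.Agent.Helper22.BG13.le_normalizer_sigmaCore M) s.hnil hcop
  have hxF : x ∈ fittingHallOf M := hσF s.hx
  have hF1 : fittingHallOf M ≠ ⊥ := by
    intro h
    apply s.hx1
    have h1 := hxF
    rw [h, Subgroup.mem_bot] at h1
    exact h1
  have hFM : fittingHallOf M ≤ M := Cfsg.Agent.Helper7.fittingHallOf_le M
  have hF2 : fittingHallOf M ≠ ⊤ := by
    intro h
    apply hM.1
    rw [eq_top_iff, ← h]
    exact hFM
  have hnt : normalizer ((fittingHallOf M : Subgroup G) : Set G) ≠ ⊤ :=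
    Cfsg.Agent.Helper22.BG127.normalizer_ne_top_of_simple hG hF1 hF2
  have hnM : normalizer ((fittingHallOf M : Subgroup G) : Set G) = M := by
    rcases hM.le_iff.mp (Cfsg.Agent.Helper7.le_normalizer_fittingHallOf M) with h | h
    · exact absurd h hnt
    · exact h
  obtain ⟨c, hc, hcM⟩ := SetLike.not_le_iff_exists.mp s.hxM
  have hcn : c ∉ normalizer ((fittingHallOf M : Subgroup G) : Set G) := by
    rw [hnM]
    exact hcM
  apply s.hx1
  refine hTI c hcn x hxF ?_
  have h1 : x * c = c * x := (mem_centralizer_iff.mp hc) x (Set.mem_singleton x)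
  have h2 : c * x * c⁻¹ = x := by
    rw [← h1]
    group
  rw [h2]
  exact hxF

end Cfsg.Agent.Helper7.BG1412
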