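import Mathlib
import Cfsg.Prelude.Def_OddOrder
import Cfsg.Prelude.Def_OddOrderLocal
import Cfsg.Agent.Lib.Helper7.BG1412B
import Cfsg.Agent.Lib.Helper3.BG1376B
import Cfsg.Agent.Lib.Helper16.BG1412F
import Cfsg.Agent.Lib.Helper23.BG1376C

/-!
# BG 14.12 (S1376), part C: assembly (helper7)

Pieces: the setting (`BG1412A`, helper7), `τ₂(M) = ∅` (helper3), free action and Frobenius
complement (helper16), cyclicity (helper23), `M_F` not TI (`BG1412B`, helper7).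
The paper proof of the open part is due to helper3.
-/

set_option autoImplicit false

namespace Cfsg.Agent.Helper7.BG1412

open Cfsg Subgroup

universe u

variable {G : Type u} [Group G] [Finite G]

/-- **BG 14.12** (the statement of S1376) from the frozen rows it depends on. -/
theorem main (h : Hyps G) (h16 : Cfsg.Agent.Helper22.BG13.Hyp1416 G)
    (h19 : Cfsg.Agent.Helper21.BG143.Hyp1419 G) {M N : Subgroup G} (hM : IsCoatom M) {x : G}
    (hx : x ∈ sigmaCore M) (hx1 : x ≠ 1) (hxM : ¬ centralizer ({x} : Set G) ≤ M)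
    (hN : IsCoatom N) (hxN : centralizer ({x} : Set G) ≤ N) (hkN : (kappa N).Nonempty) :
    kappa M = ∅ ∧ (∃ E : Subgroup ↥M, IsFrobeniusComplement E ∧ IsCyclic E) ∧
      ¬ IsTISubset (fittingHallOf M : Set G) := by
  obtain ⟨Ns, K, U, s⟩ := exists_setup h hM hx hx1 hxM hN hxN hkN
  have hMσ : sigmaCore M ≠ ⊥ := s.d.hHσ
  have hτ : ∀ q, q ∉ tau2 M :=
    Cfsg.Agent.Helper3.BG1376.tau2_eq_empty h.hG h.h50
      (fun L hL => Cfsg.Agent.Helper23.BG10.alpha_subset_sigma h.hG h.hUT hL) h16 h.h17 h.h18 h19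
      h.h30 h.h31 s.d.hH s.d.c.hMs s.d.H_ne_Ms hMσ s.hE s.d.c.hKstH s.d.c.Kst_ne_bot s.d.c.hKst
      s.hKp s.d.hKH s.hKF s.hKNF s.hcent
  have hfree : ∀ e ∈ M ⊓ Ns, e ≠ 1 → sigmaCore M ⊓ centralizer ({e} : Set G) = ⊥ :=
    Cfsg.Agent.Helper16.BG1412.free_of_tau2_empty h.h32 hM s.d.kappa_eq_empty hτ s.hE h.h50
  have hE1 : M ⊓ Ns ≠ ⊥ := by
    intro hbot
    apply s.d.c.hK1
    rw [eq_bot_iff, ← hbot]
    exact le_inf s.d.hKH s.d.c.K_le_Ms
  have hFC : IsFrobeniusComplement ((M ⊓ Ns).subgroupOf M) :=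
    Cfsg.Agent.Helper16.BG1412.isFrobeniusComplement_of_free s.hE hE1 hMσ hfree
  have hcyc : IsCyclic ↥(M ⊓ Ns) :=
    Cfsg.Agent.Helper23.BG1376.isCyclic_of_free h.hG h16 h.h29 hM hN (s.d.M_inf_H h.h29) s.d.hKU
      (h.h50 N hN).1 (h.h50 M hM).1 s.d.U_comm s.d.hUfree s.d.U_le_sigmaCore s.hnil s.hxU hx1
      s.hCx s.hE hfree
  refine ⟨s.d.kappa_eq_empty, ⟨(M ⊓ Ns).subgroupOf M, hFC, ?_⟩, not_isTISubset s⟩
  haveI := hcyc
  exact isCyclic_of_surjective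
    (Subgroup.subgroupOfEquivOfLe (inf_le_left : M ⊓ Ns ≤ M)).symm
    (Subgroup.subgroupOfEquivOfLe (inf_le_left : M ⊓ Ns ≤ M)).symm.surjective

end Cfsg.Agent.Helper7.BG1412
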