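import Mathlib
import Cfsg.Agent.Lib.Helper24.CharInduced
import Cfsg.Agent.Lib.Helper24.CharAlgebra

/-!
# Induction from a subgroup containing a trivial-intersection set (helper7's library)
-/

set_option autoImplicit false

namespace Cfsg.Agent.Helper7.BL

open Cfsg Cfsg.Agent.Helper24
open scoped ComplexConjugate

universe u

section TI

variable {G : Type u} [Group G] [Fintype G] (C N : Subgroup G) [Fintype C] [Fintype N]

/-- the conjugate of a function on `C` by an element of the group -/
noncomputable def cj (x : G) (θ : C → ℂ) : C → ℂ :=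
  fun c => extendByZero C θ (x⁻¹ * (c : G) * x)

theorem cj_apply (x : G) (θ : C → ℂ) (c : C) :
    cj C x θ c = extendByZero C θ (x⁻¹ * (c : G) * x) := rfl

theorem cj_of_mem (x : G) (θ : C → ℂ) (c : C) (h : x⁻¹ * (c : G) * x ∈ C) :
    cj C x θ c = θ ⟨x⁻¹ * (c : G) * x, h⟩ := by
  rw [cj_apply]
  exact extendByZero_of_mem C θ h

/-- the value of an induced function on the trivial-intersection set -/
theorem indFun_TI (T : C → Prop)
    (hTI : ∀ c : C, T c → ∀ x : G, x⁻¹ * (c : G) * x ∈ C → x ∈ N)
    (θ : C → ℂ) (c : C) (hc : T c) :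
    indFun C θ (c : G) = (Nat.card C : ℂ)⁻¹ * ∑ x : N, cj C (x : G) θ c := by
  rw [indFun_apply]
  congr 1
  rw [sum_eq_sum_subgroup N (fun x => extendByZero C θ (x⁻¹ * (c : G) * x))]
  · rfl
  · intro x hx
    apply extendByZero_of_not_mem
    intro h
    exact hx (hTI c hc x h)

/-- the inner product of two induced functions, the first one supported on the
trivial-intersection set -/
theorem inner_ind_TI (T : C → Prop)
    (hTI : ∀ c : C, T c → ∀ x : G, x⁻¹ * (c : G) * x ∈ C → x ∈ N)
    (α β : C → ℂ) (hα : ∀ c, ¬ T c → α c = 0) :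
    classInner (indFun C α) (indFun C β) =
      (Nat.card C : ℂ)⁻¹ * ∑ x : N, classInner α (cj C (x : G) β) := by
  rw [frobenius_reciprocity C α (isClassFunction_indFun C β)]
  unfold classInner
  congr 1
  have h1 : ∀ x : N, (Nat.card C : ℂ)⁻¹ * ∑ c : C, α c * conj (cj C (x : G) β c) =
      ∑ c : C, (Nat.card C : ℂ)⁻¹ * (α c * conj (cj C (x : G) β c)) := by
    intro x
    rw [Finset.mul_sum]
  rw [Finset.sum_congr rfl (fun x _ => h1 x), Finset.sum_comm]
  refine Finset.sum_congr rfl fun c _ => ?_
  by_cases hc : T c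
  · show α c * conj (indFun C β (c : G)) = _
    rw [indFun_TI C N T hTI β c hc, map_mul, map_sum, map_inv₀, Complex.conj_natCast,
      Finset.mul_sum, Finset.mul_sum]
    refine Finset.sum_congr rfl fun x _ => ?_
    ring
  · rw [hα c hc, zero_mul]
    symm
    apply Finset.sum_eq_zero
    intro x _
    rw [zero_mul, mul_zero]

variable [Fintype (IrrCharacter G)]

/-- **The Gram formula**: the multiplicities of the irreducible characters of the group in
two induced functions. -/
theorem gram_TI (T : C → Prop)
    (hTI : ∀ c : C, T c → ∀ x : G, x⁻¹ * (c : G) * x ∈ C → x ∈ N)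
    (α β : C → ℂ) (hα : ∀ c, ¬ T c → α c = 0) :
    ∑ θ : IrrCharacter G, classInner α (fun c : C => (θ : G → ℂ) c) *
        conj (classInner β (fun c : C => (θ : G → ℂ) c)) =
      (Nat.card C : ℂ)⁻¹ * ∑ x : N, classInner α (cj C (x : G) β) := by
  rw [← inner_ind_TI C N T hTI α β hα,
    classInner_eq_sum_mul (isClassFunction_indFun C α) (indFun C β)]
  refine Finset.sum_congr rfl fun θ _ => ?_
  rw [frobenius_reciprocity C α (isClassFunction_of_isIrrCharacter θ.2),
    frobenius_reciprocity C β (isClassFunction_of_isIrrCharacter θ.2)]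

/-- the degree formula: the multiplicities weighted with the degrees -/
theorem deg_TI (α : C → ℂ) :
    ∑ θ : IrrCharacter G, classInner α (fun c : C => (θ : G → ℂ) c) * (θ : G → ℂ) 1 =
      (C.index : ℂ) * α 1 := by
  rw [← indFun_one C α]
  conv_rhs => rw [classFunction_expansion (isClassFunction_indFun C α)]
  rw [Finset.sum_apply]
  refine Finset.sum_congr rfl fun θ _ => ?_
  rw [Pi.smul_apply, smul_eq_mul,
    frobenius_reciprocity C α (isClassFunction_of_isIrrCharacter θ.2)]

end TI

end Cfsg.Agent.Helper7.BL
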