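import Mathlib

/-!
# Groups in which the nonidentity elements of a Sylow subgroup all have the centralizer of the
Sylow subgroup: the group theory (helper7's library)
-/

set_option autoImplicit false

namespace Cfsg.Agent.Helper7.BL

universe u

/-- the configuration of a central Sylow subgroup `P` of `C`, the set of `p`-singular elements of
`C` being a trivial-intersection set with normalizer `N` -/
structure Config {G : Type u} [Group G] (p : ℕ) (P C N : Subgroup G) : Prop where
  hPC : P ≤ C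
  hCN : C ≤ N
  central : ∀ c ∈ C, ∀ y ∈ P, c * y = y * c
  normC : ∀ n ∈ N, ∀ c ∈ C, n⁻¹ * c * n ∈ C
  normP : ∀ n ∈ N, ∀ y ∈ P, n⁻¹ * y * n ∈ P
  ti : ∀ c ∈ C, p ∣ orderOf c → ∀ x : G, x⁻¹ * c * x ∈ C → x ∈ N
  free : ∀ n ∈ N, ∀ y ∈ P, y ≠ 1 → n⁻¹ * y * n = y → n ∈ C
  sing : ∀ y ∈ P, y ≠ 1 → p ∣ orderOf y
  decomp : ∀ c ∈ C, ∃ y ∈ P, ∃ v ∈ C, ¬ p ∣ orderOf v ∧ c = y * v
  ext : ∀ φ : ↥(P.subgroupOf C) →* ℂˣ, ∃ κ : ↥C →* ℂˣ,
    (∀ z : ↥(P.subgroupOf C), κ (z : ↥C) = φ z) ∧ ∀ c : ↥C, ¬ p ∣ orderOf (c : G) → κ c = 1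
  count : Nat.card {c : ↥C // ¬ p ∣ orderOf (c : G)} * Nat.card P = Nat.card C

section Star

variable {G : Type u} [Group G] [Finite G] {p : ℕ} [hp : Fact p.Prime] (P : Sylow p G)

/-- the Sylow subgroup is abelian -/
theorem star_comm (hpG : p ∣ Nat.card G)
    (hstar : ∀ x ∈ (P : Subgroup G), x ≠ 1 → Subgroup.centralizer ({x} : Set G) =
      Subgroup.centralizer ((P : Subgroup G) : Set G)) :
    ∀ a ∈ (P : Subgroup G), ∀ b ∈ (P : Subgroup G), a * b = b * a := by
  have hne := P.ne_bot_of_dvd_card hpG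
  haveI : Nontrivial (P : Subgroup G) := (Subgroup.nontrivial_iff_ne_bot _).2 hne
  haveI := P.isPGroup'.center_nontrivial
  obtain ⟨z, hz⟩ := exists_ne (1 : Subgroup.center (P : Subgroup G))
  have hz1 : ((z : (P : Subgroup G)) : G) ≠ 1 := by
    intro h
    apply hz
    apply Subtype.ext
    apply Subtype.ext
    exact h
  have hcent := hstar ((z : (P : Subgroup G)) : G) (z : (P : Subgroup G)).2 hz1
  intro a ha b hb
  have ha' : a ∈ Subgroup.centralizer ({((z : (P : Subgroup G)) : G)} : Set G) := by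
    rw [Subgroup.mem_centralizer_iff]
    intro h hh
    rw [Set.mem_singleton_iff] at hh
    subst hh
    have := Subgroup.mem_center_iff.1 z.2 ⟨a, ha⟩
    exact (congrArg Subtype.val this).symm
  rw [hcent, Subgroup.mem_centralizer_iff] at ha'
  exact (ha' b hb).symm

/-- a `p`-element of the normalizer lies in the Sylow subgroup -/
theorem mem_of_pelem (y : G) (hyN : y ∈ Subgroup.normalizer ((P : Subgroup G) : Set G))
    (k : ℕ) (hy : orderOf y = p ^ k) : y ∈ (P : Subgroup G) := by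
  have hpg : IsPGroup p (Subgroup.zpowers y) := by
    apply IsPGroup.of_card (n := k)
    rw [Nat.card_zpowers, hy]
  have h := hpg.inf_normalizer_sylow P
  have hmem : y ∈ Subgroup.zpowers y ⊓ Subgroup.normalizer ((P : Subgroup G) : Set G) :=
    ⟨Subgroup.mem_zpowers y, hyN⟩
  have h2 : y ∈ Subgroup.zpowers y ⊓ (P : Subgroup G) := by
    rw [← h]
    exact hmem
  exact h2.2

/-- nonidentity elements of the Sylow subgroup are `p`-singular -/
theorem sing_of_mem (y : G) (hy : y ∈ (P : Subgroup G)) (hy1 : y ≠ 1) : p ∣ orderOf y := by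
  obtain ⟨k, hk⟩ := P.isPGroup' ⟨y, hy⟩
  have hk' : y ^ p ^ k = 1 := congrArg Subtype.val hk
  have hdvd : orderOf y ∣ p ^ k := orderOf_dvd_of_pow_eq_one hk'
  obtain ⟨j, -, hj⟩ := (Nat.dvd_prime_pow hp.out).1 hdvd
  rw [hj]
  have hj0 : j ≠ 0 := by
    intro h
    rw [h, pow_zero] at hj
    exact hy1 (orderOf_eq_one_iff.1 hj)
  exact dvd_pow_self p hj0

/-- the order of an element of the Sylow subgroup -/
theorem orderOf_of_mem (y : G) (hy : y ∈ (P : Subgroup G)) : ∃ k : ℕ, orderOf y = p ^ k := by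
  obtain ⟨k, hk⟩ := P.isPGroup' ⟨y, hy⟩
  have hk' : y ^ p ^ k = 1 := congrArg Subtype.val hk
  have hdvd : orderOf y ∣ p ^ k := orderOf_dvd_of_pow_eq_one hk'
  obtain ⟨j, -, hj⟩ := (Nat.dvd_prime_pow hp.out).1 hdvd
  exact ⟨j, hj⟩

/-- a conjugate of an element of the Sylow subgroup lying in the centralizer lies in the Sylow
subgroup -/
theorem conj_mem_of_mem (w h : G) (hh : h ∈ (P : Subgroup G))
    (hw : w * h * w⁻¹ ∈ Subgroup.centralizer ((P : Subgroup G) : Set G)) :
    w * h * w⁻¹ ∈ (P : Subgroup G) := by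
  obtain ⟨j, hj⟩ := orderOf_of_mem P h hh
  have hpow : (w * h * w⁻¹) ^ p ^ j = 1 := by
    rw [conj_pow, ← hj, pow_orderOf_eq_one]
    group
  have hdvd : orderOf (w * h * w⁻¹) ∣ p ^ j := orderOf_dvd_of_pow_eq_one hpow
  obtain ⟨i, -, hi⟩ := (Nat.dvd_prime_pow hp.out).1 hdvd
  exact mem_of_pelem P _ (Subgroup.centralizer_le_normalizer _ hw) i hi

/-- the trivial-intersection property -/
theorem star_ti
    (hstar : ∀ x ∈ (P : Subgroup G), x ≠ 1 → Subgroup.centralizer ({x} : Set G) =
      Subgroup.centralizer ((P : Subgroup G) : Set G))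
    (c : G) (hc : c ∈ Subgroup.centralizer ((P : Subgroup G) : Set G)) (hpc : p ∣ orderOf c)
    (x : G) (hx : x⁻¹ * c * x ∈ Subgroup.centralizer ((P : Subgroup G) : Set G)) :
    x ∈ Subgroup.normalizer ((P : Subgroup G) : Set G) := by
  set C := Subgroup.centralizer ((P : Subgroup G) : Set G) with hC
  have ho : orderOf c ≠ 0 := (orderOf_pos c).ne'
  obtain ⟨k, m, hm, hkm⟩ := Nat.exists_eq_pow_mul_and_not_dvd ho p hp.out.ne_one
  have hk0 : k ≠ 0 := by
    intro h
    rw [h, pow_zero, one_mul] at hkm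
    rw [hkm] at hpc
    exact hm hpc
  have hm0 : m ≠ 0 := by
    intro h
    rw [h, mul_zero] at hkm
    exact ho hkm
  set y := c ^ m with hy
  have hyo : orderOf y = p ^ k := by
    rw [hy, orderOf_pow_of_dvd hm0 (Dvd.intro_left _ hkm.symm), hkm,
      Nat.mul_div_cancel _ (Nat.pos_of_ne_zero hm0)]
  have hyC : y ∈ C := C.pow_mem hc m
  have hyP : y ∈ (P : Subgroup G) :=
    mem_of_pelem P y (Subgroup.centralizer_le_normalizer _ hyC) k hyo
  have hy1 : y ≠ 1 := by
    intro h
    rw [h, orderOf_one] at hyo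
    have : 1 < p ^ k := Nat.one_lt_pow hk0 hp.out.one_lt
    omega
  set y' := x⁻¹ * y * x with hy'
  have hy'C : y' ∈ C := by
    have : y' = (x⁻¹ * c * x) ^ m := by
      rw [hy', hy]
      have := conj_pow (a := x⁻¹) (b := c) (i := m)
      rw [inv_inv] at this
      exact this.symm
    rw [this]
    exact C.pow_mem hx m
  have hy'P : y' ∈ (P : Subgroup G) := by
    have := conj_mem_of_mem P x⁻¹ y hyP (by rw [inv_inv]; exact hy'C)
    rwa [inv_inv] at this
  have hy'1 : y' ≠ 1 := by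
    intro h
    apply hy1
    have : y = x * y' * x⁻¹ := by rw [hy']; group
    rw [this, h]
    group
  have h1 := hstar y hyP hy1
  have h2 := hstar y' hy'P hy'1
  have claim1 : ∀ c' ∈ C, x⁻¹ * c' * x ∈ C := by
    intro c' hc'
    rw [← h2, Subgroup.mem_centralizer_iff]
    intro h hh
    rw [Set.mem_singleton_iff] at hh
    subst hh
    have hc'' : c' ∈ Subgroup.centralizer ({y} : Set G) := by rw [h1]; exact hc'
    rw [Subgroup.mem_centralizer_iff] at hc''
    have e := hc'' y (Set.mem_singleton y)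
    calc x⁻¹ * y * x * (x⁻¹ * c' * x) = x⁻¹ * (y * c') * x := by group
      _ = x⁻¹ * (c' * y) * x := by rw [e]
      _ = x⁻¹ * c' * x * (x⁻¹ * y * x) := by group
  have claim2 : ∀ c' ∈ C, x * c' * x⁻¹ ∈ C := by
    intro c' hc'
    rw [← h1, Subgroup.mem_centralizer_iff]
    intro h hh
    rw [Set.mem_singleton_iff] at hh
    subst hh
    have hc'' : c' ∈ Subgroup.centralizer ({y'} : Set G) := by rw [h2]; exact hc'
    rw [Subgroup.mem_centralizer_iff] at hc''
    have e := hc'' y' (Set.mem_singleton y')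
    have hyy : y = x * y' * x⁻¹ := by rw [hy']; group
    calc y * (x * c' * x⁻¹) = x * (y' * c') * x⁻¹ := by rw [hyy]; group
      _ = x * (c' * y') * x⁻¹ := by rw [e]
      _ = x * c' * x⁻¹ * y := by rw [hyy]; group
  have hPC : (P : Subgroup G) ≤ C := by
    intro a ha
    rw [← h1, Subgroup.mem_centralizer_iff]
    intro h hh
    rw [Set.mem_singleton_iff] at hh
    subst hh
    have hyc : y ∈ C := hyC
    rw [hC, Subgroup.mem_centralizer_iff] at hyc
    exact (hyc a ha).symm
  rw [Subgroup.mem_normalizer_iff]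
  intro h
  constructor
  · intro hh
    exact conj_mem_of_mem P x h hh (claim2 h (hPC hh))
  · intro hh
    have h3 := conj_mem_of_mem P x⁻¹ (x * h * x⁻¹) hh (by
      rw [inv_inv]
      exact claim1 _ (hPC hh))
    have : x⁻¹ * (x * h * x⁻¹) * x⁻¹⁻¹ = h := by group
    rwa [this] at h3

end Star

section Transfer

variable {p : ℕ} [hp : Fact p.Prime]

variable {Γ : Type u} [Group Γ] [Finite Γ] (Q : Sylow p Γ)
  (hQ : Subgroup.normalizer ((Q : Subgroup Γ) : Set Γ) ≤
    Subgroup.centralizer ((Q : Subgroup Γ) : Set Γ))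

include hQ

/-- the transfer into a central Sylow subgroup kills exactly the `p`-regular elements -/
theorem transfer_eq_one_iff (c : Γ) :
    MonoidHom.transferSylow Q hQ c = 1 ↔ ¬ p ∣ orderOf c := by
  constructor
  · intro h hpc
    have hker : c ∈ (MonoidHom.transferSylow Q hQ).ker := h
    have h1 : orderOf c ∣ Nat.card (MonoidHom.transferSylow Q hQ).ker := by
      have := orderOf_dvd_natCard (⟨c, hker⟩ : (MonoidHom.transferSylow Q hQ).ker)
      rwa [← Subgroup.orderOf_coe] at this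
    exact MonoidHom.not_dvd_card_ker_transferSylow Q hQ (hpc.trans h1)
  · intro hpc
    set t := MonoidHom.transferSylow Q hQ c with ht
    have h1 : orderOf t ∣ orderOf c := orderOf_map_dvd _ c
    obtain ⟨n, hn⟩ := IsPGroup.iff_card.1 Q.isPGroup'
    have h2 : orderOf t ∣ p ^ n := by
      rw [← hn]
      exact orderOf_dvd_natCard t
    obtain ⟨j, -, hj⟩ := (Nat.dvd_prime_pow hp.out).1 h2
    have hj0 : j = 0 := by
      by_contra hne
      apply hpc
      have : p ∣ orderOf t := by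
        rw [hj]
        exact dvd_pow_self p hne
      exact this.trans h1
    rw [hj0, pow_zero] at hj
    exact orderOf_eq_one_iff.1 hj

omit hQ in
/-- an inverse of the index modulo the order of the Sylow subgroup -/
theorem exists_inv_index (hQ1 : (Q : Subgroup Γ) ≠ ⊥) :
    ∃ k' : ℕ, ((Q : Subgroup Γ).index * k') % Nat.card (Q : Subgroup Γ) = 1 := by
  obtain ⟨n, hn⟩ := IsPGroup.iff_card.1 Q.isPGroup'
  have hn0 : n ≠ 0 := by
    intro h
    rw [h, pow_zero] at hn
    exact hQ1 ((Subgroup.card_eq_one).1 hn)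
  have hcop : Nat.Coprime (Q : Subgroup Γ).index (Nat.card (Q : Subgroup Γ)) := by
    rw [hn]
    apply Nat.Coprime.pow_right
    rw [Nat.coprime_comm]
    exact (Nat.Prime.coprime_iff_not_dvd hp.out).2 Q.not_dvd_index
  have h1 : 1 < Nat.card (Q : Subgroup Γ) := by
    rw [hn]
    exact Nat.one_lt_pow hn0 hp.out.one_lt
  obtain ⟨m, -, hm⟩ := Nat.exists_mul_mod_eq_one_of_coprime hcop h1
  exact ⟨m, hm⟩

omit hQ in
/-- a power with exponent congruent to one modulo the order of the group -/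
theorem pow_of_mod_eq_one {A : Type*} [Group A] [Finite A] (a : A) (e : ℕ)
    (he : e % Nat.card A = 1) : a ^ e = a := by
  conv_lhs => rw [← Nat.div_add_mod e (Nat.card A), he]
  rw [pow_add, pow_mul, pow_card_eq_one', one_pow, one_mul, pow_one]

/-- extension of linear characters of a central Sylow subgroup, trivial on the `p`-regular
elements -/
theorem exists_ext (hQ1 : (Q : Subgroup Γ) ≠ ⊥) (φ : ↥(Q : Subgroup Γ) →* ℂˣ) :
    ∃ κ : Γ →* ℂˣ, (∀ z : ↥(Q : Subgroup Γ), κ (z : Γ) = φ z) ∧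
      ∀ c : Γ, ¬ p ∣ orderOf c → κ c = 1 := by
  obtain ⟨k', hk'⟩ := exists_inv_index Q hQ1
  refine ⟨(φ ^ k').comp (MonoidHom.transferSylow Q hQ), ?_, ?_⟩
  · intro z
    rw [MonoidHom.comp_apply, MonoidHom.pow_apply, MonoidHom.transferSylow_eq_pow Q hQ (z : Γ) z.2]
    have : (⟨(z : Γ) ^ (Q : Subgroup Γ).index, (Q : Subgroup Γ).pow_mem z.2 _⟩ :
        ↥(Q : Subgroup Γ)) = z ^ (Q : Subgroup Γ).index := by
      apply Subtype.ext
      rfl
    rw [this, map_pow, ← pow_mul, ← map_pow, pow_of_mod_eq_one z _ hk']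
  · intro c hc
    rw [MonoidHom.comp_apply, (transfer_eq_one_iff Q hQ c).2 hc, map_one]

/-- decomposition of an element as a product of an element of the Sylow subgroup and a
`p`-regular element -/
theorem exists_decomp (hQ1 : (Q : Subgroup Γ) ≠ ⊥) (c : Γ) :
    ∃ y ∈ (Q : Subgroup Γ), ∃ v : Γ, ¬ p ∣ orderOf v ∧ c = y * v := by
  obtain ⟨k', hk'⟩ := exists_inv_index Q hQ1
  set t := MonoidHom.transferSylow Q hQ c with ht
  set y : ↥(Q : Subgroup Γ) := t ^ k' with hy
  have hty : MonoidHom.transferSylow Q hQ (y : Γ) = t := by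
    rw [MonoidHom.transferSylow_eq_pow Q hQ (y : Γ) y.2]
    have : (⟨(y : Γ) ^ (Q : Subgroup Γ).index, (Q : Subgroup Γ).pow_mem y.2 _⟩ :
        ↥(Q : Subgroup Γ)) = y ^ (Q : Subgroup Γ).index := by
      apply Subtype.ext
      rfl
    rw [this, hy, ← pow_mul, mul_comm, pow_of_mod_eq_one t _ hk']
  refine ⟨(y : Γ), y.2, (y : Γ)⁻¹ * c, ?_, by group⟩
  rw [← transfer_eq_one_iff Q hQ, map_mul, map_inv, hty, ← ht, inv_mul_cancel]

/-- the number of `p`-regular elements -/
theorem card_regular :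
    Nat.card {c : Γ // ¬ p ∣ orderOf c} * Nat.card (Q : Subgroup Γ) = Nat.card Γ := by
  rw [← (MonoidHom.ker_transferSylow_isComplement' Q hQ).card_mul_card]
  congr 1
  apply Nat.card_congr
  apply Equiv.subtypeEquivRight
  intro c
  rw [← transfer_eq_one_iff Q hQ]
  rfl

end Transfer

/-- **The configuration** for a group in which the nonidentity elements of a Sylow subgroup all
have the centralizer of the Sylow subgroup. -/
theorem config_of_star {G : Type u} [Group G] [Finite G] {p : ℕ} [hp : Fact p.Prime]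
    (P : Sylow p G) (hpG : p ∣ Nat.card G)
    (hstar : ∀ x ∈ (P : Subgroup G), x ≠ 1 → Subgroup.centralizer ({x} : Set G) =
      Subgroup.centralizer ((P : Subgroup G) : Set G)) :
    Config p (P : Subgroup G) (Subgroup.centralizer ((P : Subgroup G) : Set G))
      (Subgroup.normalizer ((P : Subgroup G) : Set G)) := by
  have hcomm := star_comm P hpG hstar
  have hPC : (P : Subgroup G) ≤ Subgroup.centralizer ((P : Subgroup G) : Set G) := by
    intro a ha
    rw [Subgroup.mem_centralizer_iff]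
    intro h hh
    exact hcomm h hh a ha
  have hCN : Subgroup.centralizer ((P : Subgroup G) : Set G) ≤
      Subgroup.normalizer ((P : Subgroup G) : Set G) := Subgroup.centralizer_le_normalizer _
  set C := Subgroup.centralizer ((P : Subgroup G) : Set G) with hC
  set N := Subgroup.normalizer ((P : Subgroup G) : Set G) with hN
  set Q : Sylow p ↥C := P.subtype hPC with hQdef
  have hQ : Subgroup.normalizer ((Q : Subgroup ↥C) : Set ↥C) ≤
      Subgroup.centralizer ((Q : Subgroup ↥C) : Set ↥C) := by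
    intro g _
    rw [Subgroup.mem_centralizer_iff]
    intro h hh
    have hg : ∀ h ∈ ((P : Subgroup G) : Set G), h * (g : G) = (g : G) * h :=
      Subgroup.mem_centralizer_iff.1 g.2
    apply Subtype.ext
    exact hg (h : G) (Subgroup.mem_subgroupOf.1 hh)
  have hQ1 : (Q : Subgroup ↥C) ≠ ⊥ := by
    intro h
    have h' : (P : Subgroup G).subgroupOf C = ⊥ := h
    rw [Subgroup.subgroupOf_eq_bot] at h'
    have : (P : Subgroup G) = ⊥ := by
      rw [eq_bot_iff]
      intro a ha
      exact Subgroup.disjoint_def.1 h' ha (hPC ha)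
    exact P.ne_bot_of_dvd_card hpG this
  refine ⟨hPC, hCN, ?_, ?_, ?_, ?_, ?_, ?_, ?_, ?_, ?_⟩
  · intro c hc y hy
    have hc' : ∀ h ∈ ((P : Subgroup G) : Set G), h * c = c * h :=
      Subgroup.mem_centralizer_iff.1 hc
    exact (hc' y hy).symm
  · intro n hn c hc
    apply Subgroup.mem_centralizer_iff.2
    intro h hh
    have hh' : n * h * n⁻¹ ∈ (P : Subgroup G) := (Subgroup.mem_normalizer_iff.1 hn h).1 hh
    have hc' : ∀ h ∈ ((P : Subgroup G) : Set G), h * c = c * h :=
      Subgroup.mem_centralizer_iff.1 hc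
    have e := hc' _ hh'
    calc h * (n⁻¹ * c * n) = n⁻¹ * (n * h * n⁻¹ * c) * n := by group
      _ = n⁻¹ * (c * (n * h * n⁻¹)) * n := by rw [e]
      _ = n⁻¹ * c * n * h := by group
  · intro n hn y hy
    exact (Subgroup.mem_normalizer_iff''.1 hn y).1 hy
  · intro c hc hpc x hx
    exact star_ti P hstar c hc hpc x hx
  · intro n _ y hy hy1 hfix
    rw [← hstar y hy hy1, Subgroup.mem_centralizer_iff]
    intro h hh
    rw [Set.mem_singleton_iff] at hh
    subst hh
    calc h * n = n * (n⁻¹ * h * n) := by group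
      _ = n * h := by rw [hfix]
  · intro y hy hy1
    exact sing_of_mem P y hy hy1
  · intro c hc
    obtain ⟨y, hy, v, hv, hcv⟩ := exists_decomp Q hQ hQ1 ⟨c, hc⟩
    refine ⟨(y : G), Subgroup.mem_subgroupOf.1 hy, (v : G), v.2, ?_, ?_⟩
    · rwa [Subgroup.orderOf_coe]
    · exact congrArg Subtype.val hcv
  · intro φ
    obtain ⟨κ, h1, h2⟩ := exists_ext Q hQ hQ1 φ
    refine ⟨κ, h1, ?_⟩
    intro c hc
    apply h2
    rwa [← Subgroup.orderOf_coe]
  · have h := card_regular Q hQ
    have e1 : Nat.card {c : ↥C // ¬ p ∣ orderOf (c : G)} =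
        Nat.card {c : ↥C // ¬ p ∣ orderOf c} := by
      apply Nat.card_congr
      apply Equiv.subtypeEquivRight
      intro c
      rw [Subgroup.orderOf_coe]
    have e2 : Nat.card (Q : Subgroup ↥C) = Nat.card (P : Subgroup G) :=
      Nat.card_congr (Subgroup.subgroupOfEquivOfLe hPC).toEquiv
    rw [e1, ← e2]
    exact h

end Cfsg.Agent.Helper7.BL
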