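import Mathlib
import Cfsg.Agent.Lib.Helper7.BL1
import Cfsg.Agent.Lib.Helper7.BL2
import Cfsg.Agent.Lib.Helper7.BL3
import Cfsg.Agent.Lib.Helper5.Clifford
import Cfsg.Agent.Lib.Helper24.CharAlgebra
import Cfsg.Agent.Lib.Helper24.CharComplete

/-!
# The action of the normalizer on the irreducible characters of the centralizer, and the
multiplicities of the restrictions (helper7's library)
-/

set_option autoImplicit false

namespace Cfsg.Agent.Helper7.BL

open Cfsg Cfsg.Agent.Helper24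
open scoped ComplexConjugate

universe u

section Act

variable {G : Type u} [Group G] {p : ℕ} {P C N : Subgroup G} (cfg : Config p P C N)

/-- conjugation by an element of `N`, as an automorphism of `C` -/
def cEquiv (n : ↥N) : ↥C ≃* ↥C where
  toFun c := ⟨(n : G)⁻¹ * (c : G) * (n : G), cfg.normC n n.2 c c.2⟩
  invFun c := ⟨(n : G) * (c : G) * (n : G)⁻¹, by
    have := cfg.normC (n : G)⁻¹ (N.inv_mem n.2) c c.2
    rwa [inv_inv] at this⟩
  left_inv c := by
    apply Subtype.ext
    show (n : G) * ((n : G)⁻¹ * (c : G) * (n : G)) * (n : G)⁻¹ = c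
    group
  right_inv c := by
    apply Subtype.ext
    show (n : G)⁻¹ * ((n : G) * (c : G) * (n : G)⁻¹) * (n : G) = c
    group
  map_mul' a b := by
    apply Subtype.ext
    show (n : G)⁻¹ * ((a : G) * (b : G)) * (n : G) =
      (n : G)⁻¹ * (a : G) * (n : G) * ((n : G)⁻¹ * (b : G) * (n : G))
    group

theorem cEquiv_coe (n : ↥N) (c : ↥C) :
    ((cEquiv cfg n c : ↥C) : G) = (n : G)⁻¹ * (c : G) * (n : G) := rfl

/-- the conjugate of an irreducible character of `C` by an element of `N` -/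
noncomputable def cjI (n : ↥N) (ζ : IrrCharacter ↥C) : IrrCharacter ↥C :=
  ⟨(ζ : ↥C → ℂ) ∘ cEquiv cfg n, Cfsg.Agent.Helper5.isIrrCharacter_comp_equiv _ ζ.2⟩

theorem cjI_apply (n : ↥N) (ζ : IrrCharacter ↥C) (c : ↥C) :
    (cjI cfg n ζ : ↥C → ℂ) c = (ζ : ↥C → ℂ) (cEquiv cfg n c) := rfl

theorem cjI_one (ζ : IrrCharacter ↥C) : cjI cfg 1 ζ = ζ := by
  apply Subtype.ext
  funext c
  rw [cjI_apply]
  apply congrArg
  apply Subtype.ext
  rw [cEquiv_coe]
  simp

theorem cjI_mul (n m : ↥N) (ζ : IrrCharacter ↥C) :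
    cjI cfg (n * m) ζ = cjI cfg n (cjI cfg m ζ) := by
  apply Subtype.ext
  funext c
  rw [cjI_apply, cjI_apply, cjI_apply]
  apply congrArg
  apply Subtype.ext
  rw [cEquiv_coe, cEquiv_coe, cEquiv_coe, Subgroup.coe_mul]
  group

/-- the elements of `C` fix the irreducible characters of `C` -/
theorem cjI_of_mem (n : ↥N) (hn : (n : G) ∈ C) (ζ : IrrCharacter ↥C) : cjI cfg n ζ = ζ := by
  apply Subtype.ext
  funext c
  rw [cjI_apply]
  have h := isClassFunction_of_isIrrCharacter ζ.2 c (⟨(n : G), hn⟩ : ↥C)⁻¹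
  rw [← h]
  apply congrArg
  apply Subtype.ext
  rw [cEquiv_coe]
  simp

theorem cjI_deg (n : ↥N) (ζ : IrrCharacter ↥C) :
    (cjI cfg n ζ : ↥C → ℂ) 1 = (ζ : ↥C → ℂ) 1 := by
  rw [cjI_apply, map_one]

end Act

section Mult

variable {G : Type u} [Group G] [Fintype G] {p : ℕ} {P C N : Subgroup G} [Fintype C]
  [Fintype N] (cfg : Config p P C N)

/-- the conjugate as a function, in the form of the Gram formula -/
theorem cj_eq_cjI (n : ↥N) (ζ : IrrCharacter ↥C) :
    cj C (n : G) (ζ : ↥C → ℂ) = (cjI cfg n ζ : ↥C → ℂ) := by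
  funext c
  rw [cj_of_mem C (n : G) _ c (cfg.normC n n.2 c c.2)]
  rfl

theorem cj_sub (x : G) (α β : ↥C → ℂ) : cj C x (α - β) = cj C x α - cj C x β := by
  funext c
  by_cases h : x⁻¹ * (c : G) * x ∈ C
  · rw [Pi.sub_apply, cj_of_mem C x _ c h, cj_of_mem C x _ c h, cj_of_mem C x _ c h,
      Pi.sub_apply]
  · rw [Pi.sub_apply, cj_apply, cj_apply, cj_apply, extendByZero_of_not_mem C _ h,
      extendByZero_of_not_mem C _ h, extendByZero_of_not_mem C _ h, sub_zero]

/-- a function which is invariant under conjugation by `N` -/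
theorem cj_of_invariant (n : ↥N) (α : ↥C → ℂ)
    (hα : ∀ c : ↥C, α (cEquiv cfg n c) = α c) : cj C (n : G) α = α := by
  funext c
  rw [cj_of_mem C (n : G) _ c (cfg.normC n n.2 c c.2)]
  exact hα c

omit [Fintype N] in
/-- the restriction of a character of the group to `C` -/
theorem isCharacter_res (θ : IrrCharacter G) :
    IsCharacter ↥C (fun c : ↥C => (θ : G → ℂ) c) :=
  isCharacter_restrict C (isCharacter_of_isIrrCharacter θ.2)

variable [Fintype (IrrCharacter ↥C)]

/-- the multiplicity of an irreducible character of `C` in the restriction of an irreducible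
character of the group -/
noncomputable def mult (θ : IrrCharacter G) (ζ : IrrCharacter ↥C) : ℕ :=
  (classInner_char_nat (isCharacter_of_isIrrCharacter ζ.2) (isCharacter_res (C := C) θ)).choose

theorem mult_spec (θ : IrrCharacter G) (ζ : IrrCharacter ↥C) :
    classInner (ζ : ↥C → ℂ) (fun c : ↥C => (θ : G → ℂ) c) = (mult θ ζ : ℂ) :=
  (classInner_char_nat (isCharacter_of_isIrrCharacter ζ.2) (isCharacter_res (C := C) θ)).choose_spec

theorem mult_spec' (θ : IrrCharacter G) (ζ : IrrCharacter ↥C) :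
    classInner (fun c : ↥C => (θ : G → ℂ) c) (ζ : ↥C → ℂ) = (mult θ ζ : ℂ) := by
  rw [← classInner_conj_symm, mult_spec, Complex.conj_natCast]

/-- the multiplicities are invariant under `N` -/
theorem mult_cjI (θ : IrrCharacter G) (n : ↥N) (ζ : IrrCharacter ↥C) :
    mult θ (cjI cfg n ζ) = mult θ ζ := by
  have h1 : (fun c : ↥C => (θ : G → ℂ) c) = (fun c : ↥C => (θ : G → ℂ) c) ∘ cEquiv cfg n := by
    funext c
    rw [Function.comp_apply, cEquiv_coe]
    have h := isClassFunction_of_isIrrCharacter θ.2 (c : G) (n : G)⁻¹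
    rw [inv_inv] at h
    exact h.symm
  have h2 : classInner (cjI cfg n ζ : ↥C → ℂ) (fun c : ↥C => (θ : G → ℂ) c) =
      classInner (ζ : ↥C → ℂ) (fun c : ↥C => (θ : G → ℂ) c) := by
    conv_lhs => rw [h1]
    exact Cfsg.Agent.Helper5.classInner_comp_equiv (cEquiv cfg n) _ _
  rw [mult_spec, mult_spec] at h2
  exact_mod_cast h2

/-- the restriction to `C` through the multiplicities -/
theorem res_eq_sum (θ : IrrCharacter G) :
    (fun c : ↥C => (θ : G → ℂ) c) =
      ∑ ζ : IrrCharacter ↥C, (mult θ ζ : ℂ) • (ζ : ↥C → ℂ) := by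
  have h := (isCharacter_decomp (isCharacter_res (C := C) θ)).2
  conv_lhs => rw [h]
  refine Finset.sum_congr rfl fun ζ _ => ?_
  rw [mult_spec']

theorem res_apply (θ : IrrCharacter G) (c : ↥C) :
    (θ : G → ℂ) c = ∑ ζ : IrrCharacter ↥C, (mult θ ζ : ℂ) * (ζ : ↥C → ℂ) c := by
  have h := congrFun (res_eq_sum (C := C) θ) c
  rw [Finset.sum_apply] at h
  rw [h]
  refine Finset.sum_congr rfl fun ζ _ => ?_
  rw [Pi.smul_apply, smul_eq_mul]

/-- the degree through the multiplicities -/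
theorem degree_eq_sum (θ : IrrCharacter G) :
    charDegree (θ : G → ℂ) =
      ∑ ζ : IrrCharacter ↥C, mult θ ζ * charDegree (ζ : ↥C → ℂ) := by
  have h := res_apply (C := C) θ 1
  rw [Subgroup.coe_one, irr_one_eq_charDegree θ.2] at h
  have h' : ((charDegree (θ : G → ℂ) : ℕ) : ℂ) =
      ((∑ ζ : IrrCharacter ↥C, mult θ ζ * charDegree (ζ : ↥C → ℂ) : ℕ) : ℂ) := by
    rw [h]
    push_cast
    refine Finset.sum_congr rfl fun ζ _ => ?_
    rw [irr_one_eq_charDegree ζ.2]
  exact_mod_cast h'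

end Mult

end Cfsg.Agent.Helper7.BL
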