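import Mathlib
import Cfsg.Agent.Lib.Helper7.BL4
import Cfsg.Agent.Lib.Helper5.CharCenter

/-!
# The irreducible characters of the centralizer: the central character on the Sylow subgroup,
stabilizers, and the families (helper7's library)
-/

set_option autoImplicit false
set_option linter.unusedSectionVars false

namespace Cfsg.Agent.Helper7.BL

open Cfsg Cfsg.Agent.Helper24
open scoped ComplexConjugate

universe u

section Central

variable {G : Type u} [Group G] [Fintype G] {p : ℕ} {P C N : Subgroup G} [Fintype C]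
  (cfg : Config p P C N)

/-- an irreducible character of `C` with `P` in its kernel -/
def PTriv (P : Subgroup G) (ζ : IrrCharacter ↥C) : Prop :=
  ∀ c : ↥C, (c : G) ∈ P → (ζ : ↥C → ℂ) c = (ζ : ↥C → ℂ) 1

include cfg

theorem ptriv_cjI_of (n : ↥N) (ζ : IrrCharacter ↥C) (h : PTriv P ζ) : PTriv P (cjI cfg n ζ) := by
  intro c hc
  rw [cjI_apply, cjI_deg]
  apply h
  rw [cEquiv_coe]
  exact cfg.normP n n.2 c hc

theorem ptriv_cjI (n : ↥N) (ζ : IrrCharacter ↥C) : PTriv P (cjI cfg n ζ) ↔ PTriv P ζ := by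
  constructor
  · intro h
    have h2 := ptriv_cjI_of cfg n⁻¹ _ h
    rwa [← cjI_mul, inv_mul_cancel, cjI_one] at h2
  · exact ptriv_cjI_of cfg n ζ

/-- the element of the Sylow subgroup, as an element of the subgroup of `C` -/
def toZ (y : G) (hy : y ∈ P) : ↥(P.subgroupOf C) := ⟨⟨y, cfg.hPC hy⟩, hy⟩

theorem toZ_coe (y : G) (hy : y ∈ P) : (((toZ cfg y hy : ↥(P.subgroupOf C)) : ↥C) : G) = y := rfl

theorem le_center : P.subgroupOf C ≤ Subgroup.center ↥C := by
  intro z hz
  rw [Subgroup.mem_center_iff]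
  intro g
  apply Subtype.ext
  exact cfg.central g g.2 z hz

/-- the central character on the Sylow subgroup -/
theorem exists_central (ζ : IrrCharacter ↥C) :
    ∃ lam : ↥(P.subgroupOf C) →* ℂˣ, ∀ z : ↥(P.subgroupOf C),
      (ζ : ↥C → ℂ) (z : ↥C) = (ζ : ↥C → ℂ) 1 * ((lam z : ℂˣ) : ℂ) := by
  classical
  haveI : (P.subgroupOf C).Normal := by
    constructor
    intro z hz g
    have h := Subgroup.mem_center_iff.1 (le_center cfg hz) g
    have e : g * z * g⁻¹ = z := by rw [h, mul_assoc, mul_inv_cancel, mul_one]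
    rw [e]
    exact hz
  haveI : Fintype ↥(P.subgroupOf C) := Fintype.ofFinite _
  obtain ⟨φ, hφ, hφ1, he⟩ :=
    Cfsg.Agent.Helper5.restrict_central_eq (P.subgroupOf C) (le_center cfg) ζ.2
  refine ⟨linHom (isCharacter_of_isIrrCharacter hφ) hφ1, ?_⟩
  intro z
  have h := congrFun he z
  rw [Pi.smul_apply, smul_eq_mul] at h
  rw [linHom_apply]
  exact h

/-- **The stabilizer** of an irreducible character of `C` which is not trivial on `P`. -/
theorem stab_iff (ζ : IrrCharacter ↥C) (hζ : ¬ PTriv P ζ) (n : ↥N) :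
    cjI cfg n ζ = ζ ↔ (n : G) ∈ C := by
  constructor
  · intro hfix
    by_contra hn
    apply hζ
    obtain ⟨lam, hlam⟩ := exists_central cfg ζ
    have h1 : (ζ : ↥C → ℂ) 1 ≠ 0 := Cfsg.Agent.Helper23.irr_one_ne_zero _ ζ.2
    -- the conjugation map on the subgroup
    have hmem : ∀ z : ↥(P.subgroupOf C), (n : G)⁻¹ * ((z : ↥C) : G) * (n : G) ∈ P :=
      fun z => cfg.normP n n.2 _ z.2
    have hinv : ∀ z : ↥(P.subgroupOf C), lam (toZ cfg _ (hmem z)) = lam z := by
      intro z
      have e1 := hlam (toZ cfg _ (hmem z))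
      have e2 := hlam z
      have e3 : (ζ : ↥C → ℂ) ((toZ cfg _ (hmem z) : ↥(P.subgroupOf C)) : ↥C) =
          (ζ : ↥C → ℂ) (z : ↥C) := by
        have := congrFun (congrArg Subtype.val hfix) (z : ↥C)
        rw [cjI_apply] at this
        rw [← this]
        apply congrArg
        apply Subtype.ext
        rfl
      rw [e1, e2] at e3
      have := mul_left_cancel₀ h1 e3
      exact Units.ext this
    set f : ↥(P.subgroupOf C) → ↥(P.subgroupOf C) := fun z => toZ cfg _ (hmem z) * z⁻¹ with hf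
    have hfinj : Function.Injective f := by
      intro z w hzw
      have e : (n : G)⁻¹ * ((z : ↥C) : G) * (n : G) * ((z : ↥C) : G)⁻¹ =
          (n : G)⁻¹ * ((w : ↥C) : G) * (n : G) * ((w : ↥C) : G)⁻¹ :=
        congrArg (fun t : ↥(P.subgroupOf C) => ((t : ↥C) : G)) hzw
      have hu : ((w : ↥C) : G)⁻¹ * ((z : ↥C) : G) ∈ P := P.mul_mem (P.inv_mem w.2) z.2
      have hfixu : (n : G)⁻¹ * (((w : ↥C) : G)⁻¹ * ((z : ↥C) : G)) * (n : G) =
          ((w : ↥C) : G)⁻¹ * ((z : ↥C) : G) := by
        calc (n : G)⁻¹ * (((w : ↥C) : G)⁻¹ * ((z : ↥C) : G)) * (n : G)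
            = ((n : G)⁻¹ * ((w : ↥C) : G) * (n : G))⁻¹ *
                ((n : G)⁻¹ * ((z : ↥C) : G) * (n : G) * ((z : ↥C) : G)⁻¹) * ((z : ↥C) : G) := by
              group
          _ = ((w : ↥C) : G)⁻¹ * ((z : ↥C) : G) := by rw [e]; group
      have hu1 : ((w : ↥C) : G)⁻¹ * ((z : ↥C) : G) = 1 := by
        by_contra hne
        exact hn (cfg.free n n.2 _ hu hne hfixu)
      apply Subtype.ext
      apply Subtype.ext
      have : ((z : ↥C) : G) = ((w : ↥C) : G) * (((w : ↥C) : G)⁻¹ * ((z : ↥C) : G)) := by group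
      rw [this, hu1, mul_one]
    have hfsurj : Function.Surjective f := Finite.injective_iff_surjective.1 hfinj
    have hlam1 : ∀ w : ↥(P.subgroupOf C), lam w = 1 := by
      intro w
      obtain ⟨z, rfl⟩ := hfsurj w
      rw [hf]
      show lam (toZ cfg _ (hmem z) * z⁻¹) = 1
      rw [map_mul, hinv z, map_inv, mul_inv_cancel]
    intro c hc
    have := hlam (toZ cfg (c : G) hc)
    rw [hlam1, Units.val_one, mul_one] at this
    rw [← this]
    apply congrArg
    apply Subtype.ext
    rfl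
  · intro hn
    exact cjI_of_mem cfg n hn ζ

end Central

end Cfsg.Agent.Helper7.BL
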