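import Mathlib
import Cfsg.Agent.Lib.Helper7.BL5

/-!
# The linear characters of the centralizer which are trivial on the regular elements, and the
families of irreducible characters (helper7's library)
-/

set_option autoImplicit false
set_option linter.unusedSectionVars false

namespace Cfsg.Agent.Helper7.BL

open Cfsg Cfsg.Agent.Helper24
open scoped ComplexConjugate

universe u

section Kap

variable {G : Type u} [Group G] [Fintype G] {p : ℕ} {P C N : Subgroup G} [Fintype C]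
  [Fintype (IrrCharacter ↥C)] (cfg : Config p P C N)

/-- the extension of a linear character of `P` to `C` which is trivial on the regular elements -/
noncomputable def kap (φ : ↥(P.subgroupOf C) →* ℂˣ) : ↥C →* ℂˣ := (cfg.ext φ).choose

theorem kap_res (φ : ↥(P.subgroupOf C) →* ℂˣ) (z : ↥(P.subgroupOf C)) :
    kap cfg φ (z : ↥C) = φ z := (cfg.ext φ).choose_spec.1 z

theorem kap_reg (φ : ↥(P.subgroupOf C) →* ℂˣ) (c : ↥C) (hc : ¬ p ∣ orderOf (c : G)) :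
    kap cfg φ c = 1 := (cfg.ext φ).choose_spec.2 c hc

include cfg in
/-- a linear character of `C` is determined by its values on `P` and on the regular elements -/
theorem hom_ext_of (κ₁ κ₂ : ↥C →* ℂˣ)
    (h1 : ∀ z : ↥(P.subgroupOf C), κ₁ (z : ↥C) = κ₂ (z : ↥C))
    (h2 : ∀ c : ↥C, ¬ p ∣ orderOf (c : G) → κ₁ c = κ₂ c) : κ₁ = κ₂ := by
  ext c
  obtain ⟨y, hy, v, hv, hpv, hc⟩ := cfg.decomp c c.2
  have e : c = ((toZ cfg y hy : ↥(P.subgroupOf C)) : ↥C) * ⟨v, hv⟩ := by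
    apply Subtype.ext
    exact hc
  rw [e, map_mul, map_mul, h1, h2 ⟨v, hv⟩ hpv]

theorem kap_unique (φ : ↥(P.subgroupOf C) →* ℂˣ) (κ : ↥C →* ℂˣ)
    (h1 : ∀ z : ↥(P.subgroupOf C), κ (z : ↥C) = φ z)
    (h2 : ∀ c : ↥C, ¬ p ∣ orderOf (c : G) → κ c = 1) : κ = kap cfg φ := by
  apply hom_ext_of cfg
  · intro z
    rw [h1, kap_res]
  · intro c hc
    rw [h2 c hc, kap_reg cfg φ c hc]

theorem kap_one : kap cfg (1 : ↥(P.subgroupOf C) →* ℂˣ) = 1 := by
  symm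
  apply kap_unique
  · intro z; rfl
  · intro c _; rfl

theorem kap_mul (φ ψ : ↥(P.subgroupOf C) →* ℂˣ) :
    kap cfg (φ * ψ) = kap cfg φ * kap cfg ψ := by
  symm
  apply kap_unique
  · intro z
    rw [MonoidHom.mul_apply, MonoidHom.mul_apply, kap_res, kap_res]
  · intro c hc
    rw [MonoidHom.mul_apply, kap_reg cfg φ c hc, kap_reg cfg ψ c hc, mul_one]

/-- the member of the family of `ζb` with the parameter `φ` -/
noncomputable def fam (ζb : IrrCharacter ↥C) (φ : ↥(P.subgroupOf C) →* ℂˣ) : IrrCharacter ↥C :=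
  ⟨(ζb : ↥C → ℂ) * (fun c => ((kap cfg φ c : ℂˣ) : ℂ)),
    isIrrCharacter_mul_linear ζb.2
      (isCharacter_of_isIrrCharacter (isIrrCharacter_of_monoidHom (kap cfg φ)))
      (by simp)⟩

theorem fam_apply (ζb : IrrCharacter ↥C) (φ : ↥(P.subgroupOf C) →* ℂˣ) (c : ↥C) :
    (fam cfg ζb φ : ↥C → ℂ) c = (ζb : ↥C → ℂ) c * ((kap cfg φ c : ℂˣ) : ℂ) := rfl

theorem fam_one (ζb : IrrCharacter ↥C) : fam cfg ζb 1 = ζb := by
  apply Subtype.ext
  funext c
  rw [fam_apply, kap_one, MonoidHom.one_apply, Units.val_one, mul_one]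

theorem fam_fam (ζb : IrrCharacter ↥C) (φ ψ : ↥(P.subgroupOf C) →* ℂˣ) :
    fam cfg (fam cfg ζb φ) ψ = fam cfg ζb (φ * ψ) := by
  apply Subtype.ext
  funext c
  rw [fam_apply, fam_apply, fam_apply, kap_mul, MonoidHom.mul_apply, Units.val_mul, mul_assoc]

theorem fam_deg (ζb : IrrCharacter ↥C) (φ : ↥(P.subgroupOf C) →* ℂˣ) :
    (fam cfg ζb φ : ↥C → ℂ) 1 = (ζb : ↥C → ℂ) 1 := by
  rw [fam_apply, map_one, Units.val_one, mul_one]

theorem fam_reg (ζb : IrrCharacter ↥C) (φ : ↥(P.subgroupOf C) →* ℂˣ) (c : ↥C)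
    (hc : ¬ p ∣ orderOf (c : G)) : (fam cfg ζb φ : ↥C → ℂ) c = (ζb : ↥C → ℂ) c := by
  rw [fam_apply, kap_reg cfg φ c hc, Units.val_one, mul_one]

theorem fam_on_P (ζb : IrrCharacter ↥C) (hb : PTriv P ζb) (φ : ↥(P.subgroupOf C) →* ℂˣ)
    (z : ↥(P.subgroupOf C)) :
    (fam cfg ζb φ : ↥C → ℂ) (z : ↥C) = (ζb : ↥C → ℂ) 1 * ((φ z : ℂˣ) : ℂ) := by
  rw [fam_apply, kap_res, hb (z : ↥C) z.2]

theorem fam_inj (ζb : IrrCharacter ↥C) (hb : PTriv P ζb) (φ ψ : ↥(P.subgroupOf C) →* ℂˣ)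
    (h : fam cfg ζb φ = fam cfg ζb ψ) : φ = ψ := by
  ext z
  have h1 : (ζb : ↥C → ℂ) 1 ≠ 0 := Cfsg.Agent.Helper23.irr_one_ne_zero _ ζb.2
  have e := congrFun (congrArg Subtype.val h) (z : ↥C)
  rw [fam_on_P cfg ζb hb, fam_on_P cfg ζb hb] at e
  exact mul_left_cancel₀ h1 e

theorem fam_ptriv_iff (ζb : IrrCharacter ↥C) (hb : PTriv P ζb) (φ : ↥(P.subgroupOf C) →* ℂˣ) :
    PTriv P (fam cfg ζb φ) ↔ φ = 1 := by
  have h1 : (ζb : ↥C → ℂ) 1 ≠ 0 := Cfsg.Agent.Helper23.irr_one_ne_zero _ ζb.2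
  constructor
  · intro h
    ext z
    have e := h (z : ↥C) z.2
    rw [fam_on_P cfg ζb hb, fam_deg] at e
    have : ((φ z : ℂˣ) : ℂ) = 1 := by
      have e' : (ζb : ↥C → ℂ) 1 * ((φ z : ℂˣ) : ℂ) = (ζb : ↥C → ℂ) 1 * 1 := by rw [e, mul_one]
      exact mul_left_cancel₀ h1 e'
    rw [this]
    rfl
  · intro h
    rw [h, fam_one]
    exact hb

/-- every irreducible character of `C` belongs to the family of a character which is trivial on
the Sylow subgroup -/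
theorem exists_base (ζ : IrrCharacter ↥C) :
    ∃ ζb : IrrCharacter ↥C, PTriv P ζb ∧ ∃ φ : ↥(P.subgroupOf C) →* ℂˣ, ζ = fam cfg ζb φ := by
  obtain ⟨lam, hlam⟩ := exists_central cfg ζ
  refine ⟨fam cfg ζ lam⁻¹, ?_, lam, ?_⟩
  · intro c hc
    have e := hlam (toZ cfg (c : G) hc)
    have e2 : ((toZ cfg (c : G) hc : ↥(P.subgroupOf C)) : ↥C) = c := Subtype.ext rfl
    rw [e2] at e
    rw [fam_deg, fam_apply, e]
    have e3 := kap_res cfg lam⁻¹ (toZ cfg (c : G) hc)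
    rw [e2] at e3
    rw [e3, MonoidHom.inv_apply, mul_assoc, Units.val_inv_eq_inv_val,
      mul_inv_cancel₀ (Units.ne_zero _), mul_one]
  · have e : lam⁻¹ * lam = 1 := by
      ext z
      simp
    rw [fam_fam, e, fam_one]

end Kap

end Cfsg.Agent.Helper7.BL
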