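import Mathlib
import Cfsg.Agent.Lib.Helper7.BL6

/-!
# The multiplicity vectors of a family and their Gram formulas (helper7's library)
-/

set_option autoImplicit false
set_option linter.unusedSectionVars false

namespace Cfsg.Agent.Helper7.BL

open Cfsg Cfsg.Agent.Helper24
open scoped ComplexConjugate

universe u

section Inner

variable {H : Type u} [Group H] [Fintype H]

theorem classInner_sub_left (φ₁ φ₂ ψ : H → ℂ) :
    classInner (φ₁ - φ₂) ψ = classInner φ₁ ψ - classInner φ₂ ψ := by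
  have e : φ₁ - φ₂ = φ₁ + (-1 : ℂ) • φ₂ := by
    funext x
    simp [sub_eq_add_neg]
  rw [e, classInner_add_left, classInner_smul_left]
  ring

theorem classInner_sub_right (φ ψ₁ ψ₂ : H → ℂ) :
    classInner φ (ψ₁ - ψ₂) = classInner φ ψ₁ - classInner φ ψ₂ := by
  have e : ψ₁ - ψ₂ = ψ₁ + (-1 : ℂ) • ψ₂ := by
    funext x
    simp [sub_eq_add_neg]
  rw [e, classInner_add_right, classInner_smul_right]
  simp
  ring

end Inner

section Vec

variable {G : Type u} [Group G] [Fintype G] {p : ℕ} {P C N : Subgroup G} [Fintype C]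
  [Fintype N] [Fintype (IrrCharacter G)] [Fintype (IrrCharacter ↥C)] (cfg : Config p P C N)

/-- the difference of a member of a family and the base of the family -/
noncomputable def alp (ζb : IrrCharacter ↥C) (φ : ↥(P.subgroupOf C) →* ℂˣ) : ↥C → ℂ :=
  (fam cfg ζb φ : ↥C → ℂ) - (ζb : ↥C → ℂ)

theorem alp_reg (ζb : IrrCharacter ↥C) (φ : ↥(P.subgroupOf C) →* ℂˣ) (c : ↥C)
    (hc : ¬ p ∣ orderOf (c : G)) : alp cfg ζb φ c = 0 := by
  unfold alp
  rw [Pi.sub_apply, fam_reg cfg ζb φ c hc, sub_self]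

theorem alp_one (ζb : IrrCharacter ↥C) (φ : ↥(P.subgroupOf C) →* ℂˣ) : alp cfg ζb φ 1 = 0 := by
  unfold alp
  rw [Pi.sub_apply, fam_deg, sub_self]

/-- the multiplicity vector of a member of a family, relative to the base -/
noncomputable def vv (ζb : IrrCharacter ↥C) (φ : ↥(P.subgroupOf C) →* ℂˣ)
    (θ : IrrCharacter G) : ℤ :=
  (mult θ (fam cfg ζb φ) : ℤ) - (mult θ ζb : ℤ)

theorem inner_alp (ζb : IrrCharacter ↥C) (φ : ↥(P.subgroupOf C) →* ℂˣ) (θ : IrrCharacter G) :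
    classInner (alp cfg ζb φ) (fun c : ↥C => (θ : G → ℂ) c) = ((vv cfg ζb φ θ : ℤ) : ℂ) := by
  unfold alp vv
  rw [classInner_sub_left, mult_spec, mult_spec]
  push_cast
  ring

include cfg in
/-- the trivial-intersection property, in the form of the Gram formula -/
theorem hTI : ∀ c : ↥C, p ∣ orderOf (c : G) → ∀ x : G, x⁻¹ * (c : G) * x ∈ C → x ∈ N :=
  fun c hc x hx => cfg.ti c c.2 hc x hx

theorem alp_supp (ζb : IrrCharacter ↥C) (φ : ↥(P.subgroupOf C) →* ℂˣ) :
    ∀ c : ↥C, ¬ p ∣ orderOf (c : G) → alp cfg ζb φ c = 0 :=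
  fun c hc => alp_reg cfg ζb φ c hc

open Classical in
/-- **The Gram formula** for two members of two families. -/
theorem vv_gram (ζb ζb' : IrrCharacter ↥C) (φ φ' : ↥(P.subgroupOf C) →* ℂˣ) :
    ∑ θ : IrrCharacter G, ((vv cfg ζb φ θ : ℤ) : ℂ) * ((vv cfg ζb' φ' θ : ℤ) : ℂ) =
      (Nat.card C : ℂ)⁻¹ * ∑ n : ↥N,
        ((if fam cfg ζb φ = cjI cfg n (fam cfg ζb' φ') then (1 : ℂ) else 0) -
          (if fam cfg ζb φ = cjI cfg n ζb' then 1 else 0) -
          (if ζb = cjI cfg n (fam cfg ζb' φ') then 1 else 0) +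
          (if ζb = cjI cfg n ζb' then 1 else 0)) := by
  have h := gram_TI C N (fun c : ↥C => p ∣ orderOf (c : G)) (hTI cfg) (alp cfg ζb φ)
    (alp cfg ζb' φ') (alp_supp cfg ζb φ)
  have e1 : ∀ θ : IrrCharacter G,
      classInner (alp cfg ζb φ) (fun c : ↥C => (θ : G → ℂ) c) *
        conj (classInner (alp cfg ζb' φ') (fun c : ↥C => (θ : G → ℂ) c)) =
      ((vv cfg ζb φ θ : ℤ) : ℂ) * ((vv cfg ζb' φ' θ : ℤ) : ℂ) := by
    intro θ
    rw [inner_alp, inner_alp, map_intCast]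
  rw [Finset.sum_congr rfl (fun θ _ => e1 θ)] at h
  rw [h]
  congr 1
  refine Finset.sum_congr rfl fun n _ => ?_
  have e2 : cj C (n : G) (alp cfg ζb' φ') =
      (cjI cfg n (fam cfg ζb' φ') : ↥C → ℂ) - (cjI cfg n ζb' : ↥C → ℂ) := by
    unfold alp
    rw [cj_sub, cj_eq_cjI cfg, cj_eq_cjI cfg]
  rw [e2]
  unfold alp
  rw [classInner_sub_left, classInner_sub_right, classInner_sub_right, irr_orthogonality',
    irr_orthogonality', irr_orthogonality', irr_orthogonality']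
  ring

/-- the degree formula for the multiplicity vectors -/
theorem vv_deg (ζb : IrrCharacter ↥C) (φ : ↥(P.subgroupOf C) →* ℂˣ) :
    ∑ θ : IrrCharacter G, vv cfg ζb φ θ * (charDegree (θ : G → ℂ) : ℤ) = 0 := by
  have h := deg_TI C (alp cfg ζb φ)
  rw [alp_one, mul_zero] at h
  have e1 : ∀ θ : IrrCharacter G,
      classInner (alp cfg ζb φ) (fun c : ↥C => (θ : G → ℂ) c) * (θ : G → ℂ) 1 =
      ((vv cfg ζb φ θ * (charDegree (θ : G → ℂ) : ℤ) : ℤ) : ℂ) := by
    intro θ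
    rw [inner_alp, irr_one_eq_charDegree θ.2]
    push_cast
    ring
  rw [Finset.sum_congr rfl (fun θ _ => e1 θ)] at h
  exact_mod_cast h

end Vec

end Cfsg.Agent.Helper7.BL
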