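import Mathlib
import Cfsg.Agent.Lib.Helper7.BL7
import Cfsg.Agent.Lib.Helper7.Frob2

/-!
# The exceptional characters of a family (helper7's library)
-/

set_option autoImplicit false
set_option linter.unusedSectionVars false

namespace Cfsg.Agent.Helper7.BL

open Cfsg Cfsg.Agent.Helper24
open scoped ComplexConjugate

universe u

section Exc

variable {G : Type u} [Group G] [Fintype G] {p : ℕ} {P C N : Subgroup G} [Fintype C]
  [Fintype N] [Fintype (IrrCharacter G)] [Fintype (IrrCharacter ↥C)] (cfg : Config p P C N)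

/-- the parameters of the members of a family other than the base -/
abbrev Par (P C : Subgroup G) : Type u := {φ : ↥(P.subgroupOf C) →* ℂˣ // φ ≠ 1}

/-- conjugacy under `N` of two members of a family -/
def Rel (ζb : IrrCharacter ↥C) (φ φ' : Par P C) : Prop :=
  ∃ n : ↥N, fam cfg ζb φ.1 = cjI cfg n (fam cfg ζb φ'.1)

theorem rel_refl (ζb : IrrCharacter ↥C) (φ : Par P C) : Rel cfg ζb φ φ :=
  ⟨1, (cjI_one cfg _).symm⟩

include cfg in
theorem card_subgroupOf : Nat.card (C.subgroupOf N) = Nat.card C :=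
  Nat.card_congr (Subgroup.subgroupOfEquivOfLe cfg.hCN).toEquiv

theorem stab_iff' (ζ : IrrCharacter ↥C) (hζ : ¬ PTriv P ζ) (n : ↥N) :
    cjI cfg n ζ = ζ ↔ n ∈ C.subgroupOf N := by
  rw [stab_iff cfg ζ hζ n, Subgroup.mem_subgroupOf]

open Classical in
/-- the number of elements of `N` which conjugate a character into another one -/
theorem sum_ite_conj (ζ ζ' : IrrCharacter ↥C) (hζ' : ¬ PTriv P ζ') :
    ∑ n : ↥N, (if ζ = cjI cfg n ζ' then (1 : ℂ) else 0) =
      if (∃ n : ↥N, ζ = cjI cfg n ζ') then (Nat.card C : ℂ) else 0 := by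
  rw [Finset.sum_boole]
  split_ifs with h
  · obtain ⟨n₀, hn₀⟩ := h
    have h1 := card_fiber (fun n ζ => cjI cfg n ζ) (cjI_one cfg) (cjI_mul cfg) (C.subgroupOf N) ζ'
      (stab_iff' cfg ζ' hζ') n₀
    rw [card_subgroupOf cfg] at h1
    rw [← h1]
    congr 2
    ext n
    simp only [Finset.mem_filter, Finset.mem_univ, true_and]
    rw [hn₀]
    exact eq_comm
  · have : Finset.univ.filter (fun n : ↥N => ζ = cjI cfg n ζ') = ∅ := by
      ext n
      simp only [Finset.mem_filter, Finset.mem_univ, true_and, Finset.notMem_empty, iff_false]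
      intro hn
      exact h ⟨n, hn⟩
    rw [this, Finset.card_empty, Nat.cast_zero]

open Classical in
/-- the size of the orbit of a character which is not trivial on `P` -/
theorem card_orbit_irr (ζ : IrrCharacter ↥C) (hζ : ¬ PTriv P ζ) :
    (Finset.image (fun n : ↥N => cjI cfg n ζ) Finset.univ).card * Nat.card C = Nat.card N := by
  have h := card_orbit (fun n ζ => cjI cfg n ζ) (cjI_one cfg) (cjI_mul cfg) (C.subgroupOf N) ζ
    (stab_iff' cfg ζ hζ)
  rw [card_subgroupOf cfg, ← Nat.card_eq_fintype_card] at h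
  exact h

theorem fam_not_ptriv (ζb : IrrCharacter ↥C) (hb : PTriv P ζb) (φ : Par P C) :
    ¬ PTriv P (fam cfg ζb φ.1) := fun h => φ.2 ((fam_ptriv_iff cfg ζb hb φ.1).1 h)

open Classical in
/-- **The Gram formula inside a family.** -/
theorem gram_same (ζb : IrrCharacter ↥C) (hb : PTriv P ζb) (φ φ' : Par P C) :
    ∑ θ : IrrCharacter G, ((vv cfg ζb φ.1 θ : ℤ) : ℂ) * ((vv cfg ζb φ'.1 θ : ℤ) : ℂ) =
      (if Rel cfg ζb φ φ' then (1 : ℂ) else 0) +
        (Nat.card C : ℂ)⁻¹ * ∑ n : ↥N, (if ζb = cjI cfg n ζb then (1 : ℂ) else 0) := by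
  rw [vv_gram]
  have hC : (Nat.card C : ℂ) ≠ 0 := by
    rw [Nat.cast_ne_zero]
    exact Nat.card_pos.ne'
  have e2 : ∀ n : ↥N, (if fam cfg ζb φ.1 = cjI cfg n ζb then (1 : ℂ) else 0) = 0 := by
    intro n
    rw [if_neg]
    intro h
    apply fam_not_ptriv cfg ζb hb φ
    rw [h]
    exact ptriv_cjI_of cfg n ζb hb
  have e3 : ∀ n : ↥N, (if ζb = cjI cfg n (fam cfg ζb φ'.1) then (1 : ℂ) else 0) = 0 := by
    intro n
    rw [if_neg]
    intro h
    apply fam_not_ptriv cfg ζb hb φ'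
    rw [← ptriv_cjI cfg n, ← h]
    exact hb
  simp only [e2, e3, sub_zero]
  rw [Finset.sum_add_distrib, mul_add, sum_ite_conj cfg _ _ (fam_not_ptriv cfg ζb hb φ')]
  congr 1
  unfold Rel
  split_ifs
  · rw [inv_mul_cancel₀ hC]
  · rw [mul_zero]

theorem ptriv_principal : PTriv P (principalChar ↥C) := fun _ _ => rfl

theorem cjI_principal (n : ↥N) : cjI cfg n (principalChar ↥C) = principalChar ↥C := by
  apply Subtype.ext
  funext c
  rfl

open Classical in
/-- the multiplicity vectors of a family against the multiplicities of the principal character -/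
theorem vv_a1 (ζb : IrrCharacter ↥C) (hb : PTriv P ζb) (φ φ' : Par P C) :
    ∑ θ : IrrCharacter G, vv cfg ζb φ.1 θ * (mult θ (principalChar ↥C) : ℤ) =
      ∑ θ : IrrCharacter G, vv cfg ζb φ'.1 θ * (mult θ (principalChar ↥C) : ℤ) := by
  have key : ∀ ψ : Par P C,
      ((∑ θ : IrrCharacter G, vv cfg ζb ψ.1 θ * (mult θ (principalChar ↥C) : ℤ) : ℤ) : ℂ) =
        (Nat.card C : ℂ)⁻¹ * ∑ _n : ↥N, (-(if ζb = principalChar ↥C then (1 : ℂ) else 0)) := by
    intro ψ
    have h := gram_TI C N (fun c : ↥C => p ∣ orderOf (c : G)) (hTI cfg) (alp cfg ζb ψ.1)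
      (principalChar ↥C : ↥C → ℂ) (alp_supp cfg ζb ψ.1)
    have e1 : ∀ θ : IrrCharacter G,
        classInner (alp cfg ζb ψ.1) (fun c : ↥C => (θ : G → ℂ) c) *
          conj (classInner (principalChar ↥C : ↥C → ℂ) (fun c : ↥C => (θ : G → ℂ) c)) =
        ((vv cfg ζb ψ.1 θ * (mult θ (principalChar ↥C) : ℤ) : ℤ) : ℂ) := by
      intro θ
      rw [inner_alp, mult_spec, Complex.conj_natCast]
      push_cast
      ring
    rw [Finset.sum_congr rfl (fun θ _ => e1 θ)] at h
    rw [Int.cast_sum, h]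
    congr 1
    refine Finset.sum_congr rfl fun n _ => ?_
    rw [cj_eq_cjI cfg, cjI_principal]
    unfold alp
    rw [classInner_sub_left, irr_orthogonality', irr_orthogonality', if_neg, zero_sub]
    intro h
    apply fam_not_ptriv cfg ζb hb ψ
    rw [h]
    exact ptriv_principal
  have := (key φ).trans (key φ').symm
  exact_mod_cast this

/-- a sum against a vector shifted at one place -/
theorem sum_shift (c f : IrrCharacter G → ℤ) (x : IrrCharacter G) (δ : ℤ) :
    ∑ θ : IrrCharacter G, (c θ + if θ = x then δ else 0) * f θ =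
      ∑ θ : IrrCharacter G, c θ * f θ + δ * f x := by
  classical
  have e : ∀ θ : IrrCharacter G, (c θ + if θ = x then δ else 0) * f θ =
      c θ * f θ + (if θ = x then δ * f θ else 0) := by
    intro θ
    split_ifs <;> ring
  rw [Finset.sum_congr rfl (fun θ _ => e θ), Finset.sum_add_distrib,
    Finset.sum_ite_eq' Finset.univ x, if_pos (Finset.mem_univ _)]

open Classical in
/-- **The exceptional characters** of a family with at least two classes. -/
theorem exc (ζb : IrrCharacter ↥C) (hb : PTriv P ζb) (φ₁ φ₂ : Par P C)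
    (h12 : ¬ Rel cfg ζb φ₁ φ₂) :
    ∃ (δ : ℤ) (c : IrrCharacter G → ℤ) (Λ : Par P C → IrrCharacter G) (d' m : ℤ),
      (δ = 1 ∨ δ = -1) ∧ (∀ φ φ', Λ φ = Λ φ' ↔ Rel cfg ζb φ φ') ∧
      (∀ φ θ, vv cfg ζb φ.1 θ = c θ + if θ = Λ φ then δ else 0) ∧ (∀ φ, c (Λ φ) = d') ∧
      ((m : ℂ) = (Nat.card C : ℂ)⁻¹ * ∑ n : ↥N, (if ζb = cjI cfg n ζb then (1 : ℂ) else 0)) ∧
      (∑ θ, c θ ^ 2 + 2 * δ * d' = m) ∧
      (∀ φ, ∑ θ, c θ * (charDegree (θ : G → ℂ) : ℤ) +
        δ * (charDegree (Λ φ : G → ℂ) : ℤ) = 0) ∧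
      (∀ φ φ', mult (Λ φ) (principalChar ↥C) = mult (Λ φ') (principalChar ↥C)) := by
  set M : ℂ := (Nat.card C : ℂ)⁻¹ * ∑ n : ↥N, (if ζb = cjI cfg n ζb then (1 : ℂ) else 0) with hM
  set m : ℤ := ∑ θ : IrrCharacter G, vv cfg ζb φ₁.1 θ * vv cfg ζb φ₁.1 θ - 1 with hmdef
  have hm : (m : ℂ) = M := by
    have h := gram_same cfg ζb hb φ₁ φ₁
    rw [if_pos (rel_refl cfg ζb φ₁)] at h
    rw [hmdef]
    push_cast
    rw [h]
    ring
  have hgram : ∀ φ φ' : Par P C, ∑ θ ∈ (Finset.univ : Finset (IrrCharacter G)),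
      vv cfg ζb φ.1 θ * vv cfg ζb φ'.1 θ = m + (if Rel cfg ζb φ φ' then 1 else 0) := by
    intro φ φ'
    have h := gram_same cfg ζb hb φ φ'
    apply Int.cast_injective (α := ℂ)
    push_cast
    rw [h, hm]
    split_ifs <;> ring
  have hdeg : ∀ φ φ' : Par P C, ∑ θ ∈ (Finset.univ : Finset (IrrCharacter G)),
      (charDegree (θ : G → ℂ) : ℤ) * vv cfg ζb φ.1 θ =
      ∑ θ ∈ (Finset.univ : Finset (IrrCharacter G)),
        (charDegree (θ : G → ℂ) : ℤ) * vv cfg ζb φ'.1 θ := by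
    intro φ φ'
    have e : ∀ ψ : Par P C, ∑ θ ∈ (Finset.univ : Finset (IrrCharacter G)),
        (charDegree (θ : G → ℂ) : ℤ) * vv cfg ζb ψ.1 θ = 0 := by
      intro ψ
      rw [← vv_deg cfg ζb ψ.1]
      exact Finset.sum_congr rfl fun θ _ => mul_comm _ _
    rw [e, e]
  obtain ⟨δ, c, Λ, d', hδ, -, hΛ, hv, hd'⟩ := Cfsg.Agent.Helper7.Frob.lattice_core
    (Finset.univ : Finset (IrrCharacter G)) (fun (φ : Par P C) θ => vv cfg ζb φ.1 θ)
    (Rel cfg ζb) (rel_refl cfg ζb) m hgram (fun θ => (charDegree (θ : G → ℂ) : ℤ))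
    (fun θ _ => by exact_mod_cast charDegree_pos θ.2) hdeg φ₁ φ₂ h12
  have hv' : ∀ (φ : Par P C) (θ : IrrCharacter G),
      vv cfg ζb φ.1 θ = c θ + if θ = Λ φ then δ else 0 := fun φ θ => hv φ θ (Finset.mem_univ _)
  have hδ2 : δ * δ = 1 := by
    rcases hδ with h | h <;> rw [h] <;> norm_num
  refine ⟨δ, c, Λ, d', m, hδ, hΛ, hv', hd', hm, ?_, ?_, ?_⟩
  · have h := hgram φ₁ φ₁
    rw [if_pos (rel_refl cfg ζb φ₁)] at h
    have e : ∀ θ : IrrCharacter G, vv cfg ζb φ₁.1 θ * vv cfg ζb φ₁.1 θ =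
        (c θ + if θ = Λ φ₁ then δ else 0) * (c θ + if θ = Λ φ₁ then δ else 0) := by
      intro θ
      rw [hv']
    rw [Finset.sum_congr rfl (fun θ _ => e θ), sum_shift] at h
    have e2 : ∀ θ : IrrCharacter G, c θ * (c θ + if θ = Λ φ₁ then δ else 0) =
        (c θ + if θ = Λ φ₁ then δ else 0) * c θ := fun θ => mul_comm _ _
    rw [Finset.sum_congr rfl (fun θ _ => e2 θ), sum_shift, if_pos rfl, hd' φ₁] at h
    have e3 : ∑ θ : IrrCharacter G, c θ ^ 2 = ∑ θ : IrrCharacter G, c θ * c θ :=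
      Finset.sum_congr rfl fun θ _ => sq _
    rw [e3]
    linarith
  · intro φ
    have h := vv_deg cfg ζb φ.1
    have e : ∀ θ : IrrCharacter G, vv cfg ζb φ.1 θ * (charDegree (θ : G → ℂ) : ℤ) =
        (c θ + if θ = Λ φ then δ else 0) * (charDegree (θ : G → ℂ) : ℤ) := by
      intro θ
      rw [hv']
    rw [Finset.sum_congr rfl (fun θ _ => e θ), sum_shift] at h
    exact h
  · intro φ φ'
    have h := vv_a1 cfg ζb hb φ φ'
    have e : ∀ (ψ : Par P C) (θ : IrrCharacter G),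
        vv cfg ζb ψ.1 θ * (mult θ (principalChar ↥C) : ℤ) =
        (c θ + if θ = Λ ψ then δ else 0) * (mult θ (principalChar ↥C) : ℤ) := by
      intro ψ θ
      rw [hv']
    rw [Finset.sum_congr rfl (fun θ _ => e φ θ), Finset.sum_congr rfl (fun θ _ => e φ' θ),
      sum_shift, sum_shift] at h
    have h2 : δ * (mult (Λ φ) (principalChar ↥C) : ℤ) =
        δ * (mult (Λ φ') (principalChar ↥C) : ℤ) := by linarith
    have h3 : (mult (Λ φ) (principalChar ↥C) : ℤ) = (mult (Λ φ') (principalChar ↥C) : ℤ) := by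
      have := congrArg (fun t => δ * t) h2
      simp only [← mul_assoc, hδ2, one_mul] at this
      exact this
    exact_mod_cast h3

end Exc

end Cfsg.Agent.Helper7.BL
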