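import Mathlib

/-!
# The counting argument with the exceptional characters (helper7's library)

Pure combinatorics of integer vectors indexed by a finite type.
-/

set_option autoImplicit false

namespace Cfsg.Agent.Helper7.BL

section Count

variable {ι κ : Type*} [Fintype ι] [DecidableEq ι] [Fintype κ] [DecidableEq κ]

/-- a map with small fibres has a large image -/
theorem image_card_gt (Λ : κ → ι) (e q : ℕ)
    (hfib : ∀ φ, (Finset.univ.filter (fun φ' => Λ φ' = Λ φ)).card ≤ e)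
    (hcard : Fintype.card κ + 1 = q) (heq : e * e + 1 < q) :
    e + 1 ≤ (Finset.univ.image Λ).card := by
  have h := Finset.card_le_mul_card_image (f := Λ) (Finset.univ : Finset κ) e (by
    intro a ha
    obtain ⟨φ, -, rfl⟩ := Finset.mem_image.1 ha
    exact hfib φ)
  rw [Finset.card_univ] at h
  by_contra hlt
  push_neg at hlt
  have h2 : (Finset.univ.image Λ).card ≤ e := by omega
  have h3 : e * (Finset.univ.image Λ).card ≤ e * e := Nat.mul_le_mul_left e h2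
  omega

/-- there is a member of the image which avoids a given point -/
theorem exists_ne_of_image (Λ : κ → ι) (h2 : 2 ≤ (Finset.univ.image Λ).card) (x : ι) :
    ∃ φ, Λ φ ≠ x := by
  obtain ⟨a, ha, b, hb, hab⟩ := Finset.one_lt_card.1 (by omega : 1 < (Finset.univ.image Λ).card)
  obtain ⟨φ, -, rfl⟩ := Finset.mem_image.1 ha
  obtain ⟨ψ, -, rfl⟩ := Finset.mem_image.1 hb
  by_cases h : Λ φ = x
  · exact ⟨ψ, fun h' => hab (h.trans h'.symm)⟩
  · exact ⟨φ, h⟩

/-- **The first family.** An irreducible character of small degree which contains the principal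
character of `C` is not exceptional for the first family and does not contain its members. -/
theorem count_one (deg a₁ : ι → ℤ) (A₁ : κ → ι → ℤ) (one : ι) (e q : ℕ)
    (hdeg : ∀ θ, 0 < deg θ) (hdeg1 : deg one = 1)
    (hA : ∀ φ θ, 0 ≤ A₁ φ θ) (ha1 : a₁ one = 1) (hA1 : ∀ φ, A₁ φ one = 0)
    (δ : ℤ) (c : ι → ℤ) (Λ : κ → ι) (d : ℤ) (hδ : δ = 1 ∨ δ = -1)
    (h1a : ∀ φ θ, A₁ φ θ - a₁ θ = c θ + if θ = Λ φ then δ else 0)
    (h1b : ∀ φ, c (Λ φ) = d)
    (h1c : ∑ θ, c θ ^ 2 + 2 * δ * d = e)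
    (h1d : ∀ φ, ∑ θ, c θ * deg θ + δ * deg (Λ φ) = 0)
    (hfib : ∀ φ, (Finset.univ.filter (fun φ' => Λ φ' = Λ φ)).card ≤ e)
    (hcard : Fintype.card κ + 1 = q)
    (h1f : ∀ θ, a₁ θ + ∑ φ, A₁ φ θ ≤ deg θ)
    (he : 1 ≤ e) (heq : e * e + 1 < q)
    (θ : ι) (hθ : deg θ + e + 1 < q) (haθ : 1 ≤ a₁ θ) :
    (∀ φ, Λ φ ≠ θ) ∧ c θ = - a₁ θ ∧ ∀ φ, A₁ φ θ = 0 := by
  have ht := image_card_gt Λ e q hfib hcard heq
  set S := Finset.univ.image Λ with hS
  have ht2 : 2 ≤ S.card := by omega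
  have hcS : ∀ θ' ∈ S, c θ' = d := by
    intro θ' hθ'
    obtain ⟨φ, -, rfl⟩ := Finset.mem_image.1 hθ'
    exact h1b φ
  -- the principal character
  have hone : c one = -1 ∧ one ∉ S := by
    obtain ⟨φ, hφ⟩ := exists_ne_of_image Λ ht2 one
    have h := h1a φ one
    rw [hA1, ha1, if_neg (fun h => hφ h.symm), add_zero] at h
    refine ⟨by linarith, ?_⟩
    intro hmem
    obtain ⟨ψ, -, hψ⟩ := Finset.mem_image.1 hmem
    have h' := h1a ψ one
    rw [hA1, ha1, if_pos hψ.symm] at h'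
    rcases hδ with hd | hd <;> rw [hd] at h' <;> omega
  obtain ⟨hc1, hone1⟩ := hone
  -- the character is not exceptional
  have hnot : ∀ φ, Λ φ ≠ θ := by
    intro φ₁ hφ₁
    have hcθ : c θ = d := by rw [← hφ₁]; exact h1b φ₁
    -- the multiplicities of the members of the family
    have hAφ : ∀ φ, A₁ φ θ = a₁ θ + d + if θ = Λ φ then δ else 0 := by
      intro φ
      have := h1a φ θ
      rw [hcθ] at this
      linarith
    obtain ⟨φ₂, hφ₂⟩ := exists_ne_of_image Λ ht2 θ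
    have hk0 : 0 ≤ a₁ θ + d := by
      have := hA φ₂ θ
      rw [hAφ, if_neg (fun h => hφ₂ h.symm), add_zero] at this
      exact this
    have hk : a₁ θ + d = 0 := by
      by_contra hne
      have hk1 : 1 ≤ a₁ θ + d := by omega
      -- the degree is too large
      have hlow : ∀ φ, (if Λ φ = θ then (0 : ℤ) else 1) ≤ A₁ φ θ := by
        intro φ
        split_ifs with h
        · exact hA φ θ
        · rw [hAφ, if_neg (fun h' => h h'.symm)]
          linarith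
      have hsum : ∑ φ : κ, (if Λ φ = θ then (0 : ℤ) else 1) ≤ ∑ φ, A₁ φ θ :=
        Finset.sum_le_sum fun φ _ => hlow φ
      have hcount : ∑ φ : κ, (if Λ φ = θ then (0 : ℤ) else 1) =
          (Fintype.card κ : ℤ) - (Finset.univ.filter (fun φ' => Λ φ' = Λ φ₁)).card := by
        have e1 : ∀ φ : κ, (if Λ φ = θ then (0 : ℤ) else 1) =
            1 - (if Λ φ = Λ φ₁ then 1 else 0) := by
          intro φ
          rw [hφ₁]
          split_ifs <;> ring
        rw [Finset.sum_congr rfl (fun φ _ => e1 φ), Finset.sum_sub_distrib, Finset.sum_boole]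
        simp
      have hf := hfib φ₁
      have h1 := h1f θ
      have : ((Finset.univ.filter (fun φ' => Λ φ' = Λ φ₁)).card : ℤ) ≤ e := by exact_mod_cast hf
      have hq : (Fintype.card κ : ℤ) + 1 = q := by exact_mod_cast hcard
      linarith
    have hd : d = - a₁ θ := by linarith
    have hδ1 : δ = 1 := by
      have := hA φ₁ θ
      rw [hAφ, hk, if_pos hφ₁.symm, zero_add] at this
      rcases hδ with h | h
      · exact h
      · rw [h] at this; omega
    -- the sums over the complement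
    set R := Finset.univ \ insert one S with hR
    have hsplit : ∀ f : ι → ℤ, ∑ θ', f θ' = ∑ θ' ∈ R, f θ' + (f one + ∑ θ' ∈ S, f θ') := by
      intro f
      rw [← Finset.sum_insert hone1, hR, Finset.sum_sdiff (Finset.subset_univ _)]
    have hc2 := hsplit (fun θ' => c θ' ^ 2)
    have hcd := hsplit (fun θ' => c θ' * deg θ')
    have hS2 : ∑ θ' ∈ S, c θ' ^ 2 = S.card * d ^ 2 := by
      rw [Finset.sum_congr rfl (fun θ' hθ' => by rw [hcS θ' hθ']), Finset.sum_const, nsmul_eq_mul]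
    have hdegS : ∀ θ' ∈ S, deg θ' = deg θ := by
      intro θ' hθ'
      obtain ⟨φ, -, rfl⟩ := Finset.mem_image.1 hθ'
      have e1 := h1d φ
      have e2 := h1d φ₁
      rw [hφ₁] at e2
      rw [hδ1] at e1 e2
      linarith
    have hSd : ∑ θ' ∈ S, c θ' * deg θ' = S.card * (d * deg θ) := by
      rw [Finset.sum_congr rfl (fun θ' hθ' => by rw [hcS θ' hθ', hdegS θ' hθ']),
        Finset.sum_const, nsmul_eq_mul]
    rw [hS2, hc1] at hc2
    rw [hSd, hc1, hdeg1] at hcd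
    have htZ : (e : ℤ) + 1 ≤ (S.card : ℤ) := by exact_mod_cast ht
    have heZ : (1 : ℤ) ≤ e := by exact_mod_cast he
    -- the complement carries nothing
    have hR0 : ∑ θ' ∈ R, c θ' ^ 2 ≤ 0 := by
      have h1 : ∑ θ' ∈ R, c θ' ^ 2 = e + 2 * a₁ θ - 1 - S.card * (a₁ θ) ^ 2 := by
        rw [hd, hδ1] at h1c
        rw [hd] at hc2
        have : (-a₁ θ) ^ 2 = a₁ θ ^ 2 := by ring
        rw [this] at hc2
        linarith
      rw [h1]
      have h2 : ((e : ℤ) + 1) * (a₁ θ) ^ 2 ≤ S.card * (a₁ θ) ^ 2 :=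
        mul_le_mul_of_nonneg_right htZ (sq_nonneg _)
      have h3 : a₁ θ ≤ (a₁ θ) ^ 2 := by nlinarith
      have h4 : ((e : ℤ) + 1) * a₁ θ ≤ ((e : ℤ) + 1) * (a₁ θ) ^ 2 :=
        mul_le_mul_of_nonneg_left h3 (by linarith)
      have h5 : 0 ≤ ((e : ℤ) - 1) * (a₁ θ - 1) := mul_nonneg (by linarith) (by linarith)
      nlinarith
    have hRz : ∀ θ' ∈ R, c θ' ^ 2 = 0 :=
      (Finset.sum_eq_zero_iff_of_nonneg (fun θ' _ => sq_nonneg (c θ'))).1
        (le_antisymm hR0 (Finset.sum_nonneg fun θ' _ => sq_nonneg (c θ')))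
    have hRd : ∑ θ' ∈ R, c θ' * deg θ' = 0 := by
      apply Finset.sum_eq_zero
      intro θ' hθ'
      have := hRz θ' hθ'
      rw [pow_eq_zero_iff (by norm_num)] at this
      rw [this, zero_mul]
    have hfin := h1d φ₁
    rw [hφ₁, hδ1, hcd, hRd, hd] at hfin
    have hD := hdeg θ
    have : (S.card : ℤ) * (a₁ θ * deg θ) ≥ 2 * deg θ := by
      have h1 : (2 : ℤ) ≤ S.card := by linarith
      have h2 : deg θ ≤ a₁ θ * deg θ := by nlinarith
      nlinarith
    nlinarith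
  refine ⟨hnot, ?_⟩
  have hAφ : ∀ φ, A₁ φ θ = a₁ θ + c θ := by
    intro φ
    have := h1a φ θ
    rw [if_neg (fun h => hnot φ h.symm), add_zero] at this
    linarith
  have hcard0 : 0 < Fintype.card κ := by
    rw [Fintype.card_pos_iff]
    obtain ⟨φ, -⟩ := exists_ne_of_image Λ ht2 θ
    exact ⟨φ⟩
  obtain ⟨φ₀⟩ := Fintype.card_pos_iff.1 hcard0
  have hk0 : 0 ≤ a₁ θ + c θ := by
    rw [← hAφ φ₀]
    exact hA φ₀ θ
  have hk : a₁ θ + c θ = 0 := by
    by_contra hne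
    have hk1 : 1 ≤ a₁ θ + c θ := by omega
    have h1 := h1f θ
    have hsum : ∑ φ : κ, A₁ φ θ = Fintype.card κ * (a₁ θ + c θ) := by
      rw [Finset.sum_congr rfl (fun φ _ => hAφ φ), Finset.sum_const, Finset.card_univ,
        nsmul_eq_mul]
    rw [hsum] at h1
    have hq : (Fintype.card κ : ℤ) + 1 = q := by exact_mod_cast hcard
    have hc0 : (0 : ℤ) ≤ Fintype.card κ := by positivity
    have : (Fintype.card κ : ℤ) ≤ Fintype.card κ * (a₁ θ + c θ) := by nlinarith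
    have heZ : (0 : ℤ) ≤ e := by positivity
    linarith
  refine ⟨by linarith, ?_⟩
  intro φ
  rw [hAφ, hk]

/-- **A second family.** An irreducible character of small degree which contains the principal
character of `C` does not contain the members of any family. -/
theorem count_b (deg a₁ : ι → ℤ) (A₁ : κ → ι → ℤ) (one : ι) (e q : ℕ)
    (hdeg : ∀ θ, 0 < deg θ) (hdeg1 : deg one = 1)
    (hA : ∀ φ θ, 0 ≤ A₁ φ θ) (ha1 : a₁ one = 1) (hA1 : ∀ φ, A₁ φ one = 0)
    (δ : ℤ) (c : ι → ℤ) (Λ : κ → ι) (d : ℤ) (hδ : δ = 1 ∨ δ = -1)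
    (h1a : ∀ φ θ, A₁ φ θ - a₁ θ = c θ + if θ = Λ φ then δ else 0)
    (h1b : ∀ φ, c (Λ φ) = d)
    (h1c : ∑ θ, c θ ^ 2 + 2 * δ * d = e)
    (h1d : ∀ φ, ∑ θ, c θ * deg θ + δ * deg (Λ φ) = 0)
    (hfib : ∀ φ, (Finset.univ.filter (fun φ' => Λ φ' = Λ φ)).card ≤ e)
    (hcard : Fintype.card κ + 1 = q)
    (h1f : ∀ θ, a₁ θ + ∑ φ, A₁ φ θ ≤ deg θ)
    (he : 1 ≤ e) (heq : e * e + 1 < q)
    (ab : ι → ℤ) (Ab : κ → ι → ℤ) (hAb : ∀ φ θ, 0 ≤ Ab φ θ)
    (δb : ℤ) (cb : ι → ℤ) (Λb : κ → ι) (hδb : δb = 1 ∨ δb = -1)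
    (hba : ∀ φ θ, Ab φ θ - ab θ = cb θ + if θ = Λb φ then δb else 0)
    (hbd : ∀ φ, ∑ θ, cb θ * deg θ + δb * deg (Λb φ) = 0)
    (hbfib : ∀ φ, (Finset.univ.filter (fun φ' => Λb φ' = Λb φ)).card ≤ e)
    (hbf : ∀ θ, ∑ φ, Ab φ θ ≤ deg θ)
    (hbh : ∀ φ φ', a₁ (Λb φ) = a₁ (Λb φ'))
    (θ : ι) (hθ : deg θ + e + 1 < q) (haθ : 1 ≤ a₁ θ) : ∀ φ, Ab φ θ = 0 := by
  intro φ₀
  by_contra hne
  have hpos : 1 ≤ Ab φ₀ θ := by
    have := hAb φ₀ θ
    omega
  have hq : (Fintype.card κ : ℤ) + 1 = q := by exact_mod_cast hcard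
  have heZ : (1 : ℤ) ≤ e := by exact_mod_cast he
  by_cases hex : ∃ φ₁, Λb φ₁ = θ
  · obtain ⟨φ₁, hφ₁⟩ := hex
    have hδb2 : δb * δb = 1 := by
      rcases hδb with h | h <;> rw [h] <;> norm_num
    have hdegb : ∀ φ, deg (Λb φ) = deg θ := by
      intro φ
      have e1 := hbd φ
      have e2 := hbd φ₁
      rw [hφ₁] at e2
      have e3 : δb * deg (Λb φ) = δb * deg θ := by linarith
      have := congrArg (fun t => δb * t) e3
      simp only [← mul_assoc, hδb2, one_mul] at this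
      exact this
    have hab : ∀ φ, a₁ (Λb φ) = a₁ θ := by
      intro φ
      rw [hbh φ φ₁, hφ₁]
    have hone : ∀ φ, (∀ ψ, Λ ψ ≠ Λb φ) ∧ c (Λb φ) = - a₁ θ := by
      intro φ
      have h := count_one deg a₁ A₁ one e q hdeg hdeg1 hA ha1 hA1 δ c Λ d hδ h1a h1b h1c h1d
        hfib hcard h1f he heq (Λb φ) (by rw [hdegb]; exact hθ) (by rw [hab]; exact haθ)
      exact ⟨h.1, by rw [h.2.1, hab]⟩
    have ht := image_card_gt Λ e q hfib hcard heq
    have htb := image_card_gt Λb e q hbfib hcard heq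
    set S := Finset.univ.image Λ with hS
    set Sb := Finset.univ.image Λb with hSb
    have hdisj : Disjoint S Sb := by
      rw [Finset.disjoint_left]
      intro x hx hxb
      obtain ⟨ψ, -, rfl⟩ := Finset.mem_image.1 hx
      obtain ⟨φ, -, hφ⟩ := Finset.mem_image.1 hxb
      exact (hone φ).1 ψ hφ.symm
    have hS2 : ∑ θ' ∈ S, c θ' ^ 2 = S.card * d ^ 2 := by
      have : ∀ θ' ∈ S, c θ' ^ 2 = d ^ 2 := by
        intro θ' hθ'
        obtain ⟨ψ, -, rfl⟩ := Finset.mem_image.1 hθ'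
        rw [h1b]
      rw [Finset.sum_congr rfl this, Finset.sum_const, nsmul_eq_mul]
    have hSb2 : ∑ θ' ∈ Sb, c θ' ^ 2 = Sb.card * (a₁ θ) ^ 2 := by
      have : ∀ θ' ∈ Sb, c θ' ^ 2 = (a₁ θ) ^ 2 := by
        intro θ' hθ'
        obtain ⟨φ, -, rfl⟩ := Finset.mem_image.1 hθ'
        rw [(hone φ).2]
        ring
      rw [Finset.sum_congr rfl this, Finset.sum_const, nsmul_eq_mul]
    have hle : ∑ θ' ∈ S ∪ Sb, c θ' ^ 2 ≤ ∑ θ', c θ' ^ 2 :=
      Finset.sum_le_sum_of_subset_of_nonneg (Finset.subset_univ _) (fun θ' _ _ => sq_nonneg _)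
    rw [Finset.sum_union hdisj, hS2, hSb2] at hle
    have htZ : (e : ℤ) + 1 ≤ (S.card : ℤ) := by exact_mod_cast ht
    have htbZ : (e : ℤ) + 1 ≤ (Sb.card : ℤ) := by exact_mod_cast htb
    have h1 : ((e : ℤ) + 1) * d ^ 2 ≤ S.card * d ^ 2 :=
      mul_le_mul_of_nonneg_right htZ (sq_nonneg _)
    have h2 : ((e : ℤ) + 1) * (a₁ θ) ^ 2 ≤ Sb.card * (a₁ θ) ^ 2 :=
      mul_le_mul_of_nonneg_right htbZ (sq_nonneg _)
    have h3 : 1 ≤ (a₁ θ) ^ 2 := by nlinarith
    have h4 : ((e : ℤ) + 1) * 1 ≤ ((e : ℤ) + 1) * (a₁ θ) ^ 2 :=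
      mul_le_mul_of_nonneg_left h3 (by linarith)
    have h5 : 2 * d ^ 2 ≤ ((e : ℤ) + 1) * d ^ 2 :=
      mul_le_mul_of_nonneg_right (by linarith) (sq_nonneg _)
    rcases hδ with hd | hd <;> rw [hd] at h1c
    · nlinarith [sq_nonneg d, sq_nonneg (d + 1)]
    · nlinarith [sq_nonneg d, sq_nonneg (d - 1)]
  · push_neg at hex
    have hAφ : ∀ φ, Ab φ θ = Ab φ₀ θ := by
      intro φ
      have e1 := hba φ θ
      have e2 := hba φ₀ θ
      rw [if_neg (fun h => hex φ h.symm)] at e1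
      rw [if_neg (fun h => hex φ₀ h.symm)] at e2
      linarith
    have h1 := hbf θ
    have hsum : ∑ φ : κ, Ab φ θ = Fintype.card κ * Ab φ₀ θ := by
      rw [Finset.sum_congr rfl (fun φ _ => hAφ φ), Finset.sum_const, Finset.card_univ,
        nsmul_eq_mul]
    rw [hsum] at h1
    have hc0 : (0 : ℤ) ≤ Fintype.card κ := by positivity
    have : (Fintype.card κ : ℤ) ≤ Fintype.card κ * Ab φ₀ θ := by nlinarith
    linarith

end Count

end Cfsg.Agent.Helper7.BL
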