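import Mathlib
import Cfsg.Agent.Lib.Helper7.BL8
import Cfsg.Agent.Lib.Helper7.BL9
import Cfsg.Agent.Lib.Helper7.Frob6
import Cfsg.Agent.Lib.Helper24.CharConjOrbits

/-!
# The members of the families in an irreducible character of small degree
(helper7's library)
-/

set_option autoImplicit false
set_option linter.unusedSectionVars false

namespace Cfsg.Agent.Helper7.BL

open Cfsg Cfsg.Agent.Helper24
open scoped ComplexConjugate

universe u

section Par

variable {G : Type u} [Group G] [Finite G] {p : ℕ} {P C N : Subgroup G} (cfg : Config p P C N)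

include cfg in
theorem comm_sub : ∀ a b : ↥(P.subgroupOf C), a * b = b * a := by
  intro a b
  apply Subtype.ext
  apply Subtype.ext
  exact cfg.central a a.1.2 b b.2

include cfg in
theorem finite_hom : Finite (↥(P.subgroupOf C) →* ℂˣ) := by
  classical
  haveI : Fintype ↥(P.subgroupOf C) := Fintype.ofFinite _
  letI : Fintype (IrrCharacter ↥(P.subgroupOf C)) := irrFintype
  exact Finite.of_equiv _ (Cfsg.Agent.Helper7.Frob.irrHomEquiv (comm_sub cfg))

include cfg in
theorem card_hom : Nat.card (↥(P.subgroupOf C) →* ℂˣ) = Nat.card P := by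
  classical
  haveI : Fintype ↥(P.subgroupOf C) := Fintype.ofFinite _
  letI : Fintype (IrrCharacter ↥(P.subgroupOf C)) := irrFintype
  rw [← Nat.card_congr (Cfsg.Agent.Helper7.Frob.irrHomEquiv (comm_sub cfg)),
    card_irr_of_comm (comm_sub cfg)]
  exact Nat.card_congr (Subgroup.subgroupOfEquivOfLe cfg.hPC).toEquiv

include cfg in
theorem card_par : Nat.card (Par P C) + 1 = Nat.card P := by
  classical
  haveI := finite_hom cfg
  rw [← card_hom cfg, ← Nat.card_congr (Equiv.optionSubtypeNe (1 : ↥(P.subgroupOf C) →* ℂˣ)),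
    Finite.card_option]

end Par

section Concrete

variable {G : Type u} [Group G] [Fintype G] {p : ℕ} {P C N : Subgroup G} [Fintype C]
  [Fintype N] [Fintype (IrrCharacter G)] [Fintype (IrrCharacter ↥C)] [Fintype (Par P C)]
  (cfg : Config p P C N)

open Classical in
theorem mult_principal (ζ : IrrCharacter ↥C) :
    mult (principalChar G) ζ = if ζ = principalChar ↥C then 1 else 0 := by
  have h := mult_spec (principalChar G) ζ
  have e : (fun c : ↥C => (principalChar G : G → ℂ) c) = (principalChar ↥C : ↥C → ℂ) := rfl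
  rw [e, irr_orthogonality'] at h
  split_ifs with hζ
  · rw [if_pos hζ] at h
    exact_mod_cast h.symm
  · rw [if_neg hζ] at h
    exact_mod_cast h.symm

open Classical in
/-- the classes of the conjugacy relation are small -/
theorem rel_class_card (ζb : IrrCharacter ↥C) (hb : PTriv P ζb) (e : ℕ)
    (he : Nat.card N = e * Nat.card C) (φ : Par P C) :
    (Finset.univ.filter (fun φ' => Rel cfg ζb φ' φ)).card ≤ e := by
  have hO := card_orbit_irr cfg (fam cfg ζb φ.1) (fam_not_ptriv cfg ζb hb φ)
  rw [he] at hO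
  have hC : 0 < Nat.card C := Nat.card_pos
  have hOe := Nat.eq_of_mul_eq_mul_right hC hO
  rw [← hOe]
  apply Finset.card_le_card_of_injOn (fun φ' => fam cfg ζb φ'.1)
  · intro φ' hφ'
    have hφ'' := (Finset.mem_filter.1 (Finset.mem_coe.1 hφ')).2
    obtain ⟨n, hn⟩ := hφ''
    exact Finset.mem_coe.2 (Finset.mem_image.2 ⟨n, Finset.mem_univ _, hn.symm⟩)
  · intro φ₁ _ φ₂ _ h
    exact Subtype.ext (fam_inj cfg ζb hb _ _ h)

open Classical in
/-- the degree of an irreducible character of the group bounds the multiplicities of the members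
of a family -/
theorem deg_ge (ζb : IrrCharacter ↥C) (hb : PTriv P ζb) (θ : IrrCharacter G) :
    mult θ ζb + ∑ φ : Par P C, mult θ (fam cfg ζb φ.1) ≤ charDegree (θ : G → ℂ) := by
  rw [degree_eq_sum (C := C) θ]
  set T : Finset (IrrCharacter ↥C) :=
    insert ζb (Finset.image (fun φ : Par P C => fam cfg ζb φ.1) Finset.univ) with hT
  have hnot : ζb ∉ Finset.image (fun φ : Par P C => fam cfg ζb φ.1) Finset.univ := by
    intro h
    obtain ⟨φ, -, hφ⟩ := Finset.mem_image.1 h
    apply fam_not_ptriv cfg ζb hb φ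
    rw [hφ]
    exact hb
  have h1 : ∑ ζ ∈ T, mult θ ζ = mult θ ζb + ∑ φ : Par P C, mult θ (fam cfg ζb φ.1) := by
    rw [hT, Finset.sum_insert hnot, Finset.sum_image]
    intro φ₁ _ φ₂ _ h
    exact Subtype.ext (fam_inj cfg ζb hb _ _ h)
  rw [← h1]
  calc ∑ ζ ∈ T, mult θ ζ ≤ ∑ ζ ∈ T, mult θ ζ * charDegree (ζ : ↥C → ℂ) := by
        apply Finset.sum_le_sum
        intro ζ _
        exact Nat.le_mul_of_pos_right _ (charDegree_pos ζ.2)
    _ ≤ ∑ ζ : IrrCharacter ↥C, mult θ ζ * charDegree (ζ : ↥C → ℂ) :=
        Finset.sum_le_sum_of_subset (Finset.subset_univ _)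

open Classical in
theorem sum_stab_principal :
    ∑ n : ↥N, (if principalChar ↥C = cjI cfg n (principalChar ↥C) then (1 : ℂ) else 0) =
      (Nat.card N : ℂ) := by
  have : ∀ n : ↥N,
      (if principalChar ↥C = cjI cfg n (principalChar ↥C) then (1 : ℂ) else 0) = 1 := by
    intro n
    rw [if_pos (cjI_principal cfg n).symm]
  rw [Finset.sum_congr rfl (fun n _ => this n), Finset.sum_const, Finset.card_univ,
    Nat.card_eq_fintype_card]
  simp

open Classical in
theorem exists_not_rel (ζb : IrrCharacter ↥C) (hb : PTriv P ζb) (e : ℕ)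
    (he : Nat.card N = e * Nat.card C) (hlt : e < Fintype.card (Par P C)) :
    ∃ φ₁ φ₂ : Par P C, ¬ Rel cfg ζb φ₁ φ₂ := by
  have hpos : 0 < Fintype.card (Par P C) := by omega
  obtain ⟨φ₂⟩ := Fintype.card_pos_iff.1 hpos
  have h := rel_class_card cfg ζb hb e he φ₂
  by_contra hall
  push_neg at hall
  have : Finset.univ.filter (fun φ' => Rel cfg ζb φ' φ₂) = Finset.univ := by
    ext φ'
    simp only [Finset.mem_filter, Finset.mem_univ, true_and, iff_true]
    exact hall φ' φ₂
  rw [this, Finset.card_univ] at h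
  omega

omit [Fintype N] [Fintype (Par P C)] [Fintype (IrrCharacter G)] [Fintype (IrrCharacter ↥C)] in
theorem charDegree_principal : charDegree (principalChar G : G → ℂ) = 1 := by
  have h := irr_one_eq_charDegree (principalChar G).2
  have e : (principalChar G : G → ℂ) 1 = 1 := rfl
  rw [e] at h
  exact_mod_cast h.symm

include cfg in
open Classical in
/-- **The members of the families in a character of small degree.** An irreducible character of
small degree of the group whose restriction to `C` contains the principal character has `P` in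
its kernel. -/
theorem stepC (e : ℕ) (he : Nat.card N = e * Nat.card C) (he1 : 1 ≤ e)
    (heq : e * e + 1 < Nat.card P) (θ : IrrCharacter G)
    (hθ : charDegree (θ : G → ℂ) + e + 1 < Nat.card P)
    (ha : 1 ≤ mult θ (principalChar ↥C)) :
    ∀ ζ : IrrCharacter ↥C, ¬ PTriv P ζ → mult θ ζ = 0 := by
  intro ζ hζ
  obtain ⟨ζb, hb, φ, rfl⟩ := exists_base cfg ζ
  have hφ : φ ≠ 1 := by
    intro h
    apply hζ
    rw [h, fam_one]
    exact hb
  have hcard : Fintype.card (Par P C) + 1 = Nat.card P := by
    rw [← Nat.card_eq_fintype_card]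
    exact card_par cfg
  have hlt : e < Fintype.card (Par P C) := by
    have : e ≤ e * e := Nat.le_mul_of_pos_left e he1
    omega
  have hC0 : (Nat.card C : ℂ) ≠ 0 := by
    rw [Nat.cast_ne_zero]
    exact Nat.card_pos.ne'
  -- the first family
  obtain ⟨φ₁, φ₂, h12⟩ := exists_not_rel cfg (principalChar ↥C) ptriv_principal e he hlt
  obtain ⟨δ, c, Λ, d, m, hδ, hΛ, hv, hd, hm, hnorm, hdeg, -⟩ :=
    exc cfg (principalChar ↥C) ptriv_principal φ₁ φ₂ h12
  have hme : m = e := by
    rw [sum_stab_principal cfg, he] at hm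
    have : (m : ℂ) = (e : ℂ) := by
      rw [hm]
      push_cast
      field_simp
    exact_mod_cast this
  -- the family of the character
  obtain ⟨ψ₁, ψ₂, hψ12⟩ := exists_not_rel cfg ζb hb e he hlt
  obtain ⟨δb, cb, Λb, db, mb, hδb, hΛb, hvb, -, -, -, hdegb, ha1b⟩ :=
    exc cfg ζb hb ψ₁ ψ₂ hψ12
  have key := count_b (ι := IrrCharacter G) (κ := Par P C)
    (fun θ => (charDegree (θ : G → ℂ) : ℤ)) (fun θ => (mult θ (principalChar ↥C) : ℤ))
    (fun φ θ => (mult θ (fam cfg (principalChar ↥C) φ.1) : ℤ)) (principalChar G) e (Nat.card P)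
    (fun θ => by exact_mod_cast charDegree_pos θ.2)
    (by rw [charDegree_principal]; rfl)
    (fun φ θ => Int.natCast_nonneg _)
    (by rw [mult_principal, if_pos rfl]; rfl)
    (by
      intro φ
      rw [mult_principal, if_neg]
      · rfl
      · intro h
        apply fam_not_ptriv cfg (principalChar ↥C) ptriv_principal φ
        rw [h]
        exact ptriv_principal)
    δ c Λ d hδ (fun φ θ => hv φ θ) hd (by rw [hnorm, hme]) hdeg
    (by
      intro φ
      have : Finset.univ.filter (fun φ' => Λ φ' = Λ φ) =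
          Finset.univ.filter (fun φ' => Rel cfg (principalChar ↥C) φ' φ) := by
        apply Finset.filter_congr
        intro φ' _
        exact hΛ φ' φ
      rw [this]
      exact rel_class_card cfg _ ptriv_principal e he φ)
    hcard
    (by
      intro θ
      have := deg_ge cfg (principalChar ↥C) ptriv_principal θ
      exact_mod_cast this)
    he1 heq
    (fun θ => (mult θ ζb : ℤ)) (fun φ θ => (mult θ (fam cfg ζb φ.1) : ℤ))
    (fun φ θ => Int.natCast_nonneg _)
    δb cb Λb hδb (fun φ θ => hvb φ θ) hdegb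
    (by
      intro φ
      have : Finset.univ.filter (fun φ' => Λb φ' = Λb φ) =
          Finset.univ.filter (fun φ' => Rel cfg ζb φ' φ) := by
        apply Finset.filter_congr
        intro φ' _
        exact hΛb φ' φ
      rw [this]
      exact rel_class_card cfg _ hb e he φ)
    (by
      intro θ
      have := deg_ge cfg ζb hb θ
      have h2 : ∑ φ : Par P C, mult θ (fam cfg ζb φ.1) ≤ charDegree (θ : G → ℂ) := by omega
      exact_mod_cast h2)
    (by
      intro φ φ'
      have := ha1b φ φ'
      exact_mod_cast this)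
    θ (by exact_mod_cast hθ) (by exact_mod_cast ha) ⟨φ, hφ⟩
  exact_mod_cast key

end Concrete

end Cfsg.Agent.Helper7.BL
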