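import Mathlib
import Cfsg.Agent.Lib.Helper7.BL8

/-!
# The norm of the restriction of an irreducible character of small degree to the centralizer
(helper7's library)
-/

set_option autoImplicit false
set_option linter.unusedSectionVars false

namespace Cfsg.Agent.Helper7.BL

open Cfsg Cfsg.Agent.Helper24
open scoped ComplexConjugate

universe u

theorem orderOf_conj' {G : Type u} [Group G] (x c : G) : orderOf (x⁻¹ * c * x) = orderOf c := by
  have h := orderOf_injective (MulAut.conj x⁻¹).toMonoidHom (MulAut.conj x⁻¹).injective c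
  simpa [MulAut.conj_apply] using h

section StepA

variable {G : Type u} [Group G] [Fintype G] {p : ℕ} {P C N : Subgroup G} [Fintype C]
  [Fintype N] [Fintype (IrrCharacter G)] [Fintype (IrrCharacter ↥C)] (cfg : Config p P C N)

open Classical in
/-- the restriction of a character to the singular elements of `C` -/
noncomputable def sng (p : ℕ) (C : Subgroup G) (χ : IrrCharacter G) : ↥C → ℂ :=
  fun c => if p ∣ orderOf (c : G) then (χ : G → ℂ) c else 0

open Classical in
theorem sng_apply (χ : IrrCharacter G) (c : ↥C) :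
    sng p C χ c = if p ∣ orderOf (c : G) then (χ : G → ℂ) c else 0 := rfl

include cfg in
theorem sng_inv (χ : IrrCharacter G) (n : ↥N) : cj C (n : G) (sng p C χ) = sng p C χ := by
  classical
  apply cj_of_invariant cfg
  intro c
  rw [sng_apply, sng_apply, cEquiv_coe, orderOf_conj']
  have h := isClassFunction_of_isIrrCharacter χ.2 (c : G) (n : G)⁻¹
  rw [inv_inv] at h
  rw [h]

/-- the norm of the restriction to the singular elements, as a real number -/
noncomputable def sR (p : ℕ) (C : Subgroup G) [Fintype C] (χ : IrrCharacter G) : ℝ :=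
  (Nat.card C : ℝ)⁻¹ * ∑ c : ↥C, Complex.normSq (sng p C χ c)

theorem sR_nonneg (χ : IrrCharacter G) : 0 ≤ sR p C χ := by
  unfold sR
  apply mul_nonneg
  · positivity
  · exact Finset.sum_nonneg fun c _ => Complex.normSq_nonneg _

theorem inner_sng_self (χ : IrrCharacter G) :
    classInner (sng p C χ) (sng p C χ) = ((sR p C χ : ℝ) : ℂ) := by
  unfold classInner sR
  push_cast
  congr 1
  refine Finset.sum_congr rfl fun c _ => ?_
  rw [Complex.mul_conj]

theorem inner_sng_res (χ : IrrCharacter G) :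
    classInner (sng p C χ) (fun c : ↥C => (χ : G → ℂ) c) = ((sR p C χ : ℝ) : ℂ) := by
  classical
  rw [← inner_sng_self]
  unfold classInner
  congr 1
  refine Finset.sum_congr rfl fun c _ => ?_
  rw [sng_apply]
  split_ifs
  · rfl
  · rw [zero_mul, zero_mul]

include cfg in
/-- the Gram formula for the restriction to the singular elements -/
theorem sum_normSq_sng (χ : IrrCharacter G) (e : ℕ) (he : Nat.card N = e * Nat.card C) :
    ∑ θ : IrrCharacter G,
      Complex.normSq (classInner (sng p C χ) (fun c : ↥C => (θ : G → ℂ) c)) =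
        e * sR p C χ := by
  classical
  have h := gram_TI C N (fun c : ↥C => p ∣ orderOf (c : G)) (hTI cfg) (sng p C χ) (sng p C χ)
    (by
      intro c hc
      rw [sng_apply, if_neg hc])
  have e1 : ∀ n : ↥N, classInner (sng p C χ) (cj C (n : G) (sng p C χ)) =
      ((sR p C χ : ℝ) : ℂ) := by
    intro n
    rw [sng_inv cfg, inner_sng_self]
  rw [Finset.sum_congr rfl (fun n _ => e1 n), Finset.sum_const, Finset.card_univ,
    ← Nat.card_eq_fintype_card, he] at h
  have e2 : ∀ θ : IrrCharacter G,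
      classInner (sng p C χ) (fun c : ↥C => (θ : G → ℂ) c) *
        conj (classInner (sng p C χ) (fun c : ↥C => (θ : G → ℂ) c)) =
      ((Complex.normSq (classInner (sng p C χ) (fun c : ↥C => (θ : G → ℂ) c)) : ℝ) : ℂ) :=
    fun θ => Complex.mul_conj _
  rw [Finset.sum_congr rfl (fun θ _ => e2 θ)] at h
  have hC0 : (Nat.card C : ℂ) ≠ 0 := by
    rw [Nat.cast_ne_zero]
    exact Nat.card_pos.ne'
  have h' : ((∑ θ : IrrCharacter G,
      Complex.normSq (classInner (sng p C χ) (fun c : ↥C => (θ : G → ℂ) c)) : ℝ) : ℂ) =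
      ((e * sR p C χ : ℝ) : ℂ) := by
    push_cast
    rw [h, nsmul_eq_mul]
    push_cast
    field_simp
  exact_mod_cast h'

include cfg in
/-- the norm of the restriction to the singular elements is at most the index -/
theorem sR_le (χ : IrrCharacter G) (e : ℕ) (he : Nat.card N = e * Nat.card C) :
    sR p C χ ≤ e := by
  have h := sum_normSq_sng cfg χ e he
  have h1 : Complex.normSq (classInner (sng p C χ) (fun c : ↥C => (χ : G → ℂ) c)) ≤
      ∑ θ : IrrCharacter G,
        Complex.normSq (classInner (sng p C χ) (fun c : ↥C => (θ : G → ℂ) c)) :=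
    Finset.single_le_sum (f := fun θ : IrrCharacter G =>
      Complex.normSq (classInner (sng p C χ) (fun c : ↥C => (θ : G → ℂ) c)))
      (fun θ _ => Complex.normSq_nonneg _) (Finset.mem_univ χ)
  rw [h, inner_sng_res, Complex.normSq_ofReal] at h1
  have h0 := sR_nonneg (p := p) (C := C) χ
  by_contra hlt
  push_neg at hlt
  nlinarith

/-- Parseval for the restriction of an irreducible character to `C` -/
theorem inner_res_self (χ : IrrCharacter G) :
    classInner (fun c : ↥C => (χ : G → ℂ) c) (fun c : ↥C => (χ : G → ℂ) c) =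
      ((∑ ζ : IrrCharacter ↥C, mult χ ζ ^ 2 : ℕ) : ℂ) := by
  rw [classInner_eq_sum_mul (isClassFunction_of_isCharacter (isCharacter_res (C := C) χ))]
  push_cast
  refine Finset.sum_congr rfl fun ζ _ => ?_
  rw [mult_spec', Complex.conj_natCast]
  ring

open Classical in
/-- the norm of the restriction to the regular elements, as a real number -/
noncomputable def rR (p : ℕ) (C : Subgroup G) [Fintype C] (χ : IrrCharacter G) : ℝ :=
  (Nat.card C : ℝ)⁻¹ * ∑ c : ↥C,
    (if p ∣ orderOf (c : G) then (0 : ℝ) else Complex.normSq ((χ : G → ℂ) c))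

theorem inner_res_split (χ : IrrCharacter G) :
    classInner (fun c : ↥C => (χ : G → ℂ) c) (fun c : ↥C => (χ : G → ℂ) c) =
      ((sR p C χ + rR p C χ : ℝ) : ℂ) := by
  classical
  unfold classInner sR rR
  rw [← mul_add, ← Finset.sum_add_distrib]
  push_cast
  congr 1
  refine Finset.sum_congr rfl fun c _ => ?_
  rw [Complex.mul_conj, sng_apply]
  split_ifs
  · simp
  · simp

include cfg in
theorem rR_lt_one (χ : IrrCharacter G)
    (hx : charDegree (χ : G → ℂ) ^ 2 < Nat.card P) : rR p C χ < 1 := by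
  classical
  have hcount := cfg.count
  set R := Nat.card {c : ↥C // ¬ p ∣ orderOf (c : G)} with hR
  have hRpos : 0 < R := by
    have hC : 0 < Nat.card C := Nat.card_pos
    rw [← hcount] at hC
    exact Nat.pos_of_mul_pos_right hC
  have hterm : ∀ c : ↥C,
      (if p ∣ orderOf (c : G) then (0 : ℝ) else Complex.normSq ((χ : G → ℂ) c)) ≤
      (if p ∣ orderOf (c : G) then (0 : ℝ) else ((charDegree (χ : G → ℂ) : ℕ) : ℝ) ^ 2) := by
    intro c
    split_ifs
    · exact le_rfl
    · rw [Complex.normSq_eq_norm_sq]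
      have h := norm_le_charDegree (isCharacter_of_isIrrCharacter χ.2) (c : G)
      have h0 : 0 ≤ ‖(χ : G → ℂ) c‖ := norm_nonneg _
      nlinarith
  have hsum : ∑ c : ↥C,
      (if p ∣ orderOf (c : G) then (0 : ℝ) else ((charDegree (χ : G → ℂ) : ℕ) : ℝ) ^ 2) =
      (R : ℝ) * ((charDegree (χ : G → ℂ) : ℕ) : ℝ) ^ 2 := by
    have e1 : ∀ c : ↥C,
        (if p ∣ orderOf (c : G) then (0 : ℝ) else ((charDegree (χ : G → ℂ) : ℕ) : ℝ) ^ 2) =
        (if ¬ p ∣ orderOf (c : G) then ((charDegree (χ : G → ℂ) : ℕ) : ℝ) ^ 2 else 0) := by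
      intro c
      split_ifs <;> rfl
    rw [Finset.sum_congr rfl (fun c _ => e1 c), ← Finset.sum_filter, Finset.sum_const,
      nsmul_eq_mul, hR, Nat.card_eq_fintype_card, Fintype.card_subtype]
  have hle : rR p C χ ≤ (Nat.card C : ℝ)⁻¹ * ((R : ℝ) * ((charDegree (χ : G → ℂ) : ℕ) : ℝ) ^ 2) := by
    unfold rR
    apply mul_le_mul_of_nonneg_left
    · rw [← hsum]
      exact Finset.sum_le_sum fun c _ => hterm c
    · positivity
  have hCpos : (0 : ℝ) < Nat.card C := by
    exact_mod_cast (Nat.card_pos : 0 < Nat.card C)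
  have hlt : (R : ℝ) * ((charDegree (χ : G → ℂ) : ℕ) : ℝ) ^ 2 < Nat.card C := by
    have h1 : R * charDegree (χ : G → ℂ) ^ 2 < R * Nat.card P :=
      Nat.mul_lt_mul_of_pos_left hx hRpos
    rw [hcount] at h1
    exact_mod_cast h1
  calc rR p C χ ≤ (Nat.card C : ℝ)⁻¹ * ((R : ℝ) * ((charDegree (χ : G → ℂ) : ℕ) : ℝ) ^ 2) := hle
    _ < (Nat.card C : ℝ)⁻¹ * (Nat.card C : ℝ) :=
        mul_lt_mul_of_pos_left hlt (inv_pos.2 hCpos)
    _ = 1 := inv_mul_cancel₀ hCpos.ne'

include cfg in
/-- **The norm of the restriction** of an irreducible character of small degree to `C` is at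
most the index of `C` in `N`. -/
theorem stepA_norm (χ : IrrCharacter G) (e : ℕ) (he : Nat.card N = e * Nat.card C)
    (hx : charDegree (χ : G → ℂ) ^ 2 < Nat.card P) :
    ∑ ζ : IrrCharacter ↥C, mult χ ζ ^ 2 ≤ e := by
  have h1 := inner_res_self (C := C) χ
  rw [inner_res_split (p := p)] at h1
  have h2 : sR p C χ + rR p C χ = ((∑ ζ : IrrCharacter ↥C, mult χ ζ ^ 2 : ℕ) : ℝ) := by
    exact_mod_cast h1
  have h3 := sR_le cfg χ e he
  have h4 := rR_lt_one cfg χ hx
  have h5 : ((∑ ζ : IrrCharacter ↥C, mult χ ζ ^ 2 : ℕ) : ℝ) < ((e + 1 : ℕ) : ℝ) := by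
    rw [← h2]
    push_cast
    linarith
  have h6 : ∑ ζ : IrrCharacter ↥C, mult χ ζ ^ 2 < e + 1 := by exact_mod_cast h5
  omega

end StepA

end Cfsg.Agent.Helper7.BL
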