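import Mathlib
import Cfsg.Agent.Lib.Helper7.BL11

/-!
# The restriction of an irreducible character of small degree to the centralizer is one orbit
(helper7's library)
-/

set_option autoImplicit false
set_option linter.unusedSectionVars false

namespace Cfsg.Agent.Helper7.BL

open Cfsg Cfsg.Agent.Helper24
open scoped ComplexConjugate

universe u

section Orb

variable {G : Type u} [Group G] [Fintype G] {p : ℕ} {P C N : Subgroup G} [Fintype C]
  [Fintype N] [Fintype (IrrCharacter G)] [Fintype (IrrCharacter ↥C)] (cfg : Config p P C N)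

include cfg in
theorem charDegree_cjI (n : ↥N) (ζ : IrrCharacter ↥C) :
    charDegree (cjI cfg n ζ : ↥C → ℂ) = charDegree (ζ : ↥C → ℂ) := by
  unfold charDegree
  rw [cjI_deg]

include cfg in
open Classical in
/-- **The restriction is one orbit.** -/
theorem stepA_orbit (χ : IrrCharacter G) (e : ℕ) (he : Nat.card N = e * Nat.card C)
    (hx : charDegree (χ : G → ℂ) ^ 2 < Nat.card P) (ζ₀ : IrrCharacter ↥C)
    (hζ₀ : ¬ PTriv P ζ₀) (hm : mult χ ζ₀ ≠ 0) :
    mult χ ζ₀ = 1 ∧ (∀ ζ, mult χ ζ ≠ 0 → ∃ n : ↥N, ζ = cjI cfg n ζ₀) ∧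
      ∑ ζ : IrrCharacter ↥C, mult χ ζ ^ 2 = e ∧
      charDegree (χ : G → ℂ) = e * charDegree (ζ₀ : ↥C → ℂ) := by
  have hnorm := stepA_norm cfg χ e he hx
  set O := Finset.image (fun n : ↥N => cjI cfg n ζ₀) Finset.univ with hO
  have hOcard : O.card = e := by
    have h := card_orbit_irr cfg ζ₀ hζ₀
    rw [he] at h
    exact Nat.eq_of_mul_eq_mul_right Nat.card_pos h
  have hOm : ∀ ζ ∈ O, mult χ ζ = mult χ ζ₀ := by
    intro ζ hζ
    obtain ⟨n, -, rfl⟩ := Finset.mem_image.1 hζ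
    exact mult_cjI cfg χ n ζ₀
  have hsplit : ∀ f : IrrCharacter ↥C → ℕ,
      ∑ ζ, f ζ = ∑ ζ ∈ Finset.univ \ O, f ζ + ∑ ζ ∈ O, f ζ := by
    intro f
    rw [Finset.sum_sdiff (Finset.subset_univ _)]
  have h1 := hsplit (fun ζ => mult χ ζ ^ 2)
  have hOsum : ∑ ζ ∈ O, mult χ ζ ^ 2 = e * mult χ ζ₀ ^ 2 := by
    rw [Finset.sum_congr rfl (fun ζ hζ => by rw [hOm ζ hζ]), Finset.sum_const, hOcard,
      smul_eq_mul]
  rw [hOsum] at h1
  have hm1 : 1 ≤ mult χ ζ₀ := Nat.one_le_iff_ne_zero.2 hm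
  have hm2 : 1 ≤ mult χ ζ₀ ^ 2 := Nat.one_le_pow _ _ hm1
  have hge : e ≤ e * mult χ ζ₀ ^ 2 := Nat.le_mul_of_pos_right e hm2
  have hrest : ∑ ζ ∈ Finset.univ \ O, mult χ ζ ^ 2 = 0 := by omega
  have heq : e * mult χ ζ₀ ^ 2 = e := by omega
  have hepos : 0 < e := by
    rcases Nat.eq_zero_or_pos e with h | h
    · rw [h, zero_mul] at he
      exact absurd he Nat.card_pos.ne'
    · exact h
  have hm0 : mult χ ζ₀ = 1 := by
    have : mult χ ζ₀ ^ 2 = 1 := by
      have := Nat.eq_of_mul_eq_mul_left hepos (heq.trans (mul_one e).symm)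
      exact this
    rcases Nat.eq_zero_or_pos (mult χ ζ₀) with h0 | h0
    · omega
    · nlinarith
  have hoff : ∀ ζ, ζ ∉ O → mult χ ζ = 0 := by
    intro ζ hζ
    have := (Finset.sum_eq_zero_iff.1 hrest) ζ (Finset.mem_sdiff.2 ⟨Finset.mem_univ _, hζ⟩)
    exact (pow_eq_zero_iff (by norm_num)).1 this
  refine ⟨hm0, ?_, ?_, ?_⟩
  · intro ζ hζ
    by_contra hn
    apply hζ
    apply hoff
    intro hmem
    obtain ⟨n, -, hn'⟩ := Finset.mem_image.1 hmem
    exact hn ⟨n, hn'.symm⟩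
  · rw [h1, hrest, heq, zero_add]
  · rw [degree_eq_sum (C := C) χ, hsplit]
    have e1 : ∑ ζ ∈ Finset.univ \ O, mult χ ζ * charDegree (ζ : ↥C → ℂ) = 0 := by
      apply Finset.sum_eq_zero
      intro ζ hζ
      rw [hoff ζ (Finset.mem_sdiff.1 hζ).2, zero_mul]
    have e2 : ∑ ζ ∈ O, mult χ ζ * charDegree (ζ : ↥C → ℂ) =
        e * charDegree (ζ₀ : ↥C → ℂ) := by
      have : ∀ ζ ∈ O, mult χ ζ * charDegree (ζ : ↥C → ℂ) = charDegree (ζ₀ : ↥C → ℂ) := by
        intro ζ hζ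
        rw [hOm ζ hζ, hm0, one_mul]
        obtain ⟨n, -, rfl⟩ := Finset.mem_image.1 hζ
        exact charDegree_cjI cfg n ζ₀
      rw [Finset.sum_congr rfl this, Finset.sum_const, hOcard, smul_eq_mul]
    rw [e1, e2, zero_add]

/-- a character all of whose constituents on `C` are trivial on `P` has `P` in its kernel -/
theorem ker_of_ptriv (θ : IrrCharacter G)
    (h : ∀ ζ : IrrCharacter ↥C, ¬ PTriv P ζ → mult θ ζ = 0) (y : G) (hy : y ∈ P)
    (hyC : y ∈ C) : (θ : G → ℂ) y = (θ : G → ℂ) 1 := by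
  have h1 := res_apply (C := C) θ ⟨y, hyC⟩
  have h2 := res_apply (C := C) θ 1
  rw [Subgroup.coe_one] at h2
  rw [h1, h2]
  refine Finset.sum_congr rfl fun ζ _ => ?_
  by_cases hζ : PTriv P ζ
  · rw [hζ ⟨y, hyC⟩ hy]
  · rw [h ζ hζ, Nat.cast_zero, zero_mul, zero_mul]

end Orb

end Cfsg.Agent.Helper7.BL
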