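import Mathlib
import Cfsg.Agent.Lib.Helper7.Frob5

/-!
# Class multiplication relations in the principal block (helper7's library)
-/

set_option autoImplicit false

namespace Cfsg.Agent.Helper7.Frob

open Cfsg Cfsg.Agent.Helper24 Cfsg.Agent.Helper23 Cfsg.Agent.Helper23.Blk
open Cfsg.Agent.Helper7.Homo Cfsg.Agent.Helper7.BrCol
open scoped ComplexConjugate

universe u

section ClassRel

variable {G : Type u} [Group G] [Finite G]

/-- the vanishing of the class multiplication sum when no product of two conjugates of the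
involution `t` has its `p`-part conjugate to `u` -/
theorem class_rel_of_parts {p : ℕ} (M : Ideal AlgInt) (hM : IsPModular p M) (t : G) (u : G)
    (hu : ∃ k : ℕ, orderOf u = p ^ k)
    (hparts : ∀ (y x : G), IsPPart p (t * (y * t * y⁻¹)) x → ¬ IsConj x u) :
    ∑ χ ∈ pbFinset M G, (χ : G → ℂ) u⁻¹ * ((χ : G → ℂ) t ^ 2 / (χ : G → ℂ) 1) = 0 := by
  haveI : Fintype G := Fintype.ofFinite G
  have hterm : ∀ y : G, ∑ χ ∈ pbFinset M G, (χ : G → ℂ) (t * (y * t * y⁻¹)) *
      (χ : G → ℂ) u⁻¹ = 0 := by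
    intro y
    obtain ⟨x, hx⟩ := exists_isPPart hM.1 (t * (y * t * y⁻¹)) (orderOf_pos _)
    have hnc := hparts y x hx
    have hbo := block_orthogonality hM hx (isPPart_self' hM.1 hu) hnc
      (B := principalBlock M G) isPBlock_principalBlock
    rw [finsum_pb] at hbo
    exact hbo
  have hsum : ∑ y : G, ∑ χ ∈ pbFinset M G, (χ : G → ℂ) (t * (y * t * y⁻¹)) *
      (χ : G → ℂ) u⁻¹ = 0 := Finset.sum_eq_zero (fun y _ => hterm y)
  rw [Finset.sum_comm] at hsum
  have hinner : ∀ χ : IrrCharacter G, ∑ y : G, (χ : G → ℂ) (t * (y * t * y⁻¹)) *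
      (χ : G → ℂ) u⁻¹ = (Nat.card G : ℂ) * ((χ : G → ℂ) u⁻¹ *
        ((χ : G → ℂ) t ^ 2 / (χ : G → ℂ) 1)) := by
    intro χ
    rw [← Finset.sum_mul, sum_char_mul_conj χ.2]
    ring
  rw [Finset.sum_congr rfl (fun χ _ => hinner χ), ← Finset.mul_sum] at hsum
  have hG : (Nat.card G : ℂ) ≠ 0 := by exact_mod_cast (Nat.card_pos (α := G)).ne'
  exact (mul_eq_zero.1 hsum).resolve_left hG

/-- the `p`-part of a product of two conjugates of an involution `t` is inverted by `t` -/
theorem part_inverted {p : ℕ} (hp : p.Prime) (t : G) (ht : t * t = 1) (y x : G)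
    (hx : IsPPart p (t * (y * t * y⁻¹)) x) : t * x * t⁻¹ = x⁻¹ := by
  set s : G := y * t * y⁻¹ with hs
  have hss : s * s = 1 := by
    rw [hs]
    calc y * t * y⁻¹ * (y * t * y⁻¹) = y * (t * t) * y⁻¹ := by group
      _ = 1 := by rw [ht]; group
  have hsinv : s⁻¹ = s := inv_eq_of_mul_eq_one_left hss
  set g : G := t * s with hg
  have hginv : t * g * t⁻¹ = g⁻¹ := by
    rw [hg, mul_inv_rev, hsinv, ← mul_assoc, ht, one_mul]
  have hxg : x ∈ Subgroup.zpowers g := by
    have := IsPPart.mem_zpowers_pow hp hx 1 (by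
      intro h
      exact hp.one_lt.ne' (Nat.dvd_one.1 h))
    rwa [pow_one] at this
  obtain ⟨k, hk⟩ := Subgroup.mem_zpowers_iff.1 hxg
  rw [← hk]
  have h1 := map_zpow (MulAut.conj t) g k
  rw [MulAut.conj_apply, MulAut.conj_apply, hginv, inv_zpow] at h1
  exact h1

/-- the class multiplication relation against a `p`-element not inverted by a conjugate of
`t` -/
theorem class_rel_gen {p : ℕ} (M : Ideal AlgInt) (hM : IsPModular p M) (t : G)
    (ht : t * t = 1) (u : G) (hu : ∃ k : ℕ, orderOf u = p ^ k)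
    (hni : ∀ g : G, (g * t * g⁻¹) * u * (g * t * g⁻¹)⁻¹ ≠ u⁻¹) :
    ∑ χ ∈ pbFinset M G, (χ : G → ℂ) u⁻¹ * ((χ : G → ℂ) t ^ 2 / (χ : G → ℂ) 1) = 0 := by
  apply class_rel_of_parts M hM t u hu
  intro y x hx h
  have hxinv := part_inverted hM.1 t ht y x hx
  obtain ⟨c, hc⟩ := isConj_iff.1 h
  apply hni c
  rw [← hc]
  calc c * t * c⁻¹ * (c * x * c⁻¹) * (c * t * c⁻¹)⁻¹ = c * (t * x * t⁻¹) * c⁻¹ := by group
    _ = (c * x * c⁻¹)⁻¹ := by rw [hxinv]; group

end ClassRel

section OrbitAlgebra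

variable {A : Type u} [Group A] (ν : A ≃* A)

/-- products inside the orbit of an involution under a fixed-point-free automorphism of order
three -/
theorem orb_mul (hcomm : ∀ a b : A, a * b = b * a) (hν3 : ∀ a, ν (ν (ν a)) = a)
    (hfpf : ∀ a : A, ν a = a → a = 1) (z : A) (hz : z * z = 1) {a b : A}
    (ha : a = z ∨ a = ν z ∨ a = ν (ν z)) (hb : b = z ∨ b = ν z ∨ b = ν (ν z)) (hab : a ≠ b) :
    a * b = z ∨ a * b = ν z ∨ a * b = ν (ν z) := by
  have hprod : z * ν z * ν (ν z) = 1 := prod_orbit_eq_one ν hcomm hν3 hfpf z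
  have h1 : ν z * ν z = 1 := by rw [← map_mul, hz, map_one]
  have h2 : ν (ν z) * ν (ν z) = 1 := by rw [← map_mul, h1, map_one]
  have e01 : z * ν z = ν (ν z) := by
    have : z * ν z = (ν (ν z))⁻¹ := eq_inv_of_mul_eq_one_left hprod
    rw [this]
    exact inv_eq_of_mul_eq_one_left h2
  have e02 : z * ν (ν z) = ν z := by
    have h3 : z * ν (ν z) * ν z = 1 := by
      rw [mul_assoc, hcomm (ν (ν z)) (ν z), ← mul_assoc]
      exact hprod
    have : z * ν (ν z) = (ν z)⁻¹ := eq_inv_of_mul_eq_one_left h3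
    rw [this]
    exact inv_eq_of_mul_eq_one_left h1
  have e12 : ν z * ν (ν z) = z := by
    have h3 : ν z * ν (ν z) * z = 1 := by
      rw [hcomm (ν z * ν (ν z)) z, ← mul_assoc]
      exact hprod
    have : ν z * ν (ν z) = z⁻¹ := eq_inv_of_mul_eq_one_left h3
    rw [this]
    exact inv_eq_of_mul_eq_one_left hz
  rcases ha with rfl | rfl | rfl <;> rcases hb with rfl | rfl | rfl
  · exact absurd rfl hab
  · right; right; exact e01
  · right; left; exact e02
  · right; right; rw [hcomm]; exact e01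
  · exact absurd rfl hab
  · left; exact e12
  · right; left; rw [hcomm]; exact e02
  · left; rw [hcomm]; exact e12
  · exact absurd rfl hab

omit [Group A] in
theorem orb_nu {A : Type u} [Group A] (ν : A ≃* A) (hν3 : ∀ a, ν (ν (ν a)) = a) (z : A) {a : A}
    (ha : a = z ∨ a = ν z ∨ a = ν (ν z)) : ν a = z ∨ ν a = ν z ∨ ν a = ν (ν z) := by
  rcases ha with rfl | rfl | rfl
  · right; left; rfl
  · right; right; rfl
  · left; exact hν3 _

end OrbitAlgebra

section Two

variable {G : Type u} [Group G] [Finite G]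

theorem inv_of_mem_zpowers {a g x : G} (h : a * g * a⁻¹ = g⁻¹) (hx : x ∈ Subgroup.zpowers g) :
    a * x * a⁻¹ = x⁻¹ := by
  obtain ⟨k, hk⟩ := Subgroup.mem_zpowers_iff.1 hx
  rw [← hk]
  have h1 := map_zpow (MulAut.conj a) g k
  rw [MulAut.conj_apply, MulAut.conj_apply, h, inv_zpow] at h1
  exact h1

/-- In a group with an abelian Sylow `2`-subgroup `P` whose fusion is given by a
fixed-point-free automorphism `ν` of order three, the `2`-part of a product of two conjugates
of an involution `z ∈ P` is conjugate only to elements of `{1, z, ν z, ν² z}`. -/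
theorem two_part_orbit (P : Sylow 2 G) (hcomm : ∀ x y : (P : Subgroup G), x * y = y * x)
    (ν : (P : Subgroup G) ≃* (P : Subgroup G)) (hν3 : ∀ a, ν (ν (ν a)) = a)
    (hfpf : ∀ a, ν a = a → a = 1)
    (hfus : ∀ a b : (P : Subgroup G), IsConj (a : G) (b : G) → b = a ∨ b = ν a ∨ b = ν (ν a))
    (z : (P : Subgroup G)) (hz : z * z = 1) (y x : G)
    (hx : IsPPart 2 ((z : G) * (y * z * y⁻¹)) x) (u : (P : Subgroup G))
    (hux : IsConj x (u : G)) : u = 1 ∨ u = z ∨ u = ν z ∨ u = ν (ν z) := by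
  haveI : Fact (Nat.Prime 2) := ⟨Nat.prime_two⟩
  by_cases hx1 : x = 1
  · left
    rw [hx1, isConj_comm, isConj_one_left] at hux
    exact Subtype.ext hux
  right
  set t : G := (z : G) with ht
  have htt : t * t = 1 := by
    have := congrArg Subtype.val hz
    rwa [Subgroup.coe_mul, Subgroup.coe_one] at this
  have htinv : t⁻¹ = t := inv_eq_of_mul_eq_one_left htt
  set s : G := y * t * y⁻¹ with hs
  have hss : s * s = 1 := by
    rw [hs]
    calc y * t * y⁻¹ * (y * t * y⁻¹) = y * (t * t) * y⁻¹ := by group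
      _ = 1 := by rw [htt]; group
  have hsinv : s⁻¹ = s := inv_eq_of_mul_eq_one_left hss
  set g : G := t * s with hg
  have hgt : t * g * t⁻¹ = g⁻¹ := by
    rw [hg]
    calc t * (t * s) * t⁻¹ = (t * t) * s * t⁻¹ := by group
      _ = s * t⁻¹ := by rw [htt, one_mul]
      _ = s⁻¹ * t⁻¹ := by rw [hsinv]
      _ = (t * s)⁻¹ := by group
  have hgs : s * g * s⁻¹ = g⁻¹ := by
    rw [hg]
    calc s * (t * s) * s⁻¹ = s * t := by group
      _ = s⁻¹ * t⁻¹ := by rw [hsinv, htinv]
      _ = (t * s)⁻¹ := by group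
  have hxg : x ∈ Subgroup.zpowers g := by
    have := IsPPart.mem_zpowers_pow Nat.prime_two hx 1 (by norm_num)
    rwa [pow_one] at this
  have hxt : t * x * t⁻¹ = x⁻¹ := inv_of_mem_zpowers hgt hxg
  have hxs : s * x * s⁻¹ = x⁻¹ := inv_of_mem_zpowers hgs hxg
  -- `u` is real, hence an involution
  have huu : u * u = 1 := by
    have h1 : IsConj x x⁻¹ := isConj_iff.2 ⟨t, hxt⟩
    have h2 : IsConj x⁻¹ (u : G)⁻¹ := by
      obtain ⟨c, hc⟩ := isConj_iff.1 hux
      exact isConj_iff.2 ⟨c, by rw [← hc]; group⟩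
    have h3 : IsConj (u : G) ((u⁻¹ : (P : Subgroup G)) : G) := by
      rw [Subgroup.coe_inv]
      exact hux.symm.trans (h1.trans h2)
    rcases hfus u u⁻¹ h3 with h | h | h
    · nth_rewrite 1 [← h]
      exact inv_mul_cancel u
    · have e2 : ν (ν u) = u := by rw [← h, map_inv, ← h, inv_inv]
      have e3 : ν u = u := by
        have := congrArg ν e2
        rw [hν3] at this
        exact this.symm
      rw [hfpf u e3, mul_one]
    · have e2 : (ν u)⁻¹ = u := by rw [← map_inv, h, hν3]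
      have e3 : ν u = ν (ν u) := by
        calc ν u = ((ν u)⁻¹)⁻¹ := (inv_inv _).symm
          _ = u⁻¹ := by rw [e2]
          _ = ν (ν u) := h
      have e4 : u = ν u := ν.injective e3
      rw [hfpf u e4.symm, mul_one]
  have hxx : x * x = 1 := by
    obtain ⟨c, hc⟩ := isConj_iff.1 hux
    have huu' : (u : G) * u = 1 := by
      have := congrArg Subtype.val huu
      rwa [Subgroup.coe_mul, Subgroup.coe_one] at this
    have : x = c⁻¹ * (u : G) * c := by rw [← hc]; group
    rw [this]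
    calc c⁻¹ * (u : G) * c * (c⁻¹ * (u : G) * c) = c⁻¹ * ((u : G) * u) * c := by group
      _ = 1 := by rw [huu']; group
  have hxinv : x⁻¹ = x := inv_eq_of_mul_eq_one_left hxx
  have hct : t * x = x * t := by
    have := hxt
    rw [hxinv] at this
    calc t * x = (t * x * t⁻¹) * t := by group
      _ = x * t := by rw [this]
  have hcs : s * x = x * s := by
    have := hxs
    rw [hxinv] at this
    calc s * x = (s * x * s⁻¹) * s := by group
      _ = x * s := by rw [this]
  -- the odd part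
  obtain ⟨y', hxy', hcomm', ⟨k, hk⟩, hodd⟩ := id hx
  have hy'g : y' ∈ Subgroup.zpowers g := by
    have : y' = x⁻¹ * g := by rw [← hxy']; group
    rw [this]
    exact mul_mem (inv_mem hxg) (Subgroup.mem_zpowers g)
  set n := orderOf y' with hn
  have hnodd : n % 2 = 1 := by
    have : ¬ 2 ∣ n := hodd
    omega
  set c : G := y' ^ ((n + 1) / 2) with hc
  have hcc : c * c = y' := by
    rw [hc, ← pow_add]
    have : (n + 1) / 2 + (n + 1) / 2 = n + 1 := by omega
    rw [this, pow_succ, hn, pow_orderOf_eq_one, one_mul]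
  have hcg : c ∈ Subgroup.zpowers g := pow_mem hy'g _
  have hcs' : s * c * s⁻¹ = c⁻¹ := inv_of_mem_zpowers hgs hcg
  have htx : t * x = c * s * c⁻¹ := by
    have e1 : c * s * c⁻¹ = y' * s := by
      have : s * c⁻¹ * s⁻¹ = c := by
        have := congrArg (fun w => w⁻¹) hcs'
        simp only [mul_inv_rev, inv_inv] at this
        rw [← mul_assoc] at this
        exact this
      calc c * s * c⁻¹ = c * (s * c⁻¹ * s⁻¹) * s := by group
        _ = c * c * s := by rw [this]
        _ = y' * s := by rw [hcc]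
    have e2 : t * x = y' * s := by
      have hts : t = x * y' * s := by
        have : t = g * s⁻¹ := by rw [hg]; group
        rw [this, hsinv, ← hxy']
      calc t * x = x * y' * s * x := by rw [← hts]
        _ = x * y' * (x * s) := by rw [← hcs]; group
        _ = x * (y' * x) * s := by group
        _ = x * (x * y') * s := by rw [hcomm'.eq]
        _ = (x * x) * y' * s := by group
        _ = y' * s := by rw [hxx, one_mul]
    rw [e1, e2]
  -- a Sylow subgroup containing `t` and `x`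
  have hH1 : IsPGroup 2 (Subgroup.zpowers t) := by
    apply IsPGroup.to_le P.isPGroup'
    rw [Subgroup.zpowers_le]
    exact z.2
  have hH2 : IsPGroup 2 (Subgroup.zpowers x) := by
    apply IsPGroup.of_card (n := k)
    rw [Nat.card_zpowers, hk]
  have hnorm : Subgroup.zpowers t ≤ Subgroup.normalizer ((Subgroup.zpowers x : Subgroup G) : Set G) := by
    refine le_trans ?_ (Subgroup.centralizer_le_normalizer _)
    rw [Subgroup.zpowers_le, Subgroup.mem_centralizer_iff]
    intro h hh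
    obtain ⟨j, rfl⟩ := Subgroup.mem_zpowers_iff.1 hh
    have hc' : Commute x t := hct.symm
    exact (hc'.zpow_left j).eq
  have hHp : IsPGroup 2 (Subgroup.zpowers t ⊔ Subgroup.zpowers x : Subgroup G) :=
    hH1.to_sup_of_normal_right' hH2 hnorm
  obtain ⟨Q, hQ⟩ := hHp.exists_le_sylow
  obtain ⟨s', hs'⟩ := MulAction.exists_smul_eq G P Q
  have htQ : t ∈ (Q : Subgroup G) := hQ (le_sup_left (a := Subgroup.zpowers t)
    (Subgroup.mem_zpowers t))
  have hxQ : x ∈ (Q : Subgroup G) := hQ (le_sup_right (b := Subgroup.zpowers x)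
    (Subgroup.mem_zpowers x))
  rw [← hs'] at htQ hxQ
  have htP : s'⁻¹ * t * s' ∈ (P : Subgroup G) :=
    (Cfsg.Agent.S4347.mem_smul_sylow s' t P).mp htQ
  have hxP : s'⁻¹ * x * s' ∈ (P : Subgroup G) :=
    (Cfsg.Agent.S4347.mem_smul_sylow s' x P).mp hxQ
  set a : (P : Subgroup G) := ⟨_, htP⟩ with ha
  set xP : (P : Subgroup G) := ⟨_, hxP⟩ with hxPdef
  have haz : IsConj (z : G) (a : G) := isConj_iff.2 ⟨s'⁻¹, by rw [inv_inv]⟩
  have hbz : IsConj (z : G) ((a * xP : (P : Subgroup G)) : G) := by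
    have e : ((a * xP : (P : Subgroup G)) : G) = s'⁻¹ * (t * x) * s' := by
      rw [Subgroup.coe_mul]
      show s'⁻¹ * t * s' * (s'⁻¹ * x * s') = _
      group
    rw [e, htx]
    refine isConj_iff.2 ⟨s'⁻¹ * c * y, ?_⟩
    show s'⁻¹ * c * y * t * (s'⁻¹ * c * y)⁻¹ = s'⁻¹ * (c * s * c⁻¹) * s'
    rw [hs]
    group
  have hao := hfus z a haz
  have hbo := hfus z (a * xP) hbz
  have hxP1 : xP ≠ 1 := by
    intro h
    apply hx1
    have h' : s'⁻¹ * x * s' = 1 := congrArg Subtype.val h
    have : x = s' * (s'⁻¹ * x * s') * s'⁻¹ := by group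
    rw [this, h']
    group
  have hab : a ≠ a * xP := by
    intro h
    apply hxP1
    have := mul_left_cancel (a := a) (b := 1) (c := xP) (by rw [mul_one]; exact h)
    exact this.symm
  have haa : a * a = 1 := by
    rcases hao with h | h | h
    · rw [h]; exact hz
    · rw [h, ← map_mul, hz, map_one]
    · rw [h, ← map_mul, ← map_mul, hz, map_one, map_one]
  have hxPo : xP = z ∨ xP = ν z ∨ xP = ν (ν z) := by
    have h1 := orb_mul ν hcomm hν3 hfpf z hz hao hbo hab
    have : a * (a * xP) = xP := by rw [← mul_assoc, haa, one_mul]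
    rwa [this] at h1
  have hxu : IsConj (xP : G) (u : G) := by
    have : IsConj (xP : G) x := isConj_iff.2 ⟨s', by
      show s' * (s'⁻¹ * x * s') * s'⁻¹ = x
      group⟩
    exact this.trans hux
  rcases hfus xP u hxu with h | h | h
  · rw [h]; exact hxPo
  · rw [h]; exact orb_nu ν hν3 z hxPo
  · rw [h]; exact orb_nu ν hν3 z (orb_nu ν hν3 z hxPo)

/-- the class multiplication relation for an involution `z ∈ P` against an element of `P`
outside `{1, z, ν z, ν² z}` -/
theorem class_rel_V (M : Ideal AlgInt) (hM : IsPModular 2 M) (P : Sylow 2 G)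
    (hcomm : ∀ x y : (P : Subgroup G), x * y = y * x)
    (ν : (P : Subgroup G) ≃* (P : Subgroup G)) (hν3 : ∀ a, ν (ν (ν a)) = a)
    (hfpf : ∀ a, ν a = a → a = 1)
    (hfus : ∀ a b : (P : Subgroup G), IsConj (a : G) (b : G) → b = a ∨ b = ν a ∨ b = ν (ν a))
    (z u : (P : Subgroup G)) (hz : z * z = 1) (hu1 : u ≠ 1) (h0 : z ≠ u) (h1 : ν z ≠ u)
    (h2 : ν (ν z) ≠ u) :
    ∑ χ ∈ pbFinset M G, (χ : G → ℂ) z * (χ : G → ℂ) z * conj ((χ : G → ℂ) u) /
      (charDegree (χ : G → ℂ) : ℂ) = 0 := by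
  haveI : Fact (Nat.Prime 2) := ⟨Nat.prime_two⟩
  have hu : ∃ k : ℕ, orderOf (u : G) = 2 ^ k := orderOf_sylow_coe' P u
  have h := class_rel_of_parts M hM (z : G) (u : G) hu (by
    intro y x hx hc
    rcases two_part_orbit P hcomm ν hν3 hfpf hfus z hz y x hx u hc with h | h | h | h
    · exact hu1 h
    · exact h0 h.symm
    · exact h1 h.symm
    · exact h2 h.symm)
  rw [← h]
  refine Finset.sum_congr rfl fun χ _ => ?_
  rw [irr_inv (isCharacter_of_isIrrCharacter χ.2), irr_one_eq_charDegree χ.2]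
  ring

end Two

end Cfsg.Agent.Helper7.Frob
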