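import Mathlib
import Cfsg.Agent.Lib.Helper7.Homo6

/-!
# Brauer's abstract theorem with a weaker hypothesis on the auxiliary element
(helper7's library)
-/

set_option autoImplicit false

namespace Cfsg.Agent.Helper7.Homo

open Cfsg Cfsg.Agent.Helper24
open scoped ComplexConjugate

universe u

section Theta'

variable {A : Type u} [Group A] [Fintype A] [Fintype (IrrCharacter A)] [DecidableEq A]
variable (ν : A ≃* A)

/-- the weighted sum of the squared orbit sums -/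
theorem theta_sum' (hcomm : ∀ a b : A, a * b = b * a) (hν3 : ∀ a, ν (ν (ν a)) = a)
    (hfpf : ∀ a : A, ν a = a → a = 1) {z p : A} (hz : z * z = 1) (hp1 : p ≠ 1)
    (h0 : z ≠ p) (h1 : ν z ≠ p) (h2 : ν (ν z) ≠ p) :
    ∑ ψ : IrrCharacter A, conj ((ψ : A → ℂ) p) * (theta ν ψ z * theta ν ψ z) = 0 := by
  have e : ∀ ψ : IrrCharacter A, conj ((ψ : A → ℂ) p) * (theta ν ψ z * theta ν ψ z) =
      3 * conj ((ψ : A → ℂ) p) + 2 * ((ψ : A → ℂ) z * conj ((ψ : A → ℂ) p)) +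
        2 * ((ψ : A → ℂ) (ν z) * conj ((ψ : A → ℂ) p)) +
        2 * ((ψ : A → ℂ) (ν (ν z)) * conj ((ψ : A → ℂ) p)) := by
    intro ψ
    rw [theta_sq ν hcomm hν3 hfpf ψ hz]
    unfold theta
    ring
  simp only [e]
  rw [Finset.sum_add_distrib, Finset.sum_add_distrib, Finset.sum_add_distrib,
    ← Finset.mul_sum, ← Finset.mul_sum, ← Finset.mul_sum, ← Finset.mul_sum,
    sum_irr_conj' hcomm, sum_irr_conj hcomm, sum_irr_conj hcomm, sum_irr_conj hcomm,
    if_neg hp1, if_neg h0, if_neg h1, if_neg h2]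
  ring

end Theta'

section Rest'

variable {A : Type u} [Group A] [Fintype A] [Fintype (IrrCharacter A)] [DecidableEq A]
variable (ν : A ≃* A)

/-- the contribution of the exceptional characters to the class multiplication relation -/
theorem rest_sum' (hcomm : ∀ a b : A, a * b = b * a) (hν3 : ∀ a, ν (ν (ν a)) = a)
    (hfpf : ∀ a : A, ν a = a → a = 1) {ι : Type*} [DecidableEq ι] (S : Finset ι)
    (f : ι → A → ℂ) (d : ι → ℕ) (y : ℤ)
    (hchar : ∀ x ∈ S, IsCharacter A (f x))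
    (hgram : ∀ ψ ψ' : IrrCharacter A, ψ ≠ principalChar A → ψ' ≠ principalChar A →
      ∑ x ∈ S, bint (f x) ψ * bint (f x) ψ' = nInd ν ψ ψ')
    (hdeg : ∀ ψ : IrrCharacter A, ψ ≠ principalChar A →
      ∑ x ∈ S, (d x : ℤ) * bint (f x) ψ = y)
    (hdpos : ∀ x ∈ S, 0 < d x) (hy : y ≠ 0)
    {z p : A} (hz1 : z ≠ 1) (hz : z * z = 1) (hp1 : p ≠ 1)
    (h0 : z ≠ p) (h1 : ν z ≠ p) (h2 : ν (ν z) ≠ p) :
    ∑ x ∈ S, f x z * f x z * conj (f x p) / (d x : ℂ) = -9 / (y : ℂ) := by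
  classical
  have hyc : (y : ℂ) ≠ 0 := by exact_mod_cast hy
  -- the data attached to a nontrivial linear character
  have hdata : ∀ ψ : IrrCharacter A, ψ ≠ principalChar A → ∃ x ∈ S,
      bint (f x) ψ * bint (f x) ψ = 1 ∧ (∀ x' ∈ S, x' ≠ x → bint (f x') ψ = 0) ∧
      (d x : ℤ) * bint (f x) ψ = y := by
    intro ψ hψ
    have h1 := hgram ψ ψ hψ hψ
    rw [nInd_self ν hcomm hν3 hfpf hψ] at h1
    obtain ⟨x, hx, hx1, hx0⟩ := single_support S (fun x => bint (f x) ψ) h1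
    refine ⟨x, hx, hx1, hx0, ?_⟩
    have h2 := hdeg ψ hψ
    rw [Finset.sum_eq_single x] at h2
    · exact h2
    · intro x' hx' hne
      rw [hx0 x' hx' hne, mul_zero]
    · intro h
      exact absurd hx h
  -- Step B
  have hB : ∀ x ∈ S, ∀ ψ : IrrCharacter A, ((bint (f x) ψ : ℤ) : ℂ) / (d x : ℂ) =
      ((bint (f x) ψ : ℤ) : ℂ) * (bint (f x) ψ : ℂ) / (y : ℂ) := by
    intro x hx ψ
    by_cases hψ : ψ = principalChar A
    · rw [hψ, bint_principal]
      simp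
    obtain ⟨x', hx', h1, h0, hy'⟩ := hdata ψ hψ
    by_cases hxx : x = x'
    · subst hxx
      have hd : (d x : ℂ) ≠ 0 := by exact_mod_cast (hdpos x hx).ne'
      have e : (d x : ℂ) * (bint (f x) ψ : ℂ) = y := by exact_mod_cast hy'
      rw [div_eq_div_iff hd hyc, ← e]
      ring
    · rw [h0 x hx hxx]
      simp
  -- Step G
  have hG : ∀ ψ : IrrCharacter A, ψ ≠ principalChar A →
      ∑ x ∈ S, ((bint (f x) ψ : ℤ) : ℂ) * f x z = theta ν ψ z := by
    intro ψ hψ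
    have e1 : ∀ x ∈ S, ((bint (f x) ψ : ℤ) : ℂ) * f x z =
        ∑ ψ' : IrrCharacter A, (ψ' : A → ℂ) z *
          (((bint (f x) ψ * bint (f x) ψ' : ℤ)) : ℂ) := by
      intro x hx
      rw [value_bint hcomm (hchar x hx) z hz1, Finset.mul_sum]
      refine Finset.sum_congr rfl fun ψ' _ => ?_
      push_cast
      ring
    rw [Finset.sum_congr rfl e1, Finset.sum_comm]
    have e2 : ∀ ψ' : IrrCharacter A, ∑ x ∈ S, (ψ' : A → ℂ) z *
        (((bint (f x) ψ * bint (f x) ψ' : ℤ)) : ℂ) =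
        (ψ' : A → ℂ) z * ((nInd ν ψ ψ' : ℤ) : ℂ) := by
      intro ψ'
      rw [← Finset.mul_sum, ← Int.cast_sum]
      congr 2
      by_cases hψ' : ψ' = principalChar A
      · rw [hψ', nInd_principal ν ψ hψ]
        apply Finset.sum_eq_zero
        intro x _
        rw [bint_principal, mul_zero]
      · exact hgram ψ ψ' hψ hψ'
    rw [Finset.sum_congr rfl (fun ψ' _ => e2 ψ'),
      sum_nInd ν hν3 ψ (fun ψ' => (ψ' : A → ℂ) z)]
    unfold theta
    simp only [compIrr_apply]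
    ring
  -- Step F
  have hF : ∀ ψ : IrrCharacter A, ψ ≠ principalChar A →
      ∑ x ∈ S, ((bint (f x) ψ : ℤ) : ℂ) * (bint (f x) ψ : ℂ) * (f x z * f x z) =
        theta ν ψ z * theta ν ψ z := by
    intro ψ hψ
    obtain ⟨x', hx', h1, h0, -⟩ := hdata ψ hψ
    have h1c : ((bint (f x') ψ : ℤ) : ℂ) * (bint (f x') ψ : ℂ) = 1 := by exact_mod_cast h1
    rw [← hG ψ hψ, Finset.sum_eq_single x', Finset.sum_eq_single x']
    · rw [h1c]
      linear_combination (-(f x' z * f x' z)) * h1c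
    · intro x hx hne
      rw [h0 x hx hne, Int.cast_zero, zero_mul]
    · intro h
      exact absurd hx' h
    · intro x hx hne
      rw [h0 x hx hne, Int.cast_zero, zero_mul, zero_mul]
    · intro h
      exact absurd hx' h
  -- the terms
  have hT : ∀ x ∈ S, f x z * f x z * conj (f x p) / (d x : ℂ) =
      (y : ℂ)⁻¹ * ∑ ψ : IrrCharacter A, conj ((ψ : A → ℂ) p) *
        (((bint (f x) ψ : ℤ) : ℂ) * (bint (f x) ψ : ℂ) * (f x z * f x z)) := by
    intro x hx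
    have e1 : conj (f x p) = ∑ ψ : IrrCharacter A,
        ((bint (f x) ψ : ℤ) : ℂ) * conj ((ψ : A → ℂ) p) := by
      rw [value_bint hcomm (hchar x hx) p hp1, map_sum]
      refine Finset.sum_congr rfl fun ψ _ => ?_
      rw [map_mul, map_intCast]
    rw [mul_div_assoc, e1, Finset.sum_div, Finset.mul_sum, Finset.mul_sum]
    refine Finset.sum_congr rfl fun ψ _ => ?_
    rw [mul_div_right_comm, hB x hx ψ]
    field_simp
  rw [Finset.sum_congr rfl hT, ← Finset.mul_sum, Finset.sum_comm]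
  have hinner : ∀ ψ : IrrCharacter A, ∑ x ∈ S, conj ((ψ : A → ℂ) p) *
      (((bint (f x) ψ : ℤ) : ℂ) * (bint (f x) ψ : ℂ) * (f x z * f x z)) =
      conj ((ψ : A → ℂ) p) * (theta ν ψ z * theta ν ψ z) -
        (if ψ = principalChar A then 9 else 0) := by
    intro ψ
    rw [← Finset.mul_sum]
    by_cases hψ : ψ = principalChar A
    · rw [if_pos hψ, hψ]
      have : ∑ x ∈ S, ((bint (f x) (principalChar A) : ℤ) : ℂ) *
          (bint (f x) (principalChar A) : ℂ) * (f x z * f x z) = 0 := by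
        apply Finset.sum_eq_zero
        intro x _
        rw [bint_principal, Int.cast_zero, zero_mul, zero_mul]
      rw [this]
      unfold theta
      simp only [principalChar_apply, map_one]
      norm_num
    · rw [if_neg hψ, hF ψ hψ, sub_zero]
  rw [Finset.sum_congr rfl (fun ψ _ => hinner ψ), Finset.sum_sub_distrib,
    theta_sum' ν hcomm hν3 hfpf hz hp1 h0 h1 h2, Finset.sum_ite_eq']
  simp only [Finset.mem_univ, if_true]
  field_simp
  ring

end Rest'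

section Main'

variable {A : Type u} [Group A] [Fintype A] [Fintype (IrrCharacter A)] [DecidableEq A]

/-- **Abstract form of Brauer's theorem.** A family of `ν`-invariant characters of a finite
abelian group `A` (of order divisible by `16`, `ν` a fixed-point-free automorphism of order
three) containing the principal character and satisfying the column relations of a principal
block, the degree relation and the class multiplication relation contains a second member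
which is identically one. -/
theorem exists_trivial_restriction' (hcomm : ∀ a b : A, a * b = b * a) (h16 : 16 ∣ Nat.card A)
    (ν : A ≃* A) (hν3 : ∀ a, ν (ν (ν a)) = a) (hfpf : ∀ a : A, ν a = a → a = 1)
    {ι : Type*} [DecidableEq ι] (X : Finset ι) (f : ι → A → ℂ) (d : ι → ℕ)
    (hchar : ∀ x ∈ X, IsCharacter A (f x))
    (hdeg : ∀ x ∈ X, f x 1 = d x) (hdpos : ∀ x ∈ X, 0 < d x)
    (x₀ : ι) (hx₀ : x₀ ∈ X) (hfx₀ : ∀ a, f x₀ a = 1)
    (hcol : ∀ a a' : A, a ≠ 1 → a' ≠ 1 → ∑ x ∈ X, f x a * conj (f x a') =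
      (Nat.card A : ℂ) * ((if a' = a then 1 else 0) + (if a' = ν a then 1 else 0) +
        (if a' = ν (ν a) then 1 else 0)))
    (hB : ∀ a : A, a ≠ 1 → ∑ x ∈ X, (d x : ℂ) * f x a = 0)
    (z p : A) (hz1 : z ≠ 1) (hz2 : z * z = 1) (hp1 : p ≠ 1)
    (h0 : z ≠ p) (h1 : ν z ≠ p) (h2 : ν (ν z) ≠ p)
    (hE : ∑ x ∈ X, f x z * f x z * conj (f x p) / (d x : ℂ) = 0) :
    ∃ x ∈ X, x ≠ x₀ ∧ ∀ a, f x a = 1 := by
  classical
  have hcard_pos : 0 < Nat.card A := Nat.card_pos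
  have h16' : 16 ≤ Nat.card A := Nat.le_of_dvd hcard_pos h16
  have h14 : 14 ≤ Nat.card A := by omega
  obtain ⟨x₂, hx₂, x₃, hx₃, hne, c₂, c₃, hc₂, hc₃, hall⟩ :=
    exists_common X f ν hcomm h14 hν3 hfpf hchar hcol x₀ hx₀ hfx₀
  have hx₂X : x₂ ∈ X := Finset.mem_of_mem_erase hx₂
  have hx₃X : x₃ ∈ X := Finset.mem_of_mem_erase hx₃
  have hx₂0 : x₂ ≠ x₀ := Finset.ne_of_mem_erase hx₂
  have hx₃0 : x₃ ≠ x₀ := Finset.ne_of_mem_erase hx₃
  set S := ((X.erase x₀).erase x₂).erase x₃ with hS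
  have hSX : ∀ x ∈ S, x ∈ X := by
    intro x hx
    simp only [hS, Finset.mem_erase] at hx
    exact hx.2.2.2
  have hsplitZ : ∀ F : ι → ℤ, ∑ x ∈ X, F x = F x₀ + (F x₂ + (F x₃ + ∑ x ∈ S, F x)) :=
    fun F => sum_split3' X hx₀ hx₂X hx₃X hx₂0.symm hx₃0.symm hne F
  have hsplitC : ∀ F : ι → ℂ, ∑ x ∈ X, F x = F x₀ + (F x₂ + (F x₃ + ∑ x ∈ S, F x)) :=
    fun F => sum_split3' X hx₀ hx₂X hx₃X hx₂0.symm hx₃0.symm hne F
  -- the degree of the principal member
  have hd₀ : d x₀ = 1 := by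
    have := hdeg x₀ hx₀
    rw [hfx₀] at this
    exact_mod_cast this.symm
  set d₂ : ℤ := (d x₂ : ℤ) with hd₂
  set d₃ : ℤ := (d x₃ : ℤ) with hd₃
  have hd₂pos : 0 < d₂ := by rw [hd₂]; exact_mod_cast hdpos x₂ hx₂X
  have hd₃pos : 0 < d₃ := by rw [hd₃]; exact_mod_cast hdpos x₃ hx₃X
  set y : ℤ := 1 - c₂ * d₂ - c₃ * d₃ with hy
  -- relations on `S`
  have hgramS : ∀ ψ ψ' : IrrCharacter A, ψ ≠ principalChar A → ψ' ≠ principalChar A →
      ∑ x ∈ S, bint (f x) ψ * bint (f x) ψ' = nInd ν ψ ψ' := by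
    intro ψ ψ' hψ hψ'
    have h := gram_bint X f ν hcomm hchar hcol ψ ψ' hψ hψ'
    rw [hsplitZ, bint_one hfx₀ hψ, bint_one hfx₀ hψ', (hall ψ hψ).1, (hall ψ hψ).2,
      (hall ψ' hψ').1, (hall ψ' hψ').2, hc₂, hc₃] at h
    linarith
  have hdegS : ∀ ψ : IrrCharacter A, ψ ≠ principalChar A →
      ∑ x ∈ S, (d x : ℤ) * bint (f x) ψ = y := by
    intro ψ hψ
    have h := deg_bint X f hcomm hchar d hB ψ
    rw [hsplitZ, bint_one hfx₀ hψ, (hall ψ hψ).1, (hall ψ hψ).2, hd₀] at h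
    rw [hy, hd₂, hd₃]
    push_cast at h ⊢
    linarith
  -- a nontrivial linear character exists
  have hex : ∃ ψ : IrrCharacter A, ψ ≠ principalChar A := by
    apply Fintype.exists_ne_of_one_lt_card
    rw [card_irr_abelian hcomm]
    omega
  obtain ⟨ψ₁, hψ₁⟩ := hex
  have hy0 : y ≠ 0 := by
    intro hy0
    have h1 := hgramS ψ₁ ψ₁ hψ₁ hψ₁
    rw [nInd_self ν hcomm hν3 hfpf hψ₁] at h1
    obtain ⟨x, hx, hx1, hx0⟩ := single_support S (fun x => bint (f x) ψ₁) h1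
    have h2 := hdegS ψ₁ hψ₁
    rw [Finset.sum_eq_single x, hy0] at h2
    · have h3 : (0 : ℤ) < d x := by exact_mod_cast hdpos x (hSX x hx)
      rcases mul_eq_zero.1 h2 with h4 | h4
      · omega
      · rw [h4] at hx1
        norm_num at hx1
    · intro x' hx' hne'
      rw [hx0 x' hx' hne', mul_zero]
    · intro h
      exact absurd hx h
  -- the contribution of `S`
  have hrest := rest_sum' ν hcomm hν3 hfpf S f d y (fun x hx => hchar x (hSX x hx)) hgramS hdegS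
    (fun x hx => hdpos x (hSX x hx)) hy0 hz1 hz2 hp1 h0 h1 h2
  -- values of the two special members
  have hv₂ : ∀ a : A, a ≠ 1 → f x₂ a = -(c₂ : ℂ) :=
    fun a ha => value_of_const hcomm (hchar x₂ hx₂X) c₂ (fun ψ hψ => (hall ψ hψ).1) a ha
  have hv₃ : ∀ a : A, a ≠ 1 → f x₃ a = -(c₃ : ℂ) :=
    fun a ha => value_of_const hcomm (hchar x₃ hx₃X) c₃ (fun ψ hψ => (hall ψ hψ).2) a ha
  have hc₂c : (c₂ : ℂ) * c₂ = 1 := by exact_mod_cast hc₂
  have hc₃c : (c₃ : ℂ) * c₃ = 1 := by exact_mod_cast hc₃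
  have hd₂c : (d x₂ : ℂ) = (d₂ : ℂ) := by rw [hd₂]; push_cast; rfl
  have hd₃c : (d x₃ : ℂ) = (d₃ : ℂ) := by rw [hd₃]; push_cast; rfl
  have hd₂ne : (d₂ : ℂ) ≠ 0 := by exact_mod_cast hd₂pos.ne'
  have hd₃ne : (d₃ : ℂ) ≠ 0 := by exact_mod_cast hd₃pos.ne'
  have hyc : (y : ℂ) ≠ 0 := by exact_mod_cast hy0
  -- the class multiplication relation
  have hEq : (1 : ℂ) - c₂ / d₂ - c₃ / d₃ - 9 / y = 0 := by
    have h := hE
    rw [hsplitC, hrest, hfx₀, hfx₀, hd₀, hv₂ z hz1, hv₂ p hp1, hv₃ z hz1, hv₃ p hp1, hd₂c,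
      hd₃c] at h
    simp only [map_neg, map_intCast, map_one, Nat.cast_one] at h
    have e2 : -(c₂ : ℂ) * -(c₂ : ℂ) * -(c₂ : ℂ) / d₂ = -(c₂ / d₂) := by
      rw [neg_mul_neg, hc₂c]; ring
    have e3 : -(c₃ : ℂ) * -(c₃ : ℂ) * -(c₃ : ℂ) / d₃ = -(c₃ / d₃) := by
      rw [neg_mul_neg, hc₃c]; ring
    rw [e2, e3] at h
    linear_combination h
  -- integers `a`, `b`
  set a : ℤ := -(c₂ * d₂) with ha
  set b : ℤ := -(c₃ * d₃) with hb
  have hyab : y = 1 + a + b := by rw [hy, ha, hb]; ring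
  have hdio : (a * b + a + b) * (1 + a + b) = 9 * (a * b) := by
    have h1 : ((1 : ℂ) - c₂ / d₂ - c₃ / d₃ - 9 / y) * (y * d₂ * d₃ * c₂ * c₃) = 0 := by
      rw [hEq, zero_mul]
    have h2 : ((1 : ℂ) - c₂ / d₂ - c₃ / d₃ - 9 / y) * (y * d₂ * d₃ * c₂ * c₃) =
        (y : ℂ) * d₂ * d₃ * c₂ * c₃ - (c₂ * c₂) * y * d₃ * c₃ - (c₃ * c₃) * y * d₂ * c₂ -
          9 * d₂ * d₃ * c₂ * c₃ := by
      field_simp
    rw [h2, hc₂c, hc₃c] at h1
    have h3 : (((a * b + a + b) * (1 + a + b) - 9 * (a * b) : ℤ) : ℂ) = 0 := by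
      rw [← hyab, ha, hb]
      push_cast
      linear_combination h1
    have h4 : (a * b + a + b) * (1 + a + b) - 9 * (a * b) = 0 := by exact_mod_cast h3
    linarith
  -- congruences
  have hcong : ∀ x ∈ X, ∀ c : ℤ, c * c = 1 →
      (∀ ψ : IrrCharacter A, ψ ≠ principalChar A → bint (f x) ψ = c) →
      (16 : ℤ) ∣ -(c * (d x : ℤ)) - 1 := by
    intro x hx c hc hcon
    obtain ⟨m, hm⟩ := degree_of_const hcomm (hchar x hx) c hcon
    rw [hdeg x hx] at hm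
    have hm' : (d x : ℤ) = (Nat.card A : ℤ) * m - c := by exact_mod_cast hm
    obtain ⟨t, ht⟩ := h16
    rw [hm', ht]
    refine ⟨-(t * c * m), ?_⟩
    push_cast
    linear_combination hc
  have hacong : (16 : ℤ) ∣ a - 1 := hcong x₂ hx₂X c₂ hc₂ (fun ψ hψ => (hall ψ hψ).1)
  have hbcong : (16 : ℤ) ∣ b - 1 := hcong x₃ hx₃X c₃ hc₃ (fun ψ hψ => (hall ψ hψ).2)
  obtain ⟨ha1, -⟩ := dioph a b hacong hbcong hdio
  -- conclusion
  have hc₂d₂ : c₂ = -1 ∧ d₂ = 1 := by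
    rw [ha] at ha1
    rcases sq_one_cases hc₂ with h | h
    · rw [h] at ha1; omega
    · rw [h] at ha1; exact ⟨h, by omega⟩
  refine ⟨x₂, hx₂X, hx₂0, ?_⟩
  intro a'
  by_cases ha' : a' = 1
  · rw [ha', hdeg x₂ hx₂X, hd₂c, hc₂d₂.2]
    norm_num
  · rw [hv₂ a' ha', hc₂d₂.1]
    norm_num

end Main'

end Cfsg.Agent.Helper7.Homo
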