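import Mathlib
import Cfsg.Agent.Lib.Helper7.Frob11
import Cfsg.Agent.Lib.Helper7.Homo11
import Cfsg.Agent.Lib.Helper7.Homo8

/-!
# The prime two: no involution outside all proper normal subgroups (helper7's library)
-/

set_option autoImplicit false

namespace Cfsg.Agent.Helper7.Frob

open Cfsg Cfsg.Agent.Helper24 Cfsg.Agent.Helper23 Cfsg.Agent.Helper23.Blk
open Cfsg.Agent.Helper7.Homo Cfsg.Agent.Helper7.BrCol
open scoped ComplexConjugate

universe u

/-- an irreducible character which is constant is the principal character -/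
theorem eq_principal_of_const {G : Type u} [Group G] [Finite G] (χ : IrrCharacter G)
    (hall : ∀ g : G, (χ : G → ℂ) g = (χ : G → ℂ) 1) : χ = principalChar G := by
  classical
  haveI : Fintype G := Fintype.ofFinite G
  letI : Fintype (IrrCharacter G) := irrFintype
  have hdc : (χ : G → ℂ) 1 = ((charDegree (χ : G → ℂ) : ℕ) : ℂ) := irr_one_eq_charDegree χ.2
  have hnorm := irr_orthogonality' χ χ
  rw [if_pos rfl] at hnorm
  unfold classInner at hnorm
  have hsum : ∑ g : G, (χ : G → ℂ) g * conj ((χ : G → ℂ) g) =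
      (Nat.card G : ℂ) * ((charDegree (χ : G → ℂ) : ℕ) : ℂ) ^ 2 := by
    have : ∀ g : G, (χ : G → ℂ) g * conj ((χ : G → ℂ) g) =
        ((charDegree (χ : G → ℂ) : ℕ) : ℂ) ^ 2 := by
      intro g
      rw [hall g, hdc, Complex.conj_natCast]
      ring
    rw [Finset.sum_congr rfl (fun g _ => this g), Finset.sum_const, Finset.card_univ,
      nsmul_eq_mul, Nat.card_eq_fintype_card]
  rw [hsum, ← mul_assoc, inv_mul_cancel₀ (by exact_mod_cast (Nat.card_pos (α := G)).ne'),
    one_mul] at hnorm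
  have hd1 : (charDegree (χ : G → ℂ)) ^ 2 = 1 := by exact_mod_cast hnorm
  have hd1' : charDegree (χ : G → ℂ) = 1 := by
    have hp := charDegree_pos χ.2
    nlinarith
  apply Subtype.ext
  funext g
  rw [hall g, hdc, hd1']
  simp
  rfl

/-- an element outside all proper normal subgroups lies in the kernel of no nonprincipal
irreducible character -/
theorem char_ne_degree_of_not_mem_normal {G : Type u} [Group G] [Finite G] (t : G)
    (htK : ∀ K : Subgroup G, K.Normal → t ∈ K → K = ⊤) (χ : IrrCharacter G)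
    (hχ : χ ≠ principalChar G) : (χ : G → ℂ) t ≠ (χ : G → ℂ) 1 := by
  intro h
  apply hχ
  have hχc := isCharacter_of_isIrrCharacter χ.2
  have htop := htK (charKer hχc) (charKer_normal hχc) ((mem_charKer hχc t).2 h)
  apply eq_principal_of_const
  intro g
  have : g ∈ charKer hχc := by rw [htop]; exact Subgroup.mem_top g
  exact (mem_charKer hχc g).1 this

set_option maxHeartbeats 1000000 in
/-- **The prime two.** -/
theorem frob3_two_false {G : Type u} [Group G] [Finite G] (M : Ideal AlgInt)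
    (hM : IsPModular 2 M) (P : Sylow 2 G)
    (hcomm : ∀ x y : (P : Subgroup G), x * y = y * x)
    (hm2 : 3 + 1 < Nat.card (P : Subgroup G))
    (h3 : ∃ r : ℕ, r * 3 = Nat.card (P : Subgroup G) - 1)
    (hCN : (Subgroup.centralizer ((P : Subgroup G) : Set G)).relIndex
      (Subgroup.normalizer ((P : Subgroup G) : Set G)) = 3)
    (hcyc : ∃ g : G, g ∈ Subgroup.normalizer ((P : Subgroup G) : Set G) ∧
      Subgroup.centralizer ((P : Subgroup G) : Set G) ⊔ Subgroup.zpowers g =
        Subgroup.normalizer ((P : Subgroup G) : Set G))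
    (hfrob : ∀ y : G, y ∈ (P : Subgroup G) → y ≠ 1 →
      Subgroup.centralizer ({y} : Set G) ⊓ Subgroup.normalizer ((P : Subgroup G) : Set G) =
        Subgroup.centralizer ((P : Subgroup G) : Set G))
    (t : G) (ht : orderOf t = 2)
    (htK : ∀ K : Subgroup G, K.Normal → t ∈ K → K = ⊤) : False := by
  classical
  haveI : Fact (Nat.Prime 2) := ⟨Nat.prime_two⟩
  haveI : Fintype (P : Subgroup G) := Fintype.ofFinite _
  letI : Fintype (IrrCharacter (P : Subgroup G)) := irrFintype
  haveI hMp : M.IsPrime := hM.2.1.isPrime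
  obtain ⟨ν₀, hνm, hfpf₀, hconj₀, hfus₀, hnil, -, -⟩ := frob_package P hcomm 3 hCN hcyc hfrob
  set ν : (P : Subgroup G) ≃* (P : Subgroup G) := ν₀ with hν
  have hpow1 : ∀ a, (ν₀ ^ 1) a = ν a := fun a => by rw [pow_one]
  have hpow2 : ∀ a, (ν₀ ^ 2) a = ν (ν a) := fun a => by rw [pow_two, MulAut.mul_apply]
  have hν3 : ∀ a, ν (ν (ν a)) = a := by
    intro a
    have h1 : (ν₀ ^ 3) a = ν (ν (ν a)) := by
      rw [pow_succ, pow_two, MulAut.mul_apply, MulAut.mul_apply]
    rw [← h1, hνm, MulAut.one_apply]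
  have hfpf : ∀ a, ν a = a → a = 1 := by
    intro a ha
    exact hfpf₀ 1 (by norm_num) (by norm_num) a (by rw [hpow1]; exact ha)
  have hconj : ∀ a : (P : Subgroup G), IsConj (a : G) ((ν a : (P : Subgroup G)) : G) := by
    intro a
    have := hconj₀ a 1
    rwa [hpow1] at this
  have hfus : ∀ a b : (P : Subgroup G), IsConj (a : G) (b : G) →
      b = a ∨ b = ν a ∨ b = ν (ν a) := by
    intro a b hab
    obtain ⟨k, hk, hk'⟩ := hfus₀ a b hab
    have hk3 : k = 0 ∨ k = 1 ∨ k = 2 := by omega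
    rcases hk3 with rfl | rfl | rfl
    · left; rw [hk', pow_zero, MulAut.one_apply]
    · right; left; rw [hk', hpow1]
    · right; right; rw [hk', hpow2]
  -- the involution, moved into `P`
  obtain ⟨s, hs⟩ := exists_conj_mem_sylow P (x := t) ⟨1, by rw [ht, pow_one]⟩
  set z : (P : Subgroup G) := ⟨s * t * s⁻¹, hs⟩ with hzdef
  have htt : t * t = 1 := by
    have := pow_orderOf_eq_one t
    rwa [ht, pow_two] at this
  have ht1 : t ≠ 1 := by
    intro h
    rw [h, orderOf_one] at ht
    norm_num at ht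
  have hz2 : z * z = 1 := by
    apply Subtype.ext
    rw [Subgroup.coe_mul, Subgroup.coe_one]
    show s * t * s⁻¹ * (s * t * s⁻¹) = 1
    calc s * t * s⁻¹ * (s * t * s⁻¹) = s * (t * t) * s⁻¹ := by group
      _ = 1 := by rw [htt]; group
  have hz1 : z ≠ 1 := by
    intro h
    apply ht1
    have h' : s * t * s⁻¹ = 1 := congrArg Subtype.val h
    have : t = s⁻¹ * (s * t * s⁻¹) * s := by group
    rw [this, h']
    group
  -- the order of `P`
  have h16 : 16 ∣ Nat.card (P : Subgroup G) := by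
    obtain ⟨n, hn⟩ := IsPGroup.iff_card.1 P.isPGroup'
    obtain ⟨r, hr⟩ := h3
    rw [hn] at hm2 hr ⊢
    have hn4 : 4 ≤ n := by
      by_contra hlt
      push Not at hlt
      interval_cases n <;> omega
    have : (16 : ℕ) = 2 ^ 4 := by norm_num
    rw [this]
    exact pow_dvd_pow 2 hn4
  -- an element outside the Klein group of `z`
  obtain ⟨u, hu⟩ : ∃ u : (P : Subgroup G), u ∉ ({1, z, ν z, ν (ν z)} : Finset (P : Subgroup G)) := by
    have hlt : ({1, z, ν z, ν (ν z)} : Finset (P : Subgroup G)).card <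
        (Finset.univ : Finset (P : Subgroup G)).card := by
      have h4 : ({1, z, ν z, ν (ν z)} : Finset (P : Subgroup G)).card ≤ 4 :=
        Finset.card_le_four
      rw [Finset.card_univ, ← Nat.card_eq_fintype_card]
      omega
    obtain ⟨u, -, hu⟩ := Finset.exists_mem_notMem_of_card_lt_card hlt
    exact ⟨u, hu⟩
  simp only [Finset.mem_insert, Finset.mem_singleton, not_or] at hu
  obtain ⟨hu1, hu0, hu1', hu2⟩ := hu
  -- the family
  set X := pbFinset M G with hX
  set f : IrrCharacter G → ↥(P : Subgroup G) → ℂ := fun χ a => (χ : G → ℂ) (a : G) with hf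
  set d : IrrCharacter G → ℕ := fun χ => charDegree (χ : G → ℂ) with hd
  have hchar : ∀ χ ∈ X, IsCharacter (P : Subgroup G) (f χ) := fun χ _ =>
    isCharacter_restrict (P : Subgroup G) (isCharacter_of_isIrrCharacter χ.2)
  have hdeg : ∀ χ ∈ X, f χ 1 = d χ := by
    intro χ _
    have := irr_one_eq_charDegree χ.2
    exact this
  have hdpos : ∀ χ ∈ X, 0 < d χ := fun χ _ => charDegree_pos χ.2
  have hx₀ : principalChar G ∈ X := mem_pbFinset.2 principalChar_mem_principalBlock
  have hfx₀ : ∀ a, f (principalChar G) a = 1 := fun a => rfl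
  have hcol : ∀ a a' : (P : Subgroup G), a ≠ 1 → a' ≠ 1 →
      ∑ χ ∈ X, f χ a * conj (f χ a') = (Nat.card (P : Subgroup G) : ℂ) *
        ((if a' = a then 1 else 0) + (if a' = ν a then 1 else 0) +
          (if a' = ν (ν a) then 1 else 0)) :=
    fun a a' ha ha' => homo_col M hM P hcomm ν hν3 hfpf hconj hfus hnil a a' ha ha'
  have hB : ∀ a : (P : Subgroup G), a ≠ 1 → ∑ χ ∈ X, (d χ : ℂ) * f χ a = 0 :=
    fun a ha => homo_deg_rel M hM P a ha
  have hE : ∑ χ ∈ X, f χ z * f χ z * conj (f χ u) / (d χ : ℂ) = 0 :=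
    class_rel_V M hM P hcomm ν hν3 hfpf hfus z u hz2 hu1 (fun h => hu0 h.symm)
      (fun h => hu1' h.symm) (fun h => hu2 h.symm)
  obtain ⟨χ, hχX, hχ0, hχ1⟩ := exists_trivial_restriction' hcomm h16 ν hν3 hfpf X f d hchar hdeg
    hdpos (principalChar G) hx₀ hfx₀ hcol hB z u hz1 hz2 hu1 (fun h => hu0 h.symm)
    (fun h => hu1' h.symm) (fun h => hu2 h.symm) hE
  -- the contradiction
  apply char_ne_degree_of_not_mem_normal t htK χ hχ0
  have e1 : (χ : G → ℂ) (s * t * s⁻¹) = 1 := hχ1 z
  have e2 : (χ : G → ℂ) 1 = 1 := hχ1 1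
  rw [e2, ← e1]
  exact (isClassFunction_of_isIrrCharacter χ.2 t s).symm

end Cfsg.Agent.Helper7.Frob
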