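import Mathlib
import Cfsg.Agent.Lib.Helper7.BL10
import Cfsg.Agent.Lib.Helper7.BL12
import Cfsg.Agent.Lib.Helper7.Frob12

/-!
# Characters of small degree of a group in which the nonidentity elements of a Sylow subgroup
all have the centralizer of the Sylow subgroup: the main theorem (helper7's library)
-/

set_option autoImplicit false
set_option linter.unusedSectionVars false

namespace Cfsg.Agent.Helper7.BL

open Cfsg Cfsg.Agent.Helper24
open scoped ComplexConjugate

universe u

section Main

variable {G : Type u} [Group G] [Fintype G] {p : ℕ} {P C N : Subgroup G} [Fintype C]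
  [Fintype N] [Fintype (IrrCharacter G)] [Fintype (IrrCharacter ↥C)] [Fintype (Par P C)]
  (cfg : Config p P C N)

include cfg in
/-- when `N = C`, the values on `P` have the absolute value of the degree -/
theorem stepB (χ : IrrCharacter G) (he : Nat.card N = 1 * Nat.card C)
    (hx : charDegree (χ : G → ℂ) ^ 2 < Nat.card P) (ζ₀ : IrrCharacter ↥C)
    (hζ₀ : ¬ PTriv P ζ₀) (hm : mult χ ζ₀ ≠ 0) (y : G) (hy : y ∈ P) :
    Complex.normSq ((χ : G → ℂ) y) = ((charDegree (χ : G → ℂ) : ℕ) : ℝ) ^ 2 := by
  classical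
  obtain ⟨hm0, horb, -, hdeg⟩ := stepA_orbit cfg χ 1 he hx ζ₀ hζ₀ hm
  have hCN : C = N := by
    apply Subgroup.eq_of_le_of_card_ge cfg.hCN
    rw [he, one_mul]
  have honly : ∀ ζ, mult χ ζ ≠ 0 → ζ = ζ₀ := by
    intro ζ hζ
    obtain ⟨n, rfl⟩ := horb ζ hζ
    apply cjI_of_mem
    rw [hCN]
    exact n.2
  have hyC : y ∈ C := cfg.hPC hy
  have hval : (χ : G → ℂ) y = (ζ₀ : ↥C → ℂ) ⟨y, hyC⟩ := by
    have h1 := res_apply (C := C) χ ⟨y, hyC⟩
    rw [Finset.sum_eq_single ζ₀] at h1
    · rw [hm0, Nat.cast_one, one_mul] at h1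
      exact h1
    · intro ζ _ hne
      by_cases h0 : mult χ ζ = 0
      · rw [h0, Nat.cast_zero, zero_mul]
      · exact absurd (honly ζ h0) hne
    · intro h
      exact absurd (Finset.mem_univ _) h
  obtain ⟨lam, hlam⟩ := exists_central cfg ζ₀
  have h2 := hlam (toZ cfg y hy)
  have h3 : ((toZ cfg y hy : ↥(P.subgroupOf C)) : ↥C) = ⟨y, hyC⟩ := Subtype.ext rfl
  rw [h3] at h2
  have hnorm : ‖((lam (toZ cfg y hy) : ℂˣ) : ℂ)‖ = 1 := by
    apply Complex.norm_eq_one_of_pow_eq_one (n := orderOf (toZ cfg y hy))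
    · rw [← Units.val_pow_eq_pow_val, ← map_pow, pow_orderOf_eq_one, map_one, Units.val_one]
    · exact (orderOf_pos _).ne'
  rw [hval, h2, Complex.normSq_mul, Complex.normSq_eq_norm_sq (((lam (toZ cfg y hy) : ℂˣ) : ℂ)),
    hnorm, irr_one_eq_charDegree ζ₀.2, hdeg, one_mul, Complex.normSq_natCast]
  ring

/-- the product of an irreducible character and its conjugate -/
theorem isCharacter_normSq (χ : IrrCharacter G) :
    IsCharacter G (fun g => (χ : G → ℂ) g * conj ((χ : G → ℂ) g)) :=
  isCharacter_mul (isCharacter_of_isIrrCharacter χ.2)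
    (isCharacter_conj (isCharacter_of_isIrrCharacter χ.2))

open Classical in
/-- **The choice of a constituent** of the product of the character and its conjugate. -/
theorem exists_theta (χ : IrrCharacter G) (e : ℕ) (he2 : 2 ≤ e)
    (hnorm : ∑ ζ : IrrCharacter ↥C, mult χ ζ ^ 2 = e) :
    ∃ θ : IrrCharacter G, θ ≠ principalChar G ∧ 1 ≤ mult θ (principalChar ↥C) ∧
      charDegree (θ : G → ℂ) + 1 ≤ charDegree (χ : G → ℂ) ^ 2 := by
  set ψ : G → ℂ := fun g => (χ : G → ℂ) g * conj ((χ : G → ℂ) g) with hψdef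
  have hψ : IsCharacter G ψ := isCharacter_normSq χ
  obtain ⟨hnat, hdec⟩ := isCharacter_decomp hψ
  choose m hm using hnat
  -- the multiplicity of the principal character
  have hm1 : m (principalChar G) = 1 := by
    have h1 : classInner ψ (principalChar G : G → ℂ) =
        classInner (χ : G → ℂ) (χ : G → ℂ) := by
      unfold classInner
      congr 1
      refine Finset.sum_congr rfl fun g _ => ?_
      show (χ : G → ℂ) g * conj ((χ : G → ℂ) g) * conj (1 : ℂ) = _
      rw [map_one, mul_one]
    rw [hm, irr_orthogonality', if_pos rfl] at h1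
    exact_mod_cast h1
  -- the degree
  have hdegψ : charDegree (χ : G → ℂ) ^ 2 =
      ∑ θ : IrrCharacter G, m θ * charDegree (θ : G → ℂ) := by
    have h1 := congrFun hdec 1
    rw [Finset.sum_apply] at h1
    have h2 : ψ 1 = ((charDegree (χ : G → ℂ) ^ 2 : ℕ) : ℂ) := by
      show (χ : G → ℂ) 1 * conj ((χ : G → ℂ) 1) = _
      rw [irr_one_eq_charDegree χ.2, Complex.conj_natCast]
      push_cast
      ring
    rw [h2] at h1
    have h3 : ((charDegree (χ : G → ℂ) ^ 2 : ℕ) : ℂ) =
        ((∑ θ : IrrCharacter G, m θ * charDegree (θ : G → ℂ) : ℕ) : ℂ) := by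
      rw [h1]
      push_cast
      refine Finset.sum_congr rfl fun θ _ => ?_
      rw [Pi.smul_apply, smul_eq_mul, hm, irr_one_eq_charDegree θ.2]
    exact_mod_cast h3
  -- the multiplicity of the principal character of `C`
  have hone : ∑ θ : IrrCharacter G, m θ * mult θ (principalChar ↥C) = e := by
    have h1 : (fun c : ↥C => ψ c) =
        ∑ θ : IrrCharacter G, (m θ : ℂ) • (fun c : ↥C => (θ : G → ℂ) c) := by
      funext c
      have := congrFun hdec c
      rw [Finset.sum_apply] at this
      rw [this, Finset.sum_apply]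
      refine Finset.sum_congr rfl fun θ _ => ?_
      rw [Pi.smul_apply, Pi.smul_apply, hm]
    have h2 : classInner (fun c : ↥C => ψ c) (principalChar ↥C : ↥C → ℂ) =
        classInner (fun c : ↥C => (χ : G → ℂ) c) (fun c : ↥C => (χ : G → ℂ) c) := by
      unfold classInner
      congr 1
      refine Finset.sum_congr rfl fun c _ => ?_
      show (χ : G → ℂ) c * conj ((χ : G → ℂ) c) * conj (1 : ℂ) = _
      rw [map_one, mul_one]
    rw [inner_res_self, hnorm, h1, classInner_sum_left] at h2
    have h3 : ((∑ θ : IrrCharacter G, m θ * mult θ (principalChar ↥C) : ℕ) : ℂ) = (e : ℂ) := by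
      rw [← h2]
      push_cast
      refine Finset.sum_congr rfl fun θ _ => ?_
      rw [classInner_smul_left, mult_spec']
    exact_mod_cast h3
  rw [← Finset.add_sum_erase Finset.univ _ (Finset.mem_univ (principalChar G)), hm1,
    mult_principal, if_pos rfl] at hone
  have hne : ∑ θ ∈ Finset.univ.erase (principalChar G), m θ * mult θ (principalChar ↥C) ≠ 0 := by
    omega
  obtain ⟨θ, hθmem, hθ⟩ := Finset.exists_ne_zero_of_sum_ne_zero hne
  have hθne : θ ≠ principalChar G := (Finset.mem_erase.1 hθmem).1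
  have hmθ : 1 ≤ m θ := by
    rcases Nat.eq_zero_or_pos (m θ) with h | h
    · rw [h, zero_mul] at hθ
      exact absurd rfl hθ
    · exact h
  have haθ : 1 ≤ mult θ (principalChar ↥C) := by
    rcases Nat.eq_zero_or_pos (mult θ (principalChar ↥C)) with h | h
    · rw [h, mul_zero] at hθ
      exact absurd rfl hθ
    · exact h
  refine ⟨θ, hθne, haθ, ?_⟩
  rw [hdegψ, ← Finset.add_sum_erase Finset.univ _ (Finset.mem_univ (principalChar G)), hm1,
    charDegree_principal, one_mul]
  have h1 : m θ * charDegree (θ : G → ℂ) ≤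
      ∑ θ' ∈ Finset.univ.erase (principalChar G), m θ' * charDegree (θ' : G → ℂ) :=
    Finset.single_le_sum (f := fun θ' : IrrCharacter G => m θ' * charDegree (θ' : G → ℂ))
      (fun θ' _ => Nat.zero_le _) hθmem
  have h2 : charDegree (θ : G → ℂ) ≤ m θ * charDegree (θ : G → ℂ) :=
    Nat.le_mul_of_pos_left _ hmθ
  omega

include cfg in
/-- a nonprincipal irreducible character all of whose constituents on `C` are trivial on `P`
gives a proper normal subgroup containing `P` -/
theorem normal_of_ptriv (θ : IrrCharacter G) (hθ : θ ≠ principalChar G)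
    (h : ∀ ζ : IrrCharacter ↥C, ¬ PTriv P ζ → mult θ ζ = 0) :
    ∃ K : Subgroup G, K.Normal ∧ K ≠ ⊤ ∧ P ≤ K := by
  have hθc := isCharacter_of_isIrrCharacter θ.2
  refine ⟨charKer hθc, charKer_normal hθc, ?_, ?_⟩
  · intro htop
    apply hθ
    apply Cfsg.Agent.Helper7.Frob.eq_principal_of_const
    intro g
    have : g ∈ charKer hθc := by rw [htop]; exact Subgroup.mem_top g
    exact (mem_charKer hθc g).1 this
  · intro y hy
    exact (mem_charKer hθc y).2 (ker_of_ptriv θ h y hy (cfg.hPC hy))

include cfg in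
/-- **The main theorem**, with the finiteness instances. -/
theorem main_fin (χ : IrrCharacter G) (hχ : χ ≠ principalChar G)
    (hdeg : charDegree (χ : G → ℂ) ^ 2 + 1 < Nat.card P)
    (e : ℕ) (he : Nat.card N = e * Nat.card C) (hdvd : e ∣ Nat.card P - 1)
    (hB : e = 1 → ∃ M : Subgroup G, M.Normal ∧ M.index = Nat.card P) :
    (∃ K : Subgroup G, K.Normal ∧ K ≠ ⊤ ∧ P ≤ K) ∨
      ((∃ M : Subgroup G, M.Normal ∧ M.index = Nat.card P) ∧
        charDegree (χ : G → ℂ) = 1) := by
  classical
  by_cases hA : ∀ ζ : IrrCharacter ↥C, ¬ PTriv P ζ → mult χ ζ = 0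
  · left
    exact normal_of_ptriv cfg χ hχ hA
  push Not at hA
  obtain ⟨ζ₀, hζ₀, hm⟩ := hA
  have hx : charDegree (χ : G → ℂ) ^ 2 < Nat.card P := by omega
  obtain ⟨hm0, horb, hnorm, hdegx⟩ := stepA_orbit cfg χ e he hx ζ₀ hζ₀ hm
  have hepos : 0 < e := by
    rcases Nat.eq_zero_or_pos e with h | h
    · rw [h, zero_mul] at he
      exact absurd he Nat.card_pos.ne'
    · exact h
  rcases Nat.lt_or_ge e 2 with he2 | he2
  · -- the case `N = C`
    have he1 : e = 1 := by omega
    subst he1
    have hval := stepB cfg χ he hx ζ₀ hζ₀ hm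
    have hψ := isCharacter_normSq χ
    have hψ1 : (χ : G → ℂ) 1 * conj ((χ : G → ℂ) 1) =
        (((charDegree (χ : G → ℂ) : ℕ) : ℝ) ^ 2 : ℝ) := by
      rw [irr_one_eq_charDegree χ.2, Complex.conj_natCast]
      push_cast
      ring
    by_cases htop : charKer hψ = ⊤
    · right
      refine ⟨hB rfl, ?_⟩
      have hall : ∀ g : G, (χ : G → ℂ) g * conj ((χ : G → ℂ) g) =
          (((charDegree (χ : G → ℂ) : ℕ) : ℝ) ^ 2 : ℝ) := by
        intro g
        have : g ∈ charKer hψ := by rw [htop]; exact Subgroup.mem_top g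
        have h : (χ : G → ℂ) g * conj ((χ : G → ℂ) g) =
            (χ : G → ℂ) 1 * conj ((χ : G → ℂ) 1) := (mem_charKer hψ g).1 this
        rw [h, hψ1]
      have hnorm1 := irr_orthogonality' χ χ
      rw [if_pos rfl] at hnorm1
      unfold classInner at hnorm1
      rw [Finset.sum_congr rfl (fun g _ => hall g), Finset.sum_const, Finset.card_univ,
        nsmul_eq_mul, ← Nat.card_eq_fintype_card, ← mul_assoc,
        inv_mul_cancel₀ (by exact_mod_cast (Nat.card_pos (α := G)).ne'), one_mul] at hnorm1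
      have h2 : (charDegree (χ : G → ℂ)) ^ 2 = 1 := by exact_mod_cast hnorm1
      have hp := charDegree_pos χ.2
      nlinarith
    · left
      refine ⟨charKer hψ, charKer_normal hψ, htop, ?_⟩
      intro y hy
      rw [mem_charKer]
      show (χ : G → ℂ) y * conj ((χ : G → ℂ) y) = (χ : G → ℂ) 1 * conj ((χ : G → ℂ) 1)
      rw [hψ1, Complex.mul_conj, hval y hy]
  · -- the case of a nontrivial action
    left
    have hz : 1 ≤ charDegree (ζ₀ : ↥C → ℂ) := charDegree_pos ζ₀.2
    have hex : e ≤ charDegree (χ : G → ℂ) := by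
      rw [hdegx]
      exact Nat.le_mul_of_pos_right e hz
    have heq : e * e + 1 < Nat.card P := by
      have : e * e ≤ charDegree (χ : G → ℂ) ^ 2 := by
        rw [sq]
        exact Nat.mul_le_mul hex hex
      omega
    have hxe : charDegree (χ : G → ℂ) ^ 2 + e + 1 ≤ Nat.card P := by
      obtain ⟨k, hk⟩ := hdvd
      set w := charDegree (ζ₀ : ↥C → ℂ) * charDegree (χ : G → ℂ) with hw
      have hx2 : charDegree (χ : G → ℂ) ^ 2 = e * w := by
        calc charDegree (χ : G → ℂ) ^ 2
            = charDegree (χ : G → ℂ) * charDegree (χ : G → ℂ) := sq _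
          _ = e * charDegree (ζ₀ : ↥C → ℂ) * charDegree (χ : G → ℂ) := by rw [← hdegx]
          _ = e * w := by rw [hw]; ring
      have hlt : e * w < e * k := by
        rw [← hx2, ← hk]
        omega
      have hwk : w < k := Nat.lt_of_mul_lt_mul_left hlt
      have : e * w + e ≤ e * k := by
        have : e * (w + 1) ≤ e * k := Nat.mul_le_mul_left e hwk
        linarith
      rw [hx2]
      omega
    obtain ⟨θ, hθne, haθ, hθdeg⟩ := exists_theta χ e he2 hnorm
    have hθ : charDegree (θ : G → ℂ) + e + 1 < Nat.card P := by omega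
    exact normal_of_ptriv cfg θ hθne (stepC cfg e he (by omega) heq θ hθ haθ)

end Main

end Cfsg.Agent.Helper7.BL
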