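import Mathlib
import Cfsg.Agent.Lib.Helper7.BL13

/-!
# Characters of small degree of a group in which the nonidentity elements of a Sylow subgroup
all have the centralizer of the Sylow subgroup: the theorem for irreducible characters
(helper7's library)
-/

set_option autoImplicit false
set_option linter.unusedSectionVars false

namespace Cfsg.Agent.Helper7.BL

open Cfsg Cfsg.Agent.Helper24
open scoped ComplexConjugate

universe u

/-- the index of `C` in `N` divides the number of nonidentity elements of `P` -/
theorem config_dvd {G : Type u} [Group G] [Finite G] {p : ℕ} {P C N : Subgroup G}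
    (cfg : Config p P C N) (e : ℕ) (he : Nat.card N = e * Nat.card C) :
    e ∣ Nat.card P - 1 := by
  classical
  haveI : Fintype G := Fintype.ofFinite G
  haveI : Fintype ↥N := Fintype.ofFinite _
  set S : Finset G := Finset.univ.filter (fun y : G => y ∈ P ∧ y ≠ 1) with hS
  have hcardS : S.card = Nat.card P - 1 := by
    have h1 : S = (Finset.univ.filter (fun y : G => y ∈ P)).erase 1 := by
      ext y
      simp only [hS, Finset.mem_filter, Finset.mem_univ, true_and, Finset.mem_erase]
      tauto
    rw [h1, Finset.card_erase_of_mem (by simp [P.one_mem]), Nat.card_eq_fintype_card,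
      Fintype.card_subtype]
  rw [← hcardS]
  apply dvd_card_of_stab (N := ↥N) (X := G) (fun n y => (n : G) * y * (n : G)⁻¹)
    (by intro y; simp) (by intro n m y; simp only [Subgroup.coe_mul]; group) (C.subgroupOf N) S
  · intro y hy n
    obtain ⟨hyP, hy1⟩ := (Finset.mem_filter.1 hy).2
    rw [hS, Finset.mem_filter]
    refine ⟨Finset.mem_univ _, ?_, ?_⟩
    · have := cfg.normP (n : G)⁻¹ (N.inv_mem n.2) y hyP
      rwa [inv_inv] at this
    · intro h
      apply hy1
      have : y = (n : G)⁻¹ * ((n : G) * y * (n : G)⁻¹) * (n : G) := by group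
      rw [this, h]
      group
  · intro y hy n
    obtain ⟨hyP, hy1⟩ := (Finset.mem_filter.1 hy).2
    rw [Subgroup.mem_subgroupOf]
    constructor
    · intro h
      have h2 : ((n : G)⁻¹)⁻¹ * y * (n : G)⁻¹ = y := by rw [inv_inv]; exact h
      have := cfg.free (n : G)⁻¹ (N.inv_mem n.2) y hyP hy1 h2
      have h3 := C.inv_mem this
      rwa [inv_inv] at h3
    · intro h
      have := cfg.central (n : G) h y hyP
      rw [this, mul_assoc, mul_inv_cancel, mul_one]
  · rw [← Nat.card_eq_fintype_card, he]
    congr 1
    exact (Nat.card_congr (Subgroup.subgroupOfEquivOfLe cfg.hCN).toEquiv).symm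

/-- **The theorem for irreducible characters.** -/
theorem bl_irr {G : Type u} [Group G] [Finite G] (p : ℕ) [hp : Fact p.Prime]
    (hpG : p ∣ Nat.card G) (P : Sylow p G)
    (hstar : ∀ x ∈ (P : Subgroup G), x ≠ 1 → Subgroup.centralizer ({x} : Set G) =
      Subgroup.centralizer ((P : Subgroup G) : Set G))
    (χ : IrrCharacter G) (h1 : (χ : G → ℂ) ≠ fun _ => 1)
    (hdeg : charDegree (χ : G → ℂ) ^ 2 + 1 < Nat.card P) :
    (∃ K : Subgroup G, K.Normal ∧ K ≠ ⊤ ∧ (P : Subgroup G) ≤ K) ∨
      ((∃ M : Subgroup G, M.Normal ∧ M.index = Nat.card P) ∧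
        charDegree (χ : G → ℂ) = 1) := by
  classical
  have cfg := config_of_star P hpG hstar
  haveI : Fintype G := Fintype.ofFinite G
  haveI : Fintype ↥(Subgroup.centralizer ((P : Subgroup G) : Set G)) := Fintype.ofFinite _
  haveI : Fintype ↥(Subgroup.normalizer ((P : Subgroup G) : Set G)) := Fintype.ofFinite _
  letI : Fintype (IrrCharacter G) := irrFintype
  letI : Fintype (IrrCharacter ↥(Subgroup.centralizer ((P : Subgroup G) : Set G))) := irrFintype
  haveI := finite_hom cfg
  letI : Fintype (Par (P : Subgroup G) (Subgroup.centralizer ((P : Subgroup G) : Set G))) :=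
    Fintype.ofFinite _
  obtain ⟨e, he⟩ := Subgroup.card_dvd_of_le cfg.hCN
  rw [mul_comm] at he
  have hχ : χ ≠ principalChar G := by
    intro h
    apply h1
    rw [h]
    rfl
  have hB : e = 1 → ∃ M : Subgroup G, M.Normal ∧ M.index = Nat.card (P : Subgroup G) := by
    intro he1
    rw [he1, one_mul] at he
    have hCN : Subgroup.centralizer ((P : Subgroup G) : Set G) =
        Subgroup.normalizer ((P : Subgroup G) : Set G) :=
      Subgroup.eq_of_le_of_card_ge cfg.hCN he.le
    have hle : Subgroup.normalizer ((P : Subgroup G) : Set G) ≤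
        Subgroup.centralizer ((P : Subgroup G) : Set G) := hCN.ge
    refine ⟨(MonoidHom.transferSylow P hle).ker, inferInstance, ?_⟩
    exact (MonoidHom.ker_transferSylow_isComplement' P hle).symm.index_eq_card
  exact main_fin cfg χ hχ hdeg e he (config_dvd cfg e he) hB

end Cfsg.Agent.Helper7.BL
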