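import Mathlib
import Cfsg.Agent.Lib.Helper7.BL14

/-!
# Faithful characters of small degree of a group in which the nonidentity elements of a Sylow
subgroup all have the centralizer of the Sylow subgroup (helper7's library)
-/

set_option autoImplicit false
set_option linter.unusedSectionVars false

namespace Cfsg.Agent.Helper7.BL

open Cfsg Cfsg.Agent.Helper24
open scoped ComplexConjugate

universe u

/-- the condition on the centralizers passes to a subgroup containing the Sylow subgroup -/
theorem star_subgroup {G : Type u} [Group G] {p : ℕ} [Fact p.Prime] (P : Sylow p G)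
    (hstar : ∀ x ∈ (P : Subgroup G), x ≠ 1 → Subgroup.centralizer ({x} : Set G) =
      Subgroup.centralizer ((P : Subgroup G) : Set G))
    (K : Subgroup G) (hPK : (P : Subgroup G) ≤ K) :
    ∀ x ∈ ((P.subtype hPK : Sylow p ↥K) : Subgroup ↥K), x ≠ 1 →
      Subgroup.centralizer ({x} : Set ↥K) =
        Subgroup.centralizer (((P.subtype hPK : Sylow p ↥K) : Subgroup ↥K) : Set ↥K) := by
  intro x hx hx1
  have hxP : (x : G) ∈ (P : Subgroup G) := hx
  have hx1' : (x : G) ≠ 1 := fun h => hx1 (Subtype.ext h)
  have hs := hstar (x : G) hxP hx1'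
  ext k
  rw [Subgroup.mem_centralizer_iff, Subgroup.mem_centralizer_iff]
  constructor
  · intro h y hy
    have hk : (k : G) ∈ Subgroup.centralizer ({(x : G)} : Set G) := by
      rw [Subgroup.mem_centralizer_iff]
      intro z hz
      rw [Set.mem_singleton_iff] at hz
      subst hz
      exact congrArg Subtype.val (h x (Set.mem_singleton x))
    rw [hs, Subgroup.mem_centralizer_iff] at hk
    apply Subtype.ext
    exact hk (y : G) hy
  · intro h y hy
    rw [Set.mem_singleton_iff] at hy
    subst hy
    exact h y hx

/-- **The theorem for faithful characters.** -/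
theorem bl_faithful : ∀ (k : ℕ) (G : Type u) [Group G] [Finite G], Nat.card G = k →
    ∀ (p : ℕ) [Fact p.Prime] (_hpG : p ∣ Nat.card G) (P : Sylow p G)
      (_hstar : ∀ x ∈ (P : Subgroup G), x ≠ 1 → Subgroup.centralizer ({x} : Set G) =
        Subgroup.centralizer ((P : Subgroup G) : Set G))
      (χ : G → ℂ) (_hχ : IsCharacter G χ) (_hfaith : ∀ g : G, χ g = χ 1 → g = 1)
      (_hdeg : charDegree χ ^ 2 + 1 < Nat.card (P : Subgroup G)), (P : Subgroup G).Normal := by
  intro k
  induction k using Nat.strong_induction_on with
  | _ k ih =>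
    intro G _ _ hk p _ hpG P hstar χ hχ hfaith hdeg
    classical
    by_cases hK : ∃ K : Subgroup G, K.Normal ∧ K ≠ ⊤ ∧ (P : Subgroup G) ≤ K
    · obtain ⟨K, hKn, hKtop, hPK⟩ := hK
      haveI := hKn
      have hcard : Nat.card K < k := by
        rw [← hk]
        have h1 := Subgroup.card_mul_index K
        have h2 : K.index ≠ 1 := fun h => hKtop (Subgroup.index_eq_one.1 h)
        have h3 : K.index ≠ 0 := Subgroup.index_ne_zero_of_finite
        have h4 : 0 < Nat.card K := Nat.card_pos
        have h5 : 2 ≤ K.index := by omega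
        nlinarith
      have hpK : p ∣ Nat.card K :=
        dvd_trans (P.dvd_card_of_dvd_card hpG) (Subgroup.card_dvd_of_le hPK)
      have hQcard : Nat.card ((P.subtype hPK : Sylow p ↥K) : Subgroup ↥K) =
          Nat.card (P : Subgroup G) :=
        Nat.card_congr (Subgroup.subgroupOfEquivOfLe hPK).toEquiv
      have hQn : ((P.subtype hPK : Sylow p ↥K) : Subgroup ↥K).Normal := by
        apply ih (Nat.card K) hcard ↥K rfl p hpK (P.subtype hPK) (star_subgroup P hstar K hPK)
          (fun c : ↥K => χ c) (isCharacter_restrict K hχ)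
        · intro g hg
          apply Subtype.ext
          exact hfaith (g : G) hg
        · rw [hQcard]
          exact hdeg
      haveI : ((P.subtype hPK : Sylow p ↥K) : Subgroup ↥K).Characteristic :=
        Sylow.characteristic_of_normal _ hQn
      have hmap : (((P.subtype hPK : Sylow p ↥K) : Subgroup ↥K).map K.subtype).Normal :=
        inferInstance
      have e : ((P.subtype hPK : Sylow p ↥K) : Subgroup ↥K).map K.subtype = (P : Subgroup G) := by
        rw [Sylow.coe_subtype]
        exact Subgroup.map_subgroupOf_eq_of_le hPK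
      rwa [e] at hmap
    · -- the group is abelian
      haveI : Fintype G := Fintype.ofFinite G
      letI : Fintype (IrrCharacter G) := irrFintype
      obtain ⟨hnat, hdec⟩ := isCharacter_decomp hχ
      choose m hm using hnat
      have hval : ∀ g : G, χ g = ∑ ψ : IrrCharacter G, (m ψ : ℂ) * (ψ : G → ℂ) g := by
        intro g
        have := congrFun hdec g
        rw [Finset.sum_apply] at this
        rw [this]
        refine Finset.sum_congr rfl fun ψ _ => ?_
        rw [Pi.smul_apply, smul_eq_mul, hm]
      have hdegsum : charDegree χ = ∑ ψ : IrrCharacter G, m ψ * charDegree (ψ : G → ℂ) := by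
        have h1 := hval 1
        rw [char_one_eq_charDegree hχ] at h1
        have h2 : ((charDegree χ : ℕ) : ℂ) =
            ((∑ ψ : IrrCharacter G, m ψ * charDegree (ψ : G → ℂ) : ℕ) : ℂ) := by
          rw [h1]
          push_cast
          refine Finset.sum_congr rfl fun ψ _ => ?_
          rw [irr_one_eq_charDegree ψ.2]
        exact_mod_cast h2
      have hlin : ∀ ψ : IrrCharacter G, m ψ ≠ 0 → (ψ : G → ℂ) 1 = 1 := by
        intro ψ hψ
        by_cases h1 : (ψ : G → ℂ) = fun _ => 1
        · rw [h1]
        · have hle : charDegree (ψ : G → ℂ) ≤ charDegree χ := by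
            rw [hdegsum]
            have h2 : m ψ * charDegree (ψ : G → ℂ) ≤
                ∑ ψ' : IrrCharacter G, m ψ' * charDegree (ψ' : G → ℂ) :=
              Finset.single_le_sum (f := fun ψ' : IrrCharacter G =>
                m ψ' * charDegree (ψ' : G → ℂ)) (fun _ _ => Nat.zero_le _) (Finset.mem_univ ψ)
            have h3 : charDegree (ψ : G → ℂ) ≤ m ψ * charDegree (ψ : G → ℂ) :=
              Nat.le_mul_of_pos_left _ (Nat.pos_of_ne_zero hψ)
            omega
          have hdegψ : charDegree (ψ : G → ℂ) ^ 2 + 1 < Nat.card (P : Subgroup G) := by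
            have : charDegree (ψ : G → ℂ) ^ 2 ≤ charDegree χ ^ 2 := Nat.pow_le_pow_left hle 2
            omega
          rcases bl_irr p hpG P hstar ψ h1 hdegψ with h | h
          · exact absurd h hK
          · rw [irr_one_eq_charDegree ψ.2, h.2, Nat.cast_one]
      have hcomm : ∀ a b : G, a * b = b * a := by
        intro a b
        have hg : a * b * a⁻¹ * b⁻¹ = 1 := by
          apply hfaith
          rw [hval, hval]
          refine Finset.sum_congr rfl fun ψ _ => ?_
          by_cases hψ : m ψ = 0
          · rw [hψ, Nat.cast_zero, zero_mul, zero_mul]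
          · have h1 := hlin ψ hψ
            have hmul := char_mul_of_degree_one (isCharacter_of_isIrrCharacter ψ.2) h1
            congr 1
            rw [hmul, hmul, hmul, h1]
            have ha : (ψ : G → ℂ) a * (ψ : G → ℂ) a⁻¹ = 1 := by
              rw [← hmul, mul_inv_cancel, h1]
            have hb : (ψ : G → ℂ) b * (ψ : G → ℂ) b⁻¹ = 1 := by
              rw [← hmul, mul_inv_cancel, h1]
            calc (ψ : G → ℂ) a * (ψ : G → ℂ) b * (ψ : G → ℂ) a⁻¹ * (ψ : G → ℂ) b⁻¹
                = ((ψ : G → ℂ) a * (ψ : G → ℂ) a⁻¹) * ((ψ : G → ℂ) b * (ψ : G → ℂ) b⁻¹) := by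
                  ring
              _ = 1 := by rw [ha, hb, mul_one]
        calc a * b = (a * b * a⁻¹ * b⁻¹) * (b * a) := by group
          _ = b * a := by rw [hg, one_mul]
      constructor
      intro y hy g
      rw [hcomm g y, mul_assoc, mul_inv_cancel, mul_one]
      exact hy

end Cfsg.Agent.Helper7.BL
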