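import Mathlib
import Cfsg.Agent.Lib.Helper7.BW6
import Cfsg.Agent.Lib.Helper3.Card

set_option autoImplicit false

namespace Cfsg.Agent.Helper7

open Subgroup
open scoped Pointwise

variable {H : Type*} [Group H]

/-- pick two independent elements in a noncyclic elementary abelian group -/
theorem exists_pair_of_elementaryAbelian [Finite H] (p : ℕ) [hp : Fact p.Prime] (A : Subgroup H)
    (hexp : ∀ x ∈ A, x ^ p = 1) (hA2 : p ^ 2 ≤ Nat.card ↥A) :
    ∃ a ∈ A, ∃ b ∈ A, a ≠ 1 ∧ b ∉ Subgroup.zpowers a := by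
  have hpp := hp.out
  have h1 : 1 < Nat.card ↥A := lt_of_lt_of_le (by nlinarith [hpp.two_le]) hA2
  obtain ⟨a, ha, ha1⟩ : ∃ a ∈ A, a ≠ 1 := by
    by_contra hcon
    push Not at hcon
    have : A = ⊥ := (Subgroup.eq_bot_iff_forall _).mpr hcon
    rw [this, Subgroup.card_bot] at h1
    omega
  refine ⟨a, ha, ?_⟩
  by_contra hcon
  push Not at hcon
  have hle : A ≤ Subgroup.zpowers a := fun b hb => hcon b hb ha1
  have h2 : Nat.card ↥A ≤ Nat.card ↥(Subgroup.zpowers a) := Subgroup.card_le_of_le hle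
  rw [Nat.card_zpowers] at h2
  have h3 : orderOf a ≤ p := Nat.le_of_dvd hpp.pos (orderOf_dvd_of_pow_eq_one (hexp a ha))
  nlinarith [hpp.two_le]

theorem gfam_mem_of_mem (p : ℕ) (A : Subgroup H) {a b : H} (ha : a ∈ A) (hb : b ∈ A) (j : ℕ) :
    gfam p a b j ∈ A := by
  obtain ⟨i, k, h⟩ := gfam_eq_pow_mul_pow p a b j
  rw [h]
  exact A.mul_mem (A.pow_mem ha i) (A.pow_mem hb k)

theorem gfam_ne_one (p : ℕ) [hp : Fact p.Prime] {a b : H} (hbp : b ^ p = 1) (ha1 : a ≠ 1)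
    (hb : b ∉ Subgroup.zpowers a) (j : ℕ) : gfam p a b j ≠ 1 := by
  have hpp := hp.out
  unfold gfam
  split_ifs with hj
  · intro h
    by_cases hj0 : j = 0
    · rw [hj0, pow_zero, mul_one] at h
      exact ha1 h
    · have hbj : b ^ j ∈ Subgroup.zpowers a := by
        have : b ^ j = a⁻¹ := by
          have h2 : b ^ j = a⁻¹ * (a * b ^ j) := by group
          rw [h2, h, mul_one]
        rw [this]
        exact Subgroup.inv_mem _ (Subgroup.mem_zpowers a)
      have hnd : ¬ p ∣ j := fun hd => by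
        have := Nat.le_of_dvd (by omega) hd
        omega
      exact hb (mem_of_pow_mem_of_not_dvd hpp hbp hnd hbj)
  · intro h
    exact hb (h ▸ Subgroup.one_mem _)

theorem cent2_mono {K X : Subgroup H} (hX : X ≤ K) (a b : H) : cent2 X a b ≤ cent2 K a b := by
  intro x hx
  rw [mem_cent2] at hx ⊢
  exact ⟨hX hx.1, hx.2⟩

/-- pairwise product formula from the set factorization -/
theorem card_cent1_mul_of_fac [Finite H] {K X Y : Subgroup H} {g : H}
    (hfac : ((K ⊓ Subgroup.centralizer {g} : Subgroup H) : Set H) =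
      ((X ⊓ Subgroup.centralizer {g} : Subgroup H) : Set H) *
        ((Y ⊓ Subgroup.centralizer {g} : Subgroup H) : Set H)) :
    Nat.card ↥(cent1 K g) * Nat.card ↥(cent1 (X ⊓ Y) g) =
      Nat.card ↥(cent1 X g) * Nat.card ↥(cent1 Y g) := by
  have h1 := Cfsg.Agent.Helper3.card_set_mul_mul_card_inf (cent1 X g) (cent1 Y g)
  have h2 : cent1 X g ⊓ cent1 Y g = cent1 (X ⊓ Y) g := by
    ext x
    simp only [Subgroup.mem_inf, mem_cent1]
    tauto
  rw [h2] at h1
  rw [← h1]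
  congr 1
  have h3 : ((cent1 K g : Subgroup H) : Set H) =
      ((cent1 X g : Subgroup H) : Set H) * ((cent1 Y g : Subgroup H) : Set H) := hfac
  rw [← h3]
  rfl

/-- **Coprime factorization**: if `C_K(a) = C_X(a) C_Y(a)` for all `a ∈ A^#` then `K = X Y`. -/
theorem coprime_factorization [Finite H] (p : ℕ) [hp : Fact p.Prime] (A K X Y : Subgroup H)
    (hA : Cfsg.IsElementaryAbelian p A) (hA2 : p ^ 2 ≤ Nat.card ↥A) (hK : ¬ p ∣ Nat.card ↥K)
    (hAK : A ≤ Subgroup.normalizer (K : Set H)) (hX : X ≤ K) (hY : Y ≤ K)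
    (hAX : A ≤ Subgroup.normalizer (X : Set H)) (hAY : A ≤ Subgroup.normalizer (Y : Set H))
    (hfac : ∀ a ∈ A, a ≠ 1 → ((K ⊓ Subgroup.centralizer {a} : Subgroup H) : Set H) =
      ((X ⊓ Subgroup.centralizer {a} : Subgroup H) : Set H) *
        ((Y ⊓ Subgroup.centralizer {a} : Subgroup H) : Set H)) :
    (K : Set H) = (X : Set H) * (Y : Set H) := by
  classical
  obtain ⟨a, ha, b, hb, ha1, hbna⟩ := exists_pair_of_elementaryAbelian p A hA.2 hA2
  have hab : a * b = b * a := isElementaryAbelian_comm hA ha hb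
  have hap := hA.2 a ha
  have hbp := hA.2 b hb
  have hDX : X ⊓ Y ≤ X := inf_le_left
  have hXp : ¬ p ∣ Nat.card ↥X := fun h => hK (h.trans (Subgroup.card_dvd_of_le hX))
  have hYp : ¬ p ∣ Nat.card ↥Y := fun h => hK (h.trans (Subgroup.card_dvd_of_le hY))
  have hDp : ¬ p ∣ Nat.card ↥(X ⊓ Y) := fun h => hXp (h.trans (Subgroup.card_dvd_of_le hDX))
  have hAD : A ≤ Subgroup.normalizer ((X ⊓ Y : Subgroup H) : Set H) := by
    intro g hg
    rw [Subgroup.mem_normalizer_iff]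
    intro x
    rw [Subgroup.mem_inf, Subgroup.mem_inf, ← Subgroup.mem_normalizer_iff.mp (hAX hg) x,
      ← Subgroup.mem_normalizer_iff.mp (hAY hg) x]
  have eK := bw_general p hab hap hbp K hK (hAK ha) (hAK hb)
  have eX := bw_general p hab hap hbp X hXp (hAX ha) (hAX hb)
  have eY := bw_general p hab hap hbp Y hYp (hAY ha) (hAY hb)
  have eD := bw_general p hab hap hbp (X ⊓ Y) hDp (hAD ha) (hAD hb)
  have hprod : bwR p K a b * bwR p (X ⊓ Y) a b = bwR p X a b * bwR p Y a b := by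
    unfold bwR
    rw [← Finset.prod_mul_distrib, ← Finset.prod_mul_distrib]
    apply Finset.prod_congr rfl
    intro j _
    exact card_cent1_mul_of_fac
      (hfac _ (gfam_mem_of_mem p A ha hb j) (gfam_ne_one p hbp ha1 hbna j))
  have hc2 : Nat.card ↥(cent2 X a b) * Nat.card ↥(cent2 Y a b) ≤
      Nat.card ↥(cent2 K a b) * Nat.card ↥(cent2 (X ⊓ Y) a b) := by
    have h1 := Cfsg.Agent.Helper3.card_set_mul_mul_card_inf (cent2 X a b) (cent2 Y a b)
    have h2 : cent2 X a b ⊓ cent2 Y a b = cent2 (X ⊓ Y) a b := by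
      ext x
      simp only [Subgroup.mem_inf, mem_cent2]
      tauto
    rw [h2] at h1
    rw [← h1]
    apply Nat.mul_le_mul_right
    have hsub : (((cent2 X a b : Subgroup H) : Set H) * ((cent2 Y a b : Subgroup H) : Set H)) ⊆
        ((cent2 K a b : Subgroup H) : Set H) := by
      rintro _ ⟨x, hx, y, hy, rfl⟩
      exact (cent2 K a b).mul_mem (cent2_mono hX a b hx) (cent2_mono hY a b hy)
    exact Nat.card_mono (Set.toFinite _) hsub
  unfold bwL at eK eX eY eD
  have hmain : Nat.card ↥K * Nat.card ↥(X ⊓ Y : Subgroup H) *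
      (Nat.card ↥(cent2 K a b) * Nat.card ↥(cent2 (X ⊓ Y) a b)) ^ p =
      Nat.card ↥X * Nat.card ↥Y * (Nat.card ↥(cent2 X a b) * Nat.card ↥(cent2 Y a b)) ^ p := by
    calc Nat.card ↥K * Nat.card ↥(X ⊓ Y : Subgroup H) *
        (Nat.card ↥(cent2 K a b) * Nat.card ↥(cent2 (X ⊓ Y) a b)) ^ p
        = (Nat.card ↥K * Nat.card ↥(cent2 K a b) ^ p) *
          (Nat.card ↥(X ⊓ Y : Subgroup H) * Nat.card ↥(cent2 (X ⊓ Y) a b) ^ p) := by ring
      _ = (Nat.card ↥X * Nat.card ↥(cent2 X a b) ^ p) *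
          (Nat.card ↥Y * Nat.card ↥(cent2 Y a b) ^ p) := by rw [eK, eD, hprod, ← eX, ← eY]
      _ = _ := by ring
  have hle : (Nat.card ↥(cent2 X a b) * Nat.card ↥(cent2 Y a b)) ^ p ≤
      (Nat.card ↥(cent2 K a b) * Nat.card ↥(cent2 (X ⊓ Y) a b)) ^ p := Nat.pow_le_pow_left hc2 p
  have hpos : 0 < (Nat.card ↥(cent2 K a b) * Nat.card ↥(cent2 (X ⊓ Y) a b)) ^ p :=
    Nat.pow_pos (Nat.mul_pos Nat.card_pos Nat.card_pos)
  have hKD : Nat.card ↥K * Nat.card ↥(X ⊓ Y : Subgroup H) ≤ Nat.card ↥X * Nat.card ↥Y := by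
    by_contra hlt
    push Not at hlt
    have h5 : Nat.card ↥X * Nat.card ↥Y *
        (Nat.card ↥(cent2 X a b) * Nat.card ↥(cent2 Y a b)) ^ p <
        Nat.card ↥K * Nat.card ↥(X ⊓ Y : Subgroup H) *
        (Nat.card ↥(cent2 K a b) * Nat.card ↥(cent2 (X ⊓ Y) a b)) ^ p :=
      Nat.mul_lt_mul_of_lt_of_le hlt hle hpos
    omega
  have h3 := Cfsg.Agent.Helper3.card_set_mul_mul_card_inf X Y
  have hKle : Nat.card ↥K ≤ Nat.card ((X : Set H) * (Y : Set H) : Set H) := by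
    have hDpos : 0 < Nat.card ↥(X ⊓ Y : Subgroup H) := Nat.card_pos
    rw [← h3] at hKD
    exact Nat.le_of_mul_le_mul_right hKD hDpos
  have hsub : (X : Set H) * (Y : Set H) ⊆ (K : Set H) := by
    rintro _ ⟨x, hx, y, hy, rfl⟩
    exact K.mul_mem (hX hx) (hY hy)
  symm
  refine Set.eq_of_subset_of_ncard_le hsub ?_ (Set.toFinite _)
  rw [← Nat.card_coe_set_eq, ← Nat.card_coe_set_eq]
  exact hKle

end Cfsg.Agent.Helper7
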