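import Mathlib

set_option autoImplicit false

namespace Cfsg.Agent.Helper7

open Matrix

variable {ι F : Type*} [Fintype ι] [DecidableEq ι] [Field F] (ℓ : ι)

/-- the diagonal matrix with `1` at `ℓ` and `-1` elsewhere. -/
def tdiag : Matrix ι ι F := Matrix.diagonal (fun i => if i = ℓ then 1 else -1)

/-- `M` is block diagonal for the splitting `ι = (ι ∖ ℓ) ⊔ {ℓ}`. -/
def IsBlk (M : Matrix ι ι F) : Prop := ∀ k, k ≠ ℓ → M k ℓ = 0 ∧ M ℓ k = 0

theorem tdiag_mul_self : (tdiag ℓ : Matrix ι ι F) * tdiag ℓ = 1 := by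
  unfold tdiag
  rw [Matrix.diagonal_mul_diagonal, ← Matrix.diagonal_one]
  congr 1
  ext i
  by_cases h : i = ℓ <;> simp [h]

theorem isBlk_iff_commute (h2 : (2 : F) ≠ 0) (M : Matrix ι ι F) :
    IsBlk ℓ M ↔ M * tdiag ℓ = tdiag ℓ * M := by
  unfold tdiag
  constructor
  · intro h
    ext k l
    rw [Matrix.mul_diagonal, Matrix.diagonal_mul]
    by_cases hk : k = ℓ
    · by_cases hl : l = ℓ
      · simp [hk, hl]
      · subst hk
        rw [(h l hl).2]; simp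
    · by_cases hl : l = ℓ
      · subst hl
        rw [(h k hk).1]; simp
      · simp [hk, hl]
  · intro h k hk
    constructor
    · have h1 := congrFun (congrFun h k) ℓ
      rw [Matrix.mul_diagonal, Matrix.diagonal_mul] at h1
      simp only [if_true, if_neg hk, mul_one] at h1
      have h3 : (2 : F) * M k ℓ = 0 := by linear_combination h1
      exact (mul_eq_zero.mp h3).resolve_left h2
    · have h1 := congrFun (congrFun h ℓ) k
      rw [Matrix.mul_diagonal, Matrix.diagonal_mul] at h1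
      simp only [if_true, if_neg hk, one_mul] at h1
      have h3 : (2 : F) * M ℓ k = 0 := by linear_combination -h1
      exact (mul_eq_zero.mp h3).resolve_left h2

theorem IsBlk.mul (h2 : (2 : F) ≠ 0) {M N : Matrix ι ι F} (hM : IsBlk ℓ M) (hN : IsBlk ℓ N) :
    IsBlk ℓ (M * N) := by
  rw [isBlk_iff_commute ℓ h2] at hM hN ⊢
  rw [mul_assoc, hN, ← mul_assoc, hM, mul_assoc]

theorem isBlk_one : IsBlk ℓ (1 : Matrix ι ι F) := by
  intro k hk
  exact ⟨Matrix.one_apply_ne hk, Matrix.one_apply_ne (Ne.symm hk)⟩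

/-- the corner entry is multiplicative on block diagonal matrices. -/
theorem IsBlk.mul_apply_corner {M : Matrix ι ι F} (hM : IsBlk ℓ M) (N : Matrix ι ι F) :
    (M * N) ℓ ℓ = M ℓ ℓ * N ℓ ℓ := by
  rw [Matrix.mul_apply]
  apply Finset.sum_eq_single ℓ
  · intro k _ hk
    rw [(hM k hk).2, zero_mul]
  · intro h
    exact absurd (Finset.mem_univ ℓ) h

/-- the embedding of matrices on `ι ∖ ℓ` into matrices on `ι`, with corner entry `1`. -/
def emb (A : Matrix {k // k ≠ ℓ} {k // k ≠ ℓ} F) : Matrix ι ι F :=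
  Matrix.reindex (Equiv.sumCompl (fun k => k ≠ ℓ)) (Equiv.sumCompl (fun k => k ≠ ℓ))
    (Matrix.fromBlocks A 0 0 1)

theorem emb_mul (A B : Matrix {k // k ≠ ℓ} {k // k ≠ ℓ} F) :
    emb ℓ (A * B) = emb ℓ A * emb ℓ B := by
  unfold emb
  rw [Matrix.reindex_apply, Matrix.reindex_apply, Matrix.reindex_apply,
    Matrix.submatrix_mul_equiv, Matrix.fromBlocks_multiply]
  simp

theorem emb_one : emb ℓ (1 : Matrix {k // k ≠ ℓ} {k // k ≠ ℓ} F) = 1 := by
  unfold emb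
  rw [Matrix.fromBlocks_one, Matrix.reindex_apply, Matrix.submatrix_one_equiv]

theorem det_emb (A : Matrix {k // k ≠ ℓ} {k // k ≠ ℓ} F) : (emb ℓ A).det = A.det := by
  unfold emb
  rw [Matrix.det_reindex_self, Matrix.det_fromBlocks_zero₂₁, Matrix.det_one, mul_one]

theorem emb_apply_ne_ne (A : Matrix {k // k ≠ ℓ} {k // k ≠ ℓ} F) {k l : ι} (hk : k ≠ ℓ) (hl : l ≠ ℓ) :
    emb ℓ A k l = A ⟨k, hk⟩ ⟨l, hl⟩ := by
  unfold emb
  rw [Matrix.reindex_apply, Matrix.submatrix_apply,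
    Equiv.sumCompl_symm_apply_of_pos (p := fun k => k ≠ ℓ) hk,
    Equiv.sumCompl_symm_apply_of_pos (p := fun k => k ≠ ℓ) hl]
  rfl

theorem emb_apply_ne_corner (A : Matrix {k // k ≠ ℓ} {k // k ≠ ℓ} F) {k : ι} (hk : k ≠ ℓ) :
    emb ℓ A k ℓ = 0 := by
  unfold emb
  rw [Matrix.reindex_apply, Matrix.submatrix_apply,
    Equiv.sumCompl_symm_apply_of_pos (p := fun k => k ≠ ℓ) hk,
    Equiv.sumCompl_symm_apply_of_neg (p := fun k => k ≠ ℓ) (a := ℓ) (by simp)]
  rfl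

theorem emb_apply_corner_ne (A : Matrix {k // k ≠ ℓ} {k // k ≠ ℓ} F) {k : ι} (hk : k ≠ ℓ) :
    emb ℓ A ℓ k = 0 := by
  unfold emb
  rw [Matrix.reindex_apply, Matrix.submatrix_apply,
    Equiv.sumCompl_symm_apply_of_pos (p := fun k => k ≠ ℓ) hk,
    Equiv.sumCompl_symm_apply_of_neg (p := fun k => k ≠ ℓ) (a := ℓ) (by simp)]
  rfl

theorem emb_apply_corner (A : Matrix {k // k ≠ ℓ} {k // k ≠ ℓ} F) :
    emb ℓ A ℓ ℓ = 1 := by
  unfold emb
  rw [Matrix.reindex_apply, Matrix.submatrix_apply,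
    Equiv.sumCompl_symm_apply_of_neg (p := fun k => k ≠ ℓ) (a := ℓ) (by simp)]
  simp

theorem isBlk_emb (A : Matrix {k // k ≠ ℓ} {k // k ≠ ℓ} F) : IsBlk ℓ (emb ℓ A) :=
  fun _ hk => ⟨emb_apply_ne_corner ℓ A hk, emb_apply_corner_ne ℓ A hk⟩

theorem emb_injective : Function.Injective (emb ℓ : Matrix {k // k ≠ ℓ} {k // k ≠ ℓ} F → Matrix ι ι F) := by
  intro A B h
  ext k l
  have := congrFun (congrFun h k.1) l.1
  rwa [emb_apply_ne_ne ℓ A k.2 l.2, emb_apply_ne_ne ℓ B k.2 l.2] at this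

/-- a block diagonal matrix with corner entry `1` is in the range of `emb`. -/
theorem eq_emb_of_isBlk {M : Matrix ι ι F} (hM : IsBlk ℓ M) (h1 : M ℓ ℓ = 1) :
    M = emb ℓ (M.submatrix Subtype.val Subtype.val) := by
  ext k l
  by_cases hk : k = ℓ
  · by_cases hl : l = ℓ
    · rw [hk, hl, h1, emb_apply_corner]
    · rw [hk, emb_apply_corner_ne ℓ _ hl, (hM l hl).2]
  · by_cases hl : l = ℓ
    · rw [hl, emb_apply_ne_corner ℓ _ hk, (hM k hk).1]
    · rw [emb_apply_ne_ne ℓ _ hk hl]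
      rfl

end Cfsg.Agent.Helper7
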