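import Mathlib
import Cfsg.Prelude.Def_Local
import Cfsg.Agent.Lib.Helper7.BlkA
import Cfsg.Agent.Lib.Helper7.Quasisimple
import Cfsg.Agent.Lib.Helper2.PSLSimple

set_option autoImplicit false

namespace Cfsg.Agent.Helper7

open Matrix

section Reindex

variable {ι κ F : Type*} [Fintype ι] [DecidableEq ι] [Fintype κ] [DecidableEq κ] [Field F]

/-- reindexing isomorphism between special linear groups. -/
def slReindex (e : ι ≃ κ) : Matrix.SpecialLinearGroup ι F ≃* Matrix.SpecialLinearGroup κ F where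
  toFun A := ⟨Matrix.reindex e e A.1, by rw [Matrix.det_reindex_self]; exact A.2⟩
  invFun A := ⟨Matrix.reindex e.symm e.symm A.1, by rw [Matrix.det_reindex_self]; exact A.2⟩
  left_inv A := by
    apply Subtype.ext
    simp
  right_inv A := by
    apply Subtype.ext
    simp
  map_mul' A B := by
    apply Subtype.ext
    show Matrix.reindex e e (A.1 * B.1) = Matrix.reindex e e A.1 * Matrix.reindex e e B.1
    rw [Matrix.reindex_apply, Matrix.reindex_apply, Matrix.reindex_apply, Matrix.submatrix_mul_equiv]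

end Reindex

section QS

variable {κ F : Type*} [Fintype κ] [DecidableEq κ] [Field F]

theorem exists_sq_ne_one_of_card [Finite F] (hF : 4 ≤ Nat.card F) : ∃ a : F, a ≠ 0 ∧ a ^ 2 ≠ 1 := by
  classical
  haveI : Fintype F := Fintype.ofFinite F
  have hcard : ({0, 1, -1} : Finset F).card < (Finset.univ : Finset F).card := by
    rw [Finset.card_univ, ← Nat.card_eq_fintype_card]
    have := Finset.card_le_three (a := (0 : F)) (b := 1) (c := -1)
    omega
  obtain ⟨a, _, ha⟩ := Finset.exists_mem_notMem_of_card_lt_card hcard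
  simp only [Finset.mem_insert, Finset.mem_singleton, not_or] at ha
  refine ⟨a, ha.1, fun h => ?_⟩
  have h1 : (a - 1) * (a + 1) = 0 := by linear_combination h
  rcases mul_eq_zero.mp h1 with h2 | h2
  · exact ha.2.1 (sub_eq_zero.mp h2)
  · exact ha.2.2 (eq_neg_of_add_eq_zero_left h2)

theorem SL_isQuasisimple_of_three_le (h3 : 3 ≤ Fintype.card κ) :
    Cfsg.IsQuasisimple (Matrix.SpecialLinearGroup κ F) :=
  ⟨⟨Cfsg.Agent.Helper2.commutator_SL_eq_top h3⟩, Cfsg.Agent.Helper2.PSL_isSimpleGroup h3⟩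

theorem SL_isQuasisimple_of_card_two [Finite F] (h2 : Fintype.card κ = 2) (hF : 4 ≤ Nat.card F) :
    Cfsg.IsQuasisimple (Matrix.SpecialLinearGroup κ F) := by
  obtain ⟨a, ha, hasq⟩ := exists_sq_ne_one_of_card hF
  have h : Cfsg.IsQuasisimple (Matrix.SpecialLinearGroup (Fin 2) F) :=
    ⟨⟨Matrix.SL2.commutator_eq_top ha hasq⟩,
      Matrix.ProjectiveSpecialLinearGroup.rank_two_simple hF⟩
  have e : κ ≃ Fin 2 := Fintype.equivFinOfCardEq h2
  exact isQuasisimple_of_mulEquiv (slReindex e).symm h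

theorem SL_isQuasisimple [Finite F]
    (h : 3 ≤ Fintype.card κ ∨ (Fintype.card κ = 2 ∧ 4 ≤ Nat.card F)) :
    Cfsg.IsQuasisimple (Matrix.SpecialLinearGroup κ F) := by
  rcases h with h | ⟨h, hF⟩
  · exact SL_isQuasisimple_of_three_le h
  · exact SL_isQuasisimple_of_card_two h hF

end QS

section Emb

variable {ι F : Type*} [Fintype ι] [DecidableEq ι] [Field F] (ℓ : ι)

/-- the embedding `SL(ι ∖ ℓ) → SL(ι)`. -/
def embSL : Matrix.SpecialLinearGroup {k // k ≠ ℓ} F →* Matrix.SpecialLinearGroup ι F where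
  toFun A := ⟨emb ℓ A.1, by rw [det_emb]; exact A.2⟩
  map_one' := Subtype.ext (emb_one ℓ)
  map_mul' A B := Subtype.ext (by
    show emb ℓ (A.1 * B.1) = emb ℓ A.1 * emb ℓ B.1
    exact emb_mul ℓ A.1 B.1)

theorem embSL_coe (A : Matrix.SpecialLinearGroup {k // k ≠ ℓ} F) :
    ((embSL ℓ A : Matrix.SpecialLinearGroup ι F) : Matrix ι ι F) = emb ℓ A.1 := rfl

theorem embSL_injective : Function.Injective (embSL (F := F) ℓ) := by
  intro A B h
  apply Subtype.ext
  apply emb_injective ℓ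
  exact congrArg Subtype.val h

theorem mem_range_embSL_iff (g : Matrix.SpecialLinearGroup ι F) :
    g ∈ (embSL (F := F) ℓ).range ↔ IsBlk ℓ (g : Matrix ι ι F) ∧ (g : Matrix ι ι F) ℓ ℓ = 1 := by
  constructor
  · rintro ⟨A, rfl⟩
    exact ⟨isBlk_emb ℓ A.1, emb_apply_corner ℓ A.1⟩
  · rintro ⟨hB, h1⟩
    have heq := eq_emb_of_isBlk ℓ hB h1
    have hdet : ((g : Matrix ι ι F).submatrix Subtype.val Subtype.val :
        Matrix {k // k ≠ ℓ} {k // k ≠ ℓ} F).det = 1 := by
      rw [← det_emb ℓ, ← heq]; exact g.2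
    exact ⟨⟨_, hdet⟩, Subtype.ext heq.symm⟩

theorem range_embSL_isQuasisimple [Finite F]
    (h : 3 ≤ Fintype.card {k // k ≠ ℓ} ∨ (Fintype.card {k // k ≠ ℓ} = 2 ∧ 4 ≤ Nat.card F)) :
    Cfsg.IsQuasisimple ↥(embSL (F := F) ℓ).range :=
  isQuasisimple_of_mulEquiv (MonoidHom.ofInjective (embSL_injective ℓ)) (SL_isQuasisimple h)

end Emb

end Cfsg.Agent.Helper7
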