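import Mathlib
import Cfsg.Prelude.Def_Local
import Cfsg.Prelude.Def_CaseTheorems
import Cfsg.Agent.Lib.Helper7.BlkB
import Cfsg.Agent.Lib.Helper10.FStarQuot
import Cfsg.Agent.Lib.Helper22.PPrimeCore

set_option autoImplicit false

namespace Cfsg.Agent.Helper7

open Matrix

variable {ι F : Type*} [Fintype ι] [DecidableEq ι] [Field F] (ℓ : ι)

/-- the involution `diag(-1,…,-1,1)` of `GL`. -/
def tGL : Matrix.GeneralLinearGroup ι F :=
  ⟨tdiag ℓ, tdiag ℓ, tdiag_mul_self ℓ, tdiag_mul_self ℓ⟩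

theorem tGL_coe : ((tGL ℓ : Matrix.GeneralLinearGroup ι F) : Matrix ι ι F) = tdiag ℓ := rfl

theorem mem_centralizer_tGL_iff (h2 : (2 : F) ≠ 0) (g : Matrix.GeneralLinearGroup ι F) :
    g ∈ Subgroup.centralizer ({tGL ℓ} : Set (Matrix.GeneralLinearGroup ι F)) ↔
      IsBlk ℓ (g : Matrix ι ι F) := by
  rw [Subgroup.mem_centralizer_singleton_iff, isBlk_iff_commute ℓ h2, Units.ext_iff]
  rfl

/-- the embedding `SL(ι ∖ ℓ) → GL(ι)`. -/
def embGL : Matrix.SpecialLinearGroup {k // k ≠ ℓ} F →* Matrix.GeneralLinearGroup ι F :=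
  Matrix.SpecialLinearGroup.toGL.comp (embSL ℓ)

theorem embGL_coe (A : Matrix.SpecialLinearGroup {k // k ≠ ℓ} F) :
    ((embGL ℓ A : Matrix.GeneralLinearGroup ι F) : Matrix ι ι F) = emb ℓ A.1 := rfl

theorem embGL_injective : Function.Injective (embGL (F := F) ℓ) :=
  Matrix.SpecialLinearGroup.toGL_injective.comp (embSL_injective ℓ)

theorem mem_range_embGL_iff (g : Matrix.GeneralLinearGroup ι F) :
    g ∈ (embGL (F := F) ℓ).range ↔ IsBlk ℓ (g : Matrix ι ι F) ∧ (g : Matrix ι ι F) ℓ ℓ = 1 ∧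
      (g : Matrix ι ι F).det = 1 := by
  constructor
  · rintro ⟨A, rfl⟩
    refine ⟨isBlk_emb ℓ A.1, emb_apply_corner ℓ A.1, ?_⟩
    rw [embGL_coe, det_emb]; exact A.2
  · rintro ⟨hB, h1, hdet⟩
    have hmem : (⟨(g : Matrix ι ι F), hdet⟩ : Matrix.SpecialLinearGroup ι F) ∈ (embSL (F := F) ℓ).range :=
      (mem_range_embSL_iff ℓ _).mpr ⟨hB, h1⟩
    obtain ⟨A, hA⟩ := hmem
    refine ⟨A, ?_⟩
    apply Units.ext
    rw [embGL_coe, ← embSL_coe, hA]

theorem range_embGL_le_centralizer (h2 : (2 : F) ≠ 0) :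
    (embGL (F := F) ℓ).range ≤ Subgroup.centralizer ({tGL ℓ} : Set (Matrix.GeneralLinearGroup ι F)) := by
  intro g hg
  rw [mem_centralizer_tGL_iff ℓ h2]
  exact ((mem_range_embGL_iff ℓ g).mp hg).1

theorem range_embGL_normal (h2 : (2 : F) ≠ 0) :
    ((embGL (F := F) ℓ).range.subgroupOf
      (Subgroup.centralizer ({tGL ℓ} : Set (Matrix.GeneralLinearGroup ι F)))).Normal := by
  constructor
  intro x hx c
  rw [Subgroup.mem_subgroupOf] at hx ⊢
  rw [mem_range_embGL_iff] at hx ⊢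
  obtain ⟨hxB, hx1, hxdet⟩ := hx
  have hcB : IsBlk ℓ ((c : Matrix.GeneralLinearGroup ι F) : Matrix ι ι F) :=
    (mem_centralizer_tGL_iff ℓ h2 _).mp c.2
  have hcxc : (c * x * c⁻¹ : ↥(Subgroup.centralizer ({tGL ℓ} : Set (Matrix.GeneralLinearGroup ι F)))).1
      ∈ Subgroup.centralizer ({tGL ℓ} : Set (Matrix.GeneralLinearGroup ι F)) := (c * x * c⁻¹).2
  have hcoe : (((c * x * c⁻¹ : ↥(Subgroup.centralizer ({tGL ℓ} : Set (Matrix.GeneralLinearGroup ι F)))) :
      Matrix.GeneralLinearGroup ι F) : Matrix ι ι F)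
      = ((c : Matrix.GeneralLinearGroup ι F) : Matrix ι ι F) *
        ((x : Matrix.GeneralLinearGroup ι F) : Matrix ι ι F) *
        (((c : Matrix.GeneralLinearGroup ι F)⁻¹ : Matrix.GeneralLinearGroup ι F) : Matrix ι ι F) := rfl
  have hinv : ((c : Matrix.GeneralLinearGroup ι F) : Matrix ι ι F) *
      (((c : Matrix.GeneralLinearGroup ι F)⁻¹ : Matrix.GeneralLinearGroup ι F) : Matrix ι ι F) = 1 := by
    rw [← Units.val_mul, mul_inv_cancel]; rfl
  refine ⟨(mem_centralizer_tGL_iff ℓ h2 _).mp hcxc, ?_, ?_⟩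
  · rw [hcoe, mul_assoc, hcB.mul_apply_corner, hxB.mul_apply_corner, hx1, one_mul,
      ← hcB.mul_apply_corner, hinv, Matrix.one_apply_eq]
  · rw [hcoe, Matrix.det_mul, Matrix.det_mul, hxdet, mul_one, ← Matrix.det_mul, hinv, Matrix.det_one]

theorem orderOf_diag2n_neg_one {κ : Type*} [Fintype κ] [DecidableEq κ] (h2 : (2 : F) ≠ 0)
    {i j : κ} (hij : i ≠ j) :
    orderOf (Matrix.SpecialLinearGroup.diag2n hij (-1 : F) (neg_ne_zero.mpr one_ne_zero)) = 2 := by
  apply orderOf_eq_prime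
  · apply Subtype.ext
    rw [pow_two, Matrix.SpecialLinearGroup.coe_mul, Matrix.SpecialLinearGroup.diag2n_coe,
      Matrix.diagonal_mul_diagonal, Matrix.SpecialLinearGroup.coe_one, ← Matrix.diagonal_one]
    congr 1
    ext k
    by_cases hk : k = i
    · simp [hk]
    · by_cases hk' : k = j
      · simp [hk']
      · simp [hk, hk']
  · intro h
    have h1 := congrArg (fun A : Matrix.SpecialLinearGroup κ F => (A : Matrix κ κ F) i i) h
    simp only [Matrix.SpecialLinearGroup.diag2n_coe, Matrix.diagonal_apply_eq, if_true,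
      Matrix.SpecialLinearGroup.coe_one, Matrix.one_apply_eq] at h1
    apply h2
    linear_combination -h1

theorem orderOf_tGL (h2 : (2 : F) ≠ 0) {k : ι} (hk : k ≠ ℓ) :
    orderOf (tGL ℓ : Matrix.GeneralLinearGroup ι F) = 2 := by
  apply orderOf_eq_prime
  · apply Units.ext
    rw [pow_two, Units.val_mul, tGL_coe, tdiag_mul_self]; rfl
  · intro h
    have h1 := congrArg (fun A : Matrix.GeneralLinearGroup ι F => (A : Matrix ι ι F) k k) h
    simp only [tGL_coe, tdiag, Matrix.diagonal_apply_eq, if_neg hk, Units.val_one,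
      Matrix.one_apply_eq] at h1
    apply h2
    linear_combination -h1

theorem tGL_not_mem_center (h2 : (2 : F) ≠ 0) {k : ι} (hk : k ≠ ℓ) :
    (tGL ℓ : Matrix.GeneralLinearGroup ι F) ∉ Subgroup.center (Matrix.GeneralLinearGroup ι F) := by
  intro h
  have h1 : Matrix.SpecialLinearGroup.toGL (Matrix.SpecialLinearGroup.transvection hk (1 : F)) ∈
      Subgroup.centralizer ({tGL ℓ} : Set (Matrix.GeneralLinearGroup ι F)) := by
    rw [Subgroup.mem_centralizer_singleton_iff]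
    exact (Subgroup.mem_center_iff.mp h _)
  rw [mem_centralizer_tGL_iff ℓ h2] at h1
  have h3 := (h1 k hk).1
  rw [Matrix.SpecialLinearGroup.coe_GL_coe_matrix, Matrix.SpecialLinearGroup.transvection_coe,
    Matrix.add_apply, Matrix.one_apply_ne hk, Matrix.single_apply_same, zero_add] at h3
  exact one_ne_zero h3

/-- `C(t)/O(C(t))` has a component, for `t = diag(-1,…,-1,1)` in `GL`. -/
theorem hasComponent_centralizer_tGL [Finite F] (h2 : (2 : F) ≠ 0)
    (h : 3 ≤ Fintype.card {k // k ≠ ℓ} ∨ (Fintype.card {k // k ≠ ℓ} = 2 ∧ 4 ≤ Nat.card F)) :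
    Cfsg.HasComponent
      (↥(Subgroup.centralizer ({tGL ℓ} : Set (Matrix.GeneralLinearGroup ι F))) ⧸
        Cfsg.oddCore ↥(Subgroup.centralizer ({tGL ℓ} : Set (Matrix.GeneralLinearGroup ι F)))) := by
  haveI : Finite (Matrix.GeneralLinearGroup ι F) := inferInstance
  have hle := range_embGL_le_centralizer (F := F) ℓ h2
  have hnorm := range_embGL_normal (F := F) ℓ h2
  have hq : Cfsg.IsQuasisimple ↥(embGL (F := F) ℓ).range :=
    isQuasisimple_of_mulEquiv (MonoidHom.ofInjective (embGL_injective ℓ)) (SL_isQuasisimple h)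
  have hcomp : Cfsg.IsComponent ((embGL (F := F) ℓ).range.subgroupOf
      (Subgroup.centralizer ({tGL ℓ} : Set (Matrix.GeneralLinearGroup ι F)))) :=
    ⟨hnorm.isSubnormal, isQuasisimple_of_mulEquiv (Subgroup.subgroupOfEquivOfLe hle).symm hq⟩
  -- an involution in the range
  have hcard2 : 1 < Fintype.card {k // k ≠ ℓ} := by omega
  obtain ⟨i, j, hij⟩ := Fintype.exists_pair_of_one_lt_card hcard2
  have hinv : orderOf (embGL ℓ (Matrix.SpecialLinearGroup.diag2n hij (-1 : F)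
      (neg_ne_zero.mpr one_ne_zero))) = 2 := by
    rw [orderOf_injective (embGL (F := F) ℓ) (embGL_injective ℓ)]
    exact orderOf_diag2n_neg_one h2 hij
  have hmem : embGL ℓ (Matrix.SpecialLinearGroup.diag2n hij (-1 : F)
      (neg_ne_zero.mpr one_ne_zero)) ∈ (embGL (F := F) ℓ).range := ⟨_, rfl⟩
  have hne : ¬ ((embGL (F := F) ℓ).range.subgroupOf
      (Subgroup.centralizer ({tGL ℓ} : Set (Matrix.GeneralLinearGroup ι F)))) ≤
      (QuotientGroup.mk' (Cfsg.oddCore
        ↥(Subgroup.centralizer ({tGL ℓ} : Set (Matrix.GeneralLinearGroup ι F))))).ker := by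
    rw [QuotientGroup.ker_mk']
    intro hle'
    have h3 : (⟨_, hle hmem⟩ : ↥(Subgroup.centralizer ({tGL ℓ} : Set (Matrix.GeneralLinearGroup ι F))))
        ∈ Cfsg.oddCore ↥(Subgroup.centralizer ({tGL ℓ} : Set (Matrix.GeneralLinearGroup ι F))) :=
      hle' (by rw [Subgroup.mem_subgroupOf]; exact hmem)
    have h4 : orderOf (⟨_, h3⟩ : ↥(Cfsg.oddCore
        ↥(Subgroup.centralizer ({tGL ℓ} : Set (Matrix.GeneralLinearGroup ι F))))) = 2 := by
      rw [← Subgroup.orderOf_coe, ← Subgroup.orderOf_coe]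
      exact hinv
    have h5 := orderOf_dvd_natCard (⟨_, h3⟩ : ↥(Cfsg.oddCore
        ↥(Subgroup.centralizer ({tGL ℓ} : Set (Matrix.GeneralLinearGroup ι F)))))
    rw [h4] at h5
    exact Cfsg.Agent.Helper22.not_dvd_card_pPrimeCore 2 Nat.prime_two h5
  have := Cfsg.Agent.Helper10.isComponent_map_of_surjective
    (QuotientGroup.mk' (Cfsg.oddCore
      ↥(Subgroup.centralizer ({tGL ℓ} : Set (Matrix.GeneralLinearGroup ι F)))))
    (QuotientGroup.mk'_surjective _) hcomp hne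
  exact ⟨_, this.1, this.2⟩

end Cfsg.Agent.Helper7
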