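import Mathlib
import Cfsg.Agent.Lib.Helper7.BlkCount
import Cfsg.Agent.Lib.Helper9.SylowLemmas

/-!
# The rank of the principal `2`-block for Klein four Sylow subgroups (helper7's library)
-/

set_option autoImplicit false
set_option linter.unusedSectionVars false

universe u

namespace Cfsg.Agent.Helper7

open Cfsg Cfsg.Agent.Helper24 Cfsg.Agent.Helper18 Cfsg.Agent.Helper23 Cfsg.Agent.Helper23.Blk
open scoped ComplexConjugate

section Count2

variable {G : Type u} [Group G] [Fintype G] [Fintype (IrrCharacter G)] {M : Ideal AlgInt} {p : ℕ}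

/-- Brauer's count by sections, with the section sums left unevaluated -/
theorem card_block_count (hp : p.Prime) (B : Set (IrrCharacter G)) (X : Finset G)
    (hX : ∀ x ∈ X, ∃ k : ℕ, orderOf x = p ^ k)
    (hXrep : ∀ g : G, (∃ k : ℕ, orderOf g = p ^ k) → ∃! x, x ∈ X ∧ IsConj g x) :
    (Nat.card G : ℂ) * (Nat.card B : ℂ) = ∑ x ∈ X, (Nat.card G : ℂ) /
      (Nat.card (Subgroup.centralizer ({x} : Set G)) : ℂ) * secSum p B x := by
  rw [← sum_blockSq B, ← sum_secSum hp B, sum_secSum_classes B X hX hXrep]

theorem card_centralizer_one : Nat.card (Subgroup.centralizer ({1} : Set G)) = Nat.card G := by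
  have h : Subgroup.centralizer ({1} : Set G) = ⊤ := by
    rw [eq_top_iff]
    intro g _
    rw [Subgroup.mem_centralizer_iff]
    intro w hw
    rw [Set.mem_singleton_iff] at hw
    rw [hw, one_mul, mul_one]
  rw [h, Subgroup.card_top]

end Count2

section Klein

variable {G : Type u} [Group G] [Finite G] {M : Ideal AlgInt}

/-- the principal `2`-block has four characters when the Sylow `2`-subgroups are Klein four
groups and the involutions are conjugate -/
theorem card_principalBlock_klein (hM : IsPModular 2 M) (P : Sylow 2 G)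
    (hP : IsKleinFour (P : Subgroup G))
    (hone : ∀ s t : G, orderOf s = 2 → orderOf t = 2 → IsConj s t) {z : G}
    (hz : orderOf z = 2) : Nat.card (principalBlock M G) = 4 := by
  classical
  obtain ⟨ζ₂, ζ₃, ζ₄, ε, -, h21, h31, h23, h24, h34, hB, hval, -⟩ :=
    Cfsg.Agent.S0948.result M hM P hP hone
  have h41 : ζ₄ ≠ principalChar G := by
    intro h
    have h1 := (hval z hz).2.2
    rw [h] at h1
    have h2 : ((principalChar G : IrrCharacter G) : G → ℂ) z = 1 := rfl
    rw [h2] at h1
    norm_num at h1
  have h21' : ζ₂ ≠ principalChar G := fun h => h21 (by rw [h]; rfl)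
  have h31' : ζ₃ ≠ principalChar G := fun h => h31 (by rw [h]; rfl)
  have hset : principalBlock M G =
      ↑({principalChar G, ζ₂, ζ₃, ζ₄} : Finset (IrrCharacter G)) := by
    rw [hB]
    ext χ
    simp only [Set.mem_setOf_eq, Finset.coe_insert, Finset.coe_singleton, Set.mem_insert_iff,
      Set.mem_singleton_iff]
    constructor
    · rintro (h | h | h | h)
      · left; exact Subtype.ext h
      · right; left; exact h
      · right; right; left; exact h
      · right; right; right; exact h
    · rintro (h | h | h | h)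
      · left; rw [h]; rfl
      · right; left; exact h
      · right; right; left; exact h
      · right; right; right; exact h
  rw [hset, Nat.card_coe_set_eq, Set.ncard_coe_finset, Finset.card_insert_of_notMem,
    Finset.card_insert_of_notMem, Finset.card_insert_of_notMem, Finset.card_singleton]
  · simpa using h34
  · simp only [Finset.mem_insert, Finset.mem_singleton, not_or]
    exact ⟨h23, h24⟩
  · simp only [Finset.mem_insert, Finset.mem_singleton, not_or]
    exact ⟨fun h => h21' h.symm, fun h => h31' h.symm, fun h => h41 h.symm⟩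

/-- the principal `2`-block has rank three when the Sylow `2`-subgroups are Klein four
groups and the involutions are conjugate -/
theorem blockRank_principal_klein (hM : IsPModular 2 M) (P : Sylow 2 G)
    (hP : IsKleinFour (P : Subgroup G))
    (hone : ∀ s t : G, orderOf s = 2 → orderOf t = 2 → IsConj s t) :
    blockRank 2 (principalBlock M G) = 3 := by
  classical
  letI : Fintype G := Fintype.ofFinite G
  letI : Fintype (IrrCharacter G) := irrFintype
  haveI : Fact (2 : ℕ).Prime := ⟨Nat.prime_two⟩
  have hsq : ∀ x ∈ (P : Subgroup G), x ^ 2 = 1 := by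
    intro x hx
    have h := Monoid.pow_exponent_eq_one (⟨x, hx⟩ : (P : Subgroup G))
    rw [hP.exponent_two] at h
    have := congrArg Subtype.val h
    simpa using this
  -- an involution of `P`
  obtain ⟨z, hzP, hz⟩ : ∃ z ∈ (P : Subgroup G), orderOf z = 2 := by
    haveI : Nontrivial (P : Subgroup G) := by
      rw [← Finite.one_lt_card_iff_nontrivial, hP.card_four]
      norm_num
    obtain ⟨x, hx⟩ := exists_ne (1 : (P : Subgroup G))
    refine ⟨x, x.2, orderOf_eq_prime (hsq x x.2) ?_⟩
    intro h
    exact hx (Subtype.ext h)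
  have hz1 : z ≠ 1 := by
    intro h
    rw [h, orderOf_one] at hz
    omega
  have h4 := card_principalBlock_klein hM P hP hone hz
  have hX : ∀ x ∈ ({1, z} : Finset G), ∃ k : ℕ, orderOf x = 2 ^ k := by
    intro x hx
    rw [Finset.mem_insert, Finset.mem_singleton] at hx
    rcases hx with rfl | rfl
    · exact ⟨0, by rw [orderOf_one, pow_zero]⟩
    · exact ⟨1, by rw [hz, pow_one]⟩
  have hXrep : ∀ g : G, (∃ k : ℕ, orderOf g = 2 ^ k) →
      ∃! x, x ∈ ({1, z} : Finset G) ∧ IsConj g x := by
    intro g hg
    obtain ⟨c, hc⟩ := Cfsg.Agent.Helper9.exists_conj_mem_sylow P g hg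
    have hg2 : g ^ 2 = 1 := by
      have h := hsq _ hc
      rw [conj_pow] at h
      have : g ^ 2 = c⁻¹ * (c * g ^ 2 * c⁻¹) * c := by group
      rw [this, h]
      group
    by_cases hg1 : g = 1
    · refine ⟨1, ⟨Finset.mem_insert_self _ _, by rw [hg1]⟩, ?_⟩
      rintro x ⟨-, hx⟩
      rw [hg1] at hx
      exact (isConj_one_right.1 hx)
    · have hgo : orderOf g = 2 := orderOf_eq_prime hg2 hg1
      refine ⟨z, ⟨by simp, hone g z hgo hz⟩, ?_⟩
      rintro x ⟨hx, hconj⟩
      rw [Finset.mem_insert, Finset.mem_singleton] at hx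
      rcases hx with rfl | rfl
      · exact absurd (isConj_one_left.1 hconj) hg1
      · rfl
  have hcount := card_block_count Nat.prime_two (principalBlock M G) {1, z} hX hXrep
  rw [Finset.sum_pair hz1.symm, secSum_one hM isPBlock_principalBlock,
    secSum_of_pNilpotent hM ⟨1, by rw [hz, pow_one]⟩ hz1
      (klein_centralizer_pNilpotent P hP hzP hz1), card_centralizer_one, h4] at hcount
  have hG0 : (Nat.card G : ℂ) ≠ 0 := by exact_mod_cast (Nat.card_pos (α := G)).ne'
  have hC0 : (Nat.card (Subgroup.centralizer ({z} : Set G)) : ℂ) ≠ 0 := by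
    exact_mod_cast (Nat.card_pos (α := Subgroup.centralizer ({z} : Set G))).ne'
  rw [div_self hG0, one_mul, div_mul_cancel₀ _ hC0] at hcount
  have h5 : ((blockRank 2 (principalBlock M G) : ℕ) : ℂ) = 3 := by
    have h6 : (Nat.card G : ℂ) * ((blockRank 2 (principalBlock M G) : ℕ) : ℂ) =
        (Nat.card G : ℂ) * 3 := by
      push_cast at hcount ⊢
      linear_combination -hcount
    exact mul_left_cancel₀ hG0 h6
  exact_mod_cast h5

end Klein

end Cfsg.Agent.Helper7
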