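import Mathlib
import Cfsg.Agent.Lib.Helper7.BlkCount2
import Cfsg.Agent.Lib.Helper18.BlockRankQuot
import Cfsg.Agent.Lib.Helper18.BlockCover
import Cfsg.Agent.Lib.Helper24.CharHom
import Cfsg.Agent.S0941

/-!
# Transport of the rank of the principal block (helper7's library)

The rank of the principal block is invariant under isomorphisms and under passing to the
quotient by a central `p`-subgroup.
-/

set_option autoImplicit false
set_option linter.unusedSectionVars false

universe u

namespace Cfsg.Agent.Helper7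

open Cfsg Cfsg.Agent.Helper24 Cfsg.Agent.Helper18 Cfsg.Agent.Helper23 Cfsg.Agent.Helper23.Blk
open scoped ComplexConjugate

section Transport

variable {H K : Type u} [Group H] [Group K] {M : Ideal AlgInt} {p : ℕ}

theorem pRegularPart_comp_equiv (e : H ≃* K) (χ : K → ℂ) :
    pRegularPart p (χ ∘ e) = (pRegularPart p χ) ∘ e := by
  classical
  funext h
  rw [Function.comp_apply, pRegularPart_apply, pRegularPart_apply, Function.comp_apply,
    MulEquiv.orderOf_eq]

theorem mem_principalBlock_comp_equiv (e : H ≃* K) (χ : IrrCharacter K)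
    (hχ : IsIrrCharacter H ((χ : K → ℂ) ∘ e)) :
    (⟨(χ : K → ℂ) ∘ e, hχ⟩ : IrrCharacter H) ∈ principalBlock M H ↔ χ ∈ principalBlock M K := by
  have h1 : ∀ h : H, centralChar (fun _ : H => (1 : ℂ)) h =
      centralChar (fun _ : K => (1 : ℂ)) (e h) :=
    fun h => Cfsg.Agent.Helper18.centralChar_comp_equiv e (fun _ : K => (1 : ℂ)) h
  constructor
  · intro hmem k
    have h2 := hmem (e.symm k)
    rw [h1, Cfsg.Agent.Helper18.centralChar_comp_equiv, MulEquiv.apply_symm_apply] at h2
    exact h2
  · intro hmem h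
    have h2 := hmem (e h)
    rw [h1, Cfsg.Agent.Helper18.centralChar_comp_equiv]
    exact h2

/-- the rank of the principal block is invariant under isomorphisms -/
theorem blockRank_principalBlock_congr (e : H ≃* K) :
    blockRank p (principalBlock M H) = blockRank p (principalBlock M K) := by
  classical
  unfold blockRank
  set φ : (K → ℂ) ≃ₗ[ℂ] (H → ℂ) := LinearEquiv.funCongrLeft ℂ ℂ e.toEquiv with hφ
  have hφa : ∀ f : K → ℂ, φ f = f ∘ e := fun f => rfl
  have himg : (fun χ : IrrCharacter H => pRegularPart p (χ : H → ℂ)) '' principalBlock M H =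
      φ '' ((fun χ : IrrCharacter K => pRegularPart p (χ : K → ℂ)) '' principalBlock M K) := by
    ext f
    constructor
    · rintro ⟨χ, hχ, rfl⟩
      have hirr : IsIrrCharacter K ((χ : H → ℂ) ∘ e.symm) :=
        isIrrCharacter_comp_of_surjective e.symm.toMonoidHom e.symm.surjective χ.2
      have hcomp : (((χ : H → ℂ) ∘ e.symm) ∘ e) = (χ : H → ℂ) := by
        funext h
        simp
      refine ⟨pRegularPart p ((χ : H → ℂ) ∘ e.symm), ⟨⟨_, hirr⟩, ?_, rfl⟩, ?_⟩
      · have hirr' : IsIrrCharacter H ((((χ : H → ℂ) ∘ e.symm)) ∘ e) := by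
          rw [hcomp]; exact χ.2
        rw [← mem_principalBlock_comp_equiv (M := M) e ⟨_, hirr⟩ hirr']
        have : (⟨(((χ : H → ℂ) ∘ e.symm)) ∘ e, hirr'⟩ : IrrCharacter H) = χ :=
          Subtype.ext hcomp
        rw [this]
        exact hχ
      · rw [hφa, ← pRegularPart_comp_equiv, hcomp]
    · rintro ⟨_, ⟨χ, hχ, rfl⟩, rfl⟩
      have hirr : IsIrrCharacter H ((χ : K → ℂ) ∘ e) :=
        isIrrCharacter_comp_of_surjective e.toMonoidHom e.surjective χ.2
      refine ⟨⟨_, hirr⟩, (mem_principalBlock_comp_equiv e χ hirr).2 hχ, ?_⟩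
      rw [hφa, ← pRegularPart_comp_equiv]
  rw [himg]
  have hmap := Submodule.map_span (φ : (K → ℂ) →ₗ[ℂ] (H → ℂ))
    ((fun χ : IrrCharacter K => pRegularPart p (χ : K → ℂ)) '' principalBlock M K)
  have hcoe : ⇑(φ : (K → ℂ) →ₗ[ℂ] (H → ℂ)) = ⇑φ := rfl
  rw [hcoe] at hmap
  rw [← hmap]
  exact LinearEquiv.finrank_map_eq φ _

end Transport

section Quot

variable {G : Type u} [Group G] [Finite G] {M : Ideal AlgInt} {p : ℕ}

/-- the rank of the principal block is unchanged modulo a central `p`-subgroup -/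
theorem blockRank_principalBlock_quot_central (hM : IsPModular p M) (P : Subgroup G) [P.Normal]
    (hP : IsPGroup p P) (hPc : P ≤ Subgroup.center G) :
    blockRank p (principalBlock M G) = blockRank p (principalBlock M (G ⧸ P)) := by
  classical
  letI : Fintype G := Fintype.ofFinite G
  letI : Fintype (G ⧸ P) := Fintype.ofFinite _
  haveI : Fact p.Prime := ⟨hM.1⟩
  have hC : ∃ k : ℕ, (Subgroup.centralizer (P : Set G)).index = p ^ k := by
    refine ⟨0, ?_⟩
    have : Subgroup.centralizer (P : Set G) = ⊤ := by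
      rw [eq_top_iff]
      intro g _
      rw [Subgroup.mem_centralizer_iff]
      intro w hw
      exact (Subgroup.mem_center_iff.1 (hPc hw) g).symm
    rw [this, Subgroup.index_top, pow_zero]
  have h41 := (Cfsg.Agent.S0941.result p M hM P hP hC).1
  apply blockRank_quotient_eq P hM hP hC isPBlock_principalBlock
  intro η
  have h1 := h41 (principalChar (G ⧸ P)) η
  constructor
  · intro hη
    have hirr : IsIrrCharacter G ((η : G ⧸ P → ℂ) ∘ (QuotientGroup.mk : G → G ⧸ P)) :=
      isIrrCharacter_comp_of_surjective (QuotientGroup.mk' P) (QuotientGroup.mk'_surjective P) η.2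
    exact ⟨⟨_, hirr⟩, h1.1 hη, rfl⟩
  · rintro ⟨ψ, hψ, hψe⟩
    apply h1.2
    rw [← hψe]
    exact hψ

end Quot

end Cfsg.Agent.Helper7
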