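import Mathlib
import Cfsg.Agent.Lib.Helper7.BlkCount3
import Cfsg.Agent.Lib.Helper7.BSQQuot

/-!
# The principal `2`-block of a group with a quaternion Sylow `2`-subgroup of order eight
(helper7's library)
-/

set_option autoImplicit false
set_option linter.unusedSectionVars false

universe u

namespace Cfsg.Agent.Helper7

open Cfsg Cfsg.Agent.Helper24 Cfsg.Agent.Helper18 Cfsg.Agent.Helper23 Cfsg.Agent.Helper23.Blk
open Cfsg.Agent.Helper16
open scoped ComplexConjugate

section Q8

variable {G : Type u} [Group G] [Finite G] (S : Sylow 2 G) {a : G}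

theorem orderOf_conj_eq (c g : G) : orderOf (c * g * c⁻¹) = orderOf g := by
  have := (MulAut.conj c).orderOf_eq g
  rwa [MulAut.conj_apply] at this

theorem orderOf_eq_of_isConj' {g h : G} (hc : IsConj g h) : orderOf g = orderOf h := by
  obtain ⟨c, hc⟩ := isConj_iff.1 hc
  rw [← hc, orderOf_conj_eq]

/-- representatives of the classes of `2`-elements -/
theorem q8_class_reps (hq : IsQuatSub (S : Subgroup G) a 2)
    (hconj : ∀ A B : Subgroup G, A ≤ S → B ≤ S → Nat.card A = 4 → Nat.card B = 4 →
      ∃ n ∈ Subgroup.normalizer ((S : Subgroup G) : Set G),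
        B = A.map (MulAut.conj n).toMonoidHom)
    (hcent : ∀ g : G, a ^ 2 * g = g * a ^ 2) [DecidableEq G] (g : G)
    (hg : ∃ k : ℕ, orderOf g = 2 ^ k) :
    ∃! x, x ∈ ({1, a ^ 2, a} : Finset G) ∧ IsConj g x := by
  haveI : Fact (2 : ℕ).Prime := ⟨Nat.prime_two⟩
  have hao : orderOf a = 4 := by
    have h := hq.hao
    norm_num at h
    exact h
  have huo : orderOf (a ^ 2) = 2 := q8_orderOf_u S hq
  -- existence
  have hex : IsConj g 1 ∨ IsConj g (a ^ 2) ∨ IsConj g a := by
    obtain ⟨c, hc⟩ := Cfsg.Agent.Helper9.exists_conj_mem_sylow S g hg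
    rcases q8_sq_mem S hq hc with h | h
    · by_cases h1 : c * g * c⁻¹ = 1
      · left
        rw [isConj_iff]
        exact ⟨c, h1⟩
      · right; left
        rw [isConj_iff]
        exact ⟨c, q8_invol_mem S hq hc (orderOf_eq_prime h h1)⟩
    · right; right
      have hso : orderOf (c * g * c⁻¹) = 4 := by
        have h4 : ¬ (c * g * c⁻¹) ^ 2 ^ 1 = 1 := by
          rw [pow_one, h]
          exact hq.a_sq_ne_one
        have h5 : (c * g * c⁻¹) ^ 2 ^ (1 + 1) = 1 := by
          have : (2 : ℕ) ^ (1 + 1) = 2 * 2 := by norm_num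
          rw [this, pow_mul, h]
          have h22 := pow_orderOf_eq_one (a ^ 2)
          rwa [huo] at h22
        rw [orderOf_eq_prime_pow h4 h5]
        norm_num
      obtain ⟨n, hn, hmap⟩ := hconj (Subgroup.zpowers (c * g * c⁻¹)) (Subgroup.zpowers a)
        (Subgroup.zpowers_le.2 hc) (Subgroup.zpowers_le.2 hq.mem)
        (by rw [Nat.card_zpowers, hso]) (by rw [Nat.card_zpowers, hao])
      have hmem : n * (c * g * c⁻¹) * n⁻¹ ∈ Subgroup.zpowers a := by
        rw [hmap]
        exact ⟨c * g * c⁻¹, Subgroup.mem_zpowers _, rfl⟩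
      have hmo : orderOf (n * (c * g * c⁻¹) * n⁻¹) = 4 := by
        rw [orderOf_conj_eq, hso]
      rcases eq_or_eq_inv_of_orderOf_four hao hmem hmo with h3 | h3
      · rw [isConj_iff]
        refine ⟨n * c, ?_⟩
        rw [← h3]
        group
      · obtain ⟨b, hb⟩ := q8_inv_conj S hq
        rw [isConj_iff]
        refine ⟨b⁻¹ * n * c, ?_⟩
        have : b⁻¹ * n * c * g * (b⁻¹ * n * c)⁻¹ = b⁻¹ * (n * (c * g * c⁻¹) * n⁻¹) * b := by
          group
        rw [this, h3, ← hb]
        group
  have ho1 : ∀ {x : G}, IsConj g x → orderOf g = orderOf x := fun h => orderOf_eq_of_isConj' h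
  rcases hex with h | h | h
  · refine ⟨1, ⟨by simp, h⟩, ?_⟩
    rintro x ⟨hx, hxc⟩
    have hgo := ho1 h
    rw [orderOf_one] at hgo
    have hxo := ho1 hxc
    rw [hgo] at hxo
    exact orderOf_eq_one_iff.1 hxo.symm
  · refine ⟨a ^ 2, ⟨by simp, h⟩, ?_⟩
    rintro x ⟨hx, hxc⟩
    have hgo := ho1 h
    rw [huo] at hgo
    have hxo := ho1 hxc
    rw [hgo] at hxo
    simp only [Finset.mem_insert, Finset.mem_singleton] at hx
    rcases hx with rfl | rfl | rfl
    · rw [orderOf_one] at hxo
      omega
    · rfl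
    · rw [hao] at hxo
      omega
  · refine ⟨a, ⟨by simp, h⟩, ?_⟩
    rintro x ⟨hx, hxc⟩
    have hgo := ho1 h
    rw [hao] at hgo
    have hxo := ho1 hxc
    rw [hgo] at hxo
    simp only [Finset.mem_insert, Finset.mem_singleton] at hx
    rcases hx with rfl | rfl | rfl
    · rw [orderOf_one] at hxo
      omega
    · rw [huo] at hxo
      omega
    · rfl

/-- the rank of the principal block is three -/
theorem blockRank_principal_q8 {M : Ideal AlgInt} (hM : IsPModular 2 M)
    (hq : IsQuatSub (S : Subgroup G) a 2)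
    (hconj : ∀ A B : Subgroup G, A ≤ S → B ≤ S → Nat.card A = 4 → Nat.card B = 4 →
      ∃ n ∈ Subgroup.normalizer ((S : Subgroup G) : Set G),
        B = A.map (MulAut.conj n).toMonoidHom)
    (hcent : ∀ g : G, a ^ 2 * g = g * a ^ 2) :
    blockRank 2 (principalBlock M G) = 3 := by
  classical
  obtain ⟨H, hH⟩ : ∃ H : Subgroup G, H = Subgroup.centralizer ({a ^ 2} : Set G) := ⟨_, rfl⟩
  have hHtop : H = ⊤ := by
    rw [hH, eq_top_iff]
    intro g _
    rw [Subgroup.mem_centralizer_iff]
    intro w hw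
    rw [Set.mem_singleton_iff] at hw
    rw [hw]
    exact hcent g
  have e' : H ≃* G := (MulEquiv.subgroupCongr hHtop).trans Subgroup.topEquiv
  rw [← blockRank_principalBlock_congr (M := M) (p := 2) e']
  have huH : a ^ 2 ∈ H := by rw [hHtop]; exact Subgroup.mem_top _
  obtain ⟨u', hu'⟩ : ∃ u' : H, (u' : G) = a ^ 2 := ⟨⟨a ^ 2, huH⟩, rfl⟩
  have hu'c : ∀ h : H, h * u' = u' * h := by
    intro h
    apply Subtype.ext
    rw [Subgroup.coe_mul, Subgroup.coe_mul, hu']
    exact (hcent h).symm
  have hzc : Subgroup.zpowers u' ≤ Subgroup.center H := by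
    rw [Subgroup.zpowers_le, Subgroup.mem_center_iff]
    exact hu'c
  haveI hN : (Subgroup.zpowers u').Normal := by
    constructor
    intro w hw g
    have hwc : w ∈ Subgroup.center H := hzc hw
    have : g * w * g⁻¹ = w := by
      rw [Subgroup.mem_center_iff.1 hwc g, mul_inv_cancel_right]
    rw [this]
    exact hw
  have hu'o : orderOf u' = 2 := by
    rw [← Subgroup.orderOf_coe, hu']
    exact q8_orderOf_u S hq
  have hP2 : IsPGroup 2 (Subgroup.zpowers u') := by
    apply IsPGroup.of_card (n := 1)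
    rw [Nat.card_zpowers, hu'o, pow_one]
  rw [blockRank_principalBlock_quot_central hM (Subgroup.zpowers u') hP2 hzc]
  obtain ⟨P, hK, hone⟩ := q8_quot_data S hq hconj H hH u' hu'
  exact blockRank_principal_klein hM P hK hone

/-- **the principal `2`-block has seven characters** -/
theorem card_principalBlock_q8 {M : Ideal AlgInt} (hM : IsPModular 2 M)
    (hq : IsQuatSub (S : Subgroup G) a 2)
    (hconj : ∀ A B : Subgroup G, A ≤ S → B ≤ S → Nat.card A = 4 → Nat.card B = 4 →
      ∃ n ∈ Subgroup.normalizer ((S : Subgroup G) : Set G),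
        B = A.map (MulAut.conj n).toMonoidHom)
    (hcent : ∀ g : G, a ^ 2 * g = g * a ^ 2) :
    Nat.card (principalBlock M G) = 7 := by
  classical
  letI : Fintype G := Fintype.ofFinite G
  letI : Fintype (IrrCharacter G) := irrFintype
  have hao : orderOf a = 4 := by
    have h := hq.hao
    norm_num at h
    exact h
  have huo : orderOf (a ^ 2) = 2 := q8_orderOf_u S hq
  have hu1 : a ^ 2 ≠ 1 := hq.a_sq_ne_one
  have ha1 : a ≠ 1 := by
    intro h
    rw [h, orderOf_one] at hao
    omega
  have hau : a ^ 2 ≠ a := by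
    intro h
    rw [h, hao] at huo
    omega
  have hX : ∀ x ∈ ({1, a ^ 2, a} : Finset G), ∃ k : ℕ, orderOf x = 2 ^ k := by
    intro x hx
    simp only [Finset.mem_insert, Finset.mem_singleton] at hx
    rcases hx with rfl | rfl | rfl
    · exact ⟨0, by rw [orderOf_one, pow_zero]⟩
    · exact ⟨1, by rw [huo, pow_one]⟩
    · exact ⟨2, by rw [hao]; norm_num⟩
  have hcount := card_block_count Nat.prime_two (principalBlock M G) {1, a ^ 2, a} hX
    (q8_class_reps S hq hconj hcent)
  have hcu : Nat.card (Subgroup.centralizer ({a ^ 2} : Set G)) = Nat.card G := by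
    have h : Subgroup.centralizer ({a ^ 2} : Set G) = ⊤ := by
      rw [eq_top_iff]
      intro g _
      rw [Subgroup.mem_centralizer_iff]
      intro w hw
      rw [Set.mem_singleton_iff] at hw
      rw [hw]
      exact hcent g
    rw [h, Subgroup.card_top]
  rw [Finset.sum_insert (by simp [hu1.symm, ha1.symm]), Finset.sum_pair hau,
    secSum_central_invol _ (a ^ 2) huo (fun h => (hcent h).symm),
    secSum_one hM isPBlock_principalBlock,
    secSum_of_pNilpotent hM ⟨2, by rw [hao]; norm_num⟩ ha1 (q8_cent_a S hq).1,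
    card_centralizer_one, hcu, blockRank_principal_q8 S hM hq hconj hcent] at hcount
  have hG0 : (Nat.card G : ℂ) ≠ 0 := by exact_mod_cast (Nat.card_pos (α := G)).ne'
  have hC0 : (Nat.card (Subgroup.centralizer ({a} : Set G)) : ℂ) ≠ 0 := by
    exact_mod_cast (Nat.card_pos (α := Subgroup.centralizer ({a} : Set G))).ne'
  rw [div_self hG0, one_mul, div_mul_cancel₀ _ hC0] at hcount
  have h5 : ((Nat.card (principalBlock M G) : ℕ) : ℂ) = 7 := by
    have h6 : (Nat.card G : ℂ) * ((Nat.card (principalBlock M G) : ℕ) : ℂ) =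
        (Nat.card G : ℂ) * 7 := by
      push_cast at hcount ⊢
      linear_combination hcount
    exact mul_left_cancel₀ hG0 h6
  exact_mod_cast h5

end Q8

end Cfsg.Agent.Helper7
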