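import Mathlib
import Cfsg.Prelude.Def_Local
import Cfsg.Agent.Lib.Helper7.Quasisimple
import Cfsg.Agent.Lib.Helper7.Standard

set_option autoImplicit false

namespace Cfsg.Agent.Helper7

open Subgroup
open scoped commutatorElement

variable {G : Type*} [Group G]

/-- A quasisimple subgroup `L` whose centralizer is abelian with a unique involution `t`, and with
`C(t) ≤ N(L)`, is standard. -/
theorem isStandardSubgroup_of_unique_involution [Finite G] (L : Subgroup G)
    (hL : Cfsg.IsQuasisimple ↥L) (t : G) (ht : orderOf t = 2)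
    (htK : t ∈ Subgroup.centralizer (L : Set G))
    (huniq : ∀ u ∈ Subgroup.centralizer (L : Set G), orderOf u = 2 → u = t)
    (hab : ∀ a ∈ Subgroup.centralizer (L : Set G), ∀ b ∈ Subgroup.centralizer (L : Set G),
      a * b = b * a)
    (hCN : Subgroup.centralizer ({t} : Set G) ≤ Subgroup.normalizer (L : Set G)) :
    Cfsg.IsStandardSubgroup L := by
  haveI : Fact (Nat.Prime 2) := ⟨Nat.prime_two⟩
  have hNLK := normalizer_le_normalizer_centralizer L
  have hNKC : Subgroup.normalizer ((Subgroup.centralizer (L : Set G) : Subgroup G) : Set G) ≤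
      Subgroup.centralizer ({t} : Set G) := by
    intro g hg
    rw [Subgroup.mem_centralizer_singleton_iff]
    have h1 : g * t * g⁻¹ ∈ Subgroup.centralizer (L : Set G) :=
      (Subgroup.mem_normalizer_iff.mp hg t).mp htK
    have h2 : orderOf (g * t * g⁻¹) = 2 := by
      have : g * t * g⁻¹ = MulAut.conj g t := rfl
      rw [this, MulEquiv.orderOf_eq]; exact ht
    have h3 := huniq _ h1 h2
    calc g * t = g * t * g⁻¹ * g := by group
      _ = t * g := by rw [h3]
  refine ⟨hL, ⟨?_, ?_⟩, ?_, le_antisymm hNLK (hNKC.trans hCN)⟩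
  · rw [even_iff_two_dvd, ← ht]
    have := orderOf_dvd_natCard (⟨t, htK⟩ : ↥(Subgroup.centralizer (L : Set G)))
    rwa [← Subgroup.orderOf_coe] at this
  · intro g hg
    by_contra hodd
    rw [Nat.not_odd_iff_even, even_iff_two_dvd] at hodd
    obtain ⟨u, hu⟩ := exists_prime_orderOf_dvd_card' 2 hodd
    have hu2 : orderOf (u : G) = 2 := by rw [Subgroup.orderOf_coe]; exact hu
    have hut : (u : G) = t := huniq _ u.2.1 hu2
    obtain ⟨k, hk, hku⟩ := u.2.2
    have hk2 : orderOf k = 2 := by
      have : (u : G) = MulAut.conj g k := hku.symm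
      rw [this, MulEquiv.orderOf_eq] at hu2
      exact hu2
    have hkt : k = t := huniq _ hk hk2
    apply hg
    apply hNLK
    apply hCN
    rw [Subgroup.mem_centralizer_singleton_iff]
    have h3 : g * t * g⁻¹ = t := by
      have h4 : (MulAut.conj g).toMonoidHom k = (u : G) := hku
      rw [hkt, hut] at h4
      exact h4
    calc g * t = g * t * g⁻¹ * g := by group
      _ = t * g := by rw [h3]
  · intro g _ hcomm
    have h1 : L.map (MulAut.conj g).toMonoidHom ≤ Subgroup.centralizer (L : Set G) := by
      apply Subgroup.commutator_eq_bot_iff_le_centralizer.mp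
      rwa [Subgroup.commutator_comm]
    apply quasisimple_not_isMulCommutative hL
    constructor
    constructor
    intro a b
    have ha : MulAut.conj g (a : G) ∈ Subgroup.centralizer (L : Set G) :=
      h1 (Subgroup.mem_map_of_mem _ a.2)
    have hb : MulAut.conj g (b : G) ∈ Subgroup.centralizer (L : Set G) :=
      h1 (Subgroup.mem_map_of_mem _ b.2)
    have h2 := hab _ ha _ hb
    rw [← map_mul, ← map_mul] at h2
    apply Subtype.ext
    exact (MulAut.conj g).injective h2

end Cfsg.Agent.Helper7
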