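import Mathlib
import Cfsg.Prelude.Def_Local
import Cfsg.Agent.Lib.Helper7.BlkB
import Cfsg.Agent.Lib.Helper7.StdInv

set_option autoImplicit false

namespace Cfsg.Agent.Helper7

open Matrix

variable {ι F : Type*} [Fintype ι] [DecidableEq ι] [Field F] (ℓ : ι)

theorem mem_centralizer_iff_isBlk (h2 : (2 : F) ≠ 0) (t : Matrix.SpecialLinearGroup ι F)
    (ht : (t : Matrix ι ι F) = tdiag ℓ) (g : Matrix.SpecialLinearGroup ι F) :
    g ∈ Subgroup.centralizer ({t} : Set (Matrix.SpecialLinearGroup ι F)) ↔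
      IsBlk ℓ (g : Matrix ι ι F) := by
  rw [Subgroup.mem_centralizer_singleton_iff, isBlk_iff_commute ℓ h2, ← ht]
  constructor
  · intro h
    have := congrArg Subtype.val h
    simpa using this
  · intro h
    apply Subtype.ext
    simpa using h

theorem range_embSL_le_centralizer (h2 : (2 : F) ≠ 0) (t : Matrix.SpecialLinearGroup ι F)
    (ht : (t : Matrix ι ι F) = tdiag ℓ) :
    (embSL (F := F) ℓ).range ≤ Subgroup.centralizer ({t} : Set (Matrix.SpecialLinearGroup ι F)) := by
  intro g hg
  rw [mem_centralizer_iff_isBlk ℓ h2 t ht]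
  exact ((mem_range_embSL_iff ℓ g).mp hg).1

theorem centralizer_le_normalizer_range_embSL (h2 : (2 : F) ≠ 0) (t : Matrix.SpecialLinearGroup ι F)
    (ht : (t : Matrix ι ι F) = tdiag ℓ) :
    Subgroup.centralizer ({t} : Set (Matrix.SpecialLinearGroup ι F)) ≤
      Subgroup.normalizer ((embSL (F := F) ℓ).range : Set (Matrix.SpecialLinearGroup ι F)) := by
  intro c hc
  have hcB : IsBlk ℓ (c : Matrix ι ι F) := (mem_centralizer_iff_isBlk ℓ h2 t ht c).mp hc
  have key : ∀ (d : Matrix.SpecialLinearGroup ι F), d ∈ Subgroup.centralizer ({t} : Set _) →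
      ∀ x ∈ (embSL (F := F) ℓ).range, d * x * d⁻¹ ∈ (embSL (F := F) ℓ).range := by
    intro d hd x hx
    have hdB : IsBlk ℓ (d : Matrix ι ι F) := (mem_centralizer_iff_isBlk ℓ h2 t ht d).mp hd
    have hxC := range_embSL_le_centralizer ℓ h2 t ht hx
    have hdxd : d * x * d⁻¹ ∈ Subgroup.centralizer ({t} : Set (Matrix.SpecialLinearGroup ι F)) :=
      mul_mem (mul_mem hd hxC) (inv_mem hd)
    rw [mem_range_embSL_iff] at hx ⊢
    refine ⟨(mem_centralizer_iff_isBlk ℓ h2 t ht _).mp hdxd, ?_⟩
    have hinv : (d : Matrix ι ι F) * ((d⁻¹ : Matrix.SpecialLinearGroup ι F) : Matrix ι ι F) = 1 := by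
      rw [← Matrix.SpecialLinearGroup.coe_mul, mul_inv_cancel]; rfl
    rw [Matrix.SpecialLinearGroup.coe_mul, Matrix.SpecialLinearGroup.coe_mul, mul_assoc,
      hdB.mul_apply_corner, hx.1.mul_apply_corner, hx.2, one_mul, ← hdB.mul_apply_corner, hinv,
      Matrix.one_apply_eq]
  rw [Subgroup.mem_normalizer_iff]
  intro x
  constructor
  · exact key c hc x
  · intro hx
    have := key c⁻¹ (inv_mem hc) _ hx
    simpa [mul_assoc] using this

/-- the corner entry as a homomorphism on the centralizer. -/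
def cornerHom (h2 : (2 : F) ≠ 0) (t : Matrix.SpecialLinearGroup ι F)
    (ht : (t : Matrix ι ι F) = tdiag ℓ) :
    ↥(Subgroup.centralizer ({t} : Set (Matrix.SpecialLinearGroup ι F))) →* F where
  toFun c := ((c : Matrix.SpecialLinearGroup ι F) : Matrix ι ι F) ℓ ℓ
  map_one' := by simp
  map_mul' c d := by
    have hcB : IsBlk ℓ ((c : Matrix.SpecialLinearGroup ι F) : Matrix ι ι F) :=
      (mem_centralizer_iff_isBlk ℓ h2 t ht _).mp c.2
    show ((((c * d : ↥(Subgroup.centralizer ({t} : Set (Matrix.SpecialLinearGroup ι F)))) :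
      Matrix.SpecialLinearGroup ι F)) : Matrix ι ι F) ℓ ℓ = _
    rw [Subgroup.coe_mul, Matrix.SpecialLinearGroup.coe_mul, hcB.mul_apply_corner]

theorem layer_centralizer_eq_range_embSL [Finite F] (h2 : (2 : F) ≠ 0)
    (t : Matrix.SpecialLinearGroup ι F) (ht : (t : Matrix ι ι F) = tdiag ℓ)
    (h : 3 ≤ Fintype.card {k // k ≠ ℓ} ∨ (Fintype.card {k // k ≠ ℓ} = 2 ∧ 4 ≤ Nat.card F)) :
    (Cfsg.layer ↥(Subgroup.centralizer ({t} : Set (Matrix.SpecialLinearGroup ι F)))).map
      (Subgroup.centralizer ({t} : Set (Matrix.SpecialLinearGroup ι F))).subtype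
      = (embSL (F := F) ℓ).range := by
  have hle := range_embSL_le_centralizer ℓ h2 t ht
  have hnorm : ((embSL (F := F) ℓ).range.subgroupOf
      (Subgroup.centralizer ({t} : Set (Matrix.SpecialLinearGroup ι F)))).Normal :=
    (Subgroup.normal_subgroupOf_iff_le_normalizer hle).mpr
      (centralizer_le_normalizer_range_embSL ℓ h2 t ht)
  have hq := range_embSL_isQuasisimple (F := F) ℓ h
  have hcomp : Cfsg.IsComponent ((embSL (F := F) ℓ).range.subgroupOf
      (Subgroup.centralizer ({t} : Set (Matrix.SpecialLinearGroup ι F)))) :=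
    ⟨hnorm.isSubnormal, isQuasisimple_of_mulEquiv (Subgroup.subgroupOfEquivOfLe hle).symm hq⟩
  have hlayer : Cfsg.layer ↥(Subgroup.centralizer ({t} : Set (Matrix.SpecialLinearGroup ι F)))
      = (embSL (F := F) ℓ).range.subgroupOf
        (Subgroup.centralizer ({t} : Set (Matrix.SpecialLinearGroup ι F))) := by
    apply le_antisymm
    · unfold Cfsg.layer
      apply sSup_le
      intro K hK
      have hperf : ⁅K, K⁆ = K := by
        haveI := hK.2.1
        exact Subgroup.isPerfect_iff.mp inferInstance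
      intro k hk
      rw [Subgroup.mem_subgroupOf, mem_range_embSL_iff]
      refine ⟨(mem_centralizer_iff_isBlk ℓ h2 t ht _).mp k.2, ?_⟩
      have h1 : k ∈ commutator ↥(Subgroup.centralizer ({t} : Set (Matrix.SpecialLinearGroup ι F))) := by
        rw [← hperf] at hk
        exact Subgroup.commutator_mono le_top le_top hk
      have h3 := Abelianization.commutator_subset_ker (cornerHom ℓ h2 t ht).toHomUnits h1
      rw [MonoidHom.mem_ker] at h3
      have h4 := congrArg Units.val h3
      simpa [cornerHom] using h4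
    · unfold Cfsg.layer
      exact le_sSup hcomp
  rw [hlayer, Subgroup.map_subgroupOf_eq_of_le hle]

end Cfsg.Agent.Helper7
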