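import Mathlib
import Cfsg.Prelude.Def_Local
import Cfsg.Agent.Lib.Helper7.BlkD

set_option autoImplicit false

namespace Cfsg.Agent.Helper7

open Matrix

variable {ι F : Type*} [Fintype ι] [DecidableEq ι] [Field F] (ℓ : ι)

theorem emb_transvection (k l : {k // k ≠ ℓ}) :
    emb ℓ ((1 : Matrix {k // k ≠ ℓ} {k // k ≠ ℓ} F) + Matrix.single k l 1)
      = 1 + Matrix.single (k : ι) (l : ι) 1 := by
  ext a b
  by_cases ha : a = ℓ
  · by_cases hb : b = ℓ
    · rw [ha, hb, emb_apply_corner, Matrix.add_apply, Matrix.one_apply_eq, Matrix.single_apply_of_ne]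
      · simp
      · exact fun h => k.2 h.1
    · rw [ha, emb_apply_corner_ne ℓ _ hb, Matrix.add_apply, Matrix.one_apply_ne (Ne.symm hb),
        Matrix.single_apply_of_ne]
      · simp
      · exact fun h => k.2 h.1
  · by_cases hb : b = ℓ
    · rw [hb, emb_apply_ne_corner ℓ _ ha, Matrix.add_apply, Matrix.one_apply_ne ha,
        Matrix.single_apply_of_ne]
      · simp
      · exact fun h => l.2 h.2
    · rw [emb_apply_ne_ne ℓ _ ha hb]
      simp only [Matrix.add_apply, Matrix.one_apply, Matrix.single_apply, Subtype.ext_iff]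

/-- elements centralizing the embedded `SL(ι ∖ ℓ)` commute with the elementary matrices. -/
theorem commute_single_of_mem_centralizer_range {g : Matrix.SpecialLinearGroup ι F}
    (hg : g ∈ Subgroup.centralizer ((embSL (F := F) ℓ).range : Set (Matrix.SpecialLinearGroup ι F)))
    {a b : ι} (ha : a ≠ ℓ) (hb : b ≠ ℓ) (hab : a ≠ b) :
    Commute (Matrix.single a b (1 : F)) (g : Matrix ι ι F) := by
  have hab' : (⟨a, ha⟩ : {k // k ≠ ℓ}) ≠ ⟨b, hb⟩ := fun h => hab (congrArg Subtype.val h)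
  have h1 := hg (embSL ℓ (Matrix.SpecialLinearGroup.transvection hab' (1 : F))) ⟨_, rfl⟩
  have h3 := congrArg (fun x : Matrix.SpecialLinearGroup ι F => (x : Matrix ι ι F)) h1
  simp only [Matrix.SpecialLinearGroup.coe_mul, embSL_coe] at h3
  have h4 : ((Matrix.SpecialLinearGroup.transvection hab' (1 : F)) :
      Matrix.SpecialLinearGroup {k // k ≠ ℓ} F).1 = 1 + Matrix.single ⟨a, ha⟩ ⟨b, hb⟩ 1 := rfl
  rw [h4, emb_transvection, add_mul, mul_add, one_mul, mul_one] at h3
  exact add_left_cancel h3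

theorem eq_diagonal_of_mem_centralizer_range (hcard : 2 ≤ Fintype.card {k // k ≠ ℓ})
    {g : Matrix.SpecialLinearGroup ι F}
    (hg : g ∈ Subgroup.centralizer ((embSL (F := F) ℓ).range : Set (Matrix.SpecialLinearGroup ι F))) :
    (g : Matrix ι ι F) = Matrix.diagonal (fun i => (g : Matrix ι ι F) i i) ∧
      ∀ a b, a ≠ ℓ → b ≠ ℓ → (g : Matrix ι ι F) a a = (g : Matrix ι ι F) b b := by
  have hother : ∀ a : ι, a ≠ ℓ → ∃ b : ι, b ≠ ℓ ∧ a ≠ b := by
    intro a ha
    obtain ⟨b, hb⟩ := Fintype.exists_ne_of_one_lt_card (by omega : 1 < Fintype.card {k // k ≠ ℓ}) ⟨a, ha⟩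
    exact ⟨b, b.2, fun h => hb (Subtype.ext h.symm)⟩
  constructor
  · ext k l
    by_cases hkl : k = l
    · subst hkl; rw [Matrix.diagonal_apply_eq]
    · rw [Matrix.diagonal_apply_ne _ hkl]
      by_cases hk : k = ℓ
      · have hl : l ≠ ℓ := fun h => hkl (hk.trans h.symm)
        obtain ⟨b, hb, hlb⟩ := hother l hl
        exact Matrix.col_eq_zero_of_commute_single
          (commute_single_of_mem_centralizer_range ℓ hg hl hb hlb) hkl
      · obtain ⟨b, hb, hkb⟩ := hother k hk
        exact Matrix.row_eq_zero_of_commute_single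
          (commute_single_of_mem_centralizer_range ℓ hg hb hk (Ne.symm hkb)) (Ne.symm hkl)
  · intro a b ha hb
    by_cases hab : a = b
    · rw [hab]
    · exact Matrix.diag_eq_of_commute_single (commute_single_of_mem_centralizer_range ℓ hg ha hb hab)

theorem commute_of_mem_centralizer_range (hcard : 2 ≤ Fintype.card {k // k ≠ ℓ})
    {g h : Matrix.SpecialLinearGroup ι F}
    (hg : g ∈ Subgroup.centralizer ((embSL (F := F) ℓ).range : Set (Matrix.SpecialLinearGroup ι F)))
    (hh : h ∈ Subgroup.centralizer ((embSL (F := F) ℓ).range : Set (Matrix.SpecialLinearGroup ι F))) :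
    g * h = h * g := by
  apply Subtype.ext
  rw [Matrix.SpecialLinearGroup.coe_mul, Matrix.SpecialLinearGroup.coe_mul,
    (eq_diagonal_of_mem_centralizer_range ℓ hcard hg).1,
    (eq_diagonal_of_mem_centralizer_range ℓ hcard hh).1,
    Matrix.diagonal_mul_diagonal, Matrix.diagonal_mul_diagonal]
  congr 1
  ext i
  exact mul_comm _ _

theorem mem_centralizer_range_of_coe_eq_tdiag (h2 : (2 : F) ≠ 0) (t : Matrix.SpecialLinearGroup ι F)
    (ht : (t : Matrix ι ι F) = tdiag ℓ) :
    t ∈ Subgroup.centralizer ((embSL (F := F) ℓ).range : Set (Matrix.SpecialLinearGroup ι F)) := by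
  intro x hx
  have := range_embSL_le_centralizer ℓ h2 t ht hx
  rw [Subgroup.mem_centralizer_singleton_iff] at this
  exact this

theorem orderOf_of_coe_eq_tdiag (h2 : (2 : F) ≠ 0) (t : Matrix.SpecialLinearGroup ι F)
    (ht : (t : Matrix ι ι F) = tdiag ℓ) {k : ι} (hk : k ≠ ℓ) : orderOf t = 2 := by
  apply orderOf_eq_prime
  · apply Subtype.ext
    rw [pow_two, Matrix.SpecialLinearGroup.coe_mul, ht, tdiag_mul_self]; rfl
  · intro h
    have h1 := congrArg (fun A : Matrix.SpecialLinearGroup ι F => (A : Matrix ι ι F) k k) h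
    simp only [ht, tdiag, Matrix.diagonal_apply_eq, if_neg hk, Matrix.SpecialLinearGroup.coe_one,
      Matrix.one_apply_eq] at h1
    apply h2
    linear_combination -h1

/-- the unique involution centralizing the embedded `SL(ι ∖ ℓ)` (for `|ι|` odd). -/
theorem eq_of_mem_centralizer_range_of_orderOf_eq_two (h2 : (2 : F) ≠ 0)
    (hcard : 2 ≤ Fintype.card {k // k ≠ ℓ}) (heven : Even (Fintype.card {k // k ≠ ℓ}))
    (t : Matrix.SpecialLinearGroup ι F) (ht : (t : Matrix ι ι F) = tdiag ℓ)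
    {u : Matrix.SpecialLinearGroup ι F}
    (hu : u ∈ Subgroup.centralizer ((embSL (F := F) ℓ).range : Set (Matrix.SpecialLinearGroup ι F)))
    (hu2 : orderOf u = 2) : u = t := by
  obtain ⟨hdiag, heq⟩ := eq_diagonal_of_mem_centralizer_range ℓ hcard hu
  obtain ⟨a₀, ha₀⟩ : ∃ a : ι, a ≠ ℓ := by
    obtain ⟨a⟩ : Nonempty {k // k ≠ ℓ} := Fintype.card_pos_iff.mp (by omega)
    exact ⟨a, a.2⟩
  -- squares
  have hsq : (u : Matrix ι ι F) * (u : Matrix ι ι F) = 1 := by
    have := pow_orderOf_eq_one u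
    rw [hu2, pow_two] at this
    have h3 := congrArg (fun x : Matrix.SpecialLinearGroup ι F => (x : Matrix ι ι F)) this
    simpa using h3
  have hsq' : ∀ i, (u : Matrix ι ι F) i i * (u : Matrix ι ι F) i i = 1 := by
    intro i
    have h3 := congrFun (congrFun hsq i) i
    rw [hdiag, Matrix.diagonal_mul_diagonal, Matrix.diagonal_apply_eq, Matrix.one_apply_eq] at h3
    rw [hdiag, Matrix.diagonal_apply_eq]
    exact h3
  -- determinant
  have hdet : (u : Matrix ι ι F) ℓ ℓ * ((u : Matrix ι ι F) a₀ a₀) ^ (Fintype.card {k // k ≠ ℓ}) = 1 := by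
    have h3 : (u : Matrix ι ι F).det = 1 := u.2
    rw [hdiag, Matrix.det_diagonal, ← Finset.mul_prod_erase Finset.univ _ (Finset.mem_univ ℓ)] at h3
    rw [Finset.prod_congr rfl (fun i hi => heq i a₀ (Finset.ne_of_mem_erase hi) ha₀),
      Finset.prod_const] at h3
    have h4 : (Finset.univ.erase ℓ).card = Fintype.card {k // k ≠ ℓ} := by
      rw [Fintype.card_subtype]
      congr 1
      ext i
      simp
    rw [h4] at h3
    exact h3
  obtain ⟨m, hm⟩ := heven
  have hpow : ((u : Matrix ι ι F) a₀ a₀) ^ (Fintype.card {k // k ≠ ℓ}) = 1 := by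
    rw [hm, ← two_mul, pow_mul, pow_two, hsq' a₀, one_pow]
  rw [hpow, mul_one] at hdet
  have hlam : (u : Matrix ι ι F) a₀ a₀ = 1 ∨ (u : Matrix ι ι F) a₀ a₀ = -1 := by
    have h3 : ((u : Matrix ι ι F) a₀ a₀ - 1) * ((u : Matrix ι ι F) a₀ a₀ + 1) = 0 := by
      linear_combination hsq' a₀
    rcases mul_eq_zero.mp h3 with h | h
    · exact Or.inl (sub_eq_zero.mp h)
    · exact Or.inr (eq_neg_of_add_eq_zero_left h)
  rcases hlam with hlam | hlam
  · exfalso
    have hu1 : u = 1 := by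
      apply Subtype.ext
      rw [hdiag, Matrix.SpecialLinearGroup.coe_one, ← Matrix.diagonal_one]
      congr 1
      ext i
      by_cases hi : i = ℓ
      · rw [hi]; exact hdet
      · rw [heq i a₀ hi ha₀]; exact hlam
    rw [hu1, orderOf_one] at hu2
    omega
  · apply Subtype.ext
    rw [ht, hdiag, tdiag]
    congr 1
    ext i
    by_cases hi : i = ℓ
    · rw [if_pos hi, hi]; exact hdet
    · rw [if_neg hi, heq i a₀ hi ha₀]; exact hlam

/-- the embedded `SL(ι ∖ ℓ)` is a standard subgroup of `SL(ι)` when `|ι| ≥ 4` is odd. -/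
theorem range_embSL_isStandardSubgroup [Finite F] (h2 : (2 : F) ≠ 0)
    (hcard : 3 ≤ Fintype.card {k // k ≠ ℓ}) (heven : Even (Fintype.card {k // k ≠ ℓ}))
    (t : Matrix.SpecialLinearGroup ι F) (ht : (t : Matrix ι ι F) = tdiag ℓ) :
    Cfsg.IsStandardSubgroup (embSL (F := F) ℓ).range := by
  obtain ⟨a₀, ha₀⟩ : ∃ a : ι, a ≠ ℓ := by
    obtain ⟨a⟩ : Nonempty {k // k ≠ ℓ} := Fintype.card_pos_iff.mp (by omega)
    exact ⟨a, a.2⟩
  apply isStandardSubgroup_of_unique_involution _ (range_embSL_isQuasisimple ℓ (Or.inl hcard)) t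
    (orderOf_of_coe_eq_tdiag ℓ h2 t ht ha₀) (mem_centralizer_range_of_coe_eq_tdiag ℓ h2 t ht)
  · intro u hu hu2
    exact eq_of_mem_centralizer_range_of_orderOf_eq_two ℓ h2 (by omega) heven t ht hu hu2
  · intro a ha b hb
    exact commute_of_mem_centralizer_range ℓ (by omega) ha hb
  · exact centralizer_le_normalizer_range_embSL ℓ h2 t ht

end Cfsg.Agent.Helper7
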