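import Mathlib
import Cfsg.Agent.S4475

/-!
# Frobenius–Schur: a symplectic irreducible character has even degree (helper7's library)
-/

set_option autoImplicit false
set_option linter.style.haveILetI false

namespace Cfsg.Agent.Helper7

open Cfsg Cfsg.Agent.Helper24 Matrix
open scoped ComplexConjugate

universe u

variable {G : Type u} [Group G] [Fintype G]

/-- An irreducible character with Frobenius–Schur indicator `-1` has even degree. -/
theorem even_degree_of_fsInd_neg_one {χ : G → ℂ} (hχ : IsIrrCharacter G χ)
    (hν : fsInd χ = -1) : Even (charDegree χ) := by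
  classical
  have hreal : ∀ g, conj (χ g) = χ g :=
    (fsInd_ne_zero_iff hχ).mp (by rw [hν]; norm_num)
  obtain ⟨n, ρ, hirr, rfl⟩ := hχ
  have hreal' : ∀ g : G, (ρ.character g).im = 0 := fun g =>
    Complex.conj_eq_iff_im.mp (hreal g)
  obtain ⟨⟨M, hM0, hMinv⟩, hall⟩ := Cfsg.Agent.S4475.result n ρ hirr hreal'
  have hT : Mᵀ = (-1 : ℂ) • M := by
    have := hall M hMinv
    rw [this]
    congr 1
  -- the kernel of `M` is invariant
  have hirr' := (isIrreducible_iff ρ).mp hirr
  set U : Submodule ℂ (Fin n → ℂ) := LinearMap.ker (Matrix.toLin' M) with hU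
  have hUinv : ∀ g : G, ∀ v ∈ U, ρ g v ∈ U := by
    intro g v hv
    rw [hU, LinearMap.mem_ker, Matrix.toLin'_apply] at hv ⊢
    set A := LinearMap.toMatrix' (ρ g) with hA
    set A' := LinearMap.toMatrix' (ρ g⁻¹) with hA'
    have hAA' : A * A' = 1 := by
      rw [hA, hA', ← LinearMap.toMatrix'_mul, ← map_mul, mul_inv_cancel, map_one,
        LinearMap.toMatrix'_one]
    have hρv : ρ g v = A *ᵥ v := by rw [hA, LinearMap.toMatrix'_mulVec]
    have h1 : M * A = A'ᵀ * M := by
      calc M * A = (A * A')ᵀ * (M * A) := by rw [hAA', Matrix.transpose_one, Matrix.one_mul]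
        _ = A'ᵀ * (Aᵀ * M * A) := by
          rw [Matrix.transpose_mul]; simp only [Matrix.mul_assoc]
        _ = A'ᵀ * M := by rw [hMinv g]
    rw [hρv, Matrix.mulVec_mulVec, h1, ← Matrix.mulVec_mulVec, hv, Matrix.mulVec_zero]
  have hUbot : U = ⊥ := by
    rcases hirr'.2 U hUinv with h | h
    · exact h
    · exfalso
      apply hM0
      have h0 : Matrix.toLin' M = 0 := by
        apply LinearMap.ext
        intro v
        have : v ∈ U := by rw [h]; trivial
        rw [hU, LinearMap.mem_ker] at this
        rw [this]; rfl
      have := congrArg LinearMap.toMatrix' h0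
      rwa [LinearMap.toMatrix'_toLin', map_zero] at this
  have hinj : Function.Injective M.mulVec := by
    have : Function.Injective (Matrix.toLin' M) := LinearMap.ker_eq_bot.mp hUbot
    intro v w hvw
    apply this
    rw [Matrix.toLin'_apply, Matrix.toLin'_apply]
    exact hvw
  have hunit : IsUnit M := Matrix.mulVec_injective_iff_isUnit.mp hinj
  have hdet : M.det ≠ 0 := by
    have := (Matrix.isUnit_iff_isUnit_det M).mp hunit
    exact this.ne_zero
  have h2 : M.det = (-1 : ℂ) ^ n * M.det := by
    have := congrArg Matrix.det hT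
    rw [Matrix.det_transpose, Matrix.det_smul, Fintype.card_fin] at this
    exact this
  have h3 : (-1 : ℂ) ^ n = 1 := by
    have : ((-1 : ℂ) ^ n - 1) * M.det = 0 := by linear_combination -h2
    rcases mul_eq_zero.mp this with h | h
    · exact sub_eq_zero.mp h
    · exact absurd h hdet
  have heven : Even n := (neg_one_pow_eq_one_iff_even (by norm_num)).mp h3
  have hdeg : charDegree ρ.character = n := by
    apply charDegree_natCast
    rw [Representation.char_one]
    simp
  rw [hdeg]
  exact heven

end Cfsg.Agent.Helper7
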