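import Mathlib
import Cfsg.Agent.Lib.Helper7.BrOrd5
import Cfsg.Agent.Lib.Helper7.FSEven
import Cfsg.Agent.Lib.Helper23.BlockReal
import Cfsg.Agent.Lib.Helper23.BlockSecondMain
import Cfsg.Agent.Lib.Helper24.CharIntegral

/-!
# Square roots, real characters and class sizes for the Klein four order formula
(helper7's library)
-/

set_option autoImplicit false
set_option linter.style.haveILetI false

namespace Cfsg.Agent.Helper7

open Cfsg Cfsg.Agent.Helper24 Cfsg.Agent.Helper23 Cfsg.Agent.Helper23.Blk
open scoped ComplexConjugate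

universe u

section

variable {G : Type u} [Group G] [Fintype G]

/-- In a group with Klein four Sylow `2`-subgroups, elements of even order have no square
roots. -/
theorem sqrtCount_eq_zero_of_klein (P : Sylow 2 G) (hP : IsKleinFour (P : Subgroup G)) (g : G)
    (hg : 2 ∣ orderOf g) : sqrtCount g = 0 := by
  classical
  unfold sqrtCount
  apply Finset.sum_eq_zero
  intro u _
  rw [if_neg]
  intro hu
  obtain ⟨z, y, hzy, hc, hzk, hy⟩ := exists_isPPart Nat.prime_two u (orderOf_pos u)
  have hzz : z * z = 1 := by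
    by_cases hz1 : z = 1
    · rw [hz1, one_mul]
    · exact sq_eq_one_of_orderOf_two (klein_two_elt_order P hP hzk hz1)
  have hgy : g = y ^ 2 := by
    rw [← hu, ← hzy, pow_two]
    calc z * y * (z * y) = (z * z) * (y * y) := by
          rw [mul_assoc, ← mul_assoc y z y, ← hc.eq]; group
      _ = y * y := by rw [hzz, one_mul]
  apply hy
  rw [hgy] at hg
  exact dvd_trans hg (orderOf_pow_dvd 2)

/-- The complex conjugate of a character of the principal block lies in the principal block. -/
theorem starIrr_mem_principalBlock (M : Ideal AlgInt) (χ : IrrCharacter G)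
    (hχ : χ ∈ principalBlock M G) : starIrr χ ∈ principalBlock M G := by
  have h1 : SameBlock M ((principalChar G : IrrCharacter G) : G → ℂ) (χ : G → ℂ) := hχ
  have h2 := sameBlock_starIrr h1
  have h3 : (starIrr (principalChar G) : G → ℂ) = fun _ => (1 : ℂ) := by
    funext g
    rw [starIrr_apply]
    change conj (1 : ℂ) = 1
    exact map_one _
  rw [h3] at h2
  exact h2

/-- If an irreducible character takes the value `±1` at `a`, its degree divides the size of
the class of `a`. -/
theorem charDegree_dvd_index_of_val {χ : G → ℂ} (hχ : IsIrrCharacter G χ) (a : G) (ε : ℤ)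
    (hε : ε = 1 ∨ ε = -1) (hval : χ a = ε) :
    charDegree χ ∣ (Subgroup.centralizer ({a} : Set G)).index := by
  have h := isIntegral_centralChar hχ a
  obtain ⟨n, hn, hn1⟩ := irr_one_eq hχ
  rw [charDegree_natCast n hn1]
  unfold centralChar at h
  rw [hn1, hval] at h
  set K := (Subgroup.centralizer ({a} : Set G)).index with hK
  have hn0 : (n : ℚ) ≠ 0 := by exact_mod_cast hn.ne'
  have h2 : ((K : ℂ) * (ε : ℂ) / (n : ℂ)) = algebraMap ℚ ℂ ((K : ℚ) * (ε : ℚ) / (n : ℚ)) := by
    simp
  rw [h2, isIntegral_algebraMap_iff (algebraMap ℚ ℂ).injective] at h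
  obtain ⟨m, hm⟩ := IsIntegrallyClosed.isIntegral_iff.mp h
  have h3 : (m : ℚ) * n = (K : ℚ) * ε := by
    have : (algebraMap ℤ ℚ m) = (m : ℚ) := rfl
    rw [this] at hm
    rw [hm]
    field_simp
  have h4 : (m * (n : ℤ)) = (K : ℤ) * ε := by exact_mod_cast h3
  have h5 : (n : ℤ) ∣ (K : ℤ) := by
    rcases hε with h | h
    · exact ⟨m, by rw [h, mul_one] at h4; rw [← h4]; ring⟩
    · exact ⟨-m, by rw [h] at h4; linarith⟩
  exact_mod_cast h5

end

end Cfsg.Agent.Helper7
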