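import Mathlib

set_option autoImplicit false

namespace Cfsg.Agent.Helper7

open DihedralGroup

/-- the sign character of a dihedral group, with kernel the rotations. -/
def dihSign (m : ℕ) : DihedralGroup m →* ℤˣ where
  toFun g := match g with
    | r _ => 1
    | sr _ => -1
  map_one' := rfl
  map_mul' := by
    rintro (a | a) (b | b) <;> simp [r_mul_r, r_mul_sr, sr_mul_r, sr_mul_sr]

theorem dihSign_r (m : ℕ) (i : ZMod m) : dihSign m (r i) = 1 := rfl

theorem dihSign_sr (m : ℕ) (i : ZMod m) : dihSign m (sr i) = -1 := rfl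

theorem exists_r_of_dihSign_eq_one {m : ℕ} {g : DihedralGroup m} (h : dihSign m g = 1) :
    ∃ i, g = r i := by
  cases g with
  | r i => exact ⟨i, rfl⟩
  | sr i =>
    rw [dihSign_sr] at h
    exact absurd h (by decide)

/-- the half-turn. -/
def dihHalf (m : ℕ) : DihedralGroup m := r ((m / 2 : ℕ) : ZMod m)

theorem half_add_half {m : ℕ} (hm : Even m) : (((m / 2 : ℕ) : ZMod m) + ((m / 2 : ℕ) : ZMod m)) = 0 := by
  obtain ⟨k, hk⟩ := hm
  have : m / 2 = k := by omega
  rw [this, ← Nat.cast_add, ← hk]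
  exact ZMod.natCast_self m

theorem half_ne_zero {m : ℕ} (hm : Even m) (h2 : 2 ≤ m) : ((m / 2 : ℕ) : ZMod m) ≠ 0 := by
  intro h
  rw [ZMod.natCast_eq_zero_iff] at h
  have : m / 2 < m := Nat.div_lt_self (by omega) (by omega)
  have h3 : 0 < m / 2 := Nat.div_pos h2 (by omega)
  exact absurd (Nat.le_of_dvd h3 h) (by omega)

theorem eq_half_of_add_self {m : ℕ} (hm : Even m) (h2 : 2 ≤ m) {i : ZMod m} (hi : i + i = 0)
    (hi0 : i ≠ 0) : i = ((m / 2 : ℕ) : ZMod m) := by
  haveI : NeZero m := ⟨by omega⟩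
  have h1 : ((i.val + i.val : ℕ) : ZMod m) = 0 := by
    rw [Nat.cast_add, ZMod.natCast_zmod_val]; exact hi
  rw [ZMod.natCast_eq_zero_iff] at h1
  have hlt : i.val < m := ZMod.val_lt i
  have hpos : i.val ≠ 0 := by
    intro h
    exact hi0 ((ZMod.val_eq_zero i).mp h)
  obtain ⟨c, hc⟩ := h1
  have hc1 : c = 1 := by
    rcases c with _ | _ | c
    · omega
    · rfl
    · exfalso
      have h5 : m * (c + 2) ≥ m * 2 := Nat.mul_le_mul_left m (by omega)
      have h6 : c + 1 + 1 = c + 2 := rfl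
      rw [h6] at hc
      omega
  rw [hc1, mul_one] at hc
  have : i.val = m / 2 := by omega
  rw [← this, ZMod.natCast_zmod_val]

theorem orderOf_dihHalf {m : ℕ} (hm : Even m) (h2 : 2 ≤ m) : orderOf (dihHalf m) = 2 := by
  apply orderOf_eq_prime
  · rw [dihHalf, pow_two, r_mul_r, half_add_half hm, r_zero]
  · intro h
    rw [dihHalf, one_def] at h
    exact half_ne_zero hm h2 (r.inj h)

theorem eq_dihHalf_of_orderOf_r {m : ℕ} (hm : Even m) (h2 : 2 ≤ m) {i : ZMod m}
    (hi : orderOf (r i) = 2) : r i = dihHalf m := by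
  have h1 : r i * r i = 1 := by
    rw [← pow_two, ← hi]; exact pow_orderOf_eq_one _
  rw [r_mul_r, one_def] at h1
  have h3 : i ≠ 0 := by
    intro h
    rw [h, r_zero, orderOf_one] at hi
    omega
  rw [dihHalf, eq_half_of_add_self hm h2 (r.inj h1) h3]

theorem dihHalf_mul_comm {m : ℕ} (hm : Even m) (g : DihedralGroup m) :
    dihHalf m * g = g * dihHalf m := by
  have hneg : -((m / 2 : ℕ) : ZMod m) = ((m / 2 : ℕ) : ZMod m) :=
    neg_eq_of_add_eq_zero_left (half_add_half hm)
  cases g with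
  | r i => rw [dihHalf, r_mul_r, r_mul_r, add_comm]
  | sr i => rw [dihHalf, r_mul_sr, sr_mul_r, sub_eq_add_neg, hneg]

/-- every element of a dihedral group is an involution or a product of two involutions. -/
theorem dih_eq_invol_or_mul (m : ℕ) (g : DihedralGroup m) :
    orderOf g = 2 ∨ ∃ a b : DihedralGroup m, orderOf a = 2 ∧ orderOf b = 2 ∧ g = a * b := by
  cases g with
  | r i =>
    right
    refine ⟨sr 0, sr i, orderOf_sr 0, orderOf_sr i, ?_⟩
    rw [sr_mul_sr, sub_zero]
  | sr i => exact Or.inl (orderOf_sr i)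

end Cfsg.Agent.Helper7
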