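import Mathlib
import Cfsg.Prelude.Def_TwoFusion
import Cfsg.Agent.Lib.Helper7.Dih1
import Cfsg.Agent.Lib.Helper16.TransferSign

set_option autoImplicit false

namespace Cfsg.Agent.Helper7

open DihedralGroup

variable {X : Type*} [Group X] [Finite X] (S : Sylow 2 X) (m : ℕ)
  (eS : ↥(S : Subgroup X) ≃* DihedralGroup m)

include eS in
theorem even_of_sylow_dihedral (hm : 2 ≤ m) : Even m := by
  haveI : Fact (Nat.Prime 2) := ⟨Nat.prime_two⟩
  have hcard : Nat.card ↥(S : Subgroup X) = 2 * m := by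
    rw [Nat.card_congr eS.toEquiv, DihedralGroup.nat_card]
  obtain ⟨k, hk⟩ := IsPGroup.iff_card.mp S.isPGroup'
  rw [hcard] at hk
  rcases k with _ | _ | k
  · omega
  · simp at hk; omega
  · refine ⟨2 ^ k, ?_⟩
    have : 2 * m = 2 * (2 ^ k * 2) := by rw [hk]; ring
    omega

/-- the central involution of a dihedral Sylow subgroup. -/
def zS : X := ((eS.symm (dihHalf m) : ↥(S : Subgroup X)) : X)

theorem zS_mem : zS S m eS ∈ (S : Subgroup X) := (eS.symm (dihHalf m)).2

theorem orderOf_zS (hm : 2 ≤ m) : orderOf (zS S m eS) = 2 := by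
  rw [zS, Subgroup.orderOf_coe, MulEquiv.orderOf_eq]
  exact orderOf_dihHalf (even_of_sylow_dihedral S m eS hm) hm

/-- Thompson transfer: without subgroups of index two, all involutions are conjugate to the central
involution of the dihedral Sylow subgroup. -/
theorem isConj_zS_of_no_index_two (hm : 2 ≤ m) (hG : ∀ H : Subgroup X, H.index ≠ 2) (u : X)
    (hu : orderOf u = 2) : IsConj u (zS S m eS) := by
  obtain ⟨g, hmem, hε⟩ := Cfsg.Agent.Helper16.exists_conj_sign_eq_one hG S
    ((dihSign m).comp eS.toMonoidHom) u hu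
  have hε' : dihSign m (eS ⟨g⁻¹ * u * g, hmem⟩) = 1 := hε
  obtain ⟨i, hi⟩ := exists_r_of_dihSign_eq_one hε'
  have hord : orderOf (eS ⟨g⁻¹ * u * g, hmem⟩) = 2 := by
    rw [MulEquiv.orderOf_eq, ← Subgroup.orderOf_coe]
    have : g⁻¹ * u * g = MulAut.conj g⁻¹ u := by simp [MulAut.conj_apply]
    show orderOf (g⁻¹ * u * g) = 2
    rw [this, MulEquiv.orderOf_eq]; exact hu
  rw [hi] at hord
  have h2 := eq_dihHalf_of_orderOf_r (even_of_sylow_dihedral S m eS hm) hm hord
  rw [← hi] at h2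
  have h3 : (⟨g⁻¹ * u * g, hmem⟩ : ↥(S : Subgroup X)) = eS.symm (dihHalf m) := by
    rw [← h2]; simp
  rw [isConj_iff]
  refine ⟨g⁻¹, ?_⟩
  rw [inv_inv]
  exact congrArg Subtype.val h3

include eS in
/-- when all involutions are conjugate there is no subgroup of index two. -/
theorem no_index_two_of_isConj (hm : 2 ≤ m)
    (hconj : ∀ a b : X, orderOf a = 2 → orderOf b = 2 → IsConj a b) (H : Subgroup X) :
    H.index ≠ 2 := by
  haveI : Fact (Nat.Prime 2) := ⟨Nat.prime_two⟩
  intro hH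
  haveI hn : H.Normal := Subgroup.normal_of_index_eq_two hH
  -- `H` contains an involution
  have hcardS : Nat.card ↥(S : Subgroup X) = 2 * m := by
    rw [Nat.card_congr eS.toEquiv, DihedralGroup.nat_card]
  have h4 : 4 ∣ Nat.card X := by
    have h1 : Nat.card ↥(S : Subgroup X) ∣ Nat.card X := Subgroup.card_subgroup_dvd_card _
    obtain ⟨k, hk⟩ := even_of_sylow_dihedral S m eS hm
    rw [hcardS] at h1
    exact Dvd.dvd.trans ⟨k, by omega⟩ h1
  have hHX : Nat.card H * 2 = Nat.card X := by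
    rw [← hH]; exact Subgroup.card_mul_index H
  have h2H : 2 ∣ Nat.card H := by
    obtain ⟨c, hc⟩ := h4
    exact ⟨c, by omega⟩
  obtain ⟨t, ht⟩ := exists_prime_orderOf_dvd_card' 2 h2H
  have ht2 : orderOf (t : X) = 2 := by rw [Subgroup.orderOf_coe]; exact ht
  have hinv : ∀ a : X, orderOf a = 2 → a ∈ H := by
    intro a ha
    obtain ⟨c, hc⟩ := isConj_iff.mp (hconj (t : X) a ht2 ha)
    rw [← hc]
    exact hn.conj_mem _ t.2 c
  have hSH : (S : Subgroup X) ≤ H := by
    intro x hx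
    rcases dih_eq_invol_or_mul m (eS ⟨x, hx⟩) with h | ⟨a, b, ha, hb, hab⟩
    · apply hinv
      rw [MulEquiv.orderOf_eq, ← Subgroup.orderOf_coe] at h
      exact h
    · have hx' : (⟨x, hx⟩ : ↥(S : Subgroup X)) = eS.symm a * eS.symm b := by
        rw [← map_mul, ← hab]; simp
      have hx'' : x = ((eS.symm a : ↥(S : Subgroup X)) : X) * ((eS.symm b : ↥(S : Subgroup X)) : X) :=
        congrArg Subtype.val hx'
      rw [hx'']
      apply mul_mem
      · apply hinv
        rw [Subgroup.orderOf_coe, MulEquiv.orderOf_eq]; exact ha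
      · apply hinv
        rw [Subgroup.orderOf_coe, MulEquiv.orderOf_eq]; exact hb
  have hdvd : H.index ∣ (S : Subgroup X).index := Subgroup.index_dvd_of_le hSH
  rw [hH] at hdvd
  exact S.not_dvd_index hdvd

include eS in
/-- when all involutions are conjugate there is no isolated involution. -/
theorem not_isIsolatedInvolution_of_isConj (hm : 2 ≤ m)
    (hconj : ∀ a b : X, orderOf a = 2 → orderOf b = 2 → IsConj a b) (t : X) :
    ¬ Cfsg.IsIsolatedInvolution t := by
  rintro ⟨ht2, hiso⟩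
  have heven := even_of_sylow_dihedral S m eS hm
  -- `z` and `s`
  have hz2 := orderOf_zS S m eS hm
  have hs2 : orderOf (((eS.symm (sr 0) : ↥(S : Subgroup X)) : X)) = 2 := by
    rw [Subgroup.orderOf_coe, MulEquiv.orderOf_eq]; exact orderOf_sr 0
  have hcomm : zS S m eS * ((eS.symm (sr 0) : ↥(S : Subgroup X)) : X)
      = ((eS.symm (sr 0) : ↥(S : Subgroup X)) : X) * zS S m eS := by
    rw [zS, ← Subgroup.coe_mul, ← Subgroup.coe_mul, ← map_mul, ← map_mul,
      dihHalf_mul_comm heven]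
  have hne : ((eS.symm (sr 0) : ↥(S : Subgroup X)) : X) ≠ zS S m eS := by
    intro h
    rw [zS] at h
    have := eS.symm.injective (Subtype.ext h)
    rw [dihHalf] at this
    cases this
  obtain ⟨a, ha⟩ := isConj_iff.mp (hconj (zS S m eS) t hz2 ht2)
  obtain ⟨b, hb⟩ := isConj_iff.mp (hconj t ((eS.symm (sr 0) : ↥(S : Subgroup X)) : X) ht2 hs2)
  -- `a s a⁻¹` is a conjugate of `t` commuting with `t`
  have h1 : a * ((eS.symm (sr 0) : ↥(S : Subgroup X)) : X) * a⁻¹ = (a * b) * t * (a * b)⁻¹ := by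
    rw [← hb]; group
  have h2 : Commute t ((a * b) * t * (a * b)⁻¹) := by
    rw [← h1]
    show t * (a * _ * a⁻¹) = (a * _ * a⁻¹) * t
    rw [← ha]
    calc a * zS S m eS * a⁻¹ * (a * ((eS.symm (sr 0) : ↥(S : Subgroup X)) : X) * a⁻¹)
        = a * (zS S m eS * ((eS.symm (sr 0) : ↥(S : Subgroup X)) : X)) * a⁻¹ := by group
      _ = a * (((eS.symm (sr 0) : ↥(S : Subgroup X)) : X) * zS S m eS) * a⁻¹ := by rw [hcomm]
      _ = _ := by group
  have h3 := hiso (a * b) h2
  rw [← h1, ← ha] at h3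
  apply hne
  have h4 : a⁻¹ * (a * ((eS.symm (sr 0) : ↥(S : Subgroup X)) : X) * a⁻¹) * a
      = a⁻¹ * (a * zS S m eS * a⁻¹) * a := by rw [h3]
  simpa [mul_assoc] using h4

end Cfsg.Agent.Helper7
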