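import Mathlib

set_option autoImplicit false

namespace Cfsg.Agent.Helper7

variable {G : Type*} [Group G]

/-- the four-group generated by two distinct commuting involutions. -/
def fourOf (a b : G) (ha : a * a = 1) (hb : b * b = 1) (hab : a * b = b * a) : Subgroup G where
  carrier := {x | x = 1 ∨ x = a ∨ x = b ∨ x = a * b}
  one_mem' := Or.inl rfl
  mul_mem' := by
    have e1 : a * (a * b) = b := by rw [← mul_assoc, ha, one_mul]
    have e2 : b * (a * b) = a := by rw [hab, ← mul_assoc, hb, one_mul]
    have e3 : a * b * a = b := by rw [hab, mul_assoc, ha, mul_one]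
    have e4 : a * b * b = a := by rw [mul_assoc, hb, mul_one]
    have e5 : a * b * (a * b) = 1 := by rw [← mul_assoc, e3, hb]
    rintro x y (rfl | rfl | rfl | rfl) (rfl | rfl | rfl | rfl)
    · exact Or.inl (one_mul 1)
    · exact Or.inr (Or.inl (one_mul _))
    · exact Or.inr (Or.inr (Or.inl (one_mul _)))
    · exact Or.inr (Or.inr (Or.inr (one_mul _)))
    · exact Or.inr (Or.inl (mul_one _))
    · exact Or.inl ha
    · exact Or.inr (Or.inr (Or.inr rfl))
    · exact Or.inr (Or.inr (Or.inl e1))
    · exact Or.inr (Or.inr (Or.inl (mul_one _)))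
    · exact Or.inr (Or.inr (Or.inr hab.symm))
    · exact Or.inl hb
    · exact Or.inr (Or.inl e2)
    · exact Or.inr (Or.inr (Or.inr (mul_one _)))
    · exact Or.inr (Or.inr (Or.inl e3))
    · exact Or.inr (Or.inl e4)
    · exact Or.inl e5
  inv_mem' := by
    have ia : a⁻¹ = a := inv_eq_of_mul_eq_one_left ha
    have ib : b⁻¹ = b := inv_eq_of_mul_eq_one_left hb
    rintro x (rfl | rfl | rfl | rfl)
    · exact Or.inl inv_one
    · exact Or.inr (Or.inl ia)
    · exact Or.inr (Or.inr (Or.inl ib))
    · exact Or.inr (Or.inr (Or.inr (by rw [mul_inv_rev, ia, ib, hab])))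

theorem mem_fourOf {a b : G} {ha : a * a = 1} {hb : b * b = 1} {hab : a * b = b * a} {x : G} :
    x ∈ fourOf a b ha hb hab ↔ x = 1 ∨ x = a ∨ x = b ∨ x = a * b := Iff.rfl

theorem fourOf_isKleinFour (a b : G) (ha : a * a = 1) (hb : b * b = 1) (hab : a * b = b * a)
    (ha1 : a ≠ 1) (hb1 : b ≠ 1) (hne : a ≠ b) : IsKleinFour ↥(fourOf a b ha hb hab) := by
  classical
  have hab1 : a * b ≠ 1 := by
    intro h
    apply hne
    have : a = b⁻¹ := eq_inv_of_mul_eq_one_left h
    rw [this, inv_eq_of_mul_eq_one_left hb]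
  have haba : a * b ≠ a := by
    intro h
    exact hb1 (mul_left_cancel (h.trans (mul_one a).symm))
  have habb : a * b ≠ b := by
    intro h
    exact ha1 (mul_right_cancel (h.trans (one_mul b).symm))
  constructor
  · have hset : ((fourOf a b ha hb hab : Subgroup G) : Set G) = {1, a, b, a * b} := by
      ext x
      simp only [SetLike.mem_coe, mem_fourOf, Set.mem_insert_iff, Set.mem_singleton_iff]
    have h1 : Nat.card ↥(fourOf a b ha hb hab) = Set.ncard ((fourOf a b ha hb hab : Subgroup G) : Set G) :=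
      (Nat.card_coe_set_eq _)
    rw [h1, hset]
    rw [Set.ncard_eq_toFinset_card']
    have : ({1, a, b, a * b} : Set G).toFinset = ({1, a, b, a * b} : Finset G) := by
      ext x; simp
    rw [this]
    rw [Finset.card_insert_of_notMem, Finset.card_insert_of_notMem, Finset.card_insert_of_notMem,
      Finset.card_singleton]
    · simp only [Finset.mem_singleton]; exact fun h => habb h.symm
    · simp only [Finset.mem_insert, Finset.mem_singleton, not_or]
      exact ⟨hne, fun h => haba h.symm⟩
    · simp only [Finset.mem_insert, Finset.mem_singleton, not_or]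
      exact ⟨fun h => ha1 h.symm, fun h => hb1 h.symm, fun h => hab1 h.symm⟩
  · haveI : Nontrivial ↥(fourOf a b ha hb hab) :=
      ⟨⟨⟨a, Or.inr (Or.inl rfl)⟩, 1, fun h => ha1 (congrArg Subtype.val h)⟩⟩
    rw [Monoid.exponent_eq_prime_iff Nat.prime_two]
    rintro ⟨x, hx⟩ hx1
    apply orderOf_eq_prime
    · apply Subtype.ext
      rw [pow_two]
      show x * x = 1
      rcases hx with rfl | rfl | rfl | rfl
      · exact one_mul 1
      · exact ha
      · exact hb
      · rw [← mul_assoc, hab, mul_assoc b, ha, mul_one, hb]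
    · exact hx1

/-- if `3` divides `|N(U) : C(U)|` for the four-group `U = {1, a, b, ab}`, then `a` and `b` are conjugate. -/
theorem isConj_of_three_dvd_relIndex [Finite G] (a b : G) (ha : a * a = 1) (hb : b * b = 1)
    (hab : a * b = b * a) (ha1 : a ≠ 1) (hb1 : b ≠ 1) (hne : a ≠ b)
    (h3 : 3 ∣ (Subgroup.centralizer ((fourOf a b ha hb hab : Subgroup G) : Set G)).relIndex
      (Subgroup.normalizer ((fourOf a b ha hb hab : Subgroup G) : Set G))) : IsConj a b := by
  haveI : Fact (Nat.Prime 3) := ⟨Nat.prime_three⟩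
  have hab1 : a * b ≠ 1 := by
    intro h
    apply hne
    have : a = b⁻¹ := eq_inv_of_mul_eq_one_left h
    rw [this, inv_eq_of_mul_eq_one_left hb]
  have haba : a * b ≠ a := by
    intro h
    exact hb1 (mul_left_cancel (h.trans (mul_one a).symm))
  have habb : a * b ≠ b := by
    intro h
    exact ha1 (mul_right_cancel (h.trans (one_mul b).symm))
  -- membership in the centralizer
  have hCmem : ∀ y : G, y * a * y⁻¹ = a → y * b * y⁻¹ = b →
      y ∈ Subgroup.centralizer ((fourOf a b ha hb hab : Subgroup G) : Set G) := by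
    intro y hya hyb
    have hya' : y * a = a * y := by
      calc y * a = y * a * y⁻¹ * y := by group
        _ = a * y := by rw [hya]
    have hyb' : y * b = b * y := by
      calc y * b = y * b * y⁻¹ * y := by group
        _ = b * y := by rw [hyb]
    intro v hv
    rcases hv with rfl | rfl | rfl | rfl
    · simp
    · exact hya'.symm
    · exact hyb'.symm
    · rw [mul_assoc, ← hyb', ← mul_assoc, ← hya', mul_assoc]
  -- an element of order three in `N / C`
  haveI hnorm : ((Subgroup.centralizer ((fourOf a b ha hb hab : Subgroup G) : Set G)).subgroupOf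
      (Subgroup.normalizer ((fourOf a b ha hb hab : Subgroup G) : Set G))).Normal := by
    constructor
    intro c hc n
    rw [Subgroup.mem_subgroupOf] at hc ⊢
    intro v hv
    have hv' : (n : G)⁻¹ * v * (n : G) ∈ fourOf a b ha hb hab := by
      have := (Subgroup.mem_normalizer_iff.mp (inv_mem n.2) v).mp hv
      simpa using this
    have h1 := hc _ hv'
    show v * ((n : G) * (c : G) * (n : G)⁻¹) = (n : G) * (c : G) * (n : G)⁻¹ * v
    calc v * ((n : G) * (c : G) * (n : G)⁻¹)
        = (n : G) * (((n : G)⁻¹ * v * (n : G)) * (c : G)) * (n : G)⁻¹ := by group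
      _ = (n : G) * ((c : G) * ((n : G)⁻¹ * v * (n : G))) * (n : G)⁻¹ := by rw [h1]
      _ = _ := by group
  have hcard : 3 ∣ Nat.card (↥(Subgroup.normalizer ((fourOf a b ha hb hab : Subgroup G) : Set G)) ⧸
      (Subgroup.centralizer ((fourOf a b ha hb hab : Subgroup G) : Set G)).subgroupOf
        (Subgroup.normalizer ((fourOf a b ha hb hab : Subgroup G) : Set G))) := by
    rw [← Subgroup.index_eq_card]
    exact h3
  obtain ⟨q, hq⟩ := exists_prime_orderOf_dvd_card' 3 hcard
  obtain ⟨x, rfl⟩ := QuotientGroup.mk_surjective q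
  have hxC : (x : G) ∉ Subgroup.centralizer ((fourOf a b ha hb hab : Subgroup G) : Set G) := by
    intro h
    have : (QuotientGroup.mk x : ↥(Subgroup.normalizer ((fourOf a b ha hb hab : Subgroup G) : Set G)) ⧸ _) = 1 :=
      (QuotientGroup.eq_one_iff x).mpr (Subgroup.mem_subgroupOf.mpr h)
    rw [this, orderOf_one] at hq
    omega
  have hx3 : (x : G) ^ 3 ∈ Subgroup.centralizer ((fourOf a b ha hb hab : Subgroup G) : Set G) := by
    have hq' : orderOf (QuotientGroup.mk'
        ((Subgroup.centralizer ((fourOf a b ha hb hab : Subgroup G) : Set G)).subgroupOf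
          (Subgroup.normalizer ((fourOf a b ha hb hab : Subgroup G) : Set G))) x) = 3 := hq
    have := pow_orderOf_eq_one (QuotientGroup.mk'
        ((Subgroup.centralizer ((fourOf a b ha hb hab : Subgroup G) : Set G)).subgroupOf
          (Subgroup.normalizer ((fourOf a b ha hb hab : Subgroup G) : Set G))) x)
    rw [hq', ← map_pow, QuotientGroup.mk'_apply, QuotientGroup.eq_one_iff,
      Subgroup.mem_subgroupOf] at this
    simpa using this
  have hx2 : (x : G) ^ 2 ∉ Subgroup.centralizer ((fourOf a b ha hb hab : Subgroup G) : Set G) := by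
    intro h
    apply hxC
    have : (x : G) = ((x : G) ^ 2)⁻¹ * (x : G) ^ 3 := by
      rw [pow_succ (x : G) 2, inv_mul_cancel_left]
    rw [this]
    exact mul_mem (inv_mem h) hx3
  -- the action on the involutions
  have hN : ∀ v ∈ fourOf a b ha hb hab, (x : G) * v * (x : G)⁻¹ ∈ fourOf a b ha hb hab :=
    fun v hv => (Subgroup.mem_normalizer_iff.mp x.2 v).mp hv
  have hconj_ne : ∀ v w : G, v ≠ w → (x : G) * v * (x : G)⁻¹ ≠ (x : G) * w * (x : G)⁻¹ := by
    intro v w hvw h
    apply hvw
    have := congrArg (fun y => (x : G)⁻¹ * y * (x : G)) h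
    simpa [mul_assoc] using this
  have hconj_mul : ∀ v w : G, (x : G) * (v * w) * (x : G)⁻¹
      = ((x : G) * v * (x : G)⁻¹) * ((x : G) * w * (x : G)⁻¹) := by
    intro v w; group
  have hsq : ∀ v w : G, (x : G) * v * (x : G)⁻¹ = w →
      ∀ u : G, (x : G) * w * (x : G)⁻¹ = u → (x : G) ^ 2 * v * ((x : G) ^ 2)⁻¹ = u := by
    intro v w hvw u hwu
    rw [← hwu, ← hvw, pow_two, mul_inv_rev]
    simp only [mul_assoc]
  have h1ne : ∀ v : G, v ≠ 1 → (x : G) * v * (x : G)⁻¹ ≠ 1 := by
    intro v hv h
    apply hv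
    have := congrArg (fun y => (x : G)⁻¹ * y * (x : G)) h
    simpa [mul_assoc] using this
  have hxa := hN a (Or.inr (Or.inl rfl))
  have hxb := hN b (Or.inr (Or.inr (Or.inl rfl)))
  rcases hxa with hxa | hxa | hxa | hxa
  · exact absurd hxa (h1ne a ha1)
  · -- `x` fixes `a`
    exfalso
    rcases hxb with hxb | hxb | hxb | hxb
    · exact h1ne b hb1 hxb
    · exact hconj_ne a b hne (hxa.trans hxb.symm)
    · exact hxC (hCmem _ hxa hxb)
    · -- `x b x⁻¹ = ab`, so `x (ab) x⁻¹ = b`
      have hxab : (x : G) * (a * b) * (x : G)⁻¹ = b := by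
        rw [hconj_mul, hxa, hxb, ← mul_assoc, ha, one_mul]
      apply hx2
      apply hCmem
      · exact hsq a a hxa a hxa
      · exact hsq b (a * b) hxb b hxab
  · -- `x a x⁻¹ = b`
    rw [isConj_iff]
    exact ⟨x, hxa⟩
  · -- `x a x⁻¹ = ab`
    rcases hxb with hxb | hxb | hxb | hxb
    · exact absurd hxb (h1ne b hb1)
    · -- `x b x⁻¹ = a`: then `x² a x⁻² = b`
      have hxab : (x : G) * (a * b) * (x : G)⁻¹ = b := by
        rw [hconj_mul, hxa, hxb, hab, mul_assoc, ha, mul_one]
      rw [isConj_iff]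
      exact ⟨(x : G) ^ 2, hsq a (a * b) hxa b hxab⟩
    · -- `x` fixes `b`, swaps `a` and `ab`
      exfalso
      have hxab : (x : G) * (a * b) * (x : G)⁻¹ = a := by
        rw [hconj_mul, hxa, hxb, mul_assoc, hb, mul_one]
      apply hx2
      apply hCmem
      · exact hsq a (a * b) hxa a hxab
      · exact hsq b b hxb b hxb
    · exact absurd (hxa.trans hxb.symm) (hconj_ne a b hne)

end Cfsg.Agent.Helper7
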