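import Mathlib
import Cfsg.Prelude.Def_TwoFusion
import Cfsg.Agent.Lib.Helper7.Dih2
import Cfsg.Agent.Lib.Helper7.Dih3
import Cfsg.Agent.Lib.Helper7.Basic

set_option autoImplicit false

namespace Cfsg.Agent.Helper7

open DihedralGroup

variable {X : Type*} [Group X] [Finite X] (S : Sylow 2 X) (m : ℕ)
  (eS : ↥(S : Subgroup X) ≃* DihedralGroup m)

theorem zS_mul_comm (hm : 2 ≤ m) {v : X} (hv : v ∈ (S : Subgroup X)) :
    zS S m eS * v = v * zS S m eS := by
  have heven := even_of_sylow_dihedral S m eS hm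
  have h1 : eS.symm (dihHalf m) * ⟨v, hv⟩ = ⟨v, hv⟩ * eS.symm (dihHalf m) := by
    apply eS.injective
    rw [map_mul, map_mul, MulEquiv.apply_symm_apply, dihHalf_mul_comm heven]
  exact congrArg Subtype.val h1

include eS in
theorem isConj_of_fourGroup_index (hm : 2 ≤ m)
    (h : ∀ U : Subgroup X, U ≤ S → IsKleinFour U →
      (Subgroup.centralizer (U : Set X)).relIndex (Subgroup.normalizer (U : Set X))
        = (if Nat.card S = 4 then 3 else 6)) :
    ∀ a b : X, orderOf a = 2 → orderOf b = 2 → IsConj a b := by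
  haveI : Fact (Nat.Prime 2) := ⟨Nat.prime_two⟩
  have key : ∀ u : X, orderOf u = 2 → IsConj (zS S m eS) u := by
    intro u hu
    have hp : IsPGroup 2 (Subgroup.zpowers u) := by
      apply IsPGroup.of_card (n := 1)
      rw [Nat.card_zpowers, hu, pow_one]
    obtain ⟨g, _, hg⟩ := exists_conj_mem_sylow_of_le S ⊤ le_top u hp (Subgroup.mem_top u)
    have huv : IsConj u (g * u * g⁻¹) := isConj_iff.mpr ⟨g, rfl⟩
    have hv2 : orderOf (g * u * g⁻¹) = 2 := by
      have : g * u * g⁻¹ = MulAut.conj g u := rfl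
      rw [this, MulEquiv.orderOf_eq]; exact hu
    by_cases hvz : g * u * g⁻¹ = zS S m eS
    · rw [← hvz]; exact huv.symm
    · have hz2 := orderOf_zS S m eS hm
      have hzz : zS S m eS * zS S m eS = 1 := by
        rw [← pow_two, ← hz2]; exact pow_orderOf_eq_one _
      have hvv : (g * u * g⁻¹) * (g * u * g⁻¹) = 1 := by
        rw [← pow_two, ← hv2]; exact pow_orderOf_eq_one _
      have hcomm := zS_mul_comm S m eS hm hg
      have hz1 : zS S m eS ≠ 1 := by
        intro h1; rw [h1, orderOf_one] at hz2; omega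
      have hv1 : g * u * g⁻¹ ≠ 1 := by
        intro h1; rw [h1, orderOf_one] at hv2; omega
      have hU : fourOf (zS S m eS) (g * u * g⁻¹) hzz hvv hcomm ≤ (S : Subgroup X) := by
        intro x hx
        rcases hx with rfl | rfl | rfl | rfl
        · exact one_mem _
        · exact zS_mem S m eS
        · exact hg
        · exact mul_mem (zS_mem S m eS) hg
      have hK := fourOf_isKleinFour (zS S m eS) (g * u * g⁻¹) hzz hvv hcomm hz1 hv1 (Ne.symm hvz)
      have h3 : 3 ∣ (Subgroup.centralizer ((fourOf (zS S m eS) (g * u * g⁻¹) hzz hvv hcomm : Subgroup X) : Set X)).relIndex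
          (Subgroup.normalizer ((fourOf (zS S m eS) (g * u * g⁻¹) hzz hvv hcomm : Subgroup X) : Set X)) := by
        rw [h _ hU hK]
        split_ifs
        · exact dvd_rfl
        · exact ⟨2, rfl⟩
      have := isConj_of_three_dvd_relIndex (zS S m eS) (g * u * g⁻¹) hzz hvv hcomm hz1 hv1
        (Ne.symm hvz) h3
      exact this.trans huv.symm
  intro a b ha hb
  exact (key a ha).symm.trans (key b hb)

end Cfsg.Agent.Helper7
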