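import Mathlib
import Cfsg.Agent.Lib.Helper7.Dihedral6
import Cfsg.Agent.Lib.Helper7.Fitting
import Cfsg.Agent.Lib.Helper7.Fitting2
import Cfsg.Agent.Lib.Helper1.FittingSolvable
import Cfsg.Agent.Lib.Helper1.CharacteristicMap

set_option autoImplicit false

namespace Cfsg.Agent.Helper7

open Subgroup
open scoped commutatorElement

variable {G : Type*} [Group G]

/-- **Thompson's dihedral lemma**, reduction to the abelian case: a faithful elementary abelian
2-group of operators on a solvable group of odd order acts faithfully on some invariant abelian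
subgroup. -/
theorem exists_abelian_faithful [Finite G] (L A : Subgroup G) (hLs : Group.IsSolvable ↥L)
    (hLodd : Odd (Nat.card ↥L))
    (hAc : ∀ a ∈ A, ∀ b ∈ A, a * b = b * a) (hA2 : ∀ a ∈ A, a * a = 1)
    (hA2g : IsPGroup 2 ↥A)
    (hAL : A ≤ Subgroup.normalizer (L : Set G))
    (hfaith : A ⊓ Subgroup.centralizer (L : Set G) = ⊥) :
    ∃ M : Subgroup G, M ≤ L ∧ (∀ x ∈ M, ∀ y ∈ M, x * y = y * x) ∧
      A ≤ Subgroup.normalizer (M : Set G) ∧ A ⊓ Subgroup.centralizer (M : Set G) = ⊥ := by
  classical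
  set F : Subgroup G := (Cfsg.fittingSubgroup ↥L).map L.subtype with hF
  have hFL : F ≤ L := Subgroup.map_subtype_le _
  haveI hchar : (Cfsg.fittingSubgroup ↥L).Characteristic := fittingSubgroup_characteristic
  have hNLF : Subgroup.normalizer (L : Set G) ≤ Subgroup.normalizer (F : Set G) :=
    Cfsg.Agent.Helper1.normalizer_le_normalizer_map_of_characteristic L _
  have hAF : A ≤ Subgroup.normalizer (F : Set G) := hAL.trans hNLF
  have hLF : L ≤ Subgroup.normalizer (F : Set G) := Subgroup.le_normalizer.trans hNLF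
  have hFnil : Group.IsNilpotent ↥F := by
    haveI : Group.IsNilpotent ↥(Cfsg.fittingSubgroup ↥L) := fittingSubgroup_isNilpotent
    exact Group.nilpotent_of_surjective
      (L.subtype.subgroupMap (Cfsg.fittingSubgroup ↥L))
      (MonoidHom.subgroupMap_surjective _ _)
  have hFodd : Odd (Nat.card ↥F) := Odd.of_dvd_nat hLodd (Subgroup.card_dvd_of_le hFL)
  have hself1 : L ⊓ Subgroup.centralizer (F : Set G) ≤ F := by
    rintro g ⟨hgL, hgC⟩
    have hgC' : g ∈ Subgroup.centralizer (F : Set G) := hgC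
    have h1 : (⟨g, hgL⟩ : ↥L) ∈ Subgroup.centralizer (Cfsg.fittingSubgroup ↥L : Set ↥L) := by
      rw [Subgroup.mem_centralizer_iff]
      intro x hx
      apply Subtype.ext
      have hxF : (x : G) ∈ F := Subgroup.mem_map_of_mem L.subtype hx
      exact (Subgroup.mem_centralizer_iff.mp hgC') _ hxF
    haveI := hLs
    have h2 := Cfsg.Agent.Helper1.centralizer_fittingSubgroup_le_of_isSolvable h1
    exact ⟨⟨g, hgL⟩, h2, rfl⟩
  have hcopA : ∀ (B Y : Subgroup G), B ≤ A → Y ≤ L → (Nat.card ↥B).Coprime (Nat.card ↥Y) := by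
    intro B Y hB hY
    have hB2 : IsPGroup 2 ↥B := hA2g.to_le hB
    obtain ⟨n, hn⟩ := IsPGroup.iff_card.mp hB2
    rw [hn]
    apply Nat.Coprime.pow_left
    rw [Nat.coprime_two_left]
    exact Odd.of_dvd_nat hLodd (Subgroup.card_dvd_of_le hY)
  -- A ⊓ C(F) = ⊥
  have hB1 : A ⊓ Subgroup.centralizer (F : Set G) = ⊥ := by
    apply le_bot_iff.mp
    rw [← hfaith]
    refine le_inf inf_le_left ?_
    exact le_centralizer_of_self_centralizing hLF (inf_le_left.trans hAL) inf_le_right hself1
      (hcopA _ _ inf_le_left le_rfl)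
  obtain ⟨M, hMF, hMc, hFM, hAM, hself2⟩ :=
    exists_self_centralizing_abelian F A hFnil hFodd hAc hA2 hAF
  refine ⟨M, hMF.trans hFL, hMc, hAM, ?_⟩
  apply le_bot_iff.mp
  rw [← hB1]
  refine le_inf inf_le_left ?_
  exact le_centralizer_of_self_centralizing hFM (inf_le_left.trans hAF) inf_le_right hself2
    (hcopA _ _ inf_le_left hFL)

end Cfsg.Agent.Helper7
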