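import Mathlib
import Cfsg.Prelude.Def_Local
import Cfsg.Prelude.Def_Balance
import Cfsg.Agent.Lib.Helper7.ExtLayer

set_option autoImplicit false

namespace Cfsg.Agent.Helper7

open Subgroup
open scoped commutatorElement
open Cfsg.Agent.Helper15 (IsSylowIn)

section sylow

variable {G : Type*} [Group G] [Finite G] {p : ℕ} [hp : Fact p.Prime]

theorem factorization_eq_of_coprime_mul {a b : ℕ} (ha : a ≠ 0) (hb : b ≠ 0) (hcop : a.Coprime p) :
    (a * b).factorization p = b.factorization p := by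
  rw [Nat.factorization_mul ha hb]
  have h0 : a.factorization p = 0 := by
    apply Nat.factorization_eq_zero_of_not_dvd
    intro hd
    have := Nat.dvd_gcd hd dvd_rfl
    rw [hcop] at this
    exact hp.out.one_lt.ne' (Nat.dvd_one.mp this)
  simp [h0]

/-- The image of a Sylow `p`-subgroup of `M` in the quotient by a normal `p'`-subgroup `R ≤ M`. -/
theorem isSylowIn_map_mk' {R M T : Subgroup G} [R.Normal] (hR : (Nat.card ↥R).Coprime p)
    (hRM : R ≤ M) (hT : IsSylowIn p T M) :
    IsSylowIn p (T.map (QuotientGroup.mk' R)) (M.map (QuotientGroup.mk' R)) := by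
  apply Cfsg.Agent.Helper15.isSylowIn_of_card (Subgroup.map_mono hT.le)
  have hdisj : R ⊓ T = ⊥ := by
    rw [inf_comm]; exact inf_eq_bot_of_isPGroup_of_coprime hT.isPGroup hR
  rw [Cfsg.Agent.Helper1.card_map_mk'_of_disjoint R hdisj, hT.card_eq,
    ← Cfsg.Agent.Helper1.card_map_mk'_of_le R hRM,
    factorization_eq_of_coprime_mul Nat.card_pos.ne' Nat.card_pos.ne' hR]

end sylow

section comp

variable {Y : Type*} [Group Y] [Finite Y] (p : ℕ) [hp : Fact p.Prime]

/-- In a group with `O_{p'} = 1`, a Sylow `p`-subgroup of a component `K` is not central in `K`. -/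
theorem not_le_centralizer_of_isSylowIn (hY : Cfsg.pPrimeCore p Y = ⊥) {K S : Subgroup Y}
    (hK : Cfsg.IsComponent K) (hS : IsSylowIn p S K) :
    ¬ S ≤ Subgroup.centralizer (K : Set Y) := by
  intro hSc
  apply component_not_coprime p hY hK
  apply coprime_card_of_perfect_of_pElements_central p hK.2.1.commutator_eq_top
  intro z hz
  obtain ⟨k, hk⟩ := hz
  have hzp : IsPGroup p ↥(Subgroup.zpowers (z : Y)) := by
    apply IsPGroup.of_card (n := k)
    rw [Nat.card_zpowers, Subgroup.orderOf_coe, hk]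
  obtain ⟨T₂, hzT, hT₂⟩ := Cfsg.Agent.Helper15.exists_isSylowIn_ge hzp
    (Subgroup.zpowers_le.mpr z.2)
  obtain ⟨g, hg, hgT⟩ := hS.exists_conj hT₂
  have hz2 : (z : Y) ∈ S.map (MulAut.conj g).toMonoidHom := by
    rw [hgT]; exact hzT (Subgroup.mem_zpowers _)
  rw [mem_map_conj_iff'] at hz2
  have hc := hSc hz2
  rw [Subgroup.mem_center_iff]
  intro y
  have h1 := Subgroup.mem_centralizer_iff.mp hc (g⁻¹ * (y : Y) * g)
    (K.mul_mem (K.mul_mem (K.inv_mem hg) y.2) hg)
  apply Subtype.ext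
  show (y : Y) * (z : Y) = (z : Y) * (y : Y)
  calc (y : Y) * (z : Y) = g * ((g⁻¹ * (y : Y) * g) * (g⁻¹ * (z : Y) * g)) * g⁻¹ := by group
    _ = g * ((g⁻¹ * (z : Y) * g) * (g⁻¹ * (y : Y) * g)) * g⁻¹ := by rw [h1]
    _ = (z : Y) * (y : Y) := by group

/-- In a group with `O_{p'} = 1`: if `T` contains a Sylow `p`-subgroup of the component `K`, then
`C(T)` normalizes `K`. -/
theorem centralizer_le_normalizer_component (hY : Cfsg.pPrimeCore p Y = ⊥) {K S T : Subgroup Y}
    (hK : Cfsg.IsComponent K) (hS : IsSylowIn p S K) (hST : S ≤ T) :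
    Subgroup.centralizer (T : Set Y) ≤ Subgroup.normalizer (K : Set Y) := by
  intro c hc
  have hnot := not_le_centralizer_of_isSylowIn p hY hK hS
  obtain ⟨t, htS, htK⟩ := SetLike.not_le_iff_exists.mp hnot
  have htc : c * t * c⁻¹ = t := by
    have := Subgroup.mem_centralizer_iff.mp hc t (hST htS)
    rw [← this]; group
  set K' := K.map (MulAut.conj c).toMonoidHom with hK'
  have hK'c : Cfsg.IsComponent K' := isComponent_map_mulEquiv (MulAut.conj c) hK
  have htK' : t ∈ K' := by
    rw [hK', mem_map_conj_iff']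
    have : c⁻¹ * t * c = t := by
      calc c⁻¹ * t * c = c⁻¹ * (c * t * c⁻¹) * c := by rw [htc]
        _ = t := by group
    rw [this]; exact hS.le htS
  by_cases heq : K' = K
  · exact Subgroup.mem_normalizer_iff_map_conj_eq.mpr heq
  · exfalso
    have h1 := component_commutator_eq_bot_of_ne hK'c hK heq
    exact htK (Subgroup.commutator_eq_bot_iff_le_centralizer.mp h1 htK')

end comp

section ext

variable {X : Type*} [Group X] [Finite X] (p : ℕ) [hp : Fact p.Prime]

theorem pPrimeCore_le_pPrimePCore : Cfsg.pPrimeCore p X ≤ Cfsg.pPrimePCore p X := by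
  intro x hx
  unfold Cfsg.pPrimePCore
  rw [Subgroup.mem_comap]
  have : QuotientGroup.mk' (Cfsg.pPrimeCore p X) x = 1 := (QuotientGroup.eq_one_iff x).mpr hx
  rw [this]; exact one_mem _

theorem map_pPrimePCore :
    (Cfsg.pPrimePCore p X).map (QuotientGroup.mk' (Cfsg.pPrimeCore p X)) =
      Cfsg.pCore p (X ⧸ Cfsg.pPrimeCore p X) := by
  unfold Cfsg.pPrimePCore
  exact Subgroup.map_comap_eq_self_of_surjective (QuotientGroup.mk'_surjective _) _

/-- The image of `L_{p'}(X) O_{p',p}(X)` normalizes every component of `X / O_{p'}(X)`. -/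
theorem map_pLayer_sup_le_normalizer {Kbar : Subgroup (X ⧸ Cfsg.pPrimeCore p X)}
    (hK : Cfsg.IsComponent Kbar) :
    (Cfsg.pLayer p X ⊔ Cfsg.pPrimePCore p X).map (QuotientGroup.mk' (Cfsg.pPrimeCore p X)) ≤
      Subgroup.normalizer (Kbar : Set (X ⧸ Cfsg.pPrimeCore p X)) := by
  rw [Subgroup.map_sup]
  apply sup_le
  · exact (map_pLayer_le_layer p).trans (layer_le_normalizer_component hK)
  · rw [map_pPrimePCore]
    have h1 : Cfsg.pCore p (X ⧸ Cfsg.pPrimeCore p X) ≤ Cfsg.fittingSubgroup _ :=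
      le_fittingSubgroup _ (pCore_isPGroup p).isNilpotent
    have h2 : ⁅Kbar, Cfsg.fittingSubgroup (X ⧸ Cfsg.pPrimeCore p X)⁆ = ⊥ :=
      component_commutator_fittingSubgroup hK
    have h3 : Cfsg.fittingSubgroup (X ⧸ Cfsg.pPrimeCore p X) ≤
        Subgroup.centralizer (Kbar : Set (X ⧸ Cfsg.pPrimeCore p X)) := by
      rw [Subgroup.commutator_comm] at h2
      exact Subgroup.commutator_eq_bot_iff_le_centralizer.mp h2
    exact (h1.trans h3).trans (Subgroup.centralizer_le_normalizer _)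

/-- For a Sylow `p`-subgroup `T` of `L_{p'}(X) O_{p',p}(X)`, `C_X(T)` normalizes every
`p`-component of `X`. -/
theorem centralizer_sylow_le_normalizer_pComponent_aux {K : Subgroup X}
    (hK : Cfsg.IsPComponent p K) (M : Subgroup X)
    (hM : M = Cfsg.pLayer p X ⊔ Cfsg.pPrimePCore p X) (T : Sylow p ↥M) :
    Subgroup.centralizer (((T : Subgroup ↥M).map M.subtype : Subgroup X) : Set X) ≤
      Subgroup.normalizer (K : Set X) := by
  set O := Cfsg.pPrimeCore p X with hO
  set φ := QuotientGroup.mk' O with hφ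
  set TX := (T : Subgroup ↥M).map M.subtype with hTX
  have hY := pPrimeCore_quotient_eq_bot' (X := X) p
  have hOcop : (Nat.card ↥O).Coprime p := Cfsg.Agent.Helper22.card_pPrimeCore_coprime p
  have hOM : O ≤ M := by
    rw [hM]; exact (pPrimeCore_le_pPrimePCore p).trans le_sup_right
  have hKM : K.map φ ≤ M.map φ := by
    rw [hM]; exact Subgroup.map_mono ((IsPComponent.le_pLayer p hK).trans le_sup_left)
  have hMN : M.map φ ≤ Subgroup.normalizer ((K.map φ : Subgroup (X ⧸ O)) : Set (X ⧸ O)) := by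
    rw [hM]; exact map_pLayer_sup_le_normalizer p hK.2.1
  have hTsyl : IsSylowIn p TX M := Cfsg.Agent.Helper15.isSylowIn_map_subtype T
  have hTbar : IsSylowIn p (TX.map φ) (M.map φ) := isSylowIn_map_mk' hOcop hOM hTsyl
  obtain ⟨SK, hSK⟩ := Cfsg.Agent.Helper15.exists_isSylowIn (p := p) (K.map φ)
  obtain ⟨T₂, hST₂, hT₂⟩ := Cfsg.Agent.Helper15.exists_isSylowIn_ge hSK.isPGroup
    (hSK.le.trans hKM)
  obtain ⟨m, hm, hmT⟩ := hT₂.exists_conj hTbar
  have hS' : IsSylowIn p (SK.map (MulAut.conj m).toMonoidHom) (K.map φ) :=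
    hSK.map_conj_of_mem_normalizer (hMN hm)
  have hS'T : SK.map (MulAut.conj m).toMonoidHom ≤ TX.map φ := by
    rw [← hmT]; exact Subgroup.map_mono hST₂
  have hcen := centralizer_le_normalizer_component p hY hK.2.1 hS' hS'T
  intro c hc
  apply IsPComponent.mem_normalizer p hK
  apply hcen
  rw [Subgroup.mem_centralizer_iff]
  rintro y ⟨t, ht, rfl⟩
  rw [← map_mul, ← map_mul, Subgroup.mem_centralizer_iff.mp hc t ht]

theorem centralizer_sylow_le_normalizer_pComponent {K : Subgroup X}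
    (hK : Cfsg.IsPComponent p K)
    (T : Sylow p ↥(Cfsg.pLayer p X ⊔ Cfsg.pPrimePCore p X)) :
    Subgroup.centralizer (((T : Subgroup ↥(Cfsg.pLayer p X ⊔ Cfsg.pPrimePCore p X)).map
      (Cfsg.pLayer p X ⊔ Cfsg.pPrimePCore p X).subtype : Subgroup X) : Set X) ≤
      Subgroup.normalizer (K : Set X) :=
  centralizer_sylow_le_normalizer_pComponent_aux p hK _ rfl T

/-- `L*_{2'}(X)` normalizes every `2`-component. -/
theorem extendedTwoLayer_le_normalizer {K : Subgroup X} (hK : Cfsg.IsPComponent 2 K) :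
    Cfsg.extendedTwoLayer X ≤ Subgroup.normalizer (K : Set X) := by
  rw [extendedTwoLayer_eq]
  apply sup_le (sup_le ?_ ?_) ?_
  · exact IsPComponent.pLayer_le_normalizer 2 hK
  · intro g hg
    apply IsPComponent.mem_normalizer 2 hK
    have : QuotientGroup.mk' (Cfsg.pPrimeCore 2 X) g = 1 := (QuotientGroup.eq_one_iff g).mpr hg
    rw [this]; exact one_mem _
  · apply iSup_le
    intro T
    exact (Subgroup.map_subtype_le _).trans (centralizer_sylow_le_normalizer_pComponent 2 hK T)

theorem pLayer_le_extendedTwoLayer : Cfsg.pLayer 2 X ≤ Cfsg.extendedTwoLayer X := by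
  rw [extendedTwoLayer_eq]
  exact le_sup_left.trans le_sup_left

end ext

end Cfsg.Agent.Helper7
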