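import Mathlib
import Cfsg.Prelude.Def_Local
import Cfsg.Prelude.Def_Balance
import Cfsg.Agent.Lib.Helper7.ExtLayer2

set_option autoImplicit false

namespace Cfsg.Agent.Helper7

open Subgroup
open scoped commutatorElement
open Cfsg.Agent.Helper15 (IsSylowIn)

section general

variable {G : Type*} [Group G] [Finite G] {p : ℕ} [hp : Fact p.Prime]

/-- If `M / N₀` is a `p`-group then `M = N₀ T` for a Sylow `p`-subgroup `T` of `M`. -/
theorem le_sup_of_isSylowIn_of_relIndex_pow {N₀ M T : Subgroup G}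
    (hT : IsSylowIn p T M) (k : ℕ) (hk : N₀.relIndex M = p ^ k) : M ≤ N₀ ⊔ T := by
  rw [← Subgroup.relIndex_eq_one]
  have h1 : (N₀ ⊔ T).relIndex M ∣ T.relIndex M := Subgroup.relIndex_dvd_of_le_left M le_sup_right
  have h2 : (N₀ ⊔ T).relIndex M ∣ p ^ k := hk ▸ Subgroup.relIndex_dvd_of_le_left M le_sup_left
  obtain ⟨j, _, hj⟩ := (Nat.dvd_prime_pow hp.out).mp h2
  rw [hj] at h1 ⊢
  by_cases hj0 : j = 0
  · rw [hj0, pow_zero]
  · exfalso
    exact hT.not_dvd_relIndex ((dvd_pow_self p hj0).trans h1)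

theorem map_conj_mul (H : Subgroup G) (g h : G) :
    H.map (MulAut.conj (g * h)).toMonoidHom =
      (H.map (MulAut.conj h).toMonoidHom).map (MulAut.conj g).toMonoidHom :=
  (Cfsg.Agent.Helper15.map_conj_map_conj H g h).symm

end general

section ext

variable {X : Type*} [Group X] [Finite X]

theorem coreCent_map_conj_le (T : Subgroup X) (g : X) :
    coreCent (T.map (MulAut.conj g).toMonoidHom) ≤
      (coreCent T).map (MulAut.conj g).toMonoidHom := by
  have h1 := map_conj_coreCent_le (T.map (MulAut.conj g).toMonoidHom) g⁻¹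
  rw [Cfsg.Agent.Helper15.map_conj_inv_map_conj] at h1
  have h2 := Subgroup.map_mono (f := (MulAut.conj g).toMonoidHom) h1
  rw [Cfsg.Agent.Helper15.map_conj_map_conj_inv] at h2
  exact h2

/-- `(L_{2'} O)`-relative index of `M = L_{2'} O_{2',2}` is a power of `2`. -/
theorem relIndex_pLayer_sup_oddCore (p : ℕ) [hp : Fact p.Prime] :
    ∃ k : ℕ, (Cfsg.pLayer p X ⊔ Cfsg.pPrimeCore p X).relIndex
      (Cfsg.pLayer p X ⊔ Cfsg.pPrimePCore p X) = p ^ k := by
  set L := Cfsg.pLayer p X with hL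
  set O := Cfsg.pPrimeCore p X with hO
  set W := Cfsg.pPrimePCore p X with hW
  have hOW : O ≤ W := pPrimeCore_le_pPrimePCore p
  have hM : L ⊔ W = (L ⊔ O) ⊔ W := by
    rw [sup_assoc, sup_eq_right.mpr hOW]
  obtain ⟨k, hk⟩ := IsPGroup.iff_card.mp (pCore_isPGroup (G := X ⧸ O) p)
  have h1 : O.relIndex W = p ^ k := by
    have h2 := Subgroup.relIndex_mul_relIndex (⊥ : Subgroup X) O W bot_le hOW
    rw [Subgroup.relIndex_bot_left, Subgroup.relIndex_bot_left] at h2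
    have h3 : Nat.card ↥W = Nat.card ↥O * Nat.card ↥(Cfsg.pCore p (X ⧸ O)) :=
      Cfsg.Agent.Helper1.card_comap_mk' O _
    rw [h3, hk] at h2
    exact Nat.eq_of_mul_eq_mul_left Nat.card_pos h2
  have h4 : (L ⊔ O).relIndex (L ⊔ W) ∣ p ^ k := by
    rw [hM, Subgroup.relIndex_sup_left, ← Subgroup.inf_relIndex_right, ← h1]
    exact Subgroup.relIndex_dvd_of_le_left W (le_inf le_sup_right hOW)
  obtain ⟨j, _, hj⟩ := (Nat.dvd_prime_pow hp.out).mp h4
  exact ⟨j, hj⟩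

/-- All the `O(C_X(T'))` lie in `L_{2'}(X) O(X) O(C_X(T))` for one Sylow subgroup `T`. -/
theorem coreCent_le_of_sylow_aux (M : Subgroup X)
    (hM : M = Cfsg.pLayer 2 X ⊔ Cfsg.pPrimePCore 2 X) (T T' : Sylow 2 ↥M) :
    coreCent ((T' : Subgroup ↥M).map M.subtype) ≤
      Cfsg.pLayer 2 X ⊔ Cfsg.oddCore X ⊔ coreCent ((T : Subgroup ↥M).map M.subtype) := by
  set TX := (T : Subgroup ↥M).map M.subtype with hTX
  set TX' := (T' : Subgroup ↥M).map M.subtype with hTX'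
  set N₀ := Cfsg.pLayer 2 X ⊔ Cfsg.oddCore X with hN₀
  have hT : IsSylowIn 2 TX M := Cfsg.Agent.Helper15.isSylowIn_map_subtype T
  have hT' : IsSylowIn 2 TX' M := Cfsg.Agent.Helper15.isSylowIn_map_subtype T'
  obtain ⟨k, hk⟩ := relIndex_pLayer_sup_oddCore (X := X) 2
  rw [← hM] at hk
  have hMle : M ≤ N₀ ⊔ TX := le_sup_of_isSylowIn_of_relIndex_pow hT k hk
  obtain ⟨m, hm, hmT⟩ := hT.exists_conj hT'
  obtain ⟨n, hn, t, ht, hnt⟩ := Subgroup.mem_sup_of_normal_left.mp (hMle hm)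
  have h1 : TX' = TX.map (MulAut.conj n).toMonoidHom := by
    rw [← hmT, ← hnt, map_conj_mul,
      Cfsg.Agent.Helper15.map_conj_eq_self_of_mem ht]
  rw [h1]
  refine (coreCent_map_conj_le TX n).trans ?_
  have hnW : n ∈ N₀ ⊔ coreCent TX := Subgroup.mem_sup_left hn
  calc (coreCent TX).map (MulAut.conj n).toMonoidHom
      ≤ (N₀ ⊔ coreCent TX).map (MulAut.conj n).toMonoidHom := Subgroup.map_mono le_sup_right
    _ = N₀ ⊔ coreCent TX := Cfsg.Agent.Helper15.map_conj_eq_self_of_mem hnW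

/-- S1341 -/
theorem extendedTwoLayer_eq_of_sylow
    (T : Sylow 2 ↥(Cfsg.pLayer 2 X ⊔ Cfsg.pPrimePCore 2 X)) :
    Cfsg.extendedTwoLayer X = Cfsg.pLayer 2 X ⊔ Cfsg.oddCore X ⊔
      coreCent ((T : Subgroup ↥(Cfsg.pLayer 2 X ⊔ Cfsg.pPrimePCore 2 X)).map
        (Cfsg.pLayer 2 X ⊔ Cfsg.pPrimePCore 2 X).subtype) := by
  rw [extendedTwoLayer_eq]
  apply le_antisymm
  · apply sup_le le_sup_left
    apply iSup_le
    intro T'
    exact coreCent_le_of_sylow_aux _ rfl T T'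
  · apply sup_le le_sup_left
    exact le_sup_of_le_right (le_iSup (fun T : Sylow 2 ↥(Cfsg.pLayer 2 X ⊔ Cfsg.pPrimePCore 2 X) =>
      coreCent ((T : Subgroup ↥(Cfsg.pLayer 2 X ⊔ Cfsg.pPrimePCore 2 X)).map
        (Cfsg.pLayer 2 X ⊔ Cfsg.pPrimePCore 2 X).subtype)) T)

theorem card_coreCent_coprime (T : Subgroup X) : (Nat.card ↥(coreCent T)).Coprime 2 := by
  unfold coreCent
  rw [card_map_subtype]
  exact Cfsg.Agent.Helper22.card_pPrimeCore_coprime 2

/-- S1343 -/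
theorem exists_odd_extendedTwoLayer_aux (M : Subgroup X) [hMn : M.Normal]
    (hM : M = Cfsg.pLayer 2 X ⊔ Cfsg.pPrimePCore 2 X) (T : Sylow 2 ↥M) :
    Odd (Nat.card ↥(Cfsg.oddCore X ⊔ coreCent ((T : Subgroup ↥M).map M.subtype))) ∧
    ∃ S : Sylow 2 X, (S : Subgroup X) ≤ Subgroup.normalizer
      ((Cfsg.oddCore X ⊔ coreCent ((T : Subgroup ↥M).map M.subtype) : Subgroup X) : Set X) := by
  set TX := (T : Subgroup ↥M).map M.subtype with hTX
  have hT : IsSylowIn 2 TX M := Cfsg.Agent.Helper15.isSylowIn_map_subtype T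
  obtain ⟨S, hS⟩ := hT.isPGroup.exists_le_sylow
  have hSM : (S : Subgroup X) ⊓ M = TX :=
    hT.eq_of_le (S.isPGroup'.to_le inf_le_left) (le_inf hS hT.le) inf_le_right
  refine ⟨?_, S, ?_⟩
  · have h1 : Nat.card ↥(coreCent TX ⊔ Cfsg.oddCore X) ∣
        Nat.card ↥(coreCent TX) * Nat.card ↥(Cfsg.oddCore X) :=
      Cfsg.Agent.Helper22.card_sup_dvd_mul _ _
    have h2 : (Nat.card ↥(coreCent TX) * Nat.card ↥(Cfsg.oddCore X)).Coprime 2 :=
      Nat.Coprime.mul_left (card_coreCent_coprime TX)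
        (Cfsg.Agent.Helper22.card_pPrimeCore_coprime 2)
    have h3 : (Nat.card ↥(Cfsg.oddCore X ⊔ coreCent TX)).Coprime 2 := by
      rw [sup_comm]; exact Nat.Coprime.coprime_dvd_left h1 h2
    exact Nat.Coprime.odd_of_right h3
  · intro s hs
    apply Cfsg.Agent.Helper15.mem_normalizer_of_map_conj_eq
    rw [Cfsg.Agent.Helper15.map_conj_eq_iff_le, Subgroup.map_sup]
    apply sup_le
    · have : (Cfsg.oddCore X).map (MulAut.conj s).toMonoidHom = Cfsg.oddCore X :=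
        Cfsg.Agent.Helper15.map_conj_eq_of_mem_normalizer
          (by rw [Subgroup.normalizer_eq_top]; exact Subgroup.mem_top s)
      rw [this]; exact le_sup_left
    · have hTs : TX.map (MulAut.conj s).toMonoidHom = TX := by
        rw [Cfsg.Agent.Helper15.map_conj_eq_iff_le]
        intro y hy
        rw [mem_map_conj_iff'] at hy
        rw [← hSM] at hy ⊢
        have hy' : y = s * (s⁻¹ * y * s) * s⁻¹ := by group
        rw [hy']
        refine ⟨?_, hMn.conj_mem _ hy.2 s⟩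
        exact Subgroup.mul_mem _ (Subgroup.mul_mem _ hs hy.1) (Subgroup.inv_mem _ hs)
      have h1 := map_conj_coreCent_le TX s
      rw [hTs] at h1
      exact h1.trans le_sup_right

theorem exists_odd_extendedTwoLayer :
    ∃ F : Subgroup X, Odd (Nat.card ↥F) ∧
      (∃ S : Sylow 2 X, (S : Subgroup X) ≤ Subgroup.normalizer (F : Set X)) ∧
      Cfsg.extendedTwoLayer X = Cfsg.pLayer 2 X ⊔ F := by
  obtain T : Sylow 2 ↥(Cfsg.pLayer 2 X ⊔ Cfsg.pPrimePCore 2 X) := default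
  obtain ⟨h1, h2⟩ := exists_odd_extendedTwoLayer_aux
    (Cfsg.pLayer 2 X ⊔ Cfsg.pPrimePCore 2 X) rfl T
  refine ⟨_, h1, h2, ?_⟩
  rw [extendedTwoLayer_eq_of_sylow T, sup_assoc]

end ext

end Cfsg.Agent.Helper7
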