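import Mathlib
import Cfsg.Agent.Lib.Helper7.Ito3
import Cfsg.Agent.Lib.Helper5.TIBound
import Cfsg.Agent.Lib.Helper24.Cd2Nil
import Cfsg.Agent.Lib.Helper8.Constituent
import Cfsg.Agent.Lib.Helper5.Clifford

/-!
# The Feit-Thompson refinement of Blichfeldt's theorem (helper7's library)

Group theoretic part: groups all of whose proper subgroups have a normal Sylow `p`-subgroup.
-/

set_option autoImplicit false

namespace Cfsg.Agent.Helper7.FTB

open Cfsg Subgroup Cfsg.Agent.Helper24 Cfsg.Agent.Helper5 Cfsg.Agent.Helper18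
  Cfsg.Agent.Helper24.Cd2 Cfsg.Agent.Helper7.Ito
open scoped Pointwise commutatorElement ComplexConjugate

universe u

section Grp

variable {G : Type u} [Group G] [Finite G] {p : ℕ} [Fact p.Prime]

/-- a proper subgroup has a `p`-subgroup containing all its `p`-subgroups -/
theorem exists_pGroup_above
    (hmin : ∀ K : Subgroup G, K ≠ ⊤ → ∀ Q : Sylow p K, (Q : Subgroup K).Normal)
    (K : Subgroup G) (hK : K ≠ ⊤) :
    ∃ S : Subgroup G, IsPGroup p S ∧ S ≤ K ∧
      ∀ U : Subgroup G, U ≤ K → IsPGroup p U → U ≤ S := by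
  obtain ⟨S₀⟩ : Nonempty (Sylow p K) := inferInstance
  haveI hn : (S₀ : Subgroup K).Normal := hmin K hK S₀
  refine ⟨(S₀ : Subgroup K).map K.subtype, IsPGroup.map S₀.2 K.subtype, map_subtype_le _, ?_⟩
  intro U hUK hU
  have hU' : IsPGroup p (U.subgroupOf K) := hU.comap_subtype
  obtain ⟨S₁, hS₁⟩ := hU'.exists_le_sylow
  have h1 : (S₀ : Subgroup K) ≤ S₁ :=
    Cfsg.Agent.Helper23.PSolv.normal_pGroup_le_sylow (S₀ : Subgroup K) S₀.2 S₁
  have h2 : (S₁ : Subgroup K) = S₀ := S₀.3 S₁.2 h1
  intro x hx
  refine ⟨⟨x, hUK hx⟩, ?_, rfl⟩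
  rw [← h2]
  exact hS₁ (mem_subgroupOf.2 hx)

/-- a proper subgroup containing a Sylow subgroup normalizes it -/
theorem le_normalizer_of_ne_top
    (hmin : ∀ K : Subgroup G, K ≠ ⊤ → ∀ Q : Sylow p K, (Q : Subgroup K).Normal)
    (P : Sylow p G) (H : Subgroup G) (hPH : (P : Subgroup G) ≤ H) (hH : H ≠ ⊤) :
    H ≤ normalizer ((P : Subgroup G) : Set G) := by
  obtain ⟨S, hS, hSH, hall⟩ := exists_pGroup_above hmin H hH
  have hPS : (P : Subgroup G) ≤ S := hall _ hPH P.2
  have hSP : S = (P : Subgroup G) := P.3 hS hPS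
  intro h hh
  have hconj : ((h • P : Sylow p G) : Subgroup G) ≤ S := by
    apply hall _ _ (h • P : Sylow p G).2
    rw [Sylow.coe_subgroup_smul]
    intro x hx
    rw [mem_pointwise_smul_iff_inv_smul_mem] at hx
    simp only [MulAut.smul_def, MulAut.conj_inv_apply] at hx
    have h3 : h * (h⁻¹ * x * h) * h⁻¹ ∈ H := H.mul_mem (H.mul_mem hh (hPH hx)) (H.inv_mem hh)
    have e : h * (h⁻¹ * x * h) * h⁻¹ = x := by group
    rwa [e] at h3
  rw [hSP] at hconj
  have h5 : (h • P : Sylow p G) = P := by
    apply Sylow.ext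
    exact ((h • P : Sylow p G).3 P.2 hconj).symm
  exact Sylow.smul_eq_iff_mem_normalizer.1 h5

/-- two Sylow subgroups in a proper subgroup coincide -/
theorem sylow_eq_of_le
    (hmin : ∀ K : Subgroup G, K ≠ ⊤ → ∀ Q : Sylow p K, (Q : Subgroup K).Normal)
    (P Q : Sylow p G) (H : Subgroup G) (hH : H ≠ ⊤) (hP : (P : Subgroup G) ≤ H)
    (hQ : (Q : Subgroup G) ≤ H) : P = Q := by
  obtain ⟨S, hS, hSH, hall⟩ := exists_pGroup_above hmin H hH
  have h1 : S = (P : Subgroup G) := P.3 hS (hall _ hP P.2)
  have h2 : S = (Q : Subgroup G) := Q.3 hS (hall _ hQ Q.2)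
  apply Sylow.ext
  rw [← h1, ← h2]

/-- distinct abelian Sylow subgroups intersect in the center -/
theorem inf_le_center
    (hmin : ∀ K : Subgroup G, K ≠ ⊤ → ∀ Q : Sylow p K, (Q : Subgroup K).Normal)
    (hab : ∀ U : Subgroup G, IsPGroup p U → ∀ a ∈ U, ∀ b ∈ U, a * b = b * a)
    (P Q : Sylow p G) (hne : P ≠ Q) :
    (P : Subgroup G) ⊓ (Q : Subgroup G) ≤ center G := by
  intro x hx
  obtain ⟨hxP, hxQ⟩ := mem_inf.1 hx
  have hC : centralizer ({x} : Set G) = ⊤ := by
    by_contra hC
    apply hne
    apply sylow_eq_of_le hmin P Q _ hC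
    · intro y hy
      rw [mem_centralizer_iff]
      intro z hz
      rw [Set.mem_singleton_iff] at hz
      rw [hz]
      exact hab _ P.2 x hxP y hy
    · intro y hy
      rw [mem_centralizer_iff]
      intro z hz
      rw [Set.mem_singleton_iff] at hz
      rw [hz]
      exact hab _ Q.2 x hxQ y hy
  rw [mem_center_iff]
  intro g
  have hg : g ∈ centralizer ({x} : Set G) := by rw [hC]; exact mem_top g
  rw [mem_centralizer_iff] at hg
  exact (hg x rfl).symm

/-- a normal subgroup containing a non-normal Sylow subgroup is the whole group -/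
theorem eq_top_of_normal_of_le
    (hmin : ∀ K : Subgroup G, K ≠ ⊤ → ∀ Q : Sylow p K, (Q : Subgroup K).Normal)
    (P : Sylow p G) (hnn : ¬ (P : Subgroup G).Normal) (M : Subgroup G) (hM : M.Normal)
    (hPM : (P : Subgroup G) ≤ M) : M = ⊤ := by
  by_contra hne
  exact hnn (sylow_normal_of_le_normal P M hPM (le_normalizer_of_ne_top hmin P M hPM hne))

/-- a non-normal Sylow subgroup has a distinct conjugate -/
theorem exists_ne (P : Sylow p G) (hnn : ¬ (P : Subgroup G).Normal) : ∃ Q : Sylow p G, P ≠ Q := by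
  by_contra hcon
  push Not at hcon
  apply hnn
  rw [← normalizer_eq_top_iff, eq_top_iff]
  intro g _
  exact Sylow.smul_eq_iff_mem_normalizer.1 (hcon (g • P)).symm

/-- central elements of an abelian Sylow subgroup lying in the commutator subgroup are trivial -/
theorem eq_one_of_mem_center_of_mem_commutator (P : Sylow p G)
    (hab : ∀ a ∈ (P : Subgroup G), ∀ b ∈ (P : Subgroup G), a * b = b * a)
    {z : G} (hzP : z ∈ (P : Subgroup G)) (hzZ : z ∈ center G) (hzC : z ∈ commutator G) :
    z = 1 := by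
  letI : CommGroup (P : Subgroup G) :=
    { (inferInstance : Group (P : Subgroup G)) with
      mul_comm := fun a b => Subtype.ext (hab a a.2 b b.2) }
  have key : ∀ (k : ℕ) (g₀ : G), g₀⁻¹ * z ^ k * g₀ ∈ (P : Subgroup G) →
      g₀⁻¹ * z ^ k * g₀ = z ^ k := by
    intro k g₀ _
    have hzk : z ^ k ∈ center G := pow_mem hzZ k
    rw [mem_center_iff] at hzk
    rw [mul_assoc, ← hzk g₀, ← mul_assoc, inv_mul_cancel, one_mul]
  have h1 := MonoidHom.transfer_eq_pow (H := (P : Subgroup G))
    (MonoidHom.id (P : Subgroup G)) z key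
  have h2 : MonoidHom.transfer (H := (P : Subgroup G)) (MonoidHom.id (P : Subgroup G)) z = 1 := by
    have := Abelianization.commutator_subset_ker
      (MonoidHom.transfer (H := (P : Subgroup G)) (MonoidHom.id (P : Subgroup G))) hzC
    exact MonoidHom.mem_ker.1 this
  rw [h2] at h1
  have h3 : z ^ (P : Subgroup G).index = 1 := by
    have := congrArg Subtype.val h1
    simpa using this.symm
  obtain ⟨k, hk⟩ := P.2 ⟨z, hzP⟩
  have hk' : z ^ p ^ k = 1 := congrArg Subtype.val hk
  have h4 : orderOf z ∣ (P : Subgroup G).index := orderOf_dvd_of_pow_eq_one h3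
  have h5 : orderOf z ∣ p ^ k := orderOf_dvd_of_pow_eq_one hk'
  have hcop : ((P : Subgroup G).index).Coprime (p ^ k) := by
    apply Nat.Coprime.pow_right
    rw [Nat.coprime_comm, (Fact.out : p.Prime).coprime_iff_not_dvd]
    exact P.not_dvd_index
  have h6 : orderOf z ∣ 1 := by
    rw [← hcop]
    exact Nat.dvd_gcd h4 h5
  exact orderOf_eq_one_iff.1 (Nat.dvd_one.1 h6)

/-- the TI-type condition on centralizers of noncentral elements -/
theorem conj_eq_of_centralizer_inf_ne_bot
    (hmin : ∀ K : Subgroup G, K ≠ ⊤ → ∀ Q : Sylow p K, (Q : Subgroup K).Normal)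
    (hab : ∀ U : Subgroup G, IsPGroup p U → ∀ a ∈ U, ∀ b ∈ U, a * b = b * a)
    (hZ : ∀ R : Sylow p G, (R : Subgroup G) ⊓ center G = ⊥) (P : Sylow p G)
    (g : G) (hg : g ∉ center G) (a b : G)
    (ha : centralizer ({g} : Set G) ⊓ (P : Subgroup G).map (MulAut.conj a).toMonoidHom ≠ ⊥)
    (hb : centralizer ({g} : Set G) ⊓ (P : Subgroup G).map (MulAut.conj b).toMonoidHom ≠ ⊥) :
    (P : Subgroup G).map (MulAut.conj a).toMonoidHom =
      (P : Subgroup G).map (MulAut.conj b).toMonoidHom := by
  have e : ∀ c : G, ((c • P : Sylow p G) : Subgroup G) =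
      (P : Subgroup G).map (MulAut.conj c).toMonoidHom := by
    intro c
    rw [Sylow.coe_subgroup_smul]
    rfl
  rw [← e a] at ha ⊢
  rw [← e b] at hb ⊢
  have hC : centralizer ({g} : Set G) ≠ ⊤ := by
    intro hC
    apply hg
    rw [mem_center_iff]
    intro x
    have hx : x ∈ centralizer ({g} : Set G) := by rw [hC]; exact mem_top x
    rw [mem_centralizer_iff] at hx
    exact (hx g rfl).symm
  obtain ⟨S, hS, hSC, hall⟩ := exists_pGroup_above hmin _ hC
  obtain ⟨R, hR⟩ := hS.exists_le_sylow
  have key : ∀ T : Sylow p G, centralizer ({g} : Set G) ⊓ (T : Subgroup G) ≠ ⊥ → T = R := by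
    intro T hT
    by_contra hne
    apply hT
    rw [eq_bot_iff]
    have h1 : centralizer ({g} : Set G) ⊓ (T : Subgroup G) ≤ S :=
      hall _ inf_le_left (T.2.to_le inf_le_right)
    have h2 : centralizer ({g} : Set G) ⊓ (T : Subgroup G) ≤ (T : Subgroup G) ⊓ (R : Subgroup G) :=
      le_inf inf_le_right (h1.trans hR)
    have h3 := h2.trans (inf_le_center hmin hab T R hne)
    rw [← hZ T]
    exact le_inf inf_le_right h3
  have h1 := key _ ha
  have h2 := key _ hb
  rw [h1, h2]

/-- if `G` is not perfect then it is `p`-solvable -/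
theorem isPSolvable_of_commutator_ne_top
    (hmin : ∀ K : Subgroup G, K ≠ ⊤ → ∀ Q : Sylow p K, (Q : Subgroup K).Normal)
    (hab : ∀ U : Subgroup G, IsPGroup p U → ∀ a ∈ U, ∀ b ∈ U, a * b = b * a)
    (P : Sylow p G) (hnn : ¬ (P : Subgroup G).Normal) (hC : commutator G ≠ ⊤) :
    IsPSolvable p G := by
  have hp : p.Prime := Fact.out
  obtain ⟨Q, hPQ⟩ := exists_ne P hnn
  obtain ⟨S, hS, hSK, hall⟩ := exists_pGroup_above hmin (commutator G) hC
  haveI hCn : (commutator G).Normal := inferInstance
  haveI hSn : S.Normal := by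
    constructor
    intro n hn g
    have hU : S.map (MulAut.conj g).toMonoidHom ≤ S := by
      apply hall _ _ (hS.map _)
      rintro _ ⟨s, hs, rfl⟩
      exact hCn.conj_mem s (hSK hs) g
    exact hU ⟨n, hn, rfl⟩
  have hSP : S ≤ (P : Subgroup G) := Cfsg.Agent.Helper23.PSolv.normal_pGroup_le_sylow S hS P
  have hSQ : S ≤ (Q : Subgroup G) := Cfsg.Agent.Helper23.PSolv.normal_pGroup_le_sylow S hS Q
  have hSZ : S ≤ center G := (le_inf hSP hSQ).trans (inf_le_center hmin hab P Q hPQ)
  have hSbot : S = ⊥ := by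
    rw [eq_bot_iff]
    intro z hz
    rw [mem_bot]
    exact eq_one_of_mem_center_of_mem_commutator P (hab _ P.2) (hSP hz) (hSZ hz) (hSK hz)
  -- `G'` is a `p'`-group
  have hcop : (Nat.card (commutator G)).Coprime p := by
    rw [Nat.coprime_comm, hp.coprime_iff_not_dvd]
    intro hdvd
    obtain ⟨x, hx⟩ := exists_prime_orderOf_dvd_card' p hdvd
    have hxS : zpowers (x : G) ≤ S := by
      apply hall
      · rw [zpowers_le]
        exact x.2
      · apply IsPGroup.of_card (n := 1)
        rw [Nat.card_zpowers, pow_one, Subgroup.orderOf_coe, hx]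
    have hx1 : (x : G) = 1 := by
      have := hxS (mem_zpowers (x : G))
      rwa [hSbot, mem_bot] at this
    have hx2 : x = 1 := Subtype.ext hx1
    rw [hx2, orderOf_one] at hx
    exact hp.one_lt.ne hx
  -- `G = G' P`
  have hMn : (commutator G ⊔ (P : Subgroup G)).Normal := by
    constructor
    intro n hn g
    have e : g * n * g⁻¹ = ⁅g, n⁆ * n := by
      rw [commutatorElement_def]
      group
    rw [e]
    apply mul_mem _ hn
    apply (le_sup_left : commutator G ≤ commutator G ⊔ (P : Subgroup G))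
    rw [commutator_def]
    exact commutator_mem_commutator (mem_top g) (mem_top n)
  have hM : commutator G ⊔ (P : Subgroup G) = ⊤ :=
    eq_top_of_normal_of_le hmin P hnn _ hMn le_sup_right
  have hidx : ∃ m : ℕ, (commutator G).index = p ^ m := by
    have h1 : (commutator G).index = (commutator G).relIndex (P : Subgroup G) := by
      rw [← relIndex_top_right, ← hM, relIndex_sup_left]
    obtain ⟨k, hk⟩ := IsPGroup.iff_card.1 P.2
    have h2 : (commutator G).relIndex (P : Subgroup G) ∣ p ^ k := by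
      rw [← hk]
      exact relIndex_dvd_card _ _
    obtain ⟨m, -, hm⟩ := (Nat.dvd_prime_pow hp).1 h2
    exact ⟨m, by rw [h1, hm]⟩
  refine ⟨2, ![⊥, commutator G, ⊤], rfl, rfl, ?_, ?_, ?_⟩
  · rw [Fin.monotone_iff_le_succ]
    intro i
    fin_cases i
    · exact bot_le
    · exact le_top
  · intro i
    fin_cases i
    · show (⊥ : Subgroup G).Normal
      infer_instance
    · exact hCn
    · show (⊤ : Subgroup G).Normal
      infer_instance
  · intro i
    fin_cases i
    · right
      show ((⊥ : Subgroup G).relIndex (commutator G)).Coprime p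
      rw [relIndex_bot_left]
      exact hcop
    · left
      obtain ⟨m, hm⟩ := hidx
      refine ⟨m, ?_⟩
      show (commutator G).relIndex ⊤ = p ^ m
      rw [relIndex_top_right, hm]

end Grp

section Chars

variable {G : Type u} [Group G] [Finite G] {p : ℕ} [Fact p.Prime]

/-- **Key lemma**: in a group with a faithful character of degree `n < p - 1`, all of whose proper
subgroups have a normal Sylow `p`-subgroup, a non-normal Sylow `p`-subgroup has order less than
`(n + 1) ^ 2`. -/
theorem card_sylow_lt {χ : G → ℂ} (hχ : IsCharacter G χ)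
    (hfaith : ∀ g : G, χ g = χ 1 → g = 1) (hdeg : charDegree χ + 1 < p)
    (hmin : ∀ K : Subgroup G, K ≠ ⊤ → ∀ Q : Sylow p K, (Q : Subgroup K).Normal)
    (P : Sylow p G) (hnn : ¬ (P : Subgroup G).Normal) :
    Nat.card (P : Subgroup G) < (charDegree χ + 1) ^ 2 := by
  classical
  have hp : p.Prime := Fact.out
  have hab : ∀ U : Subgroup G, IsPGroup p U → ∀ a ∈ U, ∀ b ∈ U, a * b = b * a :=
    fun U hU => comm_of_degree_lt U hU hχ hfaith (by omega)
  by_cases hC : commutator G = ⊤
  · letI : Fintype G := Fintype.ofFinite G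
    letI : Fintype (P : Subgroup G) := Fintype.ofFinite _
    letI : Fintype (IrrCharacter G) := irrFintype
    have hZ : ∀ R : Sylow p G, (R : Subgroup G) ⊓ center G = ⊥ := by
      intro R
      rw [eq_bot_iff]
      intro z hz
      rw [mem_bot]
      exact eq_one_of_mem_center_of_mem_commutator R (hab _ R.2) (mem_inf.1 hz).1 (mem_inf.1 hz).2
        (by rw [hC]; exact mem_top z)
    -- a nonlinear constituent
    have hex : ∃ ψ : G → ℂ, IsIrrCharacter G ψ ∧ classInner χ ψ ≠ 0 ∧ charDegree ψ ≠ 1 := by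
      by_contra hcon
      push Not at hcon
      apply hnn
      have hall : ∀ g : G, g = 1 := by
        intro g
        apply hfaith
        rw [Cfsg.Agent.Helper8.char_apply_eq_sum hχ g, Cfsg.Agent.Helper8.char_apply_eq_sum hχ 1]
        refine Finset.sum_congr rfl (fun ψ _ => ?_)
        by_cases h0 : classInner χ (ψ : G → ℂ) = 0
        · rw [h0, zero_mul, zero_mul]
        · have h1 := hcon ψ.1 ψ.2 h0
          rw [linear_eq_one_on_commutator ψ.2 h1 (x := g) (by rw [hC]; exact mem_top g),
            linear_eq_one_on_commutator ψ.2 h1 (x := 1) (by rw [hC]; exact mem_top 1)]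
      constructor
      intro n hn g
      rw [hall g]
      simpa using hn
    obtain ⟨ψ, hψ, hψc, hψ1⟩ := hex
    obtain ⟨ρ, hρ, hsum⟩ := exists_add_of_constituent hχ hψ hψc
    have hdegsum : charDegree χ = charDegree ψ + charDegree ρ := by
      have h1 := congrFun hsum 1
      rw [Pi.add_apply, char_one_eq_charDegree hχ, irr_one_eq_charDegree hψ,
        char_one_eq_charDegree hρ] at h1
      exact_mod_cast h1
    have hmain := card_lt_one_add_degree_sq (P : Subgroup G) (hab _ P.2) (hZ P)
      (fun g hg a b ha hb => conj_eq_of_centralizer_inf_ne_bot hmin hab hZ P g hg a b ha hb)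
      hψ (charDegree ψ) (irr_one_eq_charDegree hψ) hψ1
      (fun M hM hPM => eq_top_of_normal_of_le hmin P hnn M hM hPM)
    have h2 : (Nat.card (P : Subgroup G) : ℝ) < ((charDegree χ + 1 : ℕ) : ℝ) ^ 2 := by
      refine lt_of_lt_of_le hmain ?_
      have h3 : (1 + (charDegree ψ : ℝ)) ≤ ((charDegree χ + 1 : ℕ) : ℝ) := by
        rw [hdegsum]
        push_cast
        have : (0 : ℝ) ≤ (charDegree ρ : ℝ) := Nat.cast_nonneg _
        linarith
      have h4 : (0 : ℝ) ≤ 1 + (charDegree ψ : ℝ) := by positivity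
      exact pow_le_pow_left₀ h4 h3 2
    exact_mod_cast h2
  · exfalso
    have hsolv := isPSolvable_of_commutator_ne_top hmin hab P hnn hC
    have h1 := ito_main _ G p χ rfl hsolv hχ hfaith (by omega) P hnn
    omega

end Chars

section Main

/-- transport of `p`-closure along an isomorphism -/
theorem sylow_normal_of_mulEquiv {p : ℕ} [Fact p.Prime] {A B : Type*} [Group A] [Group B]
    [Finite A] (e : A ≃* B)
    (h : ∀ Q : Sylow p B, (Q : Subgroup B).Normal) (Q : Sylow p A) : (Q : Subgroup A).Normal := by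
  have hs : Function.Surjective e.toMonoidHom := e.surjective
  have h1 := h (Q.mapSurjective hs)
  rw [Sylow.coe_mapSurjective] at h1
  have h2 := h1.comap e.toMonoidHom
  rwa [comap_map_eq_self_of_injective e.injective] at h2

variable {G : Type u} [Group G] [Finite G] {p : ℕ} [Fact p.Prime]

/-- the Feit-Thompson refinement of Blichfeldt's theorem, for all subgroups -/
theorem normal_sylow_subgroups {χ : G → ℂ} (hχ : IsCharacter G χ)
    (hfaith : ∀ g : G, χ g = χ 1 → g = 1)
    (h : (charDegree χ + 1) ^ 2 ≤ p ∨ (charDegree χ + 1 < p ∧ ∀ K : Subgroup G,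
      ¬ p ^ 2 ∣ Nat.card K → ∀ Q : Sylow p K, (Q : Subgroup K).Normal)) :
    ∀ N : ℕ, ∀ H : Subgroup G, Nat.card H = N → ∀ Q : Sylow p H, (Q : Subgroup H).Normal := by
  have hp : p.Prime := Fact.out
  set n := charDegree χ with hn
  have hlt : n + 1 < p := by
    rcases h with hA | hB
    · have h2 : 2 ≤ p := hp.two_le
      nlinarith
    · exact hB.1
  intro N
  induction N using Nat.strong_induction_on with
  | _ N ih =>
  intro H hHN Q
  by_contra hQ
  have hχH : IsCharacter H (fun h : H => χ h) := isCharacter_restrict H hχ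
  have hfaithH : ∀ g : H, (fun h : H => χ h) g = (fun h : H => χ h) 1 → g = 1 := by
    intro g hg
    simp only [Subgroup.coe_one] at hg
    exact Subtype.ext (hfaith g hg)
  have e1 : charDegree (fun h : H => χ h) = n := by
    rw [hn]
    unfold charDegree
    simp only [Subgroup.coe_one]
  have hminH : ∀ K : Subgroup H, K ≠ ⊤ → ∀ R : Sylow p K, (R : Subgroup K).Normal := by
    intro K hK
    have hcard : Nat.card K < Nat.card H :=
      lt_of_le_of_ne (card_le_card_group K) (fun h => hK (eq_top_of_card_eq K h))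
    have e := K.equivMapOfInjective H.subtype H.subtype_injective
    have hcard' : Nat.card (K.map H.subtype) = Nat.card K := (Nat.card_congr e.toEquiv).symm
    have h1 := ih (Nat.card (K.map H.subtype)) (by rw [hcard', ← hHN]; exact hcard)
      (K.map H.subtype) rfl
    exact sylow_normal_of_mulEquiv e h1
  have hK := card_sylow_lt hχH hfaithH (by rw [e1]; exact hlt) hminH Q hQ
  rw [e1] at hK
  obtain ⟨k, hk⟩ := IsPGroup.iff_card.1 Q.2
  have hk0 : k ≠ 0 := by
    rintro rfl
    rw [pow_zero] at hk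
    apply hQ
    rw [(Subgroup.card_eq_one).1 hk]
    infer_instance
  rcases h with hA | ⟨-, hB⟩
  · have h1 : p ≤ p ^ k := Nat.le_self_pow hk0 p
    rw [hk] at hK
    omega
  · apply hQ
    apply hB H _ Q
    intro hdvd
    have hH0 : Nat.card H ≠ 0 := Nat.card_pos.ne'
    have h2 : 2 ≤ (Nat.card H).factorization p :=
      (hp.pow_dvd_iff_le_factorization hH0).1 hdvd
    have h3 := Q.card_eq_multiplicity
    rw [hk] at h3
    have h4 : k = (Nat.card H).factorization p := Nat.pow_right_injective hp.two_le h3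
    have h5 : p ^ 2 ≤ p ^ k := Nat.pow_le_pow_right hp.pos (by omega)
    have h6 : (n + 1) ^ 2 < p ^ 2 := Nat.pow_lt_pow_left hlt (by norm_num)
    rw [hk] at hK
    omega

end Main

end Cfsg.Agent.Helper7.FTB
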