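import Mathlib
import Cfsg.Agent.Lib.Helper7.Frob7

/-!
# The main structure theorem for a given representation of the reduced multiplicities
(helper7's library)
-/

set_option autoImplicit false

namespace Cfsg.Agent.Helper7.Frob

open Cfsg Cfsg.Agent.Helper24 Cfsg.Agent.Helper23 Cfsg.Agent.Helper23.Blk
open Cfsg.Agent.Helper7.Homo Cfsg.Agent.Helper7.BrCol
open scoped ComplexConjugate

universe u

set_option maxHeartbeats 1000000 in
/-- **Main structure theorem**, for given data `(δ, c, η, d')`. -/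
theorem frob_main_of_data {G : Type u} [Group G] [Finite G] (p : ℕ) [Fact p.Prime]
    (M : Ideal AlgInt) (hM : IsPModular p M) (P : Sylow p G)
    [Fintype (P : Subgroup G)] [Fintype (IrrCharacter (P : Subgroup G))]
    [DecidableEq (P : Subgroup G)] [DecidableEq (IrrCharacter G)]
    (hcomm : ∀ x y : (P : Subgroup G), x * y = y * x)
    (hP1 : Nat.card (P : Subgroup G) ≠ 1) (m : ℕ) (hm1 : 1 < m)
    (hm2 : m + 1 < Nat.card (P : Subgroup G))
    (ν : MulAut (P : Subgroup G)) (hνm : ν ^ m = 1)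
    (hfpf : ∀ k : ℕ, 0 < k → k < m → ∀ a : (P : Subgroup G), (ν ^ k) a = a → a = 1)
    (hconj : ∀ (a : (P : Subgroup G)) (k : ℕ),
      IsConj (a : G) (((ν ^ k) a : (P : Subgroup G)) : G))
    (hfus : ∀ a b : (P : Subgroup G), IsConj (a : G) (b : G) → ∃ k < m, b = (ν ^ k) a)
    (hnil : ∀ a : (P : Subgroup G), a ≠ 1 → ∃ k : ℕ,
        (Cfsg.pPrimeCore p (Subgroup.centralizer ({(a : G)} : Set G))).index = p ^ k)
    (hN1 : ∀ n : G, n ∈ Subgroup.normalizer ((P : Subgroup G) : Set G) → ∃ k < m,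
        ∀ a : (P : Subgroup G), n * a * n⁻¹ = (((ν ^ k) a : (P : Subgroup G)) : G))
    (hN2 : ∀ k : ℕ, ∃ n : G, n ∈ Subgroup.normalizer ((P : Subgroup G) : Set G) ∧
        ∀ a : (P : Subgroup G), n * a * n⁻¹ = (((ν ^ k) a : (P : Subgroup G)) : G))
    (δ : ℤ) (c : IrrCharacter G → ℤ) (η : IrrCharacter (P : Subgroup G) → IrrCharacter G)
    (d' : ℤ) (hδ : δ = 1 ∨ δ = -1)
    (hηX : ∀ ψ, ψ ≠ principalChar _ → η ψ ∈ pbFinset M G)
    (hηR : ∀ ψ ψ', ψ ≠ principalChar _ → ψ' ≠ principalChar _ →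
        (η ψ = η ψ' ↔ orel ν m ψ ψ'))
    (hb : ∀ ψ, ψ ≠ principalChar _ → ∀ y ∈ pbFinset M G,
        bint (fun a : ↥(P : Subgroup G) => (y : G → ℂ) (a : G)) ψ =
          c y + (if y = η ψ then δ else 0))
    (hcη : ∀ ψ, ψ ≠ principalChar _ → c (η ψ) = d') :
    (∀ χ, χ ∈ pbFinset M G ↔ χ ∈ pbFinset M G \ excSet η ∨ χ ∈ excSet η) ∧
      (∀ χ ∈ pbFinset M G \ excSet η, χ ∉ excSet η) ∧
      principalChar G ∈ pbFinset M G \ excSet η ∧
      (excSet η).card * m = Nat.card (P : Subgroup G) - 1 ∧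
      (pbFinset M G \ excSet η).card ≤ m ∧
      (∀ χ ∈ pbFinset M G \ excSet η, c χ ≠ 0 ∧ ∀ z y : G, IsPPart p z y →
        y ∈ (P : Subgroup G) → y ≠ 1 → (χ : G → ℂ) z = ((-c χ : ℤ) : ℂ)) ∧
      (∀ ψ : (P : Subgroup G) →* ℂˣ, ψ ≠ 1 → η ((irrHomEquiv hcomm).symm ψ) ∈ excSet η) ∧
      (∀ y ∈ excSet η, ∃ ψ : (P : Subgroup G) →* ℂˣ, ψ ≠ 1 ∧
        η ((irrHomEquiv hcomm).symm ψ) = y) ∧
      (∀ ψ ψ' : (P : Subgroup G) →* ℂˣ, ψ ≠ 1 →
        (∃ n : G, n ∈ Subgroup.normalizer ((P : Subgroup G) : Set G) ∧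
          ∀ w w' : (P : Subgroup G), (w' : G) = n * w * n⁻¹ → ψ' w' = ψ w) →
        η ((irrHomEquiv hcomm).symm ψ') = η ((irrHomEquiv hcomm).symm ψ)) ∧
      (∀ ψ : (P : Subgroup G) →* ℂˣ, ψ ≠ 1 → ∀ (z : G) (y : (P : Subgroup G)),
        IsPPart p z (y : G) → (y : G) ≠ 1 →
        (η ((irrHomEquiv hcomm).symm ψ) : G → ℂ) z = ((-d' : ℤ) : ℂ) + (δ : ℂ) *
          ∑ᶠ ψ' ∈ {ψ' : (P : Subgroup G) →* ℂˣ | ∃ n : G,
            n ∈ Subgroup.normalizer ((P : Subgroup G) : Set G) ∧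
            ∀ w w' : (P : Subgroup G), (w' : G) = n * w * n⁻¹ → ψ' w' = ψ w},
              ((ψ' y : ℂˣ) : ℂ)) ∧
      (∀ w : IrrCharacter G → ℂ,
        (∀ y : (P : Subgroup G), y ≠ 1 → ∑ χ ∈ pbFinset M G, w χ * (χ : G → ℂ) y = 0) →
        (∀ y ∈ excSet η, ∀ y' ∈ excSet η, w y = w y') ∧
        ∀ y ∈ excSet η, ((d' : ℂ) * (((excSet η).card : ℂ)) + (δ : ℂ)) * w y +
          ∑ χ ∈ pbFinset M G \ excSet η, (c χ : ℂ) * w χ = 0) := by
  have hm0 : 0 < m := by omega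
  set X := pbFinset M G with hX
  set f : IrrCharacter G → ↥(P : Subgroup G) → ℂ := fun χ a => (χ : G → ℂ) (a : G) with hf
  have hchar : ∀ χ ∈ X, IsCharacter (P : Subgroup G) (f χ) := fun χ _ =>
    isCharacter_restrict (P : Subgroup G) (isCharacter_of_isIrrCharacter χ.2)
  have hcol : ∀ a a' : (P : Subgroup G), a ≠ 1 → a' ≠ 1 →
      ∑ χ ∈ X, f χ a * conj (f χ a') = (Nat.card (P : Subgroup G) : ℂ) *
        ∑ k ∈ Finset.range m, (if a' = (ν ^ k) a then (1 : ℂ) else 0) :=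
    fun a a' ha ha' => frob_col M hM P hcomm ν m hfpf hconj hfus hnil a a' ha ha'
  haveI hMp : M.IsPrime := hM.2.1.isPrime
  have hx₀ : principalChar G ∈ X := mem_pbFinset.2 principalChar_mem_principalBlock
  have hfx₀ : ∀ a, f (principalChar G) a = 1 := fun a => rfl
  obtain ⟨hval1, hval2⟩ := frob_values X f ν m hcomm hm0 hνm hfpf hchar δ c η d' hηR hb hcη
  set E := irrHomEquiv hcomm with hE
  have hYX : excSet η ⊆ X := by
    intro y hy
    obtain ⟨ψ, hψ, rfl⟩ := mem_excSet.1 hy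
    exact hηX ψ hψ
  have hx₀Y : principalChar G ∉ excSet η :=
    principal_not_exc X f ν m hcomm hm0 hm2 hνm δ c η hδ hηR hb (principalChar G) hx₀ hfx₀
  -- values of the nonexceptional members on `P`
  have hvalX : ∀ χ ∈ X \ excSet η, ∀ a : (P : Subgroup G), a ≠ 1 →
      (χ : G → ℂ) a = -(c χ : ℂ) := by
    intro χ hχ a ha
    rw [Finset.mem_sdiff] at hχ
    apply hval1 χ hχ.1 _ a ha
    intro ψ hψ h
    apply hχ.2
    rw [h]
    exact mem_excSet.2 ⟨ψ, hψ, rfl⟩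
  have hc0 : ∀ χ ∈ X \ excSet η, c χ ≠ 0 := by
    intro χ hχ h0
    obtain ⟨a, ha, hne⟩ := frob_nonvanishing M hM P hP1 hnil χ
      (mem_pbFinset.1 (Finset.mem_sdiff.1 hχ).1)
    apply hne
    rw [hvalX χ hχ a ha, h0]
    simp
  have hnil' : ∀ y : G, y ∈ (P : Subgroup G) → y ≠ 1 → ∃ k : ℕ,
      (Cfsg.pPrimeCore p (Subgroup.centralizer ({y} : Set G))).index = p ^ k := by
    intro y hy hy1
    exact hnil ⟨y, hy⟩ (fun h => hy1 (congrArg Subtype.val h))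
  refine ⟨?_, ?_, Finset.mem_sdiff.2 ⟨hx₀, hx₀Y⟩, frob_card ν m hcomm hfpf η hηR,
    frob_card_le X f ν m hcomm hm0 hm2 hfpf hchar hcol δ c η d' hδ hηX hηR hb hcη hc0,
    ?_, ?_, ?_, ?_, ?_, ?_⟩
  · intro χ
    rw [Finset.mem_sdiff]
    constructor
    · intro h
      by_cases hY : χ ∈ excSet η
      · exact Or.inr hY
      · exact Or.inl ⟨h, hY⟩
    · rintro (h | h)
      · exact h.1
      · exact hYX h
  · intro χ hχ
    exact (Finset.mem_sdiff.1 hχ).2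
  · intro χ hχ
    refine ⟨hc0 χ hχ, ?_⟩
    intro z y hzy hyP hy1
    rw [frob_psingular M hM χ (mem_pbFinset.1 (Finset.mem_sdiff.1 hχ).1) hzy (hnil' y hyP hy1)]
    have := hvalX χ hχ ⟨y, hyP⟩ (fun h => hy1 (congrArg Subtype.val h))
    rw [this]
    push_cast
    rfl
  · intro ψ hψ
    exact mem_excSet.2 ⟨E.symm ψ, irrHomEquiv_symm_ne hcomm hψ, rfl⟩
  · intro y hy
    obtain ⟨φ, hφ, rfl⟩ := mem_excSet.1 hy
    exact ⟨E φ, irrHomEquiv_ne hcomm hφ, by simp only [Equiv.symm_apply_apply]⟩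
  · intro ψ ψ' hψ horb
    have h1 := (orbit_iff P hcomm ν m hN1 hN2 ψ ψ').1 horb
    have hφ : E.symm ψ ≠ principalChar _ := irrHomEquiv_symm_ne hcomm hψ
    have hφ' : E.symm ψ' ≠ principalChar _ := by
      intro h
      rw [h] at h1
      exact hφ (orel_principal ν m h1)
    exact ((hηR _ _ hφ hφ').2 h1).symm
  · intro ψ hψ z y hzy hy1
    have hφ : E.symm ψ ≠ principalChar _ := irrHomEquiv_symm_ne hcomm hψ
    have hy1' : y ≠ 1 := fun h => hy1 (by rw [h]; rfl)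
    rw [frob_psingular M hM _ (mem_pbFinset.1 (hηX _ hφ)) hzy (hnil' y y.2 hy1),
      finsum_orbit P hcomm ν m hνm hfpf hN1 hN2 ψ hψ y]
    have := hval2 (E.symm ψ) hφ (hηX _ hφ) y hy1'
    refine Eq.trans this ?_
    push_cast
    rfl
  · intro w hw
    obtain ⟨hs, hr⟩ := frob_weight X f hcomm hchar δ c η d' hδ hηX hb hcη w
      (fun a ha => hw a ha)
    constructor
    · intro y hy y' hy'
      obtain ⟨ψ, hψ, rfl⟩ := mem_excSet.1 hy
      obtain ⟨ψ', hψ', rfl⟩ := mem_excSet.1 hy'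
      exact hs ψ ψ' hψ hψ'
    · intro y hy
      obtain ⟨ψ, hψ, rfl⟩ := mem_excSet.1 hy
      exact hr ψ hψ

end Cfsg.Agent.Helper7.Frob
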