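import Mathlib
import Cfsg.Agent.Lib.Helper7.Frob3

/-!
# The case of a group of automorphisms of order three: normal form of the structure theorem
(helper7's library)
-/

set_option autoImplicit false

namespace Cfsg.Agent.Helper7.Frob

open Cfsg Cfsg.Agent.Helper24 Cfsg.Agent.Helper7.Homo
open scoped ComplexConjugate

universe u

section Three

variable {A : Type u} [Group A] [Fintype A] [Fintype (IrrCharacter A)] [DecidableEq A]
variable {ι : Type*} [DecidableEq ι] (X : Finset ι) (f : ι → A → ℂ) (ν : MulAut A) (m : ℕ)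

/-- with exactly two exceptional members, the sign of the representation can be changed -/
theorem frob_flip (δ : ℤ) (c : ι → ℤ) (η : IrrCharacter A → ι) (d' : ℤ)
    (hηX : ∀ ψ, ψ ≠ principalChar A → η ψ ∈ X)
    (hηR : ∀ ψ ψ', ψ ≠ principalChar A → ψ' ≠ principalChar A →
        (η ψ = η ψ' ↔ orel ν m ψ ψ'))
    (hb : ∀ ψ, ψ ≠ principalChar A → ∀ y ∈ X,
        bint (f y) ψ = c y + (if y = η ψ then δ else 0))
    (hcη : ∀ ψ, ψ ≠ principalChar A → c (η ψ) = d')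
    (h2 : (excSet η).card = 2) :
    ∃ (c' : ι → ℤ) (η' : IrrCharacter A → ι),
      (∀ ψ, ψ ≠ principalChar A → η' ψ ∈ X) ∧
      (∀ ψ ψ', ψ ≠ principalChar A → ψ' ≠ principalChar A →
        (η' ψ = η' ψ' ↔ orel ν m ψ ψ')) ∧
      (∀ ψ, ψ ≠ principalChar A → ∀ y ∈ X,
        bint (f y) ψ = c' y + (if y = η' ψ then -δ else 0)) ∧
      (∀ ψ, ψ ≠ principalChar A → c' (η' ψ) = d' + δ) ∧
      (∀ x, x ∉ excSet η → c' x = c x) ∧ excSet η' = excSet η := by
  classical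
  obtain ⟨y₁, y₂, hne, hY⟩ := Finset.card_eq_two.1 h2
  have hy₁ : y₁ ∈ excSet η := by rw [hY]; simp
  have hy₂ : y₂ ∈ excSet η := by rw [hY]; simp
  have hcases : ∀ ψ, ψ ≠ principalChar A → η ψ = y₁ ∨ η ψ = y₂ := by
    intro ψ hψ
    have : η ψ ∈ excSet η := mem_excSet.2 ⟨ψ, hψ, rfl⟩
    rw [hY] at this
    simpa using this
  have hcY : ∀ y ∈ excSet η, c y = d' := by
    intro y hy
    obtain ⟨ψ, hψ, rfl⟩ := mem_excSet.1 hy
    exact hcη ψ hψ
  have hYX : ∀ y ∈ excSet η, y ∈ X := by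
    intro y hy
    obtain ⟨ψ, hψ, rfl⟩ := mem_excSet.1 hy
    exact hηX ψ hψ
  set η' : IrrCharacter A → ι := fun ψ => if η ψ = y₁ then y₂ else y₁ with hη'
  set c' : ι → ℤ := fun x => c x + (if x = y₁ ∨ x = y₂ then δ else 0) with hc'
  have hη'cases : ∀ ψ, ψ ≠ principalChar A →
      (η ψ = y₁ ∧ η' ψ = y₂) ∨ (η ψ = y₂ ∧ η' ψ = y₁) := by
    intro ψ hψ
    rcases hcases ψ hψ with h | h
    · left
      exact ⟨h, by simp only [hη']; rw [if_pos h]⟩
    · right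
      refine ⟨h, ?_⟩
      simp only [hη']
      rw [if_neg]
      rw [h]
      exact hne.symm
  refine ⟨c', η', ?_, ?_, ?_, ?_, ?_, ?_⟩
  · intro ψ hψ
    rcases hη'cases ψ hψ with h | h
    · rw [h.2]; exact hYX _ hy₂
    · rw [h.2]; exact hYX _ hy₁
  · intro ψ ψ' hψ hψ'
    rw [← hηR ψ ψ' hψ hψ']
    rcases hη'cases ψ hψ with h | h <;> rcases hη'cases ψ' hψ' with h' | h'
    · rw [h.1, h.2, h'.1, h'.2]
      exact ⟨fun _ => rfl, fun _ => rfl⟩
    · rw [h.1, h.2, h'.1, h'.2]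
      exact ⟨fun e => e.symm, fun e => e.symm⟩
    · rw [h.1, h.2, h'.1, h'.2]
      exact ⟨fun e => e.symm, fun e => e.symm⟩
    · rw [h.1, h.2, h'.1, h'.2]
      exact ⟨fun _ => rfl, fun _ => rfl⟩
  · intro ψ hψ y hy
    rw [hb ψ hψ y hy]
    simp only [hc']
    rcases hη'cases ψ hψ with h | h
    · rw [h.1, h.2]
      by_cases e1 : y = y₁
      · rw [if_pos e1, if_pos (Or.inl e1), if_neg (fun e2 => hne (e1.symm.trans e2))]
        ring
      · by_cases e2 : y = y₂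
        · rw [if_neg e1, if_pos (Or.inr e2), if_pos e2]
          ring
        · rw [if_neg e1, if_neg (not_or.2 ⟨e1, e2⟩), if_neg e2]
          ring
    · rw [h.1, h.2]
      by_cases e1 : y = y₁
      · rw [if_neg (fun e2 => hne (e1.symm.trans e2)), if_pos (Or.inl e1), if_pos e1]
        ring
      · by_cases e2 : y = y₂
        · rw [if_pos e2, if_pos (Or.inr e2), if_neg e1]
          ring
        · rw [if_neg e2, if_neg (not_or.2 ⟨e1, e2⟩), if_neg e1]
          ring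
  · intro ψ hψ
    simp only [hc']
    rcases hη'cases ψ hψ with h | h
    · rw [h.2, if_pos (Or.inr rfl), hcY _ hy₂]
    · rw [h.2, if_pos (Or.inl rfl), hcY _ hy₁]
  · intro x hx
    simp only [hc']
    rw [if_neg, add_zero]
    rintro (h | h)
    · exact hx (h ▸ hy₁)
    · exact hx (h ▸ hy₂)
  · ext y
    rw [mem_excSet, mem_excSet]
    constructor
    · rintro ⟨ψ, hψ, rfl⟩
      rcases hη'cases ψ hψ with h | h
      · rw [h.2]; exact mem_excSet.1 hy₂
      · rw [h.2]; exact mem_excSet.1 hy₁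
    · rintro ⟨ψ, hψ, rfl⟩
      -- the other orbit
      rcases hη'cases ψ hψ with h | h
      · -- `η ψ = y₁`; find `ψ'` with `η ψ' = y₂`
        obtain ⟨ψ', hψ', hψ'2⟩ := mem_excSet.1 hy₂
        refine ⟨ψ', hψ', ?_⟩
        rcases hη'cases ψ' hψ' with h' | h'
        · exact absurd (h'.1.symm.trans hψ'2) hne
        · rw [h'.2, h.1]
      · obtain ⟨ψ', hψ', hψ'2⟩ := mem_excSet.1 hy₁
        refine ⟨ψ', hψ', ?_⟩
        rcases hη'cases ψ' hψ' with h' | h'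
        · rw [h'.2, h.1]
        · exact absurd (hψ'2.symm.trans h'.1) hne

/-- a sum of two nonzero integer squares equal to two -/
theorem two_squares {ι : Type*} [DecidableEq ι] (S : Finset ι) (c : ι → ℤ)
    (hc0 : ∀ x ∈ S, c x ≠ 0) (h2 : ∑ x ∈ S, c x * c x = 2) :
    ∃ x₂ ∈ S, ∃ x₃ ∈ S, x₂ ≠ x₃ ∧ S = {x₂, x₃} ∧ (c x₂ = 1 ∨ c x₂ = -1) ∧
      (c x₃ = 1 ∨ c x₃ = -1) := by
  have hex : ∃ x ∈ S, c x ≠ 0 := by
    by_contra hcon
    push Not at hcon
    have : ∑ x ∈ S, c x * c x = 0 := by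
      apply Finset.sum_eq_zero
      intro x hx
      rw [hcon x hx, mul_zero]
    omega
  obtain ⟨x₁, hx₁, hu₁⟩ := hex
  have hle : c x₁ * c x₁ ≤ 2 := by
    rw [← h2]
    exact Finset.single_le_sum (f := fun x => c x * c x) (fun i _ => mul_self_nonneg _) hx₁
  have hsq₁ : c x₁ * c x₁ = 1 := by
    have h1 : -1 ≤ c x₁ := by nlinarith
    have h2 : c x₁ ≤ 1 := by nlinarith
    have h3 : c x₁ = 1 ∨ c x₁ = -1 := by omega
    rcases h3 with h | h <;> rw [h] <;> norm_num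
  have hrest : ∑ x ∈ S.erase x₁, c x * c x = 1 := by
    have := Finset.add_sum_erase S (fun x => c x * c x) hx₁
    omega
  obtain ⟨x₂, hx₂, hsq₂, hzero⟩ := single_support (S.erase x₁) c hrest
  have hx₂S : x₂ ∈ S := Finset.mem_of_mem_erase hx₂
  have hne : x₂ ≠ x₁ := Finset.ne_of_mem_erase hx₂
  refine ⟨x₁, hx₁, x₂, hx₂S, hne.symm, ?_, sq_one_cases hsq₁, sq_one_cases hsq₂⟩
  ext y
  rw [Finset.mem_insert, Finset.mem_singleton]
  constructor
  · intro hy
    by_contra hcon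
    push Not at hcon
    exact hc0 y hy (hzero y (Finset.mem_erase.2 ⟨hcon.1, hy⟩) hcon.2)
  · rintro (h | h)
    · rw [h]; exact hx₁
    · rw [h]; exact hx₂S

/-- **Normal form for a group of automorphisms of order three.** -/
theorem frob3_normal (hcomm : ∀ a b : A, a * b = b * a)
    (hmA : 3 + 1 < Nat.card A) (hA10 : Nat.card A ≠ 10) (hν3 : ν ^ 3 = 1)
    (hfpf : ∀ k : ℕ, 0 < k → k < 3 → ∀ a : A, (ν ^ k) a = a → a = 1)
    (hchar : ∀ x ∈ X, IsCharacter A (f x)) (d : ι → ℕ) (hdeg : ∀ x ∈ X, f x 1 = d x)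
    (hdpos : ∀ x ∈ X, 0 < d x)
    (hcol : ∀ a a' : A, a ≠ 1 → a' ≠ 1 → ∑ x ∈ X, f x a * conj (f x a') =
      (Nat.card A : ℂ) * ∑ k ∈ Finset.range 3, (if a' = (ν ^ k) a then (1 : ℂ) else 0))
    (hB : ∀ a : A, a ≠ 1 → ∑ x ∈ X, (d x : ℂ) * f x a = 0)
    (x₀ : ι) (hx₀ : x₀ ∈ X) (hfx₀ : ∀ a, f x₀ a = 1)
    (hnv : ∀ x ∈ X, ∃ a : A, a ≠ 1 ∧ f x a ≠ 0) :
    ∃ (δ : ℤ) (c : ι → ℤ) (η : IrrCharacter A → ι), (δ = 1 ∨ δ = -1) ∧
      (∀ ψ, ψ ≠ principalChar A → η ψ ∈ X) ∧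
      (∀ ψ ψ', ψ ≠ principalChar A → ψ' ≠ principalChar A →
        (η ψ = η ψ' ↔ orel ν 3 ψ ψ')) ∧
      (∀ ψ, ψ ≠ principalChar A → ∀ y ∈ X,
        bint (f y) ψ = c y + (if y = η ψ then δ else 0)) ∧
      (∀ ψ, ψ ≠ principalChar A → c (η ψ) = 0) ∧ c x₀ = -1 ∧
      ∃ x₂ x₃ : ι, x₂ ≠ x₃ ∧ x₂ ≠ x₀ ∧ x₃ ≠ x₀ ∧ X \ excSet η = {x₀, x₂, x₃} ∧
        (c x₂ = 1 ∨ c x₂ = -1) ∧ (c x₃ = 1 ∨ c x₃ = -1) := by
  classical
  have hm0 : 0 < 3 := by norm_num
  obtain ⟨ψ₁, ψ₂, hψ₁, hψ₂, h12⟩ := exists_two_orbits ν 3 hcomm hmA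
  -- the common end of the argument, for data with `d' = 0`
  have hend : ∀ (δ : ℤ) (c : ι → ℤ) (η : IrrCharacter A → ι), (δ = 1 ∨ δ = -1) →
      (∀ ψ, ψ ≠ principalChar A → η ψ ∈ X) →
      (∀ ψ ψ', ψ ≠ principalChar A → ψ' ≠ principalChar A →
        (η ψ = η ψ' ↔ orel ν 3 ψ ψ')) →
      (∀ ψ, ψ ≠ principalChar A → ∀ y ∈ X,
        bint (f y) ψ = c y + (if y = η ψ then δ else 0)) →
      (∀ ψ, ψ ≠ principalChar A → c (η ψ) = 0) →
      c x₀ = -1 ∧
      ∃ x₂ x₃ : ι, x₂ ≠ x₃ ∧ x₂ ≠ x₀ ∧ x₃ ≠ x₀ ∧ X \ excSet η = {x₀, x₂, x₃} ∧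
        (c x₂ = 1 ∨ c x₂ = -1) ∧ (c x₃ = 1 ∨ c x₃ = -1) := by
    intro δ c η hδ hηX hηR hb hcη
    have hx₀Y : x₀ ∉ excSet η :=
      principal_not_exc X f ν 3 hcomm hm0 hmA hν3 δ c η hδ hηR hb x₀ hx₀ hfx₀
    have hcx₀ : c x₀ = -1 := by
      have e := hb ψ₁ hψ₁ x₀ hx₀
      rw [bint_one hfx₀ hψ₁, if_neg] at e
      · omega
      · intro h
        exact hx₀Y (mem_excSet.2 ⟨ψ₁, hψ₁, h.symm⟩)
    have hval1 := (frob_values X f ν 3 hcomm hm0 hν3 hfpf hchar δ c η 0 hηR hb hcη).1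
    have hc0 : ∀ x ∈ X \ excSet η, c x ≠ 0 := by
      intro x hx h0
      rw [Finset.mem_sdiff] at hx
      obtain ⟨a, ha, hne⟩ := hnv x hx.1
      apply hne
      rw [hval1 x hx.1 _ a ha, h0]
      · simp
      · intro ψ hψ h
        exact hx.2 (mem_excSet.2 ⟨ψ, hψ, h.symm⟩)
    have hnorm := frob_norm X f ν 3 hcomm hm0 hfpf hchar hcol δ c η 0 hδ hηX hb hcη ψ₁ hψ₁
    have hδ2 : δ * δ = 1 := by rcases hδ with h | h <;> rw [h] <;> norm_num
    have hx₀S : x₀ ∈ X \ excSet η := Finset.mem_sdiff.2 ⟨hx₀, hx₀Y⟩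
    have hsum : ∑ x ∈ (X \ excSet η).erase x₀, c x * c x = 2 := by
      have := Finset.add_sum_erase (X \ excSet η) (fun x => c x * c x) hx₀S
      rw [hcx₀] at this
      have h3 : ∑ x ∈ X \ excSet η, c x * c x = 3 := by
        have : (0 + δ) * (0 + δ) = 1 := by rw [zero_add]; exact hδ2
        push_cast at hnorm
        linarith
      omega
    obtain ⟨x₂, hx₂, x₃, hx₃, hne, hS, hc₂, hc₃⟩ :=
      two_squares ((X \ excSet η).erase x₀) c
        (fun x hx => hc0 x (Finset.mem_of_mem_erase hx)) hsum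
    refine ⟨hcx₀, x₂, x₃, hne, Finset.ne_of_mem_erase hx₂, Finset.ne_of_mem_erase hx₃, ?_,
      hc₂, hc₃⟩
    rw [← Finset.insert_erase hx₀S, hS]
  -- the data
  obtain ⟨δ, c, η, d', hδ, hηX, hηR, hb, hcη⟩ :=
    frob_structure X f ν 3 hcomm (by norm_num) hmA hν3 hfpf hchar d hdpos hcol hB x₀
  by_cases hd0 : d' = 0
  · subst hd0
    exact ⟨δ, c, η, hδ, hηX, hηR, hb, hcη, hend δ c η hδ hηX hηR hb hcη⟩
  -- `d' ≠ 0`
  have hx₀Y : x₀ ∉ excSet η :=
    principal_not_exc X f ν 3 hcomm hm0 hmA hν3 δ c η hδ hηR hb x₀ hx₀ hfx₀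
  have hcx₀ : c x₀ = -1 := by
    have e := hb ψ₁ hψ₁ x₀ hx₀
    rw [bint_one hfx₀ hψ₁, if_neg] at e
    · omega
    · intro h
      exact hx₀Y (mem_excSet.2 ⟨ψ₁, hψ₁, h.symm⟩)
  have hnorm := frob_norm X f ν 3 hcomm hm0 hfpf hchar hcol δ c η d' hδ hηX hb hcη ψ₁ hψ₁
  have hcard := frob_card ν 3 hcomm hfpf η hηR
  have hδ2 : δ * δ = 1 := by rcases hδ with h | h <;> rw [h] <;> norm_num
  have hx₀S : x₀ ∈ X \ excSet η := Finset.mem_sdiff.2 ⟨hx₀, hx₀Y⟩
  have hS1 : 1 ≤ ∑ x ∈ X \ excSet η, c x * c x := by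
    have h1 := Finset.single_le_sum (f := fun x => c x * c x) (fun i _ => mul_self_nonneg _)
      hx₀S
    rw [hcx₀] at h1
    linarith
  have hd'pos : 1 ≤ d' * d' := by
    have : 0 < d' * d' := mul_self_pos.2 hd0
    omega
  have hsq : 0 ≤ (d' + δ) * (d' + δ) := mul_self_nonneg _
  set r := (excSet η).card with hr
  have hr2 : 2 ≤ r := by
    by_contra hlt
    push Not at hlt
    have : r * 3 ≤ 1 * 3 := Nat.mul_le_mul_right 3 (by omega)
    omega
  have hr3 : r ≠ 3 := by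
    intro h
    rw [h] at hcard
    omega
  have hrle : r ≤ 4 := by
    by_contra hgt
    push Not at hgt
    have h5 : (5 : ℤ) ≤ (r : ℤ) := by exact_mod_cast hgt
    push_cast at hnorm
    nlinarith
  have hrcases : r = 2 ∨ r = 4 := by omega
  rcases hrcases with hr2' | hr4
  · -- flip
    have hd' : d' = -δ := by
      rw [hr2'] at hnorm
      push_cast at hnorm
      have h1 : d' * d' + (d' + δ) * (d' + δ) ≤ 3 := by linarith
      rcases hδ with h | h
      · rw [h] at h1 ⊢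
        have : -2 ≤ d' := by nlinarith
        have : d' ≤ 1 := by nlinarith
        have : d' ≠ 1 := by intro h'; rw [h'] at h1; norm_num at h1
        have : d' ≠ -2 := by intro h'; rw [h'] at h1; norm_num at h1
        omega
      · rw [h] at h1 ⊢
        have : -1 ≤ d' := by nlinarith
        have : d' ≤ 2 := by nlinarith
        have : d' ≠ -1 := by intro h'; rw [h'] at h1; norm_num at h1
        have : d' ≠ 2 := by intro h'; rw [h'] at h1; norm_num at h1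
        omega
    obtain ⟨c', η', hηX', hηR', hb', hcη', -, -⟩ :=
      frob_flip X f ν 3 δ c η d' hηX hηR hb hcη hr2'
    have hcη'' : ∀ ψ, ψ ≠ principalChar A → c' (η' ψ) = 0 := by
      intro ψ hψ
      rw [hcη' ψ hψ, hd']
      ring
    have hδ' : -δ = 1 ∨ -δ = -1 := by
      rcases hδ with h | h
      · right; rw [h]
      · left; rw [h]; norm_num
    exact ⟨-δ, c', η', hδ', hηX', hηR', hb', hcη'', hend (-δ) c' η' hδ' hηX' hηR' hb' hcη''⟩
  · -- the exotic configuration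
    exfalso
    rw [hr4] at hnorm
    push_cast at hnorm
    have hd'1 : d' * d' = 1 := by nlinarith
    have hdδ : (d' + δ) * (d' + δ) = 0 := by nlinarith
    have hd' : d' = -δ := by
      have := mul_self_eq_zero.1 hdδ
      linarith
    have hSum1 : ∑ x ∈ X \ excSet η, c x * c x = 1 := by nlinarith
    -- the other members vanish
    have hval1 := (frob_values X f ν 3 hcomm hm0 hν3 hfpf hchar δ c η d' hηR hb hcη).1
    have hc0 : ∀ x ∈ X \ excSet η, c x ≠ 0 := by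
      intro x hx h0
      rw [Finset.mem_sdiff] at hx
      obtain ⟨a, ha, hne⟩ := hnv x hx.1
      apply hne
      rw [hval1 x hx.1 _ a ha, h0]
      · simp
      · intro ψ hψ h
        exact hx.2 (mem_excSet.2 ⟨ψ, hψ, h.symm⟩)
    have hsingle : X \ excSet η = {x₀} := by
      ext y
      rw [Finset.mem_singleton]
      constructor
      · intro hy
        by_contra hne
        have h1 := Finset.add_sum_erase (X \ excSet η) (fun x => c x * c x) hx₀S
        rw [hcx₀] at h1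
        have h2 : ∑ x ∈ (X \ excSet η).erase x₀, c x * c x = 0 := by linarith
        have h3 := (Finset.sum_eq_zero_iff_of_nonneg (fun x _ => mul_self_nonneg _)).1 h2 y
          (Finset.mem_erase.2 ⟨hne, hy⟩)
        exact hc0 y hy (mul_self_eq_zero.1 h3)
      · intro h
        rw [h]
        exact hx₀S
    have hw := (frob_weight X f hcomm hchar δ c η d' hδ hηX hb hcη (fun x => (d x : ℂ))
      hB).2 ψ₁ hψ₁
    rw [hsingle, Finset.sum_singleton, hcx₀, ← hr, hr4, hd'] at hw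
    have hd₀ : d x₀ = 1 := by
      have := hdeg x₀ hx₀
      rw [hfx₀] at this
      exact_mod_cast this.symm
    rw [hd₀] at hw
    have hw' : ((-δ) * 4 + δ) * (d (η ψ₁) : ℤ) + (-1) * 1 = 0 := by
      have : ((((-δ) * 4 + δ) * (d (η ψ₁) : ℤ) + (-1) * 1 : ℤ) : ℂ) = 0 := by
        push_cast
        push_cast at hw
        linear_combination hw
      exact_mod_cast this
    rcases hδ with h | h <;> rw [h] at hw' <;> omega

end Three

end Cfsg.Agent.Helper7.Frob
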