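import Mathlib
import Cfsg.Agent.Lib.Helper7.Frob8
import Cfsg.Agent.Lib.Helper7.Frob9

/-!
# The principal block for `N(P)/C(P)` of order three: structure (helper7's library)
-/

set_option autoImplicit false

namespace Cfsg.Agent.Helper7.Frob

open Cfsg Cfsg.Agent.Helper24 Cfsg.Agent.Helper23 Cfsg.Agent.Helper23.Blk
open Cfsg.Agent.Helper7.Homo Cfsg.Agent.Helper7.BrCol
open scoped ComplexConjugate

universe u

set_option maxHeartbeats 1000000 in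
/-- **Structure theorem for `N(P)/C(P)` of order three.** -/
theorem frob3_main {G : Type u} [Group G] [Finite G] (p : ℕ) [Fact p.Prime] (M : Ideal AlgInt)
    (hM : IsPModular p M) (P : Sylow p G)
    (hcomm : ∀ x y : (P : Subgroup G), x * y = y * x)
    (hP1 : Nat.card (P : Subgroup G) ≠ 1)
    (hm2 : 3 + 1 < Nat.card (P : Subgroup G))
    (hCN : (Subgroup.centralizer ((P : Subgroup G) : Set G)).relIndex
      (Subgroup.normalizer ((P : Subgroup G) : Set G)) = 3)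
    (hcyc : ∃ g : G, g ∈ Subgroup.normalizer ((P : Subgroup G) : Set G) ∧
      Subgroup.centralizer ((P : Subgroup G) : Set G) ⊔ Subgroup.zpowers g =
        Subgroup.normalizer ((P : Subgroup G) : Set G))
    (hfrob : ∀ y : G, y ∈ (P : Subgroup G) → y ≠ 1 →
      Subgroup.centralizer ({y} : Set G) ⊓ Subgroup.normalizer ((P : Subgroup G) : Set G) =
        Subgroup.centralizer ((P : Subgroup G) : Set G)) :
    ∃ (χ₂ χ₃ : IrrCharacter G) (Y : Finset (IrrCharacter G)) (δ a₂ a₃ : ℤ)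
      (ζ : ((P : Subgroup G) →* ℂˣ) → IrrCharacter G),
      χ₂ ≠ χ₃ ∧ χ₂ ≠ principalChar G ∧ χ₃ ≠ principalChar G ∧
      principalChar G ∉ Y ∧ χ₂ ∉ Y ∧ χ₃ ∉ Y ∧
      (∀ χ, χ ∈ principalBlock M G ↔
        χ = principalChar G ∨ χ = χ₂ ∨ χ = χ₃ ∨ χ ∈ Y) ∧
      (δ = 1 ∨ δ = -1) ∧ (a₂ = 1 ∨ a₂ = -1) ∧ (a₃ = 1 ∨ a₃ = -1) ∧
      Y.card * 3 = Nat.card (P : Subgroup G) - 1 ∧
      (∀ z y : G, IsPPart p z y → y ∈ (P : Subgroup G) → y ≠ 1 →
        (χ₂ : G → ℂ) z = (a₂ : ℂ)) ∧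
      (∀ z y : G, IsPPart p z y → y ∈ (P : Subgroup G) → y ≠ 1 →
        (χ₃ : G → ℂ) z = (a₃ : ℂ)) ∧
      (∀ ψ : (P : Subgroup G) →* ℂˣ, ψ ≠ 1 → ζ ψ ∈ Y) ∧
      (∀ η ∈ Y, ∃ ψ : (P : Subgroup G) →* ℂˣ, ψ ≠ 1 ∧ ζ ψ = η) ∧
      (∀ ψ ψ' : (P : Subgroup G) →* ℂˣ, ψ ≠ 1 →
        (∃ n : G, n ∈ Subgroup.normalizer ((P : Subgroup G) : Set G) ∧
          ∀ w w' : (P : Subgroup G), (w' : G) = n * w * n⁻¹ → ψ' w' = ψ w) → ζ ψ' = ζ ψ) ∧
      (∀ ψ : (P : Subgroup G) →* ℂˣ, ψ ≠ 1 → ∀ (z : G) (y : (P : Subgroup G)),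
        IsPPart p z (y : G) → (y : G) ≠ 1 → (ζ ψ : G → ℂ) z = (δ : ℂ) *
          ∑ᶠ ψ' ∈ {ψ' : (P : Subgroup G) →* ℂˣ | ∃ n : G,
            n ∈ Subgroup.normalizer ((P : Subgroup G) : Set G) ∧
            ∀ w w' : (P : Subgroup G), (w' : G) = n * w * n⁻¹ → ψ' w' = ψ w},
              ((ψ' y : ℂˣ) : ℂ)) ∧
      (∀ w : IrrCharacter G → ℂ,
        (∀ y : (P : Subgroup G), y ≠ 1 → ∑ χ ∈ pbFinset M G, w χ * (χ : G → ℂ) y = 0) →
        (∀ η ∈ Y, ∀ η' ∈ Y, w η = w η') ∧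
        ∀ η ∈ Y, w (principalChar G) + (a₂ : ℂ) * w χ₂ + (a₃ : ℂ) * w χ₃ = (δ : ℂ) * w η) := by
  classical
  haveI : Fintype (P : Subgroup G) := Fintype.ofFinite _
  letI : Fintype (IrrCharacter (P : Subgroup G)) := irrFintype
  haveI hMp : M.IsPrime := hM.2.1.isPrime
  obtain ⟨ν, hνm, hfpf, hconj, hfus, hnil, hN1, hN2⟩ := frob_package P hcomm 3 hCN hcyc hfrob
  set X := pbFinset M G with hX
  set f : IrrCharacter G → ↥(P : Subgroup G) → ℂ := fun χ a => (χ : G → ℂ) (a : G) with hf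
  set d : IrrCharacter G → ℕ := fun χ => charDegree (χ : G → ℂ) with hd
  have hchar : ∀ χ ∈ X, IsCharacter (P : Subgroup G) (f χ) := fun χ _ =>
    isCharacter_restrict (P : Subgroup G) (isCharacter_of_isIrrCharacter χ.2)
  have hdeg : ∀ χ ∈ X, f χ 1 = d χ := by
    intro χ _
    have := irr_one_eq_charDegree χ.2
    exact this
  have hdpos : ∀ χ ∈ X, 0 < d χ := fun χ _ => charDegree_pos χ.2
  have hcol : ∀ a a' : (P : Subgroup G), a ≠ 1 → a' ≠ 1 →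
      ∑ χ ∈ X, f χ a * conj (f χ a') = (Nat.card (P : Subgroup G) : ℂ) *
        ∑ k ∈ Finset.range 3, (if a' = (ν ^ k) a then (1 : ℂ) else 0) :=
    fun a a' ha ha' => frob_col M hM P hcomm ν 3 hfpf hconj hfus hnil a a' ha ha'
  have hB : ∀ a : (P : Subgroup G), a ≠ 1 → ∑ χ ∈ X, (d χ : ℂ) * f χ a = 0 :=
    fun a ha => frob_deg_rel M hM P a ha
  have hx₀ : principalChar G ∈ X := mem_pbFinset.2 principalChar_mem_principalBlock
  have hfx₀ : ∀ a, f (principalChar G) a = 1 := fun a => rfl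
  have hnv : ∀ χ ∈ X, ∃ a : (P : Subgroup G), a ≠ 1 ∧ f χ a ≠ 0 :=
    fun χ hχ => frob_nonvanishing M hM P hP1 hnil χ (mem_pbFinset.1 hχ)
  have hA10 : Nat.card (P : Subgroup G) ≠ 10 := by
    intro h10
    obtain ⟨n, hn⟩ := IsPGroup.iff_card.1 P.isPGroup'
    rw [h10] at hn
    have hp := (Fact.out : p.Prime)
    have h2 : 2 ∣ p ^ n := by rw [← hn]; norm_num
    have h5 : 5 ∣ p ^ n := by rw [← hn]; norm_num
    have e2 := (Nat.prime_dvd_prime_iff_eq Nat.prime_two hp).1 (Nat.prime_two.dvd_of_dvd_pow h2)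
    have e5 := (Nat.prime_dvd_prime_iff_eq Nat.prime_five hp).1
      (Nat.prime_five.dvd_of_dvd_pow h5)
    omega
  obtain ⟨δ, c, η, hδ, hηX, hηR, hb, hcη, hcx₀, x₂, x₃, h23, h20, h30, hXs, hc₂, hc₃⟩ :=
    frob3_normal X f ν hcomm hm2 hA10 hνm hfpf hchar d hdeg hdpos hcol hB (principalChar G) hx₀
      hfx₀ hnv
  obtain ⟨hpb, hdisj, h1X, hYcard, -, hXval, hζY, hζsurj, hζconst, hζval, hw⟩ :=
    frob_main_of_data p M hM P hcomm hP1 3 (by norm_num) hm2 ν hνm hfpf hconj hfus hnil hN1 hN2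
      δ c η 0 hδ hηX hηR hb hcη
  have hx₂S : x₂ ∈ X \ excSet η := by rw [hXs]; simp
  have hx₃S : x₃ ∈ X \ excSet η := by rw [hXs]; simp
  refine ⟨x₂, x₃, excSet η, δ, -c x₂, -c x₃, fun ψ => η ((irrHomEquiv hcomm).symm ψ), h23, h20,
    h30, (Finset.mem_sdiff.1 h1X).2, (Finset.mem_sdiff.1 hx₂S).2, (Finset.mem_sdiff.1 hx₃S).2,
    ?_, hδ, ?_, ?_, hYcard, ?_, ?_, hζY, hζsurj, hζconst, ?_, ?_⟩
  · intro χ
    rw [← mem_pbFinset, hpb χ, hXs]
    simp only [Finset.mem_insert, Finset.mem_singleton]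
    tauto
  · rcases hc₂ with h | h
    · right; rw [h]
    · left; rw [h]; norm_num
  · rcases hc₃ with h | h
    · right; rw [h]
    · left; rw [h]; norm_num
  · intro z y hzy hyP hy1
    exact (hXval x₂ hx₂S).2 z y hzy hyP hy1
  · intro z y hzy hyP hy1
    exact (hXval x₃ hx₃S).2 z y hzy hyP hy1
  · intro ψ hψ z y hzy hy1
    have := hζval ψ hψ z y hzy hy1
    rw [this]
    push_cast
    ring
  · intro w hw'
    obtain ⟨hs, hr⟩ := hw w hw'
    refine ⟨hs, ?_⟩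
    intro y hy
    have h1 := hr y hy
    rw [hXs, Finset.sum_insert, Finset.sum_insert, Finset.sum_singleton, hcx₀] at h1
    · push_cast at h1 ⊢
      linear_combination -h1
    · rw [Finset.mem_singleton]
      exact h23
    · simp only [Finset.mem_insert, Finset.mem_singleton]
      rintro (h | h)
      · exact h20 h.symm
      · exact h30 h.symm

end Cfsg.Agent.Helper7.Frob
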