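import Mathlib

/-!
# Sign patterns from three linear relations (helper7's library)
-/

set_option autoImplicit false

namespace Cfsg.Agent.Helper7.Frob

/-- exactly one negative sign is impossible -/
theorem one_minus_false (xj xk xl τj τk τl : ℤ) (hj : 0 < xj) (hk : 0 < xk)
    (hx : xl = 1 + xj + xk) (ht : τl = 1 + τj + τk)
    (h3 : xj * xk * xl + τj ^ 2 * xk * xl + τk ^ 2 * xj * xl = τl ^ 2 * xj * xk)
    (hne : τj ≠ xj) : False := by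
  subst hx ht
  have key : (τj - xj) ^ 2 * xk + (τk - xk) ^ 2 * xj +
      ((τj - xj) * xk - (τk - xk) * xj) ^ 2 = 0 := by
    linear_combination h3
  have h1 : 0 < (τj - xj) ^ 2 :=
    lt_of_le_of_ne (sq_nonneg _) (Ne.symm (pow_ne_zero 2 (sub_ne_zero.2 hne)))
  have h2 : 0 < (τj - xj) ^ 2 * xk := mul_pos h1 hk
  have h3' : 0 ≤ (τk - xk) ^ 2 * xj := mul_nonneg (sq_nonneg _) hj.le
  have h4 : 0 ≤ ((τj - xj) * xk - (τk - xk) * xj) ^ 2 := sq_nonneg _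
  linarith

/-- exactly two negative signs force a square -/
theorem two_minus_square (xj xk xl τj τk τl : ℤ)
    (hx : xj = xk + xl - 1) (ht : τj = τk + τl - 1)
    (h3 : xj * xk * xl + τj ^ 2 * xk * xl = τk ^ 2 * xj * xl + τl ^ 2 * xj * xk)
    (hne : τl ≠ xl) : IsSquare (xj * xk * xl) := by
  subst hx ht
  have key : (xl * (xl - 1) * (τk - xk) - xk * xl * (τl - xl)) ^ 2 =
      (xk + xl - 1) * xk * xl * (τl - xl) ^ 2 := by
    linear_combination (-(xl * (xl - 1))) * h3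
  have hγ : τl - xl ≠ 0 := sub_ne_zero.2 hne
  have hdvd : (τl - xl) ^ 2 ∣ (xl * (xl - 1) * (τk - xk) - xk * xl * (τl - xl)) ^ 2 := by
    rw [key]
    exact Dvd.intro_left _ rfl
  obtain ⟨V, hV⟩ := (Int.pow_dvd_pow_iff (by norm_num : (2 : ℕ) ≠ 0)).1 hdvd
  rw [hV] at key
  refine ⟨V, ?_⟩
  have h2 : (τl - xl) ^ 2 ≠ 0 := pow_ne_zero 2 hγ
  apply mul_right_cancel₀ h2
  rw [← key]
  ring

/-- the sign pattern -/
theorem sign_pattern (d₂ d₃ d τ₂ τ₃ τ a₂ a₃ δ : ℤ) (hd₂ : 0 < d₂) (hd₃ : 0 < d₃) (hd : 0 < d)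
    (ha₂ : a₂ = 1 ∨ a₂ = -1) (ha₃ : a₃ = 1 ∨ a₃ = -1) (hδ : δ = 1 ∨ δ = -1)
    (hτ₂ : τ₂ ≠ d₂) (hτ₃ : τ₃ ≠ d₃) (hτ : τ ≠ d)
    (h1 : 1 + a₂ * d₂ + a₃ * d₃ = δ * d)
    (h2 : 1 + a₂ * τ₂ + a₃ * τ₃ = δ * τ)
    (h3 : d₂ * d₃ * d + a₂ * τ₂ ^ 2 * d₃ * d + a₃ * τ₃ ^ 2 * d₂ * d = δ * τ ^ 2 * d₂ * d₃) :
    ((a₂ = -1 ∧ a₃ = -1 ∧ δ = -1) ∨ (a₂ = -1 ∧ a₃ = 1 ∧ δ = 1) ∨ (a₂ = 1 ∧ a₃ = -1 ∧ δ = 1)) ∧
      IsSquare (d * (d₂ * d₃)) := by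
  rcases ha₂ with rfl | rfl <;> rcases ha₃ with rfl | rfl <;> rcases hδ with rfl | rfl
  · -- (1,1,1): `d = 1 + d₂ + d₃`
    exfalso
    exact one_minus_false d₂ d₃ d τ₂ τ₃ τ hd₂ hd₃ (by linarith) (by linarith)
      (by linear_combination h3) hτ₂
  · -- (1,1,-1)
    exfalso
    linarith
  · -- (1,-1,1): `1 + d₂ = d₃ + d`
    refine ⟨Or.inr (Or.inr ⟨rfl, rfl, rfl⟩), ?_⟩
    have := two_minus_square d₂ d₃ d τ₂ τ₃ τ (by linarith) (by linarith)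
      (by linear_combination h3) hτ
    rw [show d * (d₂ * d₃) = d₂ * d₃ * d by ring]
    exact this
  · -- (1,-1,-1): `d₃ = 1 + d₂ + d`
    exfalso
    exact one_minus_false d₂ d d₃ τ₂ τ τ₃ hd₂ hd (by linarith) (by linarith)
      (by linear_combination h3) hτ₂
  · -- (-1,1,1): `1 + d₃ = d₂ + d`
    refine ⟨Or.inr (Or.inl ⟨rfl, rfl, rfl⟩), ?_⟩
    have := two_minus_square d₃ d₂ d τ₃ τ₂ τ (by linarith) (by linarith)
      (by linear_combination h3) hτ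
    rw [show d * (d₂ * d₃) = d₃ * d₂ * d by ring]
    exact this
  · -- (-1,1,-1): `d₂ = 1 + d₃ + d`
    exfalso
    exact one_minus_false d₃ d d₂ τ₃ τ τ₂ hd₃ hd (by linarith) (by linarith)
      (by linear_combination h3) hτ₃
  · -- (-1,-1,1)
    exfalso
    linarith
  · -- (-1,-1,-1): `1 + d = d₂ + d₃`
    refine ⟨Or.inl ⟨rfl, rfl, rfl⟩, ?_⟩
    have := two_minus_square d d₂ d₃ τ τ₂ τ₃ (by linarith) (by linarith)
      (by linear_combination h3) hτ₃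
    rw [show d * (d₂ * d₃) = d * d₂ * d₃ by ring]
    exact this

end Cfsg.Agent.Helper7.Frob
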