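import Mathlib
import Cfsg.Agent.Lib.Helper7.Frob12
import Cfsg.Agent.Lib.Helper7.Frob13
import Cfsg.Agent.Lib.Helper16.ClassSumTools

/-!
# Odd primes: an involution outside all proper normal subgroups (helper7's library)
-/

set_option autoImplicit false

namespace Cfsg.Agent.Helper7.Frob

open Cfsg Cfsg.Agent.Helper24 Cfsg.Agent.Helper23 Cfsg.Agent.Helper23.Blk
open Cfsg.Agent.Helper7.Homo Cfsg.Agent.Helper7.BrCol
open scoped ComplexConjugate

universe u

set_option maxHeartbeats 1000000 in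
/-- **Odd primes.** -/
theorem frob3_odd_involution {G : Type u} [Group G] [Finite G] (p : ℕ) [Fact p.Prime]
    (M : Ideal AlgInt) (hM : IsPModular p M) (P : Sylow p G) (hp2 : p ≠ 2)
    (hcomm : ∀ x y : (P : Subgroup G), x * y = y * x)
    (hCN : (Subgroup.centralizer ((P : Subgroup G) : Set G)).relIndex
      (Subgroup.normalizer ((P : Subgroup G) : Set G)) = 3)
    (hcyc : ∃ g : G, g ∈ Subgroup.normalizer ((P : Subgroup G) : Set G) ∧
      Subgroup.centralizer ((P : Subgroup G) : Set G) ⊔ Subgroup.zpowers g =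
        Subgroup.normalizer ((P : Subgroup G) : Set G))
    (hfrob : ∀ y : G, y ∈ (P : Subgroup G) → y ≠ 1 →
      Subgroup.centralizer ({y} : Set G) ⊓ Subgroup.normalizer ((P : Subgroup G) : Set G) =
        Subgroup.centralizer ((P : Subgroup G) : Set G))
    (χ₂ χ₃ : IrrCharacter G) (Y : Finset (IrrCharacter G)) (δ a₂ a₃ : ℤ)
    (hχ₂ : χ₂ ≠ principalChar G) (hχ₃ : χ₃ ≠ principalChar G) (hY1 : principalChar G ∉ Y)
    (hδ : δ = 1 ∨ δ = -1) (ha₂ : a₂ = 1 ∨ a₂ = -1) (ha₃ : a₃ = 1 ∨ a₃ = -1)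
    (hw : ∀ w : IrrCharacter G → ℂ,
        (∀ y : (P : Subgroup G), y ≠ 1 → ∑ χ ∈ pbFinset M G, w χ * (χ : G → ℂ) y = 0) →
        (∀ η ∈ Y, ∀ η' ∈ Y, w η = w η') ∧
        ∀ η ∈ Y, w (principalChar G) + (a₂ : ℂ) * w χ₂ + (a₃ : ℂ) * w χ₃ = (δ : ℂ) * w η)
    (t : G) (ht : orderOf t = 2)
    (htK : ∀ K : Subgroup G, K.Normal → t ∈ K → K = ⊤) (η : IrrCharacter G) (hη : η ∈ Y) :
    ((a₂ = -1 ∧ a₃ = -1 ∧ δ = -1) ∨ (a₂ = -1 ∧ a₃ = 1 ∧ δ = 1) ∨
        (a₂ = 1 ∧ a₃ = -1 ∧ δ = 1)) ∧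
      IsSquare (charDegree (η : G → ℂ) *
        (charDegree (χ₂ : G → ℂ) * charDegree (χ₃ : G → ℂ))) := by
  classical
  haveI : Fintype (P : Subgroup G) := Fintype.ofFinite _
  have hp : p.Prime := Fact.out
  obtain ⟨ν₀, hνm, hfpf₀, hconj₀, hfus₀, hnil, -, -⟩ := frob_package P hcomm 3 hCN hcyc hfrob
  set ν : (P : Subgroup G) ≃* (P : Subgroup G) := ν₀ with hν
  have hpow1 : ∀ a, (ν₀ ^ 1) a = ν a := fun a => by rw [pow_one]
  have hpow2 : ∀ a, (ν₀ ^ 2) a = ν (ν a) := fun a => by rw [pow_two, MulAut.mul_apply]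
  have hν3 : ∀ a, ν (ν (ν a)) = a := by
    intro a
    have h1 : (ν₀ ^ 3) a = ν (ν (ν a)) := by
      rw [pow_succ, pow_two, MulAut.mul_apply, MulAut.mul_apply]
    rw [← h1, hνm, MulAut.one_apply]
  have hfpf : ∀ a, ν a = a → a = 1 := by
    intro a ha
    exact hfpf₀ 1 (by norm_num) (by norm_num) a (by rw [hpow1]; exact ha)
  have hfpf2 : ∀ a, ν (ν a) = a → a = 1 := by
    intro a ha
    exact hfpf₀ 2 (by norm_num) (by norm_num) a (by rw [hpow2]; exact ha)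
  have hfus : ∀ a b : (P : Subgroup G), IsConj (a : G) (b : G) →
      b = a ∨ b = ν a ∨ b = ν (ν a) := by
    intro a b hab
    obtain ⟨k, hk, hk'⟩ := hfus₀ a b hab
    have hk3 : k = 0 ∨ k = 1 ∨ k = 2 := by omega
    rcases hk3 with rfl | rfl | rfl
    · left; rw [hk', pow_zero, MulAut.one_apply]
    · right; left; rw [hk', hpow1]
    · right; right; rw [hk', hpow2]
  -- the involution
  have htt : t * t = 1 := by
    have := pow_orderOf_eq_one t
    rwa [ht, pow_two] at this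
  have htt' : t ^ 2 = 1 := by rw [pow_two]; exact htt
  have hreg : ¬ p ∣ orderOf t := by
    rw [ht]
    intro h
    exact hp2 ((Nat.prime_dvd_prime_iff_eq hp Nat.prime_two).1 h)
  -- no nonidentity element of `P` is conjugate to its inverse
  have hninv : ∀ y : (P : Subgroup G), y ≠ 1 → ¬ IsConj ((y⁻¹ : (P : Subgroup G)) : G) (y : G) := by
    intro y hy hc
    rcases hfus y⁻¹ y hc with h | h | h
    · -- `y = y⁻¹`
      apply hy
      have hy2 : y ^ 2 = 1 := by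
        rw [pow_two]
        nth_rewrite 1 [h]
        exact inv_mul_cancel y
      have h2 : orderOf y ∣ 2 := orderOf_dvd_of_pow_eq_one hy2
      obtain ⟨n, hn⟩ := IsPGroup.iff_card.1 P.isPGroup'
      have h3 : orderOf y ∣ p ^ n := by
        rw [← hn]
        exact orderOf_dvd_natCard y
      have hcop : Nat.Coprime 2 (p ^ n) := by
        apply Nat.Coprime.pow_right
        rw [Nat.coprime_primes Nat.prime_two hp]
        exact fun h => hp2 h.symm
      have : orderOf y ∣ 1 := by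
        have := Nat.dvd_gcd h2 h3
        rwa [hcop] at this
      exact orderOf_eq_one_iff.1 (Nat.dvd_one.1 this)
    · -- `y = ν y⁻¹`
      apply hy
      apply hfpf2
      have h1 : ν y = y⁻¹ := by
        rw [map_inv] at h
        exact (inv_eq_iff_eq_inv.2 h).symm
      rw [h1, ← h]
    · -- `y = ν (ν y⁻¹)`
      apply hy
      apply hfpf
      have h1 : ν (ν y) = y⁻¹ := by
        rw [map_inv, map_inv] at h
        exact (inv_eq_iff_eq_inv.2 h).symm
      have h2 : ν (ν (ν (ν y))) = y := by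
        rw [h1, ← h]
      rwa [hν3] at h2
  -- the three weights
  have hW1 := hw (fun χ => (charDegree (χ : G → ℂ) : ℂ)) (fun y hy => frob_deg_rel M hM P y hy)
  have hW2 := hw (fun χ => (χ : G → ℂ) t) (fun y hy => frob_reg_rel M hM P y hy t hreg)
  have hW3 := hw (fun χ => (χ : G → ℂ) t ^ 2 / (χ : G → ℂ) 1) (by
    intro y hy
    have hu : ∃ k : ℕ, orderOf (((y⁻¹ : (P : Subgroup G)) : G)) = p ^ k :=
      orderOf_sylow_coe' P y⁻¹
    have hni : ∀ g : G, (g * t * g⁻¹) * ((y⁻¹ : (P : Subgroup G)) : G) * (g * t * g⁻¹)⁻¹ ≠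
        ((y⁻¹ : (P : Subgroup G)) : G)⁻¹ := by
      intro g hg
      apply hninv y hy
      rw [isConj_iff]
      refine ⟨g * t * g⁻¹, ?_⟩
      rw [hg, Subgroup.coe_inv, inv_inv]
    have := class_rel_gen M hM t htt _ hu hni
    rw [← this]
    refine Finset.sum_congr rfl fun χ _ => ?_
    rw [Subgroup.coe_inv, inv_inv, mul_comm])
  have e1 := hW1.2 η hη
  have e2 := hW2.2 η hη
  have e3 := hW3.2 η hη
  -- the principal character
  have hd₀ : (charDegree ((principalChar G : IrrCharacter G) : G → ℂ) : ℂ) = 1 := by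
    rw [← irr_one_eq_charDegree (principalChar G).2]
    rfl
  have hp₀ : ∀ g : G, ((principalChar G : IrrCharacter G) : G → ℂ) g = 1 := fun g => rfl
  rw [hd₀] at e1
  rw [hp₀] at e2
  rw [hp₀, hp₀] at e3
  -- integrality
  obtain ⟨m₂, hm₂⟩ := Cfsg.Agent.Helper16.char_involution_int
    (isCharacter_of_isIrrCharacter χ₂.2) htt'
  obtain ⟨m₃, hm₃⟩ := Cfsg.Agent.Helper16.char_involution_int
    (isCharacter_of_isIrrCharacter χ₃.2) htt'
  obtain ⟨m, hm⟩ := Cfsg.Agent.Helper16.char_involution_int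
    (isCharacter_of_isIrrCharacter η.2) htt'
  have hη1 : η ≠ principalChar G := fun h => hY1 (h ▸ hη)
  have hn₂ := char_ne_degree_of_not_mem_normal t htK χ₂ hχ₂
  have hn₃ := char_ne_degree_of_not_mem_normal t htK χ₃ hχ₃
  have hn := char_ne_degree_of_not_mem_normal t htK η hη1
  rw [irr_one_eq_charDegree χ₂.2] at hn₂ e3
  rw [irr_one_eq_charDegree χ₃.2] at hn₃ e3
  rw [irr_one_eq_charDegree η.2] at hn e3
  rw [hm₂] at hn₂
  rw [hm₃] at hn₃
  rw [hm] at hn
  rw [hm₂, hm₃, hm] at e2 e3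
  set d₂ := charDegree (χ₂ : G → ℂ) with hd₂
  set d₃ := charDegree (χ₃ : G → ℂ) with hd₃
  set d := charDegree (η : G → ℂ) with hd
  have hd₂pos : 0 < d₂ := charDegree_pos χ₂.2
  have hd₃pos : 0 < d₃ := charDegree_pos χ₃.2
  have hdpos : 0 < d := charDegree_pos η.2
  have hd₂ne : (d₂ : ℂ) ≠ 0 := by exact_mod_cast hd₂pos.ne'
  have hd₃ne : (d₃ : ℂ) ≠ 0 := by exact_mod_cast hd₃pos.ne'
  have hdne : (d : ℂ) ≠ 0 := by exact_mod_cast hdpos.ne'
  have e3' : ((d₂ : ℂ) * d₃ * d + a₂ * (m₂ : ℂ) ^ 2 * d₃ * d + a₃ * (m₃ : ℂ) ^ 2 * d₂ * d =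
      δ * (m : ℂ) ^ 2 * d₂ * d₃) := by
    have h := e3
    field_simp at h
    linear_combination h
  have E1 : (1 : ℤ) + a₂ * (d₂ : ℤ) + a₃ * (d₃ : ℤ) = δ * (d : ℤ) := by exact_mod_cast e1
  have E2 : (1 : ℤ) + a₂ * m₂ + a₃ * m₃ = δ * m := by exact_mod_cast e2
  have E3 : ((d₂ : ℤ) * d₃ * d + a₂ * m₂ ^ 2 * d₃ * d + a₃ * m₃ ^ 2 * d₂ * d =
      δ * m ^ 2 * d₂ * d₃) := by exact_mod_cast e3'
  have N2 : m₂ ≠ (d₂ : ℤ) := by
    intro h
    apply hn₂
    rw [h]
    push_cast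
    rfl
  have N3 : m₃ ≠ (d₃ : ℤ) := by
    intro h
    apply hn₃
    rw [h]
    push_cast
    rfl
  have N : m ≠ (d : ℤ) := by
    intro h
    apply hn
    rw [h]
    push_cast
    rfl
  have := sign_pattern (d₂ : ℤ) d₃ d m₂ m₃ m a₂ a₃ δ (by exact_mod_cast hd₂pos)
    (by exact_mod_cast hd₃pos) (by exact_mod_cast hdpos) ha₂ ha₃ hδ N2 N3 N E1 E2 E3
  refine ⟨this.1, ?_⟩
  have h2 := this.2
  rw [← Int.isSquare_natCast_iff]
  push_cast
  exact h2

end Cfsg.Agent.Helper7.Frob
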