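import Mathlib
import Cfsg.Agent.Lib.Helper11.G2TDefs
import Cfsg.Agent.Lib.Lead.ChevU3
import Cfsg.Agent.Lib.Helper13.G2TCHIA

/-!
# S2371 — piece UREG (helper7): a regular element of `T(K)` centralizes no nontrivial element of `U(K)`
-/

set_option autoImplicit false

namespace Cfsg.Agent.Helper11.G2T

open Cfsg Cfsg.Lie Cfsg.Agent.Lead.Chev Cfsg.Agent.Lead.Tw

namespace UREG

variable {K : Type*} [Field K]

theorem nroots_eq : chevG2.nroots = 12 := by decide

theorem lt_of_mem_posRoots {r : ℕ} (hr : r ∈ chevG2.posRoots) : chevG2.IsPosRoot r := by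
  unfold ChevalleyDatum.posRoots at hr
  rw [List.mem_filter] at hr
  simpa using hr.2

/-- matrix form of `ev_conj` -/
theorem conj_x (h : GL chevG2.Idx K) (hh : h ∈ chevG2.diagonalSubgroup K) (v : ℕ) (hv : v < 12) (s : K) :
    (h : Matrix chevG2.Idx chevG2.Idx K) * chevG2.x K v s * ((h⁻¹ : GL chevG2.Idx K) : Matrix _ _ K) =
      chevG2.x K v (ev h v * s) := by
  have h1 := congrArg (fun g : GL chevG2.Idx K => (g : Matrix chevG2.Idx chevG2.Idx K))
    (ev_conj h hh v hv s)
  simp only [Units.val_mul, xGL_val] at h1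
  exact h1

/-- conjugating an ordered product factor by factor -/
theorem conj_prodL (h : GL chevG2.Idx K) (hh : h ∈ chevG2.diagonalSubgroup K) (L : List ℕ)
    (hL : ∀ r ∈ L, r < 12) (t : ℕ → K) :
    (h : Matrix chevG2.Idx chevG2.Idx K) * prodL chevG2 L t * ((h⁻¹ : GL chevG2.Idx K) : Matrix _ _ K) =
      prodL chevG2 L (fun v => ev h v * t v) := by
  induction L with
  | nil =>
    rw [prodL_nil, prodL_nil, mul_one, ← Units.val_mul, mul_inv_cancel]; rfl
  | cons r L ih =>
    rw [prodL_cons, prodL_cons, ← ih (fun s hs => hL s (List.mem_cons_of_mem _ hs)),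
      ← conj_x h hh r (hL r List.mem_cons_self) (t r)]
    have e : ((h⁻¹ : GL chevG2.Idx K) : Matrix _ _ K) * (h : Matrix chevG2.Idx chevG2.Idx K) = 1 := by
      rw [← Units.val_mul, inv_mul_cancel]; rfl
    calc (h : Matrix chevG2.Idx chevG2.Idx K) * (chevG2.x K r (t r) * prodL chevG2 L t) *
          ((h⁻¹ : GL chevG2.Idx K) : Matrix _ _ K)
        = (h : Matrix chevG2.Idx chevG2.Idx K) * chevG2.x K r (t r) * 1 * prodL chevG2 L t *
          ((h⁻¹ : GL chevG2.Idx K) : Matrix _ _ K) := by simp only [mul_one, mul_assoc]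
      _ = _ := by rw [← e]; simp only [mul_assoc]

end UREG

variable {K : Type*} [Field K]

theorem ureg (h : GL chevG2.Idx K) (hh : h ∈ chevG2.diagonalSubgroup K) (hreg : ∀ v < 12, ev h v ≠ 1)
    (u : GL chevG2.Idx K) (hu : u ∈ chevG2.posUnipotent K) (e : h * u * h⁻¹ = u) : u = 1 := by
  have hF := g2F K
  obtain ⟨t, ht⟩ := exists_prodL_of_mem chevG2 hF.xadd.add hF.xadd.zero hF.comm hF.poscomm u hu
  have hlt : ∀ r ∈ chevG2.posRoots, r < 12 := by
    intro r hr
    have := (UREG.lt_of_mem_posRoots hr).1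
    rwa [UREG.nroots_eq] at this
  have e1 := congrArg (fun g : GL chevG2.Idx K => (g : Matrix chevG2.Idx chevG2.Idx K)) e
  simp only [Units.val_mul] at e1
  rw [ht, UREG.conj_prodL h hh _ hlt t] at e1
  have hinj := prodL_posRoots_inj chevG2 hF.ufacts hF.xadd.add hF.xadd.zero _ _ e1
  have ht0 : ∀ r ∈ chevG2.posRoots, t r = 0 := by
    intro r hr
    have hpos := UREG.lt_of_mem_posRoots hr
    have h1 := hinj r hpos
    have h2 : (ev h r - 1) * t r = 0 := by rw [sub_mul, one_mul, h1, sub_self]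
    rcases mul_eq_zero.mp h2 with h3 | h3
    · exact absurd (sub_eq_zero.mp h3) (hreg r (hlt r hr))
    · exact h3
  have hu1 : (u : Matrix chevG2.Idx chevG2.Idx K) = 1 := by
    rw [ht, prodL_congr chevG2 _ t (fun _ => (0 : K)) ht0]
    exact prodL_zero chevG2 _ (fun s hs => (UREG.lt_of_mem_posRoots hs).1) hF.xadd.zero
  exact Units.ext hu1

end Cfsg.Agent.Helper11.G2T
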