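import Mathlib
import Cfsg.Agent.Lib.Helper8.GRDefs
import Cfsg.Agent.Lib.Helper4.XSDUAL

/-!
Piece GR-SQ of helper8's farm-out for S3085: an involutive lift `conj e * α` of the product `α` of three
commuting lifted transvections forces `e` to anticommute with `v₁, v₂, v₃`.
-/

set_option autoImplicit false
set_option linter.unusedVariables false

namespace Cfsg.Agent.Helper8.GR

open Cfsg.Agent.Helper8.XS

theorem sq_tw_comm_of {Q : Type*} [Group Q] {f v : Q} (e : Q) (hf : f * v = v * f) :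
    f * tw v e = tw v e * f := by
  unfold tw
  split_ifs
  · rw [mul_one, one_mul]
  · exact hf

theorem sq_sq_comm {Q : Type*} [Group Q] {z : Q} (h : XQ z) (f e : Q) :
    f * (e * e) = (e * e) * f := by
  rcases h.hsq e with h1 | h1
  · rw [h1, mul_one, one_mul]
  · rw [h1]; exact h.hcen f

theorem sq_anti_mid {Q : Type*} [Group Q] {f A v B : Q} (hA : f * A = A * f) (hB : f * B = B * f)
    (hv : f * v ≠ v * f) : f * (A * v * B) ≠ (A * v * B) * f := by
  intro H
  apply hv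
  have e1 : f * (A * v * B) = A * (f * v) * B := by
    rw [← mul_assoc, ← mul_assoc, hA, mul_assoc A]
  have e2 : (A * v * B) * f = A * (v * f) * B := by
    rw [mul_assoc (A * v), ← hB, ← mul_assoc, mul_assoc A]
  rw [e1, e2] at H
  exact mul_left_cancel (mul_right_cancel H)

theorem sq_mul_comm {Q : Type*} [Group Q] {f a b : Q} (ha : f * a = a * f) (hb : f * b = b * f) :
    f * (a * b) = (a * b) * f := by
  rw [← mul_assoc, ha, mul_assoc, hb, mul_assoc]

/-- Core of GR-SQ with the two conclusions of GR-ALPHA as hypotheses. -/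
theorem sq_core {Q : Type*} [Group Q] {z v₁ v₂ v₃ : Q} (h : XQ z) (t : Trip z v₁ v₂ v₃)
    (α : MulAut Q) (hsq : α * α = MulAut.conj (v₁ * v₂ * v₃))
    (hα : ∀ e : Q, α e = e * tw v₃ e * tw v₂ e * tw v₁ e) (e : Q)
    (he : (MulAut.conj e * α) * (MulAut.conj e * α) = 1) :
    e * v₁ ≠ v₁ * e ∧ e * v₂ ≠ v₂ * e ∧ e * v₃ ≠ v₃ * e := by
  -- `c = e * α e * v` is central
  have key : ∀ x : Q, (e * α e * (v₁ * v₂ * v₃)) * x = x * (e * α e * (v₁ * v₂ * v₃)) := by
    intro x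
    have h1 := DFunLike.congr_fun he x
    have h2 : α (α x) = (v₁ * v₂ * v₃) * x * (v₁ * v₂ * v₃)⁻¹ := by
      have := DFunLike.congr_fun hsq x
      simpa only [MulAut.mul_apply, MulAut.conj_apply] using this
    rw [MulAut.mul_apply, MulAut.mul_apply, MulAut.mul_apply, MulAut.conj_apply, MulAut.conj_apply,
      MulAut.one_apply, map_mul, map_mul, map_inv, h2] at h1
    calc (e * α e * (v₁ * v₂ * v₃)) * x
        = (e * (α e * ((v₁ * v₂ * v₃) * x * (v₁ * v₂ * v₃)⁻¹) * (α e)⁻¹) * e⁻¹) *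
            (e * α e * (v₁ * v₂ * v₃)) := by group
      _ = x * (e * α e * (v₁ * v₂ * v₃)) := by rw [h1]
  rw [hα e] at key
  obtain ⟨f₁, f11, f12, f13⟩ := t.i1
  obtain ⟨f₂, f21, f22, f23⟩ := t.i2
  obtain ⟨f₃, f31, f32, f33⟩ := t.i3
  refine ⟨?_, ?_, ?_⟩
  · intro hc
    rw [tw_comm hc, mul_one] at key
    have hA : f₁ * (e * e * tw v₃ e * tw v₂ e) = (e * e * tw v₃ e * tw v₂ e) * f₁ :=
      sq_mul_comm (sq_mul_comm (sq_sq_comm h f₁ e) (sq_tw_comm_of e f13)) (sq_tw_comm_of e f12)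
    have hB : f₁ * (v₂ * v₃) = (v₂ * v₃) * f₁ := sq_mul_comm f12 f13
    have := sq_anti_mid hA hB f11
    apply this
    have e1 : e * e * tw v₃ e * tw v₂ e * v₁ * (v₂ * v₃) =
        e * (e * tw v₃ e * tw v₂ e) * (v₁ * v₂ * v₃) := by simp only [mul_assoc]
    rw [e1]
    exact (key f₁).symm
  · intro hc
    rw [tw_comm hc, mul_one] at key
    have hA : f₂ * (e * e * tw v₃ e * tw v₁ e * v₁) = (e * e * tw v₃ e * tw v₁ e * v₁) * f₂ :=
      sq_mul_comm (sq_mul_comm (sq_mul_comm (sq_sq_comm h f₂ e) (sq_tw_comm_of e f23))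
        (sq_tw_comm_of e f21)) f21
    have := sq_anti_mid hA f23 f22
    apply this
    have e1 : e * e * tw v₃ e * tw v₁ e * v₁ * v₂ * v₃ =
        e * (e * tw v₃ e * tw v₁ e) * (v₁ * v₂ * v₃) := by simp only [mul_assoc]
    rw [e1]
    exact (key f₂).symm
  · intro hc
    rw [tw_comm hc, mul_one] at key
    have hA : f₃ * (e * e * tw v₂ e * tw v₁ e * v₁ * v₂) = (e * e * tw v₂ e * tw v₁ e * v₁ * v₂) * f₃ :=
      sq_mul_comm (sq_mul_comm (sq_mul_comm (sq_mul_comm (sq_sq_comm h f₃ e) (sq_tw_comm_of e f32))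
        (sq_tw_comm_of e f31)) f31) f32
    have h1 : f₃ * (1 : Q) = 1 * f₃ := by rw [mul_one, one_mul]
    have := sq_anti_mid hA h1 f33
    apply this
    have e1 : e * e * tw v₂ e * tw v₁ e * v₁ * v₂ * v₃ * 1 =
        e * (e * tw v₂ e * tw v₁ e) * (v₁ * v₂ * v₃) := by simp only [mul_assoc, mul_one]
    rw [e1]
    exact (key f₃).symm

end Cfsg.Agent.Helper8.GR
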