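import Mathlib
import Cfsg.Agent.Lib.Helper8.GRDefs
import Cfsg.Agent.Lib.Helper7.GRSQ
import Cfsg.Agent.Lib.Helper18.GRALPHA

/-!
Piece GR-SQ of helper8's farm-out for S3085, exact skeleton signature (`sq_core` + helper18's `alpha`).
-/

set_option autoImplicit false
set_option linter.unusedVariables false

namespace Cfsg.Agent.Helper8.GR

open Cfsg.Agent.Helper8.XS

theorem sq {Q : Type*} [Group Q] {z v₁ v₂ v₃ : Q} (h : XQ z) (t : Trip z v₁ v₂ v₃)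
    (ρ₁ ρ₂ ρ₃ : MulAut Q) (h1 : IsRho v₁ ρ₁) (h2 : IsRho v₂ ρ₂) (h3 : IsRho v₃ ρ₃) (e : Q)
    (he : (MulAut.conj e * (ρ₁ * ρ₂ * ρ₃)) * (MulAut.conj e * (ρ₁ * ρ₂ * ρ₃)) = 1) :
    e * v₁ ≠ v₁ * e ∧ e * v₂ ≠ v₂ * e ∧ e * v₃ ≠ v₃ * e :=
  sq_core h t (ρ₁ * ρ₂ * ρ₃) (alpha h t ρ₁ ρ₂ ρ₃ h1 h2 h3).1 (alpha h t ρ₁ ρ₂ ρ₃ h1 h2 h3).2 e he

end Cfsg.Agent.Helper8.GR
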