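import Mathlib
import Cfsg.Agent.Lib.Helper22.PrimeDegree
import Cfsg.Agent.Lib.Helper22.SharpFour
import Cfsg.Agent.Lib.Helper1.SolvableBasic

/-!
# Auxiliary lemmas for the HallSn piece HA-BURN (helper7)

A solvable transitive group of odd prime degree has a regular normal subgroup `Q` of prime order;
every involution inverts `Q`, so the group contains no Klein four-group.
-/

set_option autoImplicit false
set_option linter.style.haveILetI false

namespace Cfsg.Agent.Helper7.HABurn

open MulAction

section core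

variable {H : Type*} [Group H] {Ω : Type*} [MulAction H Ω]

/-- an element with a fixed point centralizing a transitive subgroup acts trivially -/
theorem fixes_all_of_comm (Q : Subgroup H) (htrQ : ∀ x y : Ω, ∃ g ∈ Q, g • x = y) (c : H)
    (hc : ∀ g ∈ Q, c * g = g * c) (α : Ω) (hα : c • α = α) : ∀ x : Ω, c • x = x := by
  intro x
  obtain ⟨g, hg, rfl⟩ := htrQ α x
  rw [← mul_smul, hc g hg, mul_smul, hα]

variable [Fintype Ω] [DecidableEq Ω]

/-- an involution in odd degree has a fixed point -/
theorem exists_fixed_of_invol (hodd : Odd (Fintype.card Ω)) {u : H} (hu : u * u = 1) :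
    ∃ x : Ω, u • x = x := by
  have h := Cfsg.Agent.Helper22.SharpFour.card_mod_fix (α := Ω) hu
  have hne : (Finset.univ.filter (fun x : Ω => u • x = x)).Nonempty := by
    rw [← Finset.card_pos]
    rcases hodd with ⟨k, hk⟩
    omega
  obtain ⟨x, hx⟩ := hne
  exact ⟨x, (Finset.mem_filter.mp hx).2⟩

/-- every nontrivial involution inverts a transitive normal subgroup of odd prime order -/
theorem inverts (hfaith : ∀ g : H, (∀ x : Ω, g • x = x) → g = 1) (hodd : Odd (Fintype.card Ω))
    (Q : Subgroup H) [Q.Normal] {q : ℕ} [Fact q.Prime] (hQ : Nat.card Q = q)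
    (htrQ : ∀ x y : Ω, ∃ g ∈ Q, g • x = y) {u : H} (hu : u * u = 1) (hu1 : u ≠ 1) :
    ∀ g ∈ Q, u * g * u⁻¹ = g⁻¹ := by
  have huinv : u⁻¹ = u := inv_eq_of_mul_eq_one_left hu
  -- `Q` is commutative
  have hcomm : ∀ a ∈ Q, ∀ b ∈ Q, a * b = b * a := by
    intro a ha b hb
    haveI : IsCyclic Q := isCyclic_of_prime_card hQ
    letI : CommGroup Q := IsCyclic.commGroup
    have := mul_comm (⟨a, ha⟩ : Q) ⟨b, hb⟩
    exact congrArg Subtype.val this
  intro g hg
  have hgc : u * g * u⁻¹ ∈ Q := Subgroup.Normal.conj_mem inferInstance g hg u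
  obtain ⟨h, hh⟩ : ∃ h : H, h = g * (u * g * u⁻¹) := ⟨_, rfl⟩
  have hhQ : h ∈ Q := by rw [hh]; exact Q.mul_mem hg hgc
  have c1 : (u * g * u⁻¹) * g = g * (u * g * u⁻¹) := hcomm _ hgc _ hg
  have huh : u * h = h * u := by
    calc u * h = (u * g * u⁻¹) * (u * u) * g * u⁻¹ := by rw [hh]; group
      _ = (u * g * u⁻¹) * g * u⁻¹ := by rw [hu, mul_one]
      _ = g * (u * g * u⁻¹) * u⁻¹ := by rw [c1]
      _ = h * u := by rw [← hh, huinv]
  by_cases h1 : h = 1
  · rw [hh] at h1
    exact eq_inv_of_mul_eq_one_right h1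
  · exfalso
    apply hu1
    apply hfaith
    obtain ⟨α, hα⟩ := exists_fixed_of_invol (Ω := Ω) hodd hu
    apply fixes_all_of_comm Q htrQ u _ α hα
    intro k hk
    have hne : (⟨h, hhQ⟩ : Q) ≠ 1 := fun e => h1 (congrArg Subtype.val e)
    have hmem := mem_zpowers_of_prime_card (G := Q) hQ hne (g' := ⟨k, hk⟩)
    obtain ⟨n, hn⟩ := Subgroup.mem_zpowers_iff.mp hmem
    have hk' : k = h ^ n := by
      have := congrArg Subtype.val hn
      simpa using this.symm
    rw [hk']
    exact ((Commute.zpow_right (show Commute u h from huh) n)).eq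

end core

section main

variable {H : Type*} [Group H] [Finite H] {Ω : Type*} [Fintype Ω] [DecidableEq Ω] [MulAction H Ω]

/-- a solvable transitive group of odd prime degree contains no Klein four-group -/
theorem core_false [FaithfulSMul H Ω] [IsPretransitive H Ω] [Group.IsSolvable H] {q : ℕ}
    [hq : Fact q.Prime] (hcard : Fintype.card Ω = q) (hq2 : q ≠ 2) {s t : H} (hs : s * s = 1)
    (ht : t * t = 1) (hst : s * t = t * s) (hs1 : s ≠ 1) (ht1 : t ≠ 1) (hne : s ≠ t) : False := by
  have hfaith : ∀ g : H, (∀ x : Ω, g • x = x) → g = 1 :=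
    Cfsg.Agent.Helper22.PrimeDeg.faith (H := H) (α := Ω)
  have hodd : Odd (Fintype.card Ω) := by
    rw [hcard]; exact hq.out.odd_of_ne_two hq2
  haveI : Nontrivial H := ⟨⟨s, 1, hs1⟩⟩
  obtain ⟨A, hAchar, hAne, hAc⟩ := Cfsg.Agent.Helper1.exists_normal_abelian_of_solvable H
  haveI : A.Normal := inferInstance
  haveI : IsPreprimitive H Ω :=
    IsPreprimitive.of_prime_card (by rw [Nat.card_eq_fintype_card, hcard]; exact hq.out)
  haveI hAtr : IsPretransitive A Ω :=
    Cfsg.Agent.Helper22.isPretransitive_of_normal_of_ne_bot (X := Ω) A hAne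
  have htrA : ∀ x y : Ω, ∃ g ∈ A, g • x = y := by
    intro x y
    obtain ⟨g, hg⟩ := MulAction.exists_smul_eq A x y
    exact ⟨g.1, g.2, hg⟩
  have hcommA : ∀ a ∈ A, ∀ b ∈ A, a * b = b * a := by
    intro a ha b hb
    have := hAc.is_comm.comm (⟨a, ha⟩ : A) ⟨b, hb⟩
    exact congrArg Subtype.val this
  -- `A` is regular, so of order `q`
  obtain ⟨α⟩ : Nonempty Ω := by
    rw [← Fintype.card_pos_iff, hcard]; exact hq.out.pos
  have hstab : stabilizer A α = ⊥ := by
    rw [Subgroup.eq_bot_iff_forall]
    intro a ha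
    rw [mem_stabilizer_iff] at ha
    apply Subtype.ext
    apply hfaith
    exact fixes_all_of_comm A htrA a.1 (fun g hg => hcommA _ a.2 _ hg) α ha
  have hAcard : Nat.card A = q := by
    have := index_stabilizer_of_transitive A α
    rw [hstab, Subgroup.index_bot, Nat.card_eq_fintype_card (α := Ω), hcard] at this
    exact this
  have hinvS := inverts hfaith hodd A hAcard htrA hs hs1
  have hinvT := inverts hfaith hodd A hAcard htrA ht ht1
  have hst2 : (s * t) * (s * t) = 1 := by
    calc (s * t) * (s * t) = s * (t * s) * t := by group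
      _ = s * (s * t) * t := by rw [hst]
      _ = (s * s) * (t * t) := by group
      _ = 1 := by rw [hs, ht, one_mul]
  have hcent : ∀ g ∈ A, (s * t) * g = g * (s * t) := by
    intro g hg
    have h1 := hinvT g hg
    have h2 := hinvS g⁻¹ (A.inv_mem hg)
    rw [inv_inv] at h2
    have : (s * t) * g * (s * t)⁻¹ = g := by
      calc (s * t) * g * (s * t)⁻¹ = s * (t * g * t⁻¹) * s⁻¹ := by group
        _ = s * g⁻¹ * s⁻¹ := by rw [h1]
        _ = g := h2
    calc (s * t) * g = ((s * t) * g * (s * t)⁻¹) * (s * t) := by group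
      _ = g * (s * t) := by rw [this]
  obtain ⟨β, hβ⟩ := exists_fixed_of_invol (Ω := Ω) hodd hst2
  have hst1 : s * t = 1 := hfaith _ (fixes_all_of_comm A htrA (s * t) hcent β hβ)
  apply hne
  have htinv : t⁻¹ = t := inv_eq_of_mul_eq_one_left ht
  rw [← htinv]
  exact eq_inv_of_mul_eq_one_left hst1

end main

/-- two commuting involutions generate a 2-group -/
theorem isPGroup_closure_pair {G : Type*} [Group G] {s t : G} (hs : s * s = 1) (ht : t * t = 1)
    (hst : s * t = t * s) : IsPGroup 2 (Subgroup.closure ({s, t} : Set G)) := by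
  have hcomm : ∀ x ∈ Subgroup.closure ({s, t} : Set G), ∀ y ∈ Subgroup.closure ({s, t} : Set G),
      x * y = y * x := by
    have hle : Subgroup.closure ({s, t} : Set G) ≤
        Subgroup.centralizer (Subgroup.closure ({s, t} : Set G) : Set G) := by
      rw [Subgroup.centralizer_closure, Subgroup.closure_le]
      intro x hx
      rw [SetLike.mem_coe, Subgroup.mem_centralizer_iff]
      intro y hy
      rcases hx with rfl | rfl <;> rcases hy with rfl | rfl
      · rfl
      · exact hst.symm
      · exact hst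
      · rfl
    intro x hx y hy
    have := (Subgroup.mem_centralizer_iff.mp (hle hx)) y hy
    exact this.symm
  have hsq : ∀ x ∈ Subgroup.closure ({s, t} : Set G), x * x = 1 := by
    intro x hx
    induction hx using Subgroup.closure_induction with
    | mem y hy =>
      rcases hy with rfl | rfl
      · exact hs
      · exact ht
    | one => exact one_mul 1
    | mul a b ha hb iha ihb =>
      calc a * b * (a * b) = a * (b * a) * b := by group
        _ = a * (a * b) * b := by rw [hcomm b hb a ha]
        _ = (a * a) * (b * b) := by group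
        _ = 1 := by rw [iha, ihb, one_mul]
    | inv a ha iha =>
      have : a⁻¹ = a := inv_eq_of_mul_eq_one_left iha
      rw [this, iha]
  intro g
  refine ⟨1, ?_⟩
  apply Subtype.ext
  rw [pow_one, sq]
  exact hsq g.1 g.2

end Cfsg.Agent.Helper7.HABurn
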