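import Mathlib
import Cfsg.Agent.Lib.Helper7.Homo8
import Cfsg.Agent.Lib.Helper24.GlaubPGroup

/-!
# Brauer's theorem on homocyclic Sylow 2-subgroups: the nontrivial linear character
(helper7's library)
-/

set_option autoImplicit false

namespace Cfsg.Agent.Helper7.Homo

open Cfsg Cfsg.Agent.Helper24 Cfsg.Agent.Helper23 Cfsg.Agent.Helper23.Blk
open scoped ComplexConjugate

universe u

/-- If the normalizer of the homocyclic Sylow `2`-subgroup `P` (of exponent at least `4`) does
not centralize it, there is a nonprincipal irreducible character which is identically one on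
`P`. -/
theorem exists_char_trivial_on_sylow {G : Type u} [Group G] [Finite G] (P : Sylow 2 G) (m : ℕ)
    (hm : 2 ≤ m) (e : (P : Subgroup G) ≃* Multiplicative (ZMod (2 ^ m) × ZMod (2 ^ m)))
    (hNC : ¬ Subgroup.normalizer ((P : Subgroup G) : Set G) ≤
      Subgroup.centralizer ((P : Subgroup G) : Set G)) :
    ∃ χ : IrrCharacter G, χ ≠ principalChar G ∧
      ∀ a ∈ (P : Subgroup G), (χ : G → ℂ) a = 1 := by
  classical
  obtain ⟨M, hM⟩ := Cfsg.Agent.Helper24.Glaub.exists_isPModular Nat.prime_two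
  haveI hMp : M.IsPrime := hM.2.1.isPrime
  obtain ⟨ν, hν3, hfpf, hconj, hfus, hnil⟩ := homocyclic_fusion P m (by omega) e hNC
  have hcomm := homocyclic_comm e
  haveI : Fintype (P : Subgroup G) := Fintype.ofFinite _
  letI : Fintype (IrrCharacter (P : Subgroup G)) := irrFintype
  have hcard : Nat.card (P : Subgroup G) = 2 ^ (m + m) := by
    rw [Nat.card_congr e.toEquiv]
    change Nat.card (ZMod (2 ^ m) × ZMod (2 ^ m)) = _
    rw [Nat.card_prod, Nat.card_zmod, pow_add]
  have h16 : 16 ∣ Nat.card (P : Subgroup G) := by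
    rw [hcard]
    have : (16 : ℕ) = 2 ^ 4 := by norm_num
    rw [this]
    exact pow_dvd_pow 2 (by omega)
  -- an involution
  haveI : Fact (Nat.Prime 2) := ⟨Nat.prime_two⟩
  obtain ⟨z, hzo⟩ := exists_prime_orderOf_dvd_card' (G := (P : Subgroup G)) 2
    (by rw [hcard]; exact dvd_pow_self 2 (by omega))
  have hz2 : z * z = 1 := by
    have := pow_orderOf_eq_one z
    rwa [hzo, pow_two] at this
  have hz1 : z ≠ 1 := by
    intro h
    rw [h, orderOf_one] at hzo
    norm_num at hzo
  -- an element of order at least four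
  set p : (P : Subgroup G) := e.symm (Multiplicative.ofAdd ((1 : ZMod (2 ^ m)), (0 : ZMod (2 ^ m))))
    with hpdef
  have hp : p * p ≠ 1 := by
    intro h
    have h1 : e (p * p) = 1 := by rw [h, map_one]
    rw [map_mul, hpdef, MulEquiv.apply_symm_apply, ← ofAdd_add] at h1
    have h2 : ((1 : ZMod (2 ^ m)), (0 : ZMod (2 ^ m))) + ((1 : ZMod (2 ^ m)), (0 : ZMod (2 ^ m)))
        = 0 := by
      have := congrArg Multiplicative.toAdd h1
      simpa using this
    have h3 : (1 : ZMod (2 ^ m)) + 1 = 0 := by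
      have := congrArg Prod.fst h2
      simpa using this
    have h4 : ((2 : ℕ) : ZMod (2 ^ m)) = 0 := by
      push_cast
      rw [← h3]
      norm_num
    rw [ZMod.natCast_eq_zero_iff] at h4
    have h5 : 2 ^ m ≤ 2 := Nat.le_of_dvd (by norm_num) h4
    have h6 : 2 ^ 2 ≤ 2 ^ m := Nat.pow_le_pow_right (by norm_num) hm
    omega
  have hx₀ : principalChar G ∈ pbFinset M G := mem_pbFinset.2 principalChar_mem_principalBlock
  obtain ⟨χ, hχX, hχ0, hχ1⟩ := exists_trivial_restriction hcomm h16 ν hν3 hfpf (pbFinset M G)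
    (fun (χ : IrrCharacter G) (a : (P : Subgroup G)) => (χ : G → ℂ) a)
    (fun χ => charDegree (χ : G → ℂ))
    (fun χ _ => isCharacter_restrict (P : Subgroup G) (isCharacter_of_isIrrCharacter χ.2))
    (fun χ _ => irr_one_eq_charDegree χ.2)
    (fun χ _ => charDegree_pos χ.2)
    (principalChar G) hx₀ (fun _ => rfl)
    (fun a a' ha ha' => homo_col M hM P hcomm ν hν3 hfpf hconj hfus hnil a a' ha ha')
    (fun a ha => homo_deg_rel M hM P a ha)
    z p hz1 hz2 hp
    (homo_class_rel M hM P ν hν3 hfpf hfus z p hz2 hp)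
  exact ⟨χ, hχ0, fun a ha => hχ1 ⟨a, ha⟩⟩

end Cfsg.Agent.Helper7.Homo
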