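import Mathlib
import Cfsg.Agent.Lib.Helper7.Homo9

/-!
# Brauer's theorem on homocyclic Sylow 2-subgroups: the group-theoretic conclusion
(helper7's library)
-/

set_option autoImplicit false

namespace Cfsg.Agent.Helper7.Homo

open Cfsg Cfsg.Agent.Helper24

universe u

/-- the `2'`-core is trivial when there are no normal subgroups of odd order -/
theorem pPrimeCore_two_eq_bot {G : Type*} [Group G] [Finite G]
    (hO : ∀ N : Subgroup G, N.Normal → Odd (Nat.card N) → N = ⊥) : Cfsg.pPrimeCore 2 G = ⊥ :=
  hO _ (Cfsg.Agent.Helper22.pPrimeCore_normal 2)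
    (Nat.coprime_two_right.1 (Cfsg.Agent.Helper22.card_pPrimeCore_coprime 2))

/-- a normal subgroup inherits the absence of normal subgroups of odd order -/
theorem no_odd_normal_of_normal {G : Type*} [Group G] [Finite G]
    (hO : ∀ N : Subgroup G, N.Normal → Odd (Nat.card N) → N = ⊥) (K : Subgroup G) [K.Normal] :
    ∀ N : Subgroup K, N.Normal → Odd (Nat.card N) → N = ⊥ := by
  intro N hN hodd
  have h1 : N ≤ Cfsg.pPrimeCore 2 K :=
    Cfsg.Agent.Helper22.le_pPrimeCore 2 N hN (Nat.coprime_two_right.2 hodd)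
  have h2 := Cfsg.Agent.Helper22.pPrimeCore_subgroup_le 2 K
  rw [pPrimeCore_two_eq_bot hO, le_bot_iff,
    (Subgroup.map_eq_bot_iff_of_injective _ K.subtype_injective)] at h2
  rw [h2] at h1
  exact le_bot_iff.1 h1

/-- **Brauer.** A homocyclic Sylow `2`-subgroup of exponent at least four is normal when there
are no nontrivial normal subgroups of odd order. -/
theorem homocyclic_sylow_normal : ∀ (n : ℕ) (G : Type u) [Group G] [Finite G], Nat.card G = n →
    ∀ (P : Sylow 2 G) (m : ℕ), 2 ≤ m →
    ((P : Subgroup G) ≃* Multiplicative (ZMod (2 ^ m) × ZMod (2 ^ m))) →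
    (∀ N : Subgroup G, N.Normal → Odd (Nat.card N) → N = ⊥) → (P : Subgroup G).Normal := by
  intro n
  induction n using Nat.strong_induction_on with
  | _ n ih =>
  intro G _ _ hn P m hm e hO
  haveI : Fact (Nat.Prime 2) := ⟨Nat.prime_two⟩
  have hcore := pPrimeCore_two_eq_bot hO
  by_cases hNC : Subgroup.normalizer ((P : Subgroup G) : Set G) ≤
      Subgroup.centralizer ((P : Subgroup G) : Set G)
  · obtain ⟨k, hk⟩ := index_pPrimeCore_of_normalizer_le_centralizer P hNC
    rw [hcore, Subgroup.index_bot] at hk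
    have hG : IsPGroup 2 G := IsPGroup.of_card hk
    have htop : IsPGroup 2 (⊤ : Subgroup G) := by
      intro x
      obtain ⟨j, hj⟩ := hG (x : G)
      exact ⟨j, Subtype.ext (by rw [Subgroup.coe_pow, hj]; rfl)⟩
    have h1 : (⊤ : Subgroup G) = (P : Subgroup G) := P.is_maximal' htop le_top
    rw [← h1]
    infer_instance
  · obtain ⟨χ, hχ0, hχ1⟩ := exists_char_trivial_on_sylow P m hm e hNC
    have hχc := isCharacter_of_isIrrCharacter χ.2
    have hχ11 : (χ : G → ℂ) 1 = 1 := hχ1 1 (one_mem _)
    set K : Subgroup G := charKer hχc with hK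
    haveI hKn : K.Normal := charKer_normal hχc
    have hPK : (P : Subgroup G) ≤ K := by
      intro a ha
      rw [hK, mem_charKer, hχ1 a ha, hχ11]
    have hKtop : K ≠ ⊤ := by
      intro h
      apply hχ0
      apply Subtype.ext
      funext g
      have hg : g ∈ K := by rw [h]; exact Subgroup.mem_top g
      rw [hK, mem_charKer, hχ11] at hg
      rw [hg]
      rfl
    have hcardK : Nat.card K < n := by
      rw [← hn]
      apply lt_of_le_of_ne (Subgroup.card_le_card_group K)
      intro h
      exact hKtop (Subgroup.eq_top_of_card_eq K h)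
    -- the Sylow subgroup of `K`
    set P' : Sylow 2 K := P.subtype hPK with hP'
    have e1 : ((P' : Subgroup K)) ≃* (P : Subgroup G) :=
      (MulEquiv.subgroupCongr (Sylow.coe_subtype P hPK)).trans
        (Subgroup.subgroupOfEquivOfLe hPK)
    have hnorm' : (P' : Subgroup K).Normal :=
      ih (Nat.card K) hcardK K rfl P' m hm (e1.trans e) (no_odd_normal_of_normal hO K)
    rw [hP', Sylow.coe_subtype, Subgroup.normal_subgroupOf_iff_le_normalizer hPK] at hnorm'
    have hfr : Subgroup.normalizer ((P : Subgroup G) : Set G) ⊔ K = ⊤ :=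
      Sylow.normalizer_sup_eq_top' P hPK
    rw [sup_of_le_left hnorm'] at hfr
    exact Subgroup.normalizer_eq_top_iff.1 hfr

/-- the centralizer of a normal homocyclic Sylow `2`-subgroup, when there are no nontrivial
normal subgroups of odd order -/
theorem homocyclic_centralizer_eq {G : Type u} [Group G] [Finite G] (P : Sylow 2 G)
    (hcomm : ∀ x y : (P : Subgroup G), x * y = y * x) (hPn : (P : Subgroup G).Normal)
    (hO : ∀ N : Subgroup G, N.Normal → Odd (Nat.card N) → N = ⊥) :
    Subgroup.centralizer ((P : Subgroup G) : Set G) = (P : Subgroup G) := by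
  haveI : Fact (Nat.Prime 2) := ⟨Nat.prime_two⟩
  haveI := hPn
  set C : Subgroup G := Subgroup.centralizer ((P : Subgroup G) : Set G) with hC
  haveI hCn : C.Normal := Subgroup.normal_centralizer
  have hPC : (P : Subgroup G) ≤ C := by
    intro x hx
    rw [hC, Subgroup.mem_centralizer_iff]
    intro y hy
    exact congrArg Subtype.val (hcomm ⟨y, hy⟩ ⟨x, hx⟩)
  have hNC : Subgroup.normalizer (((P.subtype hPC : Sylow 2 C) : Subgroup C) : Set C) ≤
      Subgroup.centralizer (((P.subtype hPC : Sylow 2 C) : Subgroup C) : Set C) := by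
    intro h _
    rw [Subgroup.mem_centralizer_iff]
    intro y hy
    rw [Sylow.coe_subtype, SetLike.mem_coe, Subgroup.mem_subgroupOf] at hy
    apply Subtype.ext
    exact (Subgroup.mem_centralizer_iff.1 h.2) y hy
  obtain ⟨k, hk⟩ := index_pPrimeCore_of_normalizer_le_centralizer (P.subtype hPC) hNC
  have h2 := Cfsg.Agent.Helper22.pPrimeCore_subgroup_le 2 C
  rw [pPrimeCore_two_eq_bot hO, le_bot_iff,
    (Subgroup.map_eq_bot_iff_of_injective _ C.subtype_injective)] at h2
  rw [h2, Subgroup.index_bot] at hk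
  have hCp : IsPGroup 2 C := IsPGroup.of_card hk
  exact P.is_maximal' hCp hPC

end Cfsg.Agent.Helper7.Homo
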