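import Mathlib
import Cfsg.Agent.Lib.Helper3.J1SpecDefs

/-!
Piece S3627-COMB of helper3's farm-out: the finite lcm check over `specJ1`.
-/

set_option autoImplicit false

namespace Cfsg.Agent.Helper3.J1Spec

/-- `specJ1` as a list. -/
def comb_L : List ℕ := [1, 2, 3, 5, 6, 7, 10, 11, 15, 19]

/-- Explicit witness `(e, a', b', c')` computed from the lcm `l`. -/
def comb_wit (l : ℕ) : ℕ × ℕ × ℕ × ℕ :=
  let e7 := if l % 7 = 0 then 7 else 1
  let m := Nat.gcd l 30
  let r1 := if l % 11 = 0 then 11 else 1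
  let r2 := if l % 19 = 0 then 19 else 1
  if m = 30 then (if r1 = 11 ∧ r2 = 19 then (2, 15, 11, 19) else (e7, 6, 5, r1 * r2))
  else (e7, m, r1, r2)

/-- The Boolean check for one quadruple. -/
def comb_ok (a b c d : ℕ) : Bool :=
  let l := Nat.lcm a (Nat.lcm b (Nat.lcm c d))
  let w := comb_wit l
  (w.1 == 1 || w.1 == 2 || w.1 == 7) && comb_L.contains w.2.1 && comb_L.contains w.2.2.1 &&
    comb_L.contains w.2.2.2 &&
    (Nat.lcm w.1 (Nat.lcm w.2.1 (Nat.lcm w.2.2.1 w.2.2.2)) == l)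

theorem comb_all : (comb_L.all fun a => comb_L.all fun b => comb_L.all fun c =>
    comb_L.all fun d => comb_ok a b c d) = true := by
  decide +kernel

theorem comb_mem_L {x : ℕ} (hx : x ∈ specJ1) : x ∈ comb_L := by
  simp only [specJ1, Finset.mem_insert, Finset.mem_singleton] at hx
  simp only [comb_L, List.mem_cons, List.not_mem_nil, or_false]
  exact hx

theorem comb_mem_spec {x : ℕ} (hx : comb_L.contains x = true) : x ∈ specJ1 := by
  rw [List.contains_iff_mem] at hx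
  simp only [comb_L, List.mem_cons, List.not_mem_nil, or_false] at hx
  simp only [specJ1, Finset.mem_insert, Finset.mem_singleton]
  exact hx

theorem comb (a b c d : ℕ) (ha : a ∈ specJ1) (hb : b ∈ specJ1) (hc : c ∈ specJ1)
    (hd : d ∈ specJ1) :
    ∃ e a' b' c' : ℕ, (e = 1 ∨ e = 2 ∨ e = 7) ∧ a' ∈ specJ1 ∧ b' ∈ specJ1 ∧ c' ∈ specJ1 ∧
      Nat.lcm e (Nat.lcm a' (Nat.lcm b' c')) = Nat.lcm a (Nat.lcm b (Nat.lcm c d)) := by
  have h := comb_all
  rw [List.all_eq_true] at h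
  have h1 := h a (comb_mem_L ha)
  rw [List.all_eq_true] at h1
  have h2 := h1 b (comb_mem_L hb)
  rw [List.all_eq_true] at h2
  have h3 := h2 c (comb_mem_L hc)
  rw [List.all_eq_true] at h3
  have h4 := h3 d (comb_mem_L hd)
  unfold comb_ok at h4
  simp only [Bool.and_eq_true, Bool.or_eq_true, beq_iff_eq] at h4
  obtain ⟨⟨⟨⟨he, ha'⟩, hb'⟩, hc'⟩, hl⟩ := h4
  exact ⟨_, _, _, _, by rcases he with (he | he) | he <;> simp [he], comb_mem_spec ha',
    comb_mem_spec hb', comb_mem_spec hc', hl⟩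

end Cfsg.Agent.Helper3.J1Spec
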