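import Mathlib
import Cfsg.Agent.Lib.Helper7.JC45PACTCore
import Cfsg.Agent.Lib.Helper16.JC45AB

/-!
# S2945 piece PACT (helper7): the action lemma (`pact_core` + piece AB)
-/

set_option autoImplicit false
set_option linter.unusedSectionVars false
set_option linter.unusedVariables false

namespace Cfsg.Agent.Helper15.JC45

open Cfsg

universe u

variable {G : Type u} [Group G] [Finite G]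

theorem pact {K₁ K₂ V W₁ W₂ : Subgroup G} {d₁ d₂ : G}
    (hV2 : ∀ v ∈ V, v * v = 1) (hVc : ∀ u ∈ V, ∀ v ∈ V, u * v = v * u)
    (hW₁V : W₁ ≤ V) (hW₂V : W₂ ≤ V) (hW₁4 : Nat.card W₁ = 4) (hW₂4 : Nat.card W₂ = 4)
    (hc₁ : ∀ v ∈ V, ∀ k ∈ K₁, v * k * v⁻¹ * k⁻¹ ∈ W₁)
    (hc₂ : ∀ v ∈ V, ∀ k ∈ K₂, v * k * v⁻¹ * k⁻¹ ∈ W₂)
    (hd₁ : d₁ ∈ K₁) (hd₂ : d₂ ∈ K₂)
    (hf₁ : ∀ w ∈ W₁, d₁ * w = w * d₁ → w = 1) (hf₂ : ∀ w ∈ W₂, d₂ * w = w * d₂ → w = 1)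
    (hact₁ : ∀ k ∈ K₁, ∃ j : ℕ, ∀ v ∈ V, k * v * k⁻¹ = d₁ ^ j * v * (d₁ ^ j)⁻¹)
    (hact₂ : ∀ k ∈ K₂, ∃ j : ℕ, ∀ v ∈ V, k * v * k⁻¹ = d₂ ^ j * v * (d₂ ^ j)⁻¹)
    (hcube₁ : ∀ v ∈ V, d₁ ^ 3 * v = v * d₁ ^ 3) (hcube₂ : ∀ v ∈ V, d₂ ^ 3 * v = v * d₂ ^ 3)
    (h₁ : (K₁.subgroupOf (K₁ ⊔ K₂)).IsSubnormal) (h₂ : (K₂.subgroupOf (K₁ ⊔ K₂)).IsSubnormal) :
    ∀ w ∈ W₂, d₁ * w * d₁⁻¹ ∈ W₂ :=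
  pact_core (fun M _ _ hMc hM2 hM16 P hP _ hx W hW hxW hxf => ab_central hMc hM2 hM16 P hP hx W hW hxW hxf)
    hV2 hVc hW₁V hW₂V hW₁4 hW₂4 hc₁ hc₂ hd₁ hd₂ hf₁ hf₂ hact₁ hact₂ hcube₁ hcube₂ h₁ h₂

end Cfsg.Agent.Helper15.JC45
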