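import Mathlib
import Cfsg.Agent.Lib.Helper7.LBalF
import Cfsg.Agent.Lib.Helper7.Signalizer
import Cfsg.Agent.Lib.Helper1.CharacteristicMap
import Cfsg.Agent.Lib.Helper22.PPrimeCore

set_option autoImplicit false

namespace Cfsg.Agent.Helper7

open Subgroup
open scoped commutatorElement

universe u

variable {G : Type u} [Group G]

section IndexTwo

variable [Finite G] {H : Subgroup G} {t : G}

theorem index_subgroupOf_sup_zpowers_dvd_two (ht : orderOf t = 2)
    (htH : t ∈ Subgroup.normalizer (H : Set G)) :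
    (H.subgroupOf (H ⊔ Subgroup.zpowers t)).index ∣ 2 := by
  have hn : Subgroup.zpowers t ≤ Subgroup.normalizer (H : Set G) := (Subgroup.zpowers_le).mpr htH
  have h1 := card_sup_dvd_mul_of_le_normalizer hn
  rw [Nat.card_zpowers, ht] at h1
  have h2 := (H.subgroupOf (H ⊔ Subgroup.zpowers t)).index_mul_card
  rw [card_subgroupOf_of_le (le_sup_left : H ≤ H ⊔ Subgroup.zpowers t)] at h2
  rw [← h2, mul_comm] at h1
  have hpos : 0 < Nat.card ↥H := Nat.card_pos
  exact Nat.dvd_of_mul_dvd_mul_left hpos h1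

theorem commutator_le_subgroupOf_sup_zpowers (ht : orderOf t = 2)
    (htH : t ∈ Subgroup.normalizer (H : Set G)) :
    _root_.commutator ↥(H ⊔ Subgroup.zpowers t) ≤ H.subgroupOf (H ⊔ Subgroup.zpowers t) := by
  haveI : Fact (Nat.Prime 2) := ⟨Nat.prime_two⟩
  have hMN : H ⊔ Subgroup.zpowers t ≤ Subgroup.normalizer (H : Set G) :=
    sup_le Subgroup.le_normalizer ((Subgroup.zpowers_le).mpr htH)
  haveI hn : (H.subgroupOf (H ⊔ Subgroup.zpowers t)).Normal :=
    (Subgroup.normal_subgroupOf_iff_le_normalizer le_sup_left).mpr hMN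
  have hidx := index_subgroupOf_sup_zpowers_dvd_two ht htH
  have hcard : Nat.card (↥(H ⊔ Subgroup.zpowers t) ⧸ H.subgroupOf (H ⊔ Subgroup.zpowers t)) ∣ 2 := by
    rw [← Subgroup.index_eq_card]; exact hidx
  haveI : IsCyclic (↥(H ⊔ Subgroup.zpowers t) ⧸ H.subgroupOf (H ⊔ Subgroup.zpowers t)) :=
    isCyclic_of_card_dvd_prime hcard
  letI : CommGroup (↥(H ⊔ Subgroup.zpowers t) ⧸ H.subgroupOf (H ⊔ Subgroup.zpowers t)) :=
    IsCyclic.commGroup
  have := Abelianization.commutator_subset_ker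
    (QuotientGroup.mk' (H.subgroupOf (H ⊔ Subgroup.zpowers t)))
  rwa [QuotientGroup.ker_mk'] at this

theorem mem_subgroupOf_sup_zpowers_of_odd (ht : orderOf t = 2)
    (htH : t ∈ Subgroup.normalizer (H : Set G)) (o : ↥(H ⊔ Subgroup.zpowers t))
    (ho : Odd (orderOf o)) : o ∈ H.subgroupOf (H ⊔ Subgroup.zpowers t) := by
  have hMN : H ⊔ Subgroup.zpowers t ≤ Subgroup.normalizer (H : Set G) :=
    sup_le Subgroup.le_normalizer ((Subgroup.zpowers_le).mpr htH)
  haveI hn : (H.subgroupOf (H ⊔ Subgroup.zpowers t)).Normal :=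
    (Subgroup.normal_subgroupOf_iff_le_normalizer le_sup_left).mpr hMN
  obtain ⟨k, hk⟩ := index_subgroupOf_sup_zpowers_dvd_two ht htH
  have h1 : o ^ 2 ∈ H.subgroupOf (H ⊔ Subgroup.zpowers t) := by
    rw [hk, pow_mul]
    exact Subgroup.pow_mem _ (Subgroup.pow_index_mem _ o) k
  obtain ⟨m, hm⟩ := ho
  have h2 : o = (o ^ 2) ^ (m + 1) := by
    rw [← pow_mul]
    have : 2 * (m + 1) = orderOf o + 1 := by omega
    rw [this, pow_succ, pow_orderOf_eq_one, one_mul]
  rw [h2]
  exact Subgroup.pow_mem _ h1 _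

theorem pPrimeCore_sup_zpowers_eq_bot (hO : Cfsg.pPrimeCore 2 ↥H = ⊥) (ht : orderOf t = 2)
    (htH : t ∈ Subgroup.normalizer (H : Set G)) :
    Cfsg.pPrimeCore 2 ↥(H ⊔ Subgroup.zpowers t) = ⊥ := by
  set M : Subgroup G := H ⊔ Subgroup.zpowers t with hM
  have hHM : H ≤ M := le_sup_left
  set O := Cfsg.pPrimeCore 2 ↥M with hOdef
  haveI hOn : O.Normal := Cfsg.Agent.Helper22.pPrimeCore_normal 2
  have hOc : (Nat.card ↥O).Coprime 2 := Cfsg.Agent.Helper22.card_pPrimeCore_coprime 2
  -- the preimage in H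
  have hO'n : (O.comap (Subgroup.inclusion hHM)).Normal := hOn.comap _
  have hO'c : (Nat.card ↥(O.comap (Subgroup.inclusion hHM))).Coprime 2 := by
    refine Nat.Coprime.coprime_dvd_left ?_ hOc
    apply Subgroup.card_dvd_of_injective
      (((Subgroup.inclusion hHM).comp (O.comap (Subgroup.inclusion hHM)).subtype).codRestrict O
        (fun x => x.2))
    intro a b hab
    have h1 : Subgroup.inclusion hHM (a : ↥H) = Subgroup.inclusion hHM (b : ↥H) :=
      congrArg Subtype.val hab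
    exact Subtype.ext (Subgroup.inclusion_injective hHM h1)
  have hO' : O.comap (Subgroup.inclusion hHM) = ⊥ := by
    apply le_bot_iff.mp
    rw [← hO]
    exact Cfsg.Agent.Helper22.le_pPrimeCore 2 _ hO'n hO'c
  apply le_bot_iff.mp
  intro o ho
  have hodd : Odd (orderOf o) := by
    rw [← Nat.coprime_two_right]
    exact Nat.Coprime.coprime_dvd_left (Subgroup.orderOf_dvd_natCard O ho) hOc
  have hoH : o ∈ H.subgroupOf M := mem_subgroupOf_sup_zpowers_of_odd ht htH o hodd
  rw [Subgroup.mem_subgroupOf] at hoH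
  have h1 : (⟨(o : G), hoH⟩ : ↥H) ∈ O.comap (Subgroup.inclusion hHM) := by
    rw [Subgroup.mem_comap]
    have : Subgroup.inclusion hHM ⟨(o : G), hoH⟩ = o := Subtype.ext rfl
    rw [this]; exact ho
  rw [hO', Subgroup.mem_bot] at h1
  rw [Subgroup.mem_bot]
  apply Subtype.ext
  have := congrArg Subtype.val h1
  simpa using this

end IndexTwo

theorem mem_normalizer_map_subtype_of_mem [Finite G] {M : Subgroup G} {L₁ : Subgroup ↥M}
    {g : ↥M} (hg : g ∈ Subgroup.normalizer (L₁ : Set ↥M)) :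
    (g : G) ∈ Subgroup.normalizer ((L₁.map M.subtype : Subgroup G) : Set G) := by
  apply mem_normalizer_of_forall_conj_mem
  rintro _ ⟨m, hm, rfl⟩
  exact ⟨g * m * g⁻¹, (Subgroup.mem_normalizer_iff.mp hg m).mp hm, rfl⟩

theorem mem_centralizer_of_mem_centralizer_map_subtype {M : Subgroup G} {L₁ : Subgroup ↥M}
    {g : ↥M} (hg : (g : G) ∈ Subgroup.centralizer ((L₁.map M.subtype : Subgroup G) : Set G)) :
    g ∈ Subgroup.centralizer (L₁ : Set ↥M) := by
  rw [Subgroup.mem_centralizer_iff] at hg ⊢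
  intro m hm
  apply Subtype.ext
  exact hg (m : G) ⟨m, hm, rfl⟩

/-- **S1328, main transfer.** -/
theorem exists_component_unbalanced [Finite G] (H : Subgroup G) (hO : Cfsg.pPrimeCore 2 ↥H = ⊥)
    (t : G) (ht : orderOf t = 2) (htH : t ∈ Subgroup.normalizer (H : Set G)) (Y : Subgroup G)
    (hY1 : Y ≠ ⊥)
    (hY : Y ≤ (Cfsg.pPrimeCore 2 ↥(H ⊓ Subgroup.centralizer ({t} : Set G))).map
      (H ⊓ Subgroup.centralizer ({t} : Set G)).subtype) :
    ∃ E : Subgroup ↥H, Cfsg.IsComponent E ∧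
      t ∈ Subgroup.normalizer ((E.map H.subtype : Subgroup G) : Set G) ∧
      Y ≤ Subgroup.normalizer ((E.map H.subtype : Subgroup G) : Set G) ∧
      t ∉ Subgroup.centralizer ((E.map H.subtype : Subgroup G) : Set G) ∧
      ¬ Y ≤ Subgroup.centralizer ((E.map H.subtype : Subgroup G) : Set G) := by
  classical
  set M : Subgroup G := H ⊔ Subgroup.zpowers t with hM
  have hHM : H ≤ M := le_sup_left
  have htM : t ∈ M := Subgroup.mem_sup_right (Subgroup.mem_zpowers t)
  have hMN : M ≤ Subgroup.normalizer (H : Set G) :=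
    sup_le Subgroup.le_normalizer ((Subgroup.zpowers_le).mpr htH)
  set K : Subgroup G := H ⊓ Subgroup.centralizer ({t} : Set G) with hK
  set R : Subgroup G := (Cfsg.pPrimeCore 2 ↥K).map K.subtype with hR
  have hRK : R ≤ K := Subgroup.map_subtype_le _
  have hRM : R ≤ M := hRK.trans (inf_le_left.trans hHM)
  have hmemC : ∀ g : G, g ∈ Subgroup.centralizer ({t} : Set G) ↔ g * t = t * g := by
    intro g
    rw [Subgroup.mem_centralizer_iff]
    constructor
    · intro h; exact (h t rfl).symm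
    · intro h y hy
      rw [Set.mem_singleton_iff] at hy
      rw [hy]; exact h.symm
  have hRx : ∀ r ∈ R, r * t = t * r := fun r hr => (hmemC r).mp (hRK hr).2
  have hRc : (Nat.card ↥R).Coprime 2 := by
    rw [hR, card_map_subtype]
    exact Cfsg.Agent.Helper22.card_pPrimeCore_coprime 2
  have hRn : ∀ c ∈ M, c * t = t * c → ∀ r ∈ R, c * r * c⁻¹ ∈ R := by
    intro c hcM hct r hr
    haveI : (Cfsg.pPrimeCore 2 ↥K).Characteristic := pPrimeCore_characteristic 2
    have h1 : c ∈ Subgroup.normalizer (K : Set G) := by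
      apply Subgroup.inf_normalizer_le_normalizer_inf
      refine Subgroup.mem_inf.mpr ⟨hMN hcM, ?_⟩
      apply Subgroup.le_normalizer
      exact (hmemC c).mpr hct
    have h2 := Cfsg.Agent.Helper1.normalizer_le_normalizer_map_of_characteristic K
      (Cfsg.pPrimeCore 2 ↥K) h1
    exact (Subgroup.mem_normalizer_iff.mp h2 r).mp hr
  -- pass to M
  have hO₁ : Cfsg.pPrimeCore 2 ↥M = ⊥ := pPrimeCore_sup_zpowers_eq_bot hO ht htH
  have ht₁ : orderOf (⟨t, htM⟩ : ↥M) = 2 := by rw [Subgroup.orderOf_mk]; exact ht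
  obtain ⟨L₁, hL₁, htN, hYN, htC, hYC⟩ := exists_component_of_odd hO₁ (⟨t, htM⟩ : ↥M) ht₁
    (R.subgroupOf M)
    (fun r hr => Subtype.ext (hRx (r : G) (Subgroup.mem_subgroupOf.mp hr)))
    (fun c hc r hr => by
      rw [Subgroup.mem_subgroupOf] at hr ⊢
      exact hRn (c : G) c.2 (congrArg Subtype.val hc) (r : G) hr)
    (by rw [card_subgroupOf_of_le hRM]; exact hRc)
    (Y.subgroupOf M)
    (by
      intro h
      apply hY1
      apply le_bot_iff.mp
      intro y hy
      have hyM : y ∈ M := hRM (hY hy)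
      have : (⟨y, hyM⟩ : ↥M) ∈ Y.subgroupOf M := Subgroup.mem_subgroupOf.mpr hy
      rw [h, Subgroup.mem_bot] at this
      rw [Subgroup.mem_bot]
      exact congrArg Subtype.val this)
    (Subgroup.comap_mono hY)
  -- L₁ ≤ H₁
  have hL₁H : L₁ ≤ H.subgroupOf M := by
    rw [← component_perfect hL₁]
    exact (Subgroup.commutator_mono le_top le_top).trans
      (commutator_le_subgroupOf_sup_zpowers ht htH)
  set E : Subgroup ↥H := L₁.comap (Subgroup.inclusion hHM) with hE
  have hEmap : E.map H.subtype = L₁.map M.subtype := by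
    ext g
    constructor
    · rintro ⟨x, hx, rfl⟩
      exact ⟨Subgroup.inclusion hHM x, hx, rfl⟩
    · rintro ⟨m, hm, rfl⟩
      have hmH : (m : G) ∈ H := Subgroup.mem_subgroupOf.mp (hL₁H hm)
      refine ⟨⟨(m : G), hmH⟩, ?_, rfl⟩
      show (⟨(m : G), hmH⟩ : ↥H) ∈ L₁.comap (Subgroup.inclusion hHM)
      rw [Subgroup.mem_comap]
      have : Subgroup.inclusion hHM ⟨(m : G), hmH⟩ = m := Subtype.ext rfl
      rw [this]; exact hm
  have hEc : Cfsg.IsComponent E := by
    refine ⟨hL₁.1.comap _, ?_⟩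
    have h1 : Cfsg.IsQuasisimple ↥(L₁.map M.subtype) := (isQuasisimple_map_subtype L₁).mpr hL₁.2
    rw [← hEmap] at h1
    exact (isQuasisimple_map_subtype E).mp h1
  refine ⟨E, hEc, ?_, ?_, ?_, ?_⟩
  · rw [hEmap]
    exact mem_normalizer_map_subtype_of_mem htN
  · rw [hEmap]
    intro y hy
    have hyM : y ∈ M := hRM (hY hy)
    exact mem_normalizer_map_subtype_of_mem (g := ⟨y, hyM⟩)
      (hYN (Subgroup.mem_subgroupOf.mpr hy))
  · rw [hEmap]
    intro h
    exact htC (mem_centralizer_of_mem_centralizer_map_subtype (g := ⟨t, htM⟩) h)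
  · rw [hEmap]
    intro h
    apply hYC
    intro y hy
    exact mem_centralizer_of_mem_centralizer_map_subtype (h (Subgroup.mem_subgroupOf.mp hy))

end Cfsg.Agent.Helper7
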