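import Mathlib
import Cfsg.Prelude.Def_Local
import Cfsg.Agent.Lib.Helper7.LpB8
import Cfsg.Agent.Lib.Helper1.CharacteristicMap
import Cfsg.Agent.Lib.Helper7.ExtLayer

set_option autoImplicit false

namespace Cfsg.Agent.Helper7

open Subgroup
open scoped commutatorElement Pointwise

universe u

variable {G : Type u} [Group G] [Finite G]

/-- with `O_{p'}(G) = 1`, the `p'`-core of the normalizer of a `p`-subgroup normalizes every
component of `G`. -/
theorem map_pPrimeCore_normalizer_le_normalizer_component (p : ℕ) [hp : Fact p.Prime]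
    (hO : Cfsg.pPrimeCore p G = ⊥) (P : Subgroup G) (hP : IsPGroup p ↥P)
    {K : Subgroup G} (hK : Cfsg.IsComponent K) :
    (Cfsg.pPrimeCore p ↥(Subgroup.normalizer (P : Set G))).map
      (Subgroup.normalizer (P : Set G)).subtype ≤ Subgroup.normalizer (K : Set G) := by
  set N : Subgroup G := Subgroup.normalizer (P : Set G) with hN
  set W₀ : Subgroup ↥N := Cfsg.pPrimeCore p ↥N with hW₀
  haveI hW₀n : W₀.Normal := Cfsg.Agent.Helper22.pPrimeCore_normal p
  have hW₀c : (Nat.card ↥W₀).Coprime p := Cfsg.Agent.Helper22.card_pPrimeCore_coprime p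
  set W : Subgroup G := W₀.map N.subtype with hW
  have hWN : W ≤ N := by
    rintro _ ⟨a, _, rfl⟩; exact a.2
  have hWsub : W.subgroupOf N = W₀ := subgroupOf_map_subtype_self W₀
  have hWc : (Nat.card ↥W).Coprime p := by rw [hW, card_map_subtype]; exact hW₀c
  set Q : Subgroup G := Cfsg.pCore p G with hQ
  haveI hQn : Q.Normal := Cfsg.pCore_normal p G
  have hQp : IsPGroup p ↥Q := pCore_isPGroup p
  -- `W` commutes with normal `p`-subgroups of `N`
  have hcommN : ∀ T : Subgroup G, T ≤ N → N ≤ Subgroup.normalizer (T : Set G) → IsPGroup p ↥T →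
      W ≤ Subgroup.centralizer (T : Set G) := by
    intro T hTN hNT hTp
    haveI : (T.subgroupOf N).Normal := (Subgroup.normal_subgroupOf_iff_le_normalizer hTN).mpr hNT
    have h1 : ⁅W₀, T.subgroupOf N⁆ = ⊥ := by
      apply commutator_eq_bot_of_normal_of_coprime
      have hT' : IsPGroup p ↥(T.subgroupOf N) := hTp.comap_subtype
      obtain ⟨n, hn⟩ := IsPGroup.iff_card.mp hT'
      rw [hn]
      exact Nat.Coprime.pow_right n hW₀c
    rw [← hWsub, commutator_subgroupOf_eq_bot_iff hWN hTN] at h1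
    exact Subgroup.commutator_eq_bot_iff_le_centralizer.mp h1
  have hWP : W ≤ Subgroup.centralizer (P : Set G) :=
    hcommN P Subgroup.le_normalizer le_rfl hP
  have hWQN : W ≤ Subgroup.centralizer ((Q ⊓ N : Subgroup G) : Set G) := by
    apply hcommN (Q ⊓ N) inf_le_right _ (hQp.to_le inf_le_left)
    refine le_trans ?_ Subgroup.inf_normalizer_le_normalizer_inf
    apply le_inf
    · rw [Subgroup.normalizer_eq_top_iff.mpr hQn]; exact le_top
    · exact Subgroup.le_normalizer
  -- `W` centralizes `O_p(G)`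
  have hWQ : W ≤ Subgroup.centralizer (Q : Set G) := by
    intro j hj
    apply thompson_AxB_element p Q P hQp hP
    · rw [Subgroup.normalizer_eq_top_iff.mpr hQn]; exact le_top
    · rw [Subgroup.normalizer_eq_top_iff.mpr hQn]; exact Subgroup.mem_top _
    · exact Nat.Coprime.coprime_dvd_left (Subgroup.orderOf_dvd_natCard W hj) hWc
    · exact hWP hj
    · refine Subgroup.centralizer_le ?_ (hWQN hj)
      exact inf_le_inf_left Q (Subgroup.centralizer_le_normalizer _)
  set R' : Subgroup G := P ⊔ Q with hR'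
  have hR'p : IsPGroup p ↥R' := IsPGroup.to_sup_of_normal_right hP hQp
  set C' : Subgroup G := Subgroup.centralizer (R' : Set G) with hC'
  have hWC' : W ≤ C' := by
    rw [hC', Subgroup.le_centralizer_iff]
    exact sup_le (Subgroup.le_centralizer_iff.mp hWP) (Subgroup.le_centralizer_iff.mp hWQ)
  have hC'N : C' ≤ N :=
    (Subgroup.centralizer_le (le_sup_left : P ≤ R')).trans (Subgroup.centralizer_le_normalizer _)
  -- `W ≤ O_{p'}(C')`
  set W₁ : Subgroup G := (Cfsg.pPrimeCore p ↥C').map C'.subtype with hW₁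
  have hWW₁ : W ≤ W₁ := by
    apply le_map_pPrimeCore p hWC' _ hWc
    refine hC'N.trans ?_
    rw [hW]
    exact le_normalizer_map_subtype_of_normal W₀
  have hW₁c : (Nat.card ↥W₁).Coprime p := by
    rw [hW₁, card_map_subtype]; exact Cfsg.Agent.Helper22.card_pPrimeCore_coprime p
  have hN'W₁ : Subgroup.normalizer (R' : Set G) ≤ Subgroup.normalizer (W₁ : Set G) := by
    refine (normalizer_le_normalizer_centralizer_sub R').trans ?_
    have : (Cfsg.pPrimeCore p ↥C').Characteristic := pPrimeCore_characteristic p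
    exact Cfsg.Agent.Helper1.normalizer_le_normalizer_map_of_characteristic C' _
  intro j hj
  apply mem_normalizer_component_of_commutator_coprime p hO hR'p (le_sup_right : Q ≤ R') hK
    (hWC' hj) (Nat.Coprime.coprime_dvd_left (Subgroup.orderOf_dvd_natCard W hj) hWc)
  intro s hs
  have hjW₁ : j ∈ W₁ := hWW₁ hj
  have h1 : ⁅j, s⁆ ∈ W₁ := by
    rw [commutatorElement_def]
    have h2 : s * j⁻¹ * s⁻¹ ∈ W₁ :=
      (Subgroup.mem_normalizer_iff.mp (hN'W₁ hs.2) _).mp (W₁.inv_mem hjW₁)
    have h3 : j * s * j⁻¹ * s⁻¹ = j * (s * j⁻¹ * s⁻¹) := by group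
    rw [h3]
    exact W₁.mul_mem hjW₁ h2
  exact Nat.Coprime.coprime_dvd_left (Subgroup.orderOf_dvd_natCard W₁ h1) hW₁c

end Cfsg.Agent.Helper7
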