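import Mathlib
import Cfsg.Agent.Lib.Helper26.MHDefs
import Cfsg.Agent.Lib.Helper7.MHINV2

/-!
# S4221 (M. Hall) — piece STAR, backup version (helper7): the relation (*) ((I6) of
`plans/S4221_proof.md`): two orbit counts in `C_G(t)`.
-/

set_option autoImplicit false

namespace Cfsg.Agent.Helper26.MH

open MulAction Cfsg.Agent.Helper22.SharpFour

namespace STARbk

section gen

variable {G : Type*} [Group G]

/-- orbit–stabilizer for a subgroup `C` of `G` acting on a `G`-set, the orbit given as a finset -/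
theorem card_eq_orbit_mul {β : Type*} [MulAction G β] (C : Subgroup G) (b : β) (T : Finset β)
    (hT : ∀ b' : β, b' ∈ T ↔ ∃ g ∈ C, g • b = b') :
    Nat.card C = T.card * Nat.card (stabilizer G b ⊓ C : Subgroup G) := by
  have h1 := Subgroup.index_mul_card (stabilizer C b)
  rw [index_stabilizer] at h1
  have h2 : orbit C b = (T : Set β) := by
    ext b'
    rw [Finset.mem_coe, hT, mem_orbit_iff]
    constructor
    · rintro ⟨g, hg⟩
      exact ⟨g.1, g.2, hg⟩
    · rintro ⟨g, hgC, hg⟩
      exact ⟨⟨g, hgC⟩, hg⟩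
  have h3 : stabilizer C b = (stabilizer G b).subgroupOf C := by
    ext g
    rw [Subgroup.mem_subgroupOf, mem_stabilizer_iff, mem_stabilizer_iff]
    rfl
  have h4 : Nat.card (stabilizer C b) = Nat.card (stabilizer G b ⊓ C : Subgroup G) := by
    rw [h3, ← Subgroup.subgroupOf_map_subtype,
      Subgroup.card_map_of_injective (Subgroup.subtype_injective C)]
  rw [h2, Set.ncard_coe_finset, h4] at h1
  exact h1.symm

variable {α : Type*} [MulAction G α]

theorem inv_smul_smul' {t : G} (ht : IsInv t) (x : α) : t • t • x = x := by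
  rw [← mul_smul, ht.1, one_smul]

theorem mem_centralizer_iff' {t g : G} : g ∈ Subgroup.centralizer ({t} : Set G) ↔ g * t = t * g := by
  rw [Subgroup.mem_centralizer_iff]
  simp only [Set.mem_singleton_iff, forall_eq]
  exact eq_comm

theorem comm_smul {t g : G} (hg : g * t = t * g) (x : α) : t • g • x = g • t • x := by
  rw [← mul_smul, ← hg, mul_smul]

/-- moved point, its image and two fixed points are pairwise distinct -/
theorem d4_fixed {t : G} (ht : IsInv t) {f₁ f₂ x : α} (hf₁ : t • f₁ = f₁) (hf₂ : t • f₂ = f₂)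
    (hf : f₁ ≠ f₂) (hx : t • x ≠ x) : D4 x (t • x) f₁ f₂ := by
  have key : ∀ f : α, t • f = f → x ≠ f ∧ t • x ≠ f := by
    intro f hfx
    constructor
    · intro e; apply hx; rw [e, hfx]
    · intro e
      apply hx
      have : t • t • x = t • f := by rw [e]
      rw [inv_smul_smul' ht, hfx] at this
      rw [e, this]
  exact ⟨hx.symm, (key f₁ hf₁).1, (key f₂ hf₂).1, (key f₁ hf₁).2, (key f₂ hf₂).2, hf⟩

/-- two moved points in different 2-cycles, with their images, are pairwise distinct -/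
theorem d4_moved {t : G} (ht : IsInv t) {x y : α} (hx : t • x ≠ x) (hy : t • y ≠ y)
    (hyx : y ≠ x) (hyx' : y ≠ t • x) : D4 x (t • x) y (t • y) := by
  refine ⟨hx.symm, hyx.symm, ?_, hyx'.symm, ?_, hy.symm⟩
  · intro e
    apply hyx'
    rw [e, inv_smul_smul' ht]
  · intro e
    exact hyx ((MulAction.injective t e).symm)

theorem stab_triple {t : G} {f₁ f₂ x : α} :
    (stabilizer G ((f₁, f₂), x) ⊓ Subgroup.centralizer ({t} : Set G) : Subgroup G) =
      cen (St4 G x (t • x) f₁ f₂) t := by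
  ext g
  rw [Subgroup.mem_inf, mem_stabilizer_iff, mem_cen, mem_St4, mem_centralizer_iff', Prod.smul_mk,
    Prod.smul_mk, Prod.mk.injEq, Prod.mk.injEq]
  constructor
  · rintro ⟨⟨⟨h1, h2⟩, h3⟩, hc⟩
    refine ⟨⟨h3, ?_, h1, h2⟩, hc⟩
    rw [← comm_smul hc, h3]
  · rintro ⟨⟨h3, -, h1, h2⟩, hc⟩
    exact ⟨⟨⟨h1, h2⟩, h3⟩, hc⟩

theorem stab_pair {t : G} {x y : α} :
    (stabilizer G (x, y) ⊓ Subgroup.centralizer ({t} : Set G) : Subgroup G) =
      cen (St4 G x (t • x) y (t • y)) t := by
  ext g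
  rw [Subgroup.mem_inf, mem_stabilizer_iff, mem_cen, mem_St4, mem_centralizer_iff', Prod.smul_mk,
    Prod.mk.injEq]
  constructor
  · rintro ⟨⟨h1, h2⟩, hc⟩
    refine ⟨⟨h1, ?_, h2, ?_⟩, hc⟩
    · rw [← comm_smul hc, h1]
    · rw [← comm_smul hc, h2]
  · rintro ⟨⟨h1, -, h2, -⟩, hc⟩
    exact ⟨⟨h1, h2⟩, hc⟩

end gen

section fin

variable {G : Type*} [Group G] [Finite G] {α : Type*} [Fintype α] [DecidableEq α] [MulAction G α]

/-- the moved points of `t` -/
def mov (α : Type*) [Fintype α] [DecidableEq α] {G : Type*} [Group G] [MulAction G α] (t : G) :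
    Finset α := Finset.univ.filter (fun x => ¬ t • x = x)

theorem mem_mov {t : G} {x : α} : x ∈ mov α t ↔ t • x ≠ x := by
  simp [mov]

theorem card_mov (t : G) : (mov α t).card = Fintype.card α - (fixF α t).card := by
  have := Finset.card_filter_add_card_filter_not (s := (Finset.univ : Finset α))
    (fun x => t • x = x)
  rw [Finset.card_univ] at this
  unfold mov fixF
  omega

theorem smul_mem_mov {t : G} (ht : IsInv t) {x : α} (hx : x ∈ mov α t) : t • x ∈ mov α t := by
  rw [mem_mov] at hx ⊢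
  rw [inv_smul_smul' ht]
  exact hx.symm

/-- the set of pairs `(x', y')` of moved points in different 2-cycles -/
def pairs (α : Type*) [Fintype α] [DecidableEq α] {G : Type*} [Group G] [MulAction G α] (t : G) :
    Finset (α × α) :=
  ((mov α t) ×ˢ (mov α t)).filter (fun pr => pr.2 ≠ pr.1 ∧ pr.2 ≠ t • pr.1)

theorem mem_pairs {t : G} {x y : α} :
    (x, y) ∈ pairs α t ↔ t • x ≠ x ∧ t • y ≠ y ∧ y ≠ x ∧ y ≠ t • x := by
  simp only [pairs, Finset.mem_filter, Finset.mem_product, mem_mov, and_assoc]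

theorem card_pairs {t : G} (ht : IsInv t) :
    (pairs α t).card = (mov α t).card * ((mov α t).card - 2) := by
  have hfib : ∀ pr ∈ pairs α t, pr.1 ∈ mov α t := by
    rintro ⟨x, y⟩ hpr
    rw [mem_pairs] at hpr
    exact mem_mov.mpr hpr.1
  rw [Finset.card_eq_sum_card_fiberwise hfib]
  have hconst : ∀ x' ∈ mov α t,
      ((pairs α t).filter (fun pr => pr.1 = x')).card = (mov α t).card - 2 := by
    intro x' hx'
    have himg : (pairs α t).filter (fun pr => pr.1 = x') =
        (((mov α t).erase x').erase (t • x')).image (fun y => (x', y)) := by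
      ext ⟨a, b⟩
      simp only [Finset.mem_filter, Finset.mem_image, Finset.mem_erase, Prod.mk.injEq, mem_pairs,
        mem_mov]
      constructor
      · rintro ⟨⟨h1, h2, h3, h4⟩, rfl⟩
        exact ⟨b, ⟨h4, h3, h2⟩, rfl, rfl⟩
      · rintro ⟨y, ⟨h4, h3, h2⟩, rfl, rfl⟩
        exact ⟨⟨mem_mov.mp hx', h2, h3, h4⟩, rfl⟩
    rw [himg, Finset.card_image_of_injective _ (fun y y' e => (Prod.mk.inj e).2),
      Finset.card_erase_of_mem, Finset.card_erase_of_mem hx']
    · omega
    · rw [Finset.mem_erase]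
      exact ⟨mem_mov.mp hx', smul_mem_mov ht hx'⟩
  rw [Finset.sum_congr rfl hconst, Finset.sum_const, smul_eq_mul]

/-- the set of triples `((f₁', f₂'), x')`: two distinct fixed points and a moved point -/
def triples (α : Type*) [Fintype α] [DecidableEq α] {G : Type*} [Group G] [MulAction G α] (t : G) :
    Finset ((α × α) × α) :=
  (fixF α t).offDiag ×ˢ (mov α t)

theorem mem_triples {t : G} {f₁ f₂ x : α} :
    ((f₁, f₂), x) ∈ triples α t ↔ t • f₁ = f₁ ∧ t • f₂ = f₂ ∧ f₁ ≠ f₂ ∧ t • x ≠ x := by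
  simp only [triples, Finset.mem_product, Finset.mem_offDiag, mem_fixF, mem_mov, and_assoc]

theorem card_triples (t : G) :
    (triples α t).card = (fixF α t).card * ((fixF α t).card - 1) * (mov α t).card := by
  rw [triples, Finset.card_product, Finset.offDiag_card, Nat.mul_sub_one]

end fin

end STARbk

variable {G : Type*} [Group G] [Finite G] {α : Type*} [Fintype α] [DecidableEq α] [MulAction G α]

namespace STARbk

theorem star (h : Hall G α) (h8 : 8 ≤ Fintype.card α) {t : G} (ht : IsInv t) {f₁ f₂ x y : α}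
    (hf₁ : t • f₁ = f₁) (hf₂ : t • f₂ = f₂) (hf : f₁ ≠ f₂) (hx : t • x ≠ x) (hy : t • y ≠ y)
    (hyx : y ≠ x) (hyx' : y ≠ t • x) :
    (fixF α t).card * ((fixF α t).card - 1) * Nat.card (cen (St4 G x (t • x) f₁ f₂) t) =
      (Fintype.card α - (fixF α t).card - 2) * Nat.card (cen (St4 G x (t • x) y (t • y)) t) := by
  -- orbit of the triple
  have hT₁ : ∀ b' : (α × α) × α, b' ∈ triples α t ↔
      ∃ g ∈ Subgroup.centralizer ({t} : Set G), g • ((f₁, f₂), x) = b' := by
    rintro ⟨⟨f₁', f₂'⟩, x'⟩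
    rw [mem_triples]
    constructor
    · rintro ⟨h1, h2, h3, h4⟩
      obtain ⟨g, gx, -, g1, g2, gt⟩ := exists_conj_tyA h (d4_fixed ht hf₁ hf₂ hf hx)
        (d4_fixed ht h1 h2 h3 h4) ht ht ⟨rfl, inv_smul_smul' ht x, hf₁, hf₂⟩
        ⟨rfl, inv_smul_smul' ht x', h1, h2⟩
      refine ⟨g, ?_, ?_⟩
      · rw [mem_centralizer_iff']
        rw [mul_inv_eq_iff_eq_mul] at gt
        exact gt
      · rw [Prod.smul_mk, Prod.smul_mk, g1, g2, gx]
    · rintro ⟨g, hg, hgb⟩
      rw [mem_centralizer_iff'] at hg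
      rw [Prod.smul_mk, Prod.smul_mk, Prod.mk.injEq, Prod.mk.injEq] at hgb
      obtain ⟨⟨rfl, rfl⟩, rfl⟩ := hgb
      refine ⟨?_, ?_, ?_, ?_⟩
      · rw [comm_smul hg, hf₁]
      · rw [comm_smul hg, hf₂]
      · exact fun e => hf (MulAction.injective g e)
      · rw [comm_smul hg]
        exact fun e => hx (MulAction.injective g e)
  have hT₂ : ∀ b' : α × α, b' ∈ pairs α t ↔
      ∃ g ∈ Subgroup.centralizer ({t} : Set G), g • (x, y) = b' := by
    rintro ⟨x', y'⟩
    rw [mem_pairs]
    constructor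
    · rintro ⟨h1, h2, h3, h4⟩
      obtain ⟨g, gx, -, gy, -, gt⟩ := exists_conj_tyC h (d4_moved ht hx hy hyx hyx')
        (d4_moved ht h1 h2 h3 h4) ht ht ⟨rfl, inv_smul_smul' ht x, rfl, inv_smul_smul' ht y⟩
        ⟨rfl, inv_smul_smul' ht x', rfl, inv_smul_smul' ht y'⟩
      refine ⟨g, ?_, ?_⟩
      · rw [mem_centralizer_iff']
        rw [mul_inv_eq_iff_eq_mul] at gt
        exact gt
      · rw [Prod.smul_mk, gx, gy]
    · rintro ⟨g, hg, hgb⟩
      rw [mem_centralizer_iff'] at hg
      rw [Prod.smul_mk, Prod.mk.injEq] at hgb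
      obtain ⟨rfl, rfl⟩ := hgb
      refine ⟨?_, ?_, ?_, ?_⟩
      · rw [comm_smul hg]
        exact fun e => hx (MulAction.injective g e)
      · rw [comm_smul hg]
        exact fun e => hy (MulAction.injective g e)
      · exact fun e => hyx (MulAction.injective g e)
      · rw [comm_smul hg]
        exact fun e => hyx' (MulAction.injective g e)
  have e1 := card_eq_orbit_mul (Subgroup.centralizer ({t} : Set G)) ((f₁, f₂), x) (triples α t) hT₁
  have e2 := card_eq_orbit_mul (Subgroup.centralizer ({t} : Set G)) (x, y) (pairs α t) hT₂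
  rw [stab_triple, card_triples] at e1
  rw [stab_pair, card_pairs ht] at e2
  rw [e1] at e2
  have hmpos : 0 < (mov α t).card := Finset.card_pos.mpr ⟨x, mem_mov.mpr hx⟩
  rw [← card_mov]
  have e3 : (mov α t).card * ((fixF α t).card * ((fixF α t).card - 1) *
      Nat.card (cen (St4 G x (t • x) f₁ f₂) t)) =
      (mov α t).card * (((mov α t).card - 2) * Nat.card (cen (St4 G x (t • x) y (t • y)) t)) := by
    calc _ = (fixF α t).card * ((fixF α t).card - 1) * (mov α t).card *
        Nat.card (cen (St4 G x (t • x) f₁ f₂) t) := by ring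
      _ = _ := e2
      _ = _ := by ring
  exact Nat.eq_of_mul_eq_mul_left hmpos e3

end STARbk

end Cfsg.Agent.Helper26.MH
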