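import Mathlib
import Cfsg.Prelude.Def_Transfer
import Cfsg.Prelude.Def_Balance
import Cfsg.Prelude.Def_SylowChains
import Cfsg.Agent.Lib.Helper15.SylowGraph
import Cfsg.Agent.Lib.Helper15.StronglyEmbedded
import Cfsg.Agent.S3056

set_option autoImplicit false

namespace Cfsg.Agent.Helper7

open Subgroup

variable {G : Type*} [Group G]

/-- the adjacency relation of the rank-`k` commuting graph -/
def kAdj (p k : ℕ) (A B : Subgroup G) : Prop :=
  Cfsg.IsElementaryAbelian p A ∧ p ^ k ≤ Nat.card ↥A ∧ Cfsg.IsElementaryAbelian p B ∧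
    p ^ k ≤ Nat.card ↥B ∧ ∀ a ∈ A, ∀ b ∈ B, a * b = b * a

theorem isKConnected_iff (p k : ℕ) :
    Cfsg.IsKConnected p k G ↔ ∀ E E' : Subgroup G, Cfsg.IsElementaryAbelian p E →
      p ^ k ≤ Nat.card ↥E → Cfsg.IsElementaryAbelian p E' → p ^ k ≤ Nat.card ↥E' →
      Relation.ReflTransGen (kAdj p k) E E' := Iff.rfl

theorem kAdj_symm {p k : ℕ} {A B : Subgroup G} (h : kAdj p k A B) : kAdj p k B A :=
  ⟨h.2.2.1, h.2.2.2.1, h.1, h.2.1, fun b hb a ha => (h.2.2.2.2 a ha b hb).symm⟩

theorem reflTransGen_kAdj_symm {p k : ℕ} {A B : Subgroup G}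
    (h : Relation.ReflTransGen (kAdj p k) A B) : Relation.ReflTransGen (kAdj p k) B A := by
  induction h with
  | refl => exact Relation.ReflTransGen.refl
  | tail _ hbc ih => exact Relation.ReflTransGen.head (kAdj_symm hbc) ih

theorem isPGroup_of_isElementaryAbelian' {p : ℕ} {A : Subgroup G}
    (hA : Cfsg.IsElementaryAbelian p A) : IsPGroup p ↥A := by
  intro u
  refine ⟨1, ?_⟩
  rw [pow_one]
  exact Subtype.ext (hA.2 u u.2)

/-- the cyclic group generated by an element of order `p` is a vertex of the rank-one graph -/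
theorem zpowers_isVertex {p : ℕ} [hp : Fact p.Prime] {z : G} (hz : orderOf z = p) :
    Cfsg.IsElementaryAbelian p (Subgroup.zpowers z) ∧ p ^ 1 ≤ Nat.card ↥(Subgroup.zpowers z) := by
  refine ⟨⟨inferInstance, ?_⟩, ?_⟩
  · intro a ha
    obtain ⟨k, rfl⟩ := Subgroup.mem_zpowers_iff.mp ha
    rw [← zpow_natCast, ← zpow_mul, mul_comm, zpow_mul, zpow_natCast, ← hz, pow_orderOf_eq_one,
      one_zpow]
  · rw [Nat.card_zpowers, hz, pow_one]

/-- Sylow-chain-connected groups are 1-connected. -/
theorem isKConnected_one_of_isSylowChainConnected [Finite G] (p : ℕ) [hp : Fact p.Prime]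
    (h : Cfsg.IsSylowChainConnected p G) : Cfsg.IsKConnected p 1 G := by
  have hpp := hp.out
  rw [Cfsg.Agent.Helper15.isSylowChainConnected_iff] at h
  rw [isKConnected_iff]
  -- a central element of order `p` in each nontrivial Sylow subgroup
  have hcen : ∀ S : Sylow p G, (S : Subgroup G) ≠ ⊥ →
      ∃ z ∈ (S : Subgroup G), orderOf z = p ∧ ∀ s ∈ (S : Subgroup G), s * z = z * s := by
    intro S hS
    haveI : Nontrivial ↥(S : Subgroup G) := (Subgroup.nontrivial_iff_ne_bot _).2 hS
    haveI : Nontrivial ↥(Subgroup.center ↥(S : Subgroup G)) := S.isPGroup'.center_nontrivial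
    have hZp : IsPGroup p ↥(Subgroup.center ↥(S : Subgroup G)) := S.isPGroup'.to_subgroup _
    obtain ⟨n, hn0, hn⟩ := hZp.nontrivial_iff_card.1 inferInstance
    have hdvd : p ∣ Nat.card ↥(Subgroup.center ↥(S : Subgroup G)) := by
      rw [hn]; exact dvd_pow_self _ hn0.ne'
    obtain ⟨z, hz⟩ := exists_prime_orderOf_dvd_card' p hdvd
    refine ⟨((z : ↥(S : Subgroup G)) : G), (z : ↥(S : Subgroup G)).2, ?_, ?_⟩
    · have h1 : orderOf ((z : ↥(S : Subgroup G)) : G) = orderOf z := by
        rw [Subgroup.orderOf_coe, Subgroup.orderOf_coe]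
      rw [h1]; exact hz
    · intro s hs
      have := Subgroup.mem_center_iff.mp z.2 ⟨s, hs⟩
      exact congrArg Subtype.val this
  -- every vertex in `S` is adjacent to the central vertex
  have hin : ∀ (S : Sylow p G) (z : G), z ∈ (S : Subgroup G) → orderOf z = p →
      (∀ s ∈ (S : Subgroup G), s * z = z * s) → ∀ E : Subgroup G,
      Cfsg.IsElementaryAbelian p E → p ^ 1 ≤ Nat.card ↥E → E ≤ (S : Subgroup G) →
      Relation.ReflTransGen (kAdj p 1) E (Subgroup.zpowers z) := by
    intro S z hzS hz hzc E hE hE1 hES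
    apply Relation.ReflTransGen.single
    refine ⟨hE, hE1, (zpowers_isVertex hz).1, (zpowers_isVertex hz).2, ?_⟩
    intro a ha b hb
    obtain ⟨k, rfl⟩ := Subgroup.mem_zpowers_iff.mp hb
    exact ((show Commute a z from hzc a (hES ha)).zpow_right k).eq
  have hne : ∀ (S : Sylow p G) (E : Subgroup G), p ^ 1 ≤ Nat.card ↥E → E ≤ (S : Subgroup G) →
      (S : Subgroup G) ≠ ⊥ := by
    intro S E hE1 hES hb
    rw [hb, le_bot_iff] at hES
    rw [hES, Subgroup.card_bot, pow_one] at hE1
    exact absurd hpp.one_lt (not_lt.mpr hE1)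
  -- adjacent Sylow subgroups have connected central vertices
  have hadj : ∀ S T : Sylow p G, Cfsg.Agent.Helper15.sylowAdj p S T →
      ∀ z w : G, z ∈ (S : Subgroup G) → orderOf z = p → (∀ s ∈ (S : Subgroup G), s * z = z * s) →
      w ∈ (T : Subgroup G) → orderOf w = p → (∀ s ∈ (T : Subgroup G), s * w = w * s) →
      Relation.ReflTransGen (kAdj p 1) (Subgroup.zpowers z) (Subgroup.zpowers w) := by
    intro S T hST z w hzS hz hzc hwT hw hwc
    obtain ⟨x, hx, hxo⟩ := Cfsg.Agent.Helper15.exists_orderOf_eq_prime_of_ne_bot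
      (S.isPGroup'.to_le inf_le_left) hST.2
    obtain ⟨hxS, hxT⟩ := Subgroup.mem_inf.mp hx
    have hxv := zpowers_isVertex hxo
    have h1 := hin S z hzS hz hzc (Subgroup.zpowers x) hxv.1 hxv.2
      (by rw [Subgroup.zpowers_le]; exact hxS)
    have h2 := hin T w hwT hw hwc (Subgroup.zpowers x) hxv.1 hxv.2
      (by rw [Subgroup.zpowers_le]; exact hxT)
    exact (reflTransGen_kAdj_symm h1).trans h2
  -- chains of Sylow subgroups
  have hchain : ∀ S T : Sylow p G, Relation.ReflTransGen (Cfsg.Agent.Helper15.sylowAdj p) S T →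
      (S : Subgroup G) ≠ ⊥ →
      ∀ z w : G, z ∈ (S : Subgroup G) → orderOf z = p → (∀ s ∈ (S : Subgroup G), s * z = z * s) →
      w ∈ (T : Subgroup G) → orderOf w = p → (∀ s ∈ (T : Subgroup G), s * w = w * s) →
      Relation.ReflTransGen (kAdj p 1) (Subgroup.zpowers z) (Subgroup.zpowers w) := by
    intro S T hST hS
    induction hST with
    | refl =>
      intro z w hzS hz hzc hwS hw hwc
      -- both central in the same Sylow subgroup: adjacent
      exact hin S w hwS hw hwc (Subgroup.zpowers z) (zpowers_isVertex hz).1 (zpowers_isVertex hz).2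
        (by rw [Subgroup.zpowers_le]; exact hzS)
    | @tail U T' hSU hUT ih =>
      intro z w hzS hz hzc hwT hw hwc
      have hU : (U : Subgroup G) ≠ ⊥ := by
        intro hb
        apply hUT.2
        rw [hb, bot_inf_eq]
      obtain ⟨u, huU, huo, huc⟩ := hcen U hU
      exact (ih z u hzS hz hzc huU huo huc).trans (hadj U T' hUT u w huU huo huc hwT hw hwc)
  intro E E' hE hE1 hE' hE'1
  obtain ⟨S, hES⟩ := (isPGroup_of_isElementaryAbelian' hE).exists_le_sylow
  obtain ⟨T, hET⟩ := (isPGroup_of_isElementaryAbelian' hE').exists_le_sylow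
  have hS := hne S E hE1 hES
  have hT := hne T E' hE'1 hET
  obtain ⟨z, hzS, hz, hzc⟩ := hcen S hS
  obtain ⟨w, hwT, hw, hwc⟩ := hcen T hT
  exact ((hin S z hzS hz hzc E hE hE1 hES).trans
    (hchain S T (h S T) hS z w hzS hz hzc hwT hw hwc)).trans
    (reflTransGen_kAdj_symm (hin T w hwT hw hwc E' hE' hE'1 hET))

/-- a group with a strongly `p`-embedded subgroup is not 1-connected -/
theorem not_isKConnected_one_of_stronglyEmbedded [Finite G] (p : ℕ) [hp : Fact p.Prime]
    (H : Subgroup G) (hH : H ≠ ⊤) (hpH : p ∣ Nat.card ↥H)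
    (hse : ∀ g : G, g ∉ H → ¬ p ∣ Nat.card ↥(H ⊓ H.map (MulAut.conj g).toMonoidHom)) :
    ¬ Cfsg.IsKConnected p 1 G := by
  have hpp := hp.out
  intro hcon
  rw [isKConnected_iff] at hcon
  obtain ⟨⟨x, hxH⟩, hx⟩ := exists_prime_orderOf_dvd_card' p hpH
  have hxo : orderOf x = p := by rw [← hx]; exact (Subgroup.orderOf_mk x hxH).symm
  obtain ⟨g, hg⟩ : ∃ g : G, g ∉ H := by
    by_contra hcon'
    push_neg at hcon'
    exact hH (eq_top_iff.mpr (fun g _ => hcon' g))
  have hgo : orderOf (g * x * g⁻¹) = p := by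
    rw [Cfsg.Agent.Helper15.orderOf_conj']; exact hxo
  have hv₁ := zpowers_isVertex hxo
  have hv₂ := zpowers_isVertex hgo
  have hrtg := hcon _ _ hv₁.1 hv₁.2 hv₂.1 hv₂.2
  have key : ∀ F : Subgroup G, Relation.ReflTransGen (kAdj p 1) (Subgroup.zpowers x) F → F ≤ H := by
    intro F hF
    induction hF with
    | refl => rw [Subgroup.zpowers_le]; exact hxH
    | @tail B C _ hBC ih =>
      intro c hc
      by_contra hcH
      apply hse c hcH
      have hBle : B ≤ H ⊓ H.map (MulAut.conj c).toMonoidHom := by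
        intro b hb
        refine Subgroup.mem_inf.mpr ⟨ih hb, ?_⟩
        rw [Cfsg.Agent.Helper15.mem_map_conj_iff]
        have hbc : b * c = c * b := hBC.2.2.2.2 b hb c hc
        have : c⁻¹ * b * c = b := by
          calc c⁻¹ * b * c = c⁻¹ * (b * c) := by group
            _ = c⁻¹ * (c * b) := by rw [hbc]
            _ = b := by group
        rw [this]; exact ih hb
      have hBp : p ∣ Nat.card ↥B := by
        obtain ⟨k, hk⟩ := (isPGroup_of_isElementaryAbelian' hBC.1).exists_card_eq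
        have h1 := hBC.2.1
        rw [hk] at h1 ⊢
        rcases Nat.eq_zero_or_pos k with h0 | hpos
        · rw [h0, pow_zero, pow_one] at h1
          exact absurd hpp.one_lt (not_lt.mpr h1)
        · exact dvd_pow_self p hpos.ne'
      exact hBp.trans (Subgroup.card_dvd_of_le hBle)
  have h2 := key _ hrtg
  apply hse g hg
  have hle : Subgroup.zpowers (g * x * g⁻¹) ≤ H ⊓ H.map (MulAut.conj g).toMonoidHom := by
    rw [Subgroup.zpowers_le]
    refine Subgroup.mem_inf.mpr ⟨h2 (Subgroup.mem_zpowers _), ?_⟩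
    exact Cfsg.Agent.Helper15.conj_mem_map_conj g hxH
  have : p ∣ Nat.card ↥(Subgroup.zpowers (g * x * g⁻¹)) := by
    rw [Nat.card_zpowers, hgo]
  exact this.trans (Subgroup.card_dvd_of_le hle)

end Cfsg.Agent.Helper7
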