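import Mathlib
import Cfsg.Agent.Lib.Helper27.P13Defs

/-!
# S2916 part (D), piece PROJPTS (helper7 for helper27): `ppt : Fin 13 → PP` is a bijection.
-/

set_option autoImplicit false
set_option linter.unusedVariables false
set_option linter.unusedSectionVars false

namespace Cfsg.Agent.Helper27.P13

open Finset

/-- the normalized vectors are pairwise non-proportional -/
theorem projpts_inj_aux : ∀ i j : Fin 13, (∃ a : ZMod 3, a • nvec j = nvec i) → i = j := by
  decide

/-- every non-zero vector `![a, b, c]` is proportional to a normalized vector -/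
theorem projpts_surj_aux : ∀ a b c : ZMod 3, ![a, b, c] ≠ 0 →
    ∃ i : Fin 13, ∃ r : ZMod 3, r • ![a, b, c] = nvec i := by
  decide

/-- PIECE PROJPTS.  `ppt` is a bijection `Fin 13 → PP`. -/
theorem ppt_bijective : Function.Bijective ppt := by
  constructor
  · intro i j hij
    unfold ppt at hij
    rw [Projectivization.mk_eq_mk_iff'] at hij
    exact projpts_inj_aux i j hij
  · intro p
    induction p using Projectivization.ind with
    | _ v hv =>
      have hv' : v = ![v 0, v 1, v 2] := by
        funext k
        fin_cases k <;> rfl
      have hne : ![v 0, v 1, v 2] ≠ 0 := by rw [← hv']; exact hv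
      obtain ⟨i, r, hr⟩ := projpts_surj_aux (v 0) (v 1) (v 2) hne
      refine ⟨i, ?_⟩
      unfold ppt
      rw [Projectivization.mk_eq_mk_iff']
      -- need ∃ a, a • v = nvec i
      refine ⟨r, ?_⟩
      rw [hv']
      exact hr

end Cfsg.Agent.Helper27.P13
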