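import Mathlib
import Cfsg.Prelude.Def_Local
import Cfsg.Prelude.Def_CaseTheorems
import Cfsg.Agent.Lib.Helper7.PCons1
import Cfsg.Agent.Lib.Helper7.Coprime

set_option autoImplicit false

namespace Cfsg.Agent.Helper7

open Subgroup
open scoped commutatorElement

section K0

variable {X : Type*} [Group X] [Finite X] (p : ℕ) [hp : Fact p.Prime]

/-- `p`-constrained with trivial `p'`-core: `C(O_p) ≤ O_p`. -/
theorem centralizer_pCore_le_of_isPConstrained_of_pPrimeCore_eq_bot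
    (hc : Cfsg.IsPConstrained p X) (hO : Cfsg.pPrimeCore p X = ⊥) :
    Subgroup.centralizer (Cfsg.pCore p X : Set X) ≤ Cfsg.pCore p X := by
  rw [isPConstrained_iff_centralizer_le] at hc
  haveI : (Cfsg.pPrimeCore p X).Normal := Cfsg.Agent.Helper22.pPrimeCore_normal p
  exact centralizer_pCore_le_of_mulEquiv p
    ((QuotientGroup.quotientMulEquivOfEq hO).trans QuotientGroup.quotientBot) hc

end K0

section K1

variable {G : Type*} [Group G] [Finite G]

/-- A fixed-point-free involution inverts. -/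
theorem conj_eq_inv_of_fixedPointFree (t : G) (ht : t * t = 1) (X : Subgroup G)
    (htX : t ∈ Subgroup.normalizer (X : Set G))
    (hfix : ∀ x ∈ X, t * x * t⁻¹ = x → x = 1) : ∀ x ∈ X, t * x * t⁻¹ = x⁻¹ := by
  have htinv : t⁻¹ = t := inv_eq_of_mul_eq_one_left ht
  have hconj : ∀ x ∈ X, t * x * t⁻¹ ∈ X := fun x hx =>
    (Subgroup.mem_normalizer_iff.mp htX x).mp hx
  let f : ↥X → ↥X := fun x => ⟨(x : G)⁻¹ * (t * x * t⁻¹), X.mul_mem (X.inv_mem x.2) (hconj x x.2)⟩
  have hinj : Function.Injective f := by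
    intro x y hxy
    have h1 : (x : G)⁻¹ * (t * x * t⁻¹) = (y : G)⁻¹ * (t * y * t⁻¹) := congrArg Subtype.val hxy
    have h2 : t * ((y : G) * (x : G)⁻¹) * t⁻¹ = (y : G) * (x : G)⁻¹ := by
      have : t * ((y : G) * (x : G)⁻¹) * t⁻¹ = (t * y * t⁻¹) * (t * x * t⁻¹)⁻¹ := by group
      rw [this]
      have h3 : t * y * t⁻¹ = (y : G) * ((x : G)⁻¹ * (t * x * t⁻¹)) := by
        rw [h1]; group
      rw [h3]; group
    have h4 := hfix _ (X.mul_mem y.2 (X.inv_mem x.2)) h2
    apply Subtype.ext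
    have : (y : G) = x := by
      have := mul_inv_eq_one.mp h4
      exact this
    exact this.symm
  have hsurj : Function.Surjective f := Finite.surjective_of_injective hinj
  intro z hz
  obtain ⟨x, hx⟩ := hsurj ⟨z, hz⟩
  have hzx : z = (x : G)⁻¹ * (t * x * t⁻¹) := (congrArg Subtype.val hx).symm
  rw [hzx]
  have : t * ((x : G)⁻¹ * (t * x * t⁻¹)) * t⁻¹ = (t * (x : G)⁻¹ * t⁻¹) * ((t * t) * x * (t * t)⁻¹) := by
    group
  rw [this, ht]
  group

/-- **Key lemma.**  In a `2`-constrained subgroup `M` with trivial core, an odd-order subgroup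
normalized by a `2`-subgroup `R` of `M` of index at most `2` in every `2`-overgroup is trivial. -/
theorem eq_bot_of_odd_normalized
    (M : Subgroup G) (hMc : Cfsg.IsPConstrained 2 ↥M) (hMO : Cfsg.pPrimeCore 2 ↥M = ⊥)
    (R : Subgroup G) (hRM : R ≤ M)
    (hbig : ∀ P : Subgroup G, IsPGroup 2 ↥P → R ≤ P → R.relIndex P ≤ 2)
    (hR : IsPGroup 2 ↥R)
    (Y : Subgroup G) (hYM : Y ≤ M) (hYodd : Odd (Nat.card ↥Y))
    (hRY : R ≤ Subgroup.normalizer (Y : Set G)) : Y = ⊥ := by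
  haveI : Fact (Nat.Prime 2) := ⟨Nat.prime_two⟩
  set Q := (Cfsg.pCore 2 ↥M).map M.subtype with hQ
  have hQ2 : IsPGroup 2 ↥Q := (pCore_isPGroup 2).map _
  have hQM : Q ≤ M := Subgroup.map_subtype_le _
  have hMQ : M ≤ Subgroup.normalizer (Q : Set G) := le_normalizer_map_subtype_of_normal _
  have hCQ : ∀ m ∈ M, (∀ q ∈ Q, m * q = q * m) → m ∈ Q := by
    intro m hm hcomm
    have h0 := centralizer_pCore_le_of_isPConstrained_of_pPrimeCore_eq_bot 2 hMc hMO
    have h1 : (⟨m, hm⟩ : ↥M) ∈ Subgroup.centralizer (Cfsg.pCore 2 ↥M : Set ↥M) := by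
      rw [Subgroup.mem_centralizer_iff]
      intro q hq
      apply Subtype.ext
      have := hcomm (q : G) (Subgroup.mem_map_of_mem M.subtype hq)
      exact this.symm
    exact ⟨⟨m, hm⟩, h0 h1, rfl⟩
  have hcopYQ : (Nat.card ↥Y).Coprime (Nat.card ↥Q) := by
    obtain ⟨n, hn⟩ := IsPGroup.iff_card.mp hQ2
    rw [hn]
    exact Nat.Coprime.pow_right n (Nat.coprime_two_right.mpr hYodd)
  have hYQ : Y ⊓ Q = ⊥ := (Subgroup.disjoint_of_coprime_natCard hcopYQ).eq_bot
  have hYnQ : Y ≤ Subgroup.normalizer (Q : Set G) := hYM.trans hMQ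
  -- (a)
  have ha : ∀ y ∈ Y, ∀ c ∈ Q, c ∈ R → y * c = c * y := by
    intro y hy c hcQ hcR
    have h1 : c * y * c⁻¹ ∈ Y := (Subgroup.mem_normalizer_iff.mp (hRY hcR) y).mp hy
    have h2 : y * c⁻¹ * y⁻¹ ∈ Q :=
      (Subgroup.mem_normalizer_iff.mp (hYnQ hy) c⁻¹).mp (Q.inv_mem hcQ)
    have h3 : c * y * c⁻¹ * y⁻¹ ∈ Y ⊓ Q := by
      refine ⟨Y.mul_mem h1 (Y.inv_mem hy), ?_⟩
      have : c * y * c⁻¹ * y⁻¹ = c * (y * c⁻¹ * y⁻¹) := by group
      rw [this]
      exact Q.mul_mem hcQ h2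
    rw [hYQ, Subgroup.mem_bot] at h3
    have : c * y = y * c := by
      have h4 : c * y * c⁻¹ * y⁻¹ * (y * c) = y * c := by rw [h3, one_mul]
      rw [← h4]; group
    exact this.symm
  -- (b)
  have hQR2 : IsPGroup 2 ↥(Q ⊔ R) :=
    IsPGroup.to_sup_of_normal_left' hQ2 hR (hRM.trans hMQ)
  have hrel1 : R.relIndex (Q ⊔ R) ≤ 2 := hbig _ hQR2 le_sup_right
  have hrel : R.relIndex Q ≤ 2 := by
    refine (Subgroup.relIndex_le_of_le_right le_sup_left ?_).trans hrel1
    unfold Subgroup.relIndex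
    exact Subgroup.index_ne_zero_of_finite
  -- (c)
  have hc : ∀ q ∈ Q, ∀ y ∈ Y, q * (y * q * y⁻¹)⁻¹ ∈ R := by
    intro q hq y hy
    have hq' : y * q * y⁻¹ ∈ Q := (Subgroup.mem_normalizer_iff.mp (hYnQ hy) q).mp hq
    by_cases hqR : q ∈ R
    · have := ha y hy q hq hqR
      have h1 : y * q * y⁻¹ = q := by rw [this]; group
      rw [h1, mul_inv_cancel]; exact R.one_mem
    · have hq'R : y * q * y⁻¹ ∉ R := by
        intro h
        have := ha y⁻¹ (Y.inv_mem hy) _ hq' h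
        have h1 : q = y * q * y⁻¹ := by
          have h2 : y⁻¹ * (y * q * y⁻¹) * y⁻¹⁻¹ = y * q * y⁻¹ := by rw [this]; group
          rw [← h2]; group
        exact hqR (h1 ▸ h)
      have hne1 : R.relIndex Q ≠ 1 := by
        intro h1
        exact hqR (Subgroup.relIndex_eq_one.mp h1 hq)
      have hne0 : R.relIndex Q ≠ 0 := by
        unfold Subgroup.relIndex
        exact Subgroup.index_ne_zero_of_finite
      have h2 : R.relIndex Q = 2 := by omega
      obtain ⟨a₀, ha₀, hx⟩ := Subgroup.relIndex_eq_two_iff.mp h2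
      have e1 : q * a₀ ∈ R := by
        rcases hx q hq with h | h
        · exact h.1
        · exact absurd h.1 hqR
      have e2 : y * q * y⁻¹ * a₀ ∈ R := by
        rcases hx _ hq' with h | h
        · exact h.1
        · exact absurd h.1 hq'R
      have : q * (y * q * y⁻¹)⁻¹ = (q * a₀) * (y * q * y⁻¹ * a₀)⁻¹ := by group
      rw [this]
      exact R.mul_mem e1 (R.inv_mem e2)
  -- stability
  have hcomm1 : ⁅Q, Y⁆ ≤ Q ⊓ R := by
    rw [Subgroup.commutator_le]
    intro q hq y hy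
    have hq' : y * q * y⁻¹ ∈ Q := (Subgroup.mem_normalizer_iff.mp (hYnQ hy) q).mp hq
    have : ⁅q, y⁆ = q * (y * q * y⁻¹)⁻¹ := by
      simp only [commutatorElement_def]; group
    rw [this]
    exact ⟨Q.mul_mem hq (Q.inv_mem hq'), hc q hq y hy⟩
  have hcomm2 : ⁅⁅Q, Y⁆, Y⁆ = ⊥ := by
    rw [eq_bot_iff]
    refine (Subgroup.commutator_mono hcomm1 le_rfl).trans ?_
    rw [Subgroup.commutator_le]
    intro c hc' y hy
    have := ha y hy c hc'.1 hc'.2
    rw [Subgroup.mem_bot, commutatorElement_def]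
    rw [← this]; group
  have hQY : Q ≤ Subgroup.centralizer (Y : Set G) :=
    le_centralizer_of_commutator_commutator_eq_bot hcopYQ hYnQ hcomm2
  rw [eq_bot_iff]
  intro y hy
  have h1 : y ∈ Q := by
    apply hCQ y (hYM hy)
    intro q hq
    exact (Subgroup.mem_centralizer_iff.mp (hQY hq) y hy)
  have : y ∈ Y ⊓ Q := ⟨hy, h1⟩
  rwa [hYQ] at this

end K1

end Cfsg.Agent.Helper7
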