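import Mathlib
import Cfsg.Prelude.Def_Local
import Cfsg.Prelude.Def_CaseTheorems
import Cfsg.Prelude.Def_OddOrderLocal
import Cfsg.Agent.Lib.Helper7.PCons2
import Cfsg.Agent.Lib.Helper8.PGroup
import Cfsg.Agent.Lib.Helper7.CoprimeGen2

set_option autoImplicit false

namespace Cfsg.Agent.Helper7

open Subgroup
open scoped commutatorElement

theorem eq_one_or_eq_of_mem_zpowers_of_mul_self {H : Type*} [Group H] {g z : H} (hg : g * g = 1)
    (hz : z ∈ Subgroup.zpowers g) : z = 1 ∨ z = g := by
  obtain ⟨k, rfl⟩ := Subgroup.mem_zpowers_iff.mp hz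
  have h2 : g ^ (2 : ℤ) = 1 := by rw [zpow_two, hg]
  rcases Int.even_or_odd' k with ⟨m, hm | hm⟩
  · left
    rw [hm, zpow_mul, h2, one_zpow]
  · right
    rw [hm, zpow_add, zpow_mul, h2, one_zpow, one_mul, zpow_one]

variable {G : Type*} [Group G] [Finite G]

/-- the three-involution contradiction -/
theorem eq_one_of_three_inverting {X : Subgroup G} (hodd : Odd (Nat.card ↥X)) {a b : G}
    (ha : ∀ x ∈ X, a * x * a⁻¹ = x⁻¹) (hb : ∀ x ∈ X, b * x * b⁻¹ = x⁻¹)
    (hab : ∀ x ∈ X, (a * b) * x * (a * b)⁻¹ = x⁻¹) : X = ⊥ := by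
  rw [eq_bot_iff]
  intro x hx
  rw [Subgroup.mem_bot]
  have h1 : (a * b) * x * (a * b)⁻¹ = a * (b * x * b⁻¹) * a⁻¹ := by group
  have h2 : x⁻¹ = x := by
    rw [← hab x hx, h1, hb x hx, ha x⁻¹ (X.inv_mem hx), inv_inv]
  have h3 : x ^ 2 = 1 := by
    rw [pow_two]
    nth_rewrite 1 [← h2]
    exact inv_mul_cancel x
  have h4 : orderOf x ∣ 2 := orderOf_dvd_of_pow_eq_one h3
  have h5 : orderOf x ∣ Nat.card ↥X := Subgroup.orderOf_dvd_natCard X hx
  have h6 : orderOf x ∣ Nat.gcd 2 (Nat.card ↥X) := Nat.dvd_gcd h4 h5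
  have h7 : Nat.gcd 2 (Nat.card ↥X) = 1 := Nat.coprime_two_left.mpr hodd
  rw [h7] at h6
  exact orderOf_eq_one_iff.mp (Nat.dvd_one.mp h6)

/-- **No odd-order subgroup is normalized by a Sylow `2`-subgroup**, given a normal
self-centralizing subgroup of rank `≥ 3` and `2`-constrained core-free overgroups of involution
centralizers. -/
theorem eq_bot_of_odd_sylow_invariant
    (S : Sylow 2 G) (A : Subgroup G) (hA : Cfsg.IsSCN (S : Subgroup G) A)
    (hA3 : ¬ Cfsg.PRankLE 2 2 ↥A)
    (hloc : ∀ b : G, orderOf b = 2 → ∃ M : Subgroup G, Subgroup.centralizer ({b} : Set G) ≤ M ∧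
        Cfsg.IsPConstrained 2 ↥M ∧ Cfsg.pPrimeCore 2 ↥M = ⊥)
    (X : Subgroup G) (hodd : Odd (Nat.card ↥X))
    (hSX : (S : Subgroup G) ≤ Subgroup.normalizer (X : Set G)) : X = ⊥ := by
  haveI : Fact (Nat.Prime 2) := ⟨Nat.prime_two⟩
  obtain ⟨hAS, hSA, hCA⟩ := hA
  -- K2
  have K2 : ∀ b : G, orderOf b = 2 → ∀ R : Subgroup G, R ≤ (S : Subgroup G) →
      R ≤ Subgroup.centralizer ({b} : Set G) →
      (∀ P : Subgroup G, IsPGroup 2 ↥P → R ≤ P → R.relIndex P ≤ 2) →
      X ⊓ Subgroup.centralizer ({b} : Set G) = ⊥ := by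
    intro b hb R hRS hRb hbig
    obtain ⟨M, hCM, hMc, hMO⟩ := hloc b hb
    apply eq_bot_of_odd_normalized M hMc hMO R (hRb.trans hCM) hbig (S.isPGroup'.to_le hRS)
      _ (inf_le_right.trans hCM)
    · exact Odd.of_dvd_nat hodd (Subgroup.card_dvd_of_le inf_le_left)
    · apply le_normalizer_of_forall_conj_mem
      intro r hr y hy
      refine Subgroup.mem_inf.mpr ⟨(Subgroup.mem_normalizer_iff.mp (hSX (hRS hr)) y).mp hy.1, ?_⟩
      rw [Subgroup.mem_centralizer_iff]
      intro c hc
      rw [Set.mem_singleton_iff] at hc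
      subst hc
      have h1 : c * r = r * c := Subgroup.mem_centralizer_iff.mp (hRb hr) c rfl
      have h2 : c * y = y * c := Subgroup.mem_centralizer_iff.mp hy.2 c rfl
      calc c * (r * y * r⁻¹) = (c * r) * y * r⁻¹ := by group
        _ = r * (c * y) * r⁻¹ := by rw [h1]; group
        _ = r * y * (c * r⁻¹) := by rw [h2]; group
        _ = r * y * (r⁻¹ * c) := by
            have : c * r⁻¹ = r⁻¹ * c := by
              have h3 : r⁻¹ * (c * r) * r⁻¹ = r⁻¹ * (r * c) * r⁻¹ := by rw [h1]
              have h4 : r⁻¹ * (c * r) * r⁻¹ = r⁻¹ * c := by group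
              have h5 : r⁻¹ * (r * c) * r⁻¹ = c * r⁻¹ := by group
              rw [← h5, ← h3, h4]
            rw [this]
        _ = r * y * r⁻¹ * c := by group
  -- inverting from K2
  have Kinv : ∀ t : G, orderOf t = 2 → t ∈ (S : Subgroup G) →
      X ⊓ Subgroup.centralizer ({t} : Set G) = ⊥ → ∀ x ∈ X, t * x * t⁻¹ = x⁻¹ := by
    intro t ht htS hfix
    have htt : t * t = 1 := by
      have := pow_orderOf_eq_one t
      rw [ht, pow_two] at this
      exact this
    apply conj_eq_inv_of_fixedPointFree t htt X (hSX htS)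
    intro x hx hxt
    have : x ∈ X ⊓ Subgroup.centralizer ({t} : Set G) := by
      refine Subgroup.mem_inf.mpr ⟨hx, ?_⟩
      rw [Subgroup.mem_centralizer_iff]
      intro c hc
      rw [Set.mem_singleton_iff] at hc
      subst hc
      calc c * x = c * x * c⁻¹ * c := by group
        _ = x * c := by rw [hxt]
    rw [hfix] at this
    exact Subgroup.mem_bot.mp this
  -- `A` is abelian
  have hAab : ∀ x ∈ A, ∀ y ∈ A, x * y = y * x := by
    intro x hx y hy
    have h1 : x ∈ (S : Subgroup G) ⊓ Subgroup.centralizer (A : Set G) := by rw [hCA]; exact hx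
    exact (Subgroup.mem_centralizer_iff.mp h1.2 y hy).symm
  -- `V = Ω₁(A)`
  let V : Subgroup G :=
    { carrier := {v | v ∈ A ∧ v ^ 2 = 1}
      mul_mem' := by
        rintro v w ⟨hv, hv2⟩ ⟨hw, hw2⟩
        refine ⟨A.mul_mem hv hw, ?_⟩
        have hc : Commute v w := hAab v hv w hw
        rw [hc.mul_pow, hv2, hw2, one_mul]
      one_mem' := ⟨A.one_mem, one_pow 2⟩
      inv_mem' := by
        rintro v ⟨hv, hv2⟩
        exact ⟨A.inv_mem hv, by rw [inv_pow, hv2, inv_one]⟩ }
  have hVA : V ≤ A := fun v hv => hv.1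
  have hVS : V ≤ (S : Subgroup G) := hVA.trans hAS
  have hVcard : 4 < Nat.card ↥V := by
    unfold Cfsg.PRankLE at hA3
    push_neg at hA3
    obtain ⟨E, hE1, hE2, hE3⟩ := hA3
    have hle : E.map A.subtype ≤ V := by
      rintro _ ⟨e, he, rfl⟩
      refine ⟨e.2, ?_⟩
      have := hE2 e he
      have h2 : ((e ^ 2 : ↥A) : G) = 1 := by rw [this]; rfl
      simpa using h2
    have h1 : Nat.card ↥(E.map A.subtype) = Nat.card ↥E :=
      Nat.card_congr (E.equivMapOfInjective A.subtype A.subtype_injective).symm.toEquiv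
    have h2 := Subgroup.card_le_of_le hle
    rw [h1] at h2
    have : (2 : ℕ) ^ 2 = 4 := by norm_num
    omega
  have hS1 : (S : Subgroup G) ≠ ⊥ := by
    intro h
    have h1 : V = ⊥ := by rw [eq_bot_iff, ← h]; exact hVS
    rw [h1, Subgroup.card_bot] at hVcard
    omega
  obtain ⟨a, haS, hao, hac⟩ := exists_orderOf_eq_prime_centralizing 2 S.isPGroup' hS1
  have haa : a * a = 1 := by
    have := pow_orderOf_eq_one a
    rw [hao, pow_two] at this
    exact this
  have hainv : a⁻¹ = a := inv_eq_of_mul_eq_one_left haa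
  have ha1 : a ≠ 1 := by
    intro h
    rw [h, orderOf_one] at hao
    omega
  -- quotient by `⟨a⟩`
  let a' : ↥(S : Subgroup G) := ⟨a, haS⟩
  have ha'c : a' ∈ Subgroup.center ↥(S : Subgroup G) := by
    rw [Subgroup.mem_center_iff]
    intro g
    apply Subtype.ext
    exact hac g g.2
  let Z' : Subgroup ↥(S : Subgroup G) := Subgroup.zpowers a'
  have hZc : Z' ≤ Subgroup.center ↥(S : Subgroup G) := Subgroup.zpowers_le.mpr ha'c
  haveI hZn : Z'.Normal := by
    refine ⟨fun n hn g => ?_⟩
    have := Subgroup.mem_center_iff.mp (hZc hn) g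
    have h2 : g * n * g⁻¹ = n := by rw [this]; group
    rw [h2]; exact hn
  have ha'a' : a' * a' = 1 := Subtype.ext haa
  have hZmem : ∀ z ∈ Z', z = 1 ∨ z = a' := fun z hz =>
    eq_one_or_eq_of_mem_zpowers_of_mul_self ha'a' hz
  let V' : Subgroup ↥(S : Subgroup G) := V.subgroupOf (S : Subgroup G)
  haveI hV'n : V'.Normal := by
    refine ⟨fun v hv s => ?_⟩
    rw [Subgroup.mem_subgroupOf] at hv ⊢
    have hs : (s : G) ∈ Subgroup.normalizer (A : Set G) := hSA s.2
    refine ⟨(Subgroup.mem_normalizer_iff.mp hs _).mp hv.1, ?_⟩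
    have : ((s * v * s⁻¹ : ↥(S : Subgroup G)) : G) = (s : G) * (v : G) * (s : G)⁻¹ := rfl
    rw [this, conj_pow, hv.2]; group
  let φ := QuotientGroup.mk' Z'
  have hφs : Function.Surjective φ := QuotientGroup.mk'_surjective Z'
  let Nb : Subgroup (↥(S : Subgroup G) ⧸ Z') := V'.map φ
  haveI hNbn : Nb.Normal := hV'n.map φ hφs
  have hNb1 : Nb ≠ ⊥ := by
    intro h
    have h1 : V' ≤ Z' := by
      have := (Subgroup.map_eq_bot_iff V').mp h
      rwa [QuotientGroup.ker_mk'] at this
    have h2 : Nat.card ↥V' = Nat.card ↥V :=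
      Nat.card_congr (Subgroup.subgroupOfEquivOfLe hVS).toEquiv
    have h3 : Nat.card ↥Z' = 2 := by
      rw [Nat.card_zpowers]
      have : orderOf a' = orderOf a := Subgroup.orderOf_mk a haS
      rw [this, hao]
    have h4 := Subgroup.card_le_of_le h1
    omega
  have hQ2 : IsPGroup 2 (↥(S : Subgroup G) ⧸ Z') := S.isPGroup'.to_quotient Z'
  obtain ⟨zb, hzN, hzc, hz1⟩ :=
    Cfsg.Agent.Helper8.exists_mem_center_of_normal_ne_bot hQ2 Nb hNb1
  obtain ⟨v, hvV, rfl⟩ := hzN
  have hvZ : v ∉ Z' := by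
    intro h
    apply hz1
    exact (QuotientGroup.eq_one_iff v).mpr h
  have hcommZ : ∀ s : ↥(S : Subgroup G), s * v * s⁻¹ * v⁻¹ ∈ Z' := by
    intro s
    rw [← QuotientGroup.eq_one_iff]
    have h1 := Subgroup.mem_center_iff.mp hzc (φ s)
    change φ (s * v * s⁻¹ * v⁻¹) = 1
    rw [map_mul, map_mul, map_mul, map_inv, map_inv, h1]
    group
  set b : G := (v : G) with hb
  have hbS : b ∈ (S : Subgroup G) := v.2
  have hbV : b ∈ V := Subgroup.mem_subgroupOf.mp hvV
  have hb2 : b ^ 2 = 1 := hbV.2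
  have hbb : b * b = 1 := by rw [← pow_two]; exact hb2
  have hbinv : b⁻¹ = b := inv_eq_of_mul_eq_one_left hbb
  have hb1 : b ≠ 1 := by
    intro h
    apply hvZ
    have : v = 1 := Subtype.ext h
    rw [this]; exact Z'.one_mem
  have hba : b ≠ a := by
    intro h
    apply hvZ
    have : v = a' := Subtype.ext h
    rw [this]; exact Subgroup.mem_zpowers a'
  have hbo : orderOf b = 2 := orderOf_eq_prime hb2 hb1
  have hcommG : ∀ s ∈ (S : Subgroup G), s * b * s⁻¹ * b⁻¹ = 1 ∨ s * b * s⁻¹ * b⁻¹ = a := by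
    intro s hs
    rcases hZmem _ (hcommZ ⟨s, hs⟩) with h | h
    · left; exact congrArg Subtype.val h
    · right; exact congrArg Subtype.val h
  have hab_comm : a * b = b * a := (hac b hbS).symm
  have habo : orderOf (a * b) = 2 := by
    apply orderOf_eq_prime
    · rw [pow_two]
      calc a * b * (a * b) = a * (b * a) * b := by group
        _ = a * (a * b) * b := by rw [hab_comm]
        _ = (a * a) * (b * b) := by group
        _ = 1 := by rw [haa, hbb, one_mul]
    · intro h
      apply hba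
      have : b = a⁻¹ := by
        have h2 : a⁻¹ * (a * b) = a⁻¹ := by rw [h, mul_one]
        rw [← h2]; group
      rw [this, hainv]
  have habS : a * b ∈ (S : Subgroup G) := (S : Subgroup G).mul_mem haS hbS
  set R : Subgroup G := (S : Subgroup G) ⊓ Subgroup.centralizer ({b} : Set G) with hR
  have hRS : R ≤ (S : Subgroup G) := inf_le_left
  have hmemR : ∀ t ∈ (S : Subgroup G), t ∈ R ↔ t * b * t⁻¹ = b := by
    intro t ht
    constructor
    · intro h
      have h1 : b * t = t * b := Subgroup.mem_centralizer_iff.mp h.2 b rfl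
      rw [← h1]; group
    · intro h
      refine Subgroup.mem_inf.mpr ⟨ht, ?_⟩
      rw [Subgroup.mem_centralizer_iff]
      intro c hc
      rw [Set.mem_singleton_iff] at hc
      rw [hc]
      have h2 : b * t = (t * b * t⁻¹) * t := by rw [h]
      rw [h2]; group
  have hRrelS : R.relIndex (S : Subgroup G) ≤ 2 := by
    by_cases hcen : ∀ s ∈ (S : Subgroup G), s * b * s⁻¹ = b
    · have : (S : Subgroup G) ≤ R := fun s hs => (hmemR s hs).mpr (hcen s hs)
      rw [Subgroup.relIndex_eq_one.mpr this]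
      norm_num
    · push_neg at hcen
      obtain ⟨s₀, hs₀, hs₀b⟩ := hcen
      have hs₀a : s₀ * b * s₀⁻¹ = a * b := by
        rcases hcommG s₀ hs₀ with h | h
        · exfalso
          apply hs₀b
          have h' : s₀ * b * s₀⁻¹ = (s₀ * b * s₀⁻¹ * b⁻¹) * b := by group
          rw [h', h, one_mul]
        · have h' : s₀ * b * s₀⁻¹ = (s₀ * b * s₀⁻¹ * b⁻¹) * b := by group
          rw [h', h]
      have key : ∀ t ∈ (S : Subgroup G), (t * s₀) * b * (t * s₀)⁻¹ = a * (t * b * t⁻¹) := by
        intro t ht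
        calc (t * s₀) * b * (t * s₀)⁻¹ = t * (s₀ * b * s₀⁻¹) * t⁻¹ := by group
          _ = t * (a * b) * t⁻¹ := by rw [hs₀a]
          _ = (t * a) * b * t⁻¹ := by group
          _ = (a * t) * b * t⁻¹ := by rw [hac t ht]
          _ = a * (t * b * t⁻¹) := by group
      have h2 : R.relIndex (S : Subgroup G) = 2 := by
        rw [Subgroup.relIndex_eq_two_iff]
        refine ⟨s₀, hs₀, ?_⟩
        intro t ht
        have hts : t * s₀ ∈ (S : Subgroup G) := (S : Subgroup G).mul_mem ht hs₀
        by_cases htR : t ∈ R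
        · right
          refine ⟨htR, ?_⟩
          intro h
          have h3 := (hmemR _ hts).mp h
          rw [key t ht, (hmemR t ht).mp htR] at h3
          apply ha1
          have : a * b * b⁻¹ = b * b⁻¹ := by rw [h3]
          simpa using this
        · left
          refine ⟨?_, htR⟩
          rw [hmemR _ hts, key t ht]
          have h4 : t * b * t⁻¹ = a * b := by
            rcases hcommG t ht with h | h
            · exfalso
              apply htR
              rw [hmemR t ht]
              have h' : t * b * t⁻¹ = (t * b * t⁻¹ * b⁻¹) * b := by group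
              rw [h', h, one_mul]
            · have h' : t * b * t⁻¹ = (t * b * t⁻¹ * b⁻¹) * b := by group
              rw [h', h]
          rw [h4, ← mul_assoc, haa, one_mul]
      rw [h2]
  have hbigR : ∀ P : Subgroup G, IsPGroup 2 ↥P → R ≤ P → R.relIndex P ≤ 2 := by
    intro P hP hRP
    obtain ⟨S', hS'⟩ := hP.exists_le_sylow
    have h1 : Nat.card ↥P ≤ Nat.card ↥(S : Subgroup G) := by
      have := Subgroup.card_le_of_le hS'
      rw [S'.card_eq_multiplicity] at this
      rw [S.card_eq_multiplicity]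
      exact this
    have h2 := relIndex_mul_card_of_le hRP
    have h3 := relIndex_mul_card_of_le hRS
    have h4 : 0 < Nat.card ↥R := Nat.card_pos
    have h5 : R.relIndex P * Nat.card ↥R ≤ 2 * Nat.card ↥R := by
      calc R.relIndex P * Nat.card ↥R = Nat.card ↥P := h2
        _ ≤ Nat.card ↥(S : Subgroup G) := h1
        _ = R.relIndex (S : Subgroup G) * Nat.card ↥R := h3.symm
        _ ≤ 2 * Nat.card ↥R := Nat.mul_le_mul_right _ hRrelS
    exact Nat.le_of_mul_le_mul_right h5 h4
  have hbigS : ∀ P : Subgroup G, IsPGroup 2 ↥P → (S : Subgroup G) ≤ P →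
      (S : Subgroup G).relIndex P ≤ 2 := by
    intro P hP hSP
    have : P = (S : Subgroup G) := S.is_maximal' hP hSP
    rw [this, Subgroup.relIndex_self]
    norm_num
  have hRb : R ≤ Subgroup.centralizer ({b} : Set G) := inf_le_right
  have hRab : R ≤ Subgroup.centralizer ({a * b} : Set G) := by
    intro r hr
    rw [Subgroup.mem_centralizer_iff]
    intro c hc
    rw [Set.mem_singleton_iff] at hc
    subst hc
    have h1 : b * r = r * b := Subgroup.mem_centralizer_iff.mp hr.2 b rfl
    have h2 : r * a = a * r := hac r hr.1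
    calc a * b * r = a * (b * r) := by group
      _ = a * (r * b) := by rw [h1]
      _ = (a * r) * b := by group
      _ = (r * a) * b := by rw [h2]
      _ = r * (a * b) := by group
  have hSa : (S : Subgroup G) ≤ Subgroup.centralizer ({a} : Set G) := by
    intro s hs
    rw [Subgroup.mem_centralizer_iff]
    intro c hc
    rw [Set.mem_singleton_iff] at hc
    subst hc
    exact (hac s hs).symm
  have fa := Kinv a hao haS (K2 a hao (S : Subgroup G) le_rfl hSa hbigS)
  have fb := Kinv b hbo hbS (K2 b hbo R hRS hRb hbigR)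
  have fab := Kinv (a * b) habo habS (K2 (a * b) habo R hRS hRab hbigR)
  exact eq_one_of_three_inverting hodd fa fb fab

end Cfsg.Agent.Helper7
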