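import Cfsg.Agent.Lib.Helper7.S3AB2Asm
import Cfsg.Agent.Lib.Helper10.S3AYDATA

/-!
# (S₃,S₃)-amalgams: chapter B2 of S2858, the export `false_of_b_two` (helper7)
-/

set_option autoImplicit false

namespace Cfsg.Agent.Helper24.S3A

variable {G : Type*} [Group G] {V : Type*} [MulAction G V] {Γ : SimpleGraph V}

/-- EXPORT (SkelB): `b = 2` is impossible -/
theorem false_of_b_two (h : Amal G Γ) (hb : critDist G Γ = 2) : False := by
  obtain ⟨y, hy⟩ := exists_ydata h (by omega)
  exact B2_false_of_ydata h hb hy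

end Cfsg.Agent.Helper24.S3A
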