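import Mathlib
import Cfsg.Prelude.Def_Classical
import Cfsg.Agent.Lib.Helper15.S74Defs
import Cfsg.Agent.Lib.Helper7.S74NXA1Core
import Cfsg.Agent.Lib.Helper12.S74WSMALL

/-!
# S2474 piece S74-NXA1 (helper7): disjoint supports
-/

set_option autoImplicit false

open Cfsg.Agent.Helper15.S62

namespace Cfsg.Agent.Helper15.S74

universe u

variable {F : Type u} [Field F]

/-- S74-NXA1 (uses WSMALL): the case of disjoint supports. -/
theorem nxA_disjoint [Fintype F] {V : Type u} [AddCommGroup V] [Module F V]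
    [FiniteDimensional F V] (B : LinearMap.BilinForm F V) (hnd : LND B) (x y : Module.End F V)
    (hx : Isom B x) (hy : Isom B y) (r s : ℕ) (hr : r.Prime) (hs : s.Prime) (hr2 : r ≠ 2)
    (hs2 : s ≠ 2) (hrF : (r : F) ≠ 0) (hsF : (s : F) ≠ 0) (hxr : x ^ r = 1) (hys : y ^ s = 1)
    (hx1 : x ≠ 1) (hy1 : y ≠ 1) (hdisj : Wpart x r ⊓ Wpart y s = ⊥) (n : ℕ)
    (hdim : Module.finrank F V ≤ 2 * n + 1) :
    ∃ a b : ℕ, 1 ≤ a ∧ 1 ≤ b ∧ a + b ≤ n ∧ r ∣ Fintype.card F ^ (2 * a) - 1 ∧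
      s ∣ Fintype.card F ^ (2 * b) - 1 :=
  s74_nxa1_core B hnd (fun y hy t ht ht2 htF hyt hy1 => wpart_small B hnd y hy t ht ht2 htF hyt hy1)
    x y hx hy r s hr hs hr2 hs2 hrF hsF hxr hys hx1 hy1 hdisj n hdim

end Cfsg.Agent.Helper15.S74
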