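import Mathlib
import Cfsg.Prelude.Def_Local
import Cfsg.Agent.Lib.Helper7.PLocal
import Cfsg.Agent.Lib.Helper7.PLocal4

set_option autoImplicit false

namespace Cfsg.Agent.Helper7

open Subgroup
open scoped commutatorElement Pointwise

/-- a normal `p`-subgroup containing its centralizer forces `F*(G) = O_p(G)`. -/
theorem generalizedFittingSubgroup_eq_pCore_of_normal_pSubgroup {G : Type*} [Group G] [Finite G]
    (p : ℕ) [Fact p.Prime] (Q : Subgroup G) (hQn : Q.Normal) (hQp : IsPGroup p ↥Q)
    (hQc : Subgroup.centralizer (Q : Set G) ≤ Q) :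
    Cfsg.generalizedFittingSubgroup G = Cfsg.pCore p G := by
  have hQle : Q ≤ Cfsg.pCore p G := le_pCore hQn hQp
  apply generalizedFittingSubgroup_eq_pCore_of_centralizer_le
  exact ((Subgroup.centralizer_le (by exact_mod_cast hQle)).trans hQc).trans hQle

section F2

variable {F : Type*} [Field F] [Fintype F] [DecidableEq F]

theorem eq_zero_or_eq_one_of_card_eq_two (hF : Fintype.card F = 2) (x : F) : x = 0 ∨ x = 1 := by
  by_cases hx : x = 0
  · exact Or.inl hx
  · right
    have h1 : Fintype.card Fˣ = 1 := by rw [Fintype.card_units, hF]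
    have h2 : Subsingleton Fˣ := Fintype.card_le_one_iff_subsingleton.mp h1.le
    have := Subsingleton.elim (Units.mk0 x hx) 1
    simpa using congrArg Units.val this

theorem add_self_eq_zero_of_card_eq_two (hF : Fintype.card F = 2) (x : F) : x + x = 0 := by
  have h11 : (1 : F) + 1 = 0 := by
    rcases eq_zero_or_eq_one_of_card_eq_two hF ((1 : F) + 1) with h | h
    · exact h
    · exfalso
      have : (1 : F) = 0 := by
        have := h
        linear_combination this
      exact one_ne_zero this
  calc x + x = x * (1 + 1) := by ring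
    _ = 0 := by rw [h11, mul_zero]

end F2

section RowGroup

variable {F : Type*} [Field F] {n : ℕ}

/-- the subgroup of `SL(n,F)` of matrices all of whose rows but the `i`-th are standard. -/
def rowGroup (i : Fin n) : Subgroup (Matrix.SpecialLinearGroup (Fin n) F) where
  carrier := {g | ∀ k, k ≠ i → ∀ l, (g : Matrix (Fin n) (Fin n) F) k l = (1 : Matrix (Fin n) (Fin n) F) k l}
  one_mem' := by
    intro k _ l
    simp
  mul_mem' := by
    intro g g' hg hg' k hk l
    rw [Matrix.SpecialLinearGroup.coe_mul, Matrix.mul_apply]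
    rw [Finset.sum_congr rfl (fun a _ => by rw [hg k hk a])]
    rw [← Matrix.mul_apply, one_mul]
    exact hg' k hk l
  inv_mem' := by
    intro g hg k hk l
    have h1 : ((g * g⁻¹ : Matrix.SpecialLinearGroup (Fin n) F) : Matrix (Fin n) (Fin n) F) k l
        = (1 : Matrix (Fin n) (Fin n) F) k l := by
      rw [mul_inv_cancel]; rfl
    rw [Matrix.SpecialLinearGroup.coe_mul, Matrix.mul_apply] at h1
    rw [Finset.sum_congr rfl (fun a _ => by rw [hg k hk a])] at h1
    rw [← Matrix.mul_apply, one_mul] at h1
    exact h1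

theorem mem_rowGroup_iff (i : Fin n) (g : Matrix.SpecialLinearGroup (Fin n) F) :
    g ∈ rowGroup i ↔ ∀ k, k ≠ i → ∀ l,
      (g : Matrix (Fin n) (Fin n) F) k l = (1 : Matrix (Fin n) (Fin n) F) k l := Iff.rfl

theorem rowGroup_diag [Fintype F] [DecidableEq F] (hF : Fintype.card F = 2) (i : Fin n)
    {g : Matrix.SpecialLinearGroup (Fin n) F} (hg : g ∈ rowGroup i) :
    (g : Matrix (Fin n) (Fin n) F) i i = 1 := by
  rcases eq_zero_or_eq_one_of_card_eq_two hF ((g : Matrix (Fin n) (Fin n) F) i i) with h | h
  · exfalso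
    have hdet : (g : Matrix (Fin n) (Fin n) F).det = 0 := by
      apply Matrix.det_eq_zero_of_column_eq_zero i
      intro k
      by_cases hk : k = i
      · rw [hk]; exact h
      · rw [hg k hk i, Matrix.one_apply_ne hk]
    rw [g.det_coe] at hdet
    exact one_ne_zero hdet
  · exact h

theorem commute_single_of_mem_rowGroup [Fintype F] [DecidableEq F] (hF : Fintype.card F = 2)
    {i j : Fin n} (hij : i ≠ j)
    {g : Matrix.SpecialLinearGroup (Fin n) F} (hg : g ∈ rowGroup i) :
    Commute (Matrix.single i j (1 : F)) (g : Matrix (Fin n) (Fin n) F) := by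
  have hii := rowGroup_diag hF i hg
  show Matrix.single i j (1 : F) * (g : Matrix (Fin n) (Fin n) F)
    = (g : Matrix (Fin n) (Fin n) F) * Matrix.single i j (1 : F)
  ext k l
  by_cases hk : k = i
  · subst hk
    by_cases hl : l = j
    · subst hl
      rw [Matrix.single_mul_apply_same, Matrix.mul_single_apply_same, hii, hg l hij.symm l]
      simp
    · rw [Matrix.single_mul_apply_same, Matrix.mul_single_apply_of_ne _ _ _ _ _ hl,
        hg j hij.symm l, Matrix.one_apply_ne (Ne.symm hl)]
      simp
  · rw [Matrix.single_mul_apply_of_ne _ _ _ _ _ hk]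
    by_cases hl : l = j
    · subst hl
      rw [Matrix.mul_single_apply_same, hg k hk i, Matrix.one_apply_ne hk]
      simp
    · rw [Matrix.mul_single_apply_of_ne _ _ _ _ _ hl]

theorem mul_self_of_mem_rowGroup [Fintype F] [DecidableEq F] (hF : Fintype.card F = 2)
    (i : Fin n) {g : Matrix.SpecialLinearGroup (Fin n) F} (hg : g ∈ rowGroup i) :
    g * g = 1 := by
  have hii := rowGroup_diag hF i hg
  obtain ⟨M, hM⟩ : ∃ M : Matrix (Fin n) (Fin n) F, M = (g : Matrix (Fin n) (Fin n) F) := ⟨_, rfl⟩
  have hg : ∀ k, k ≠ i → ∀ l, M k l = (1 : Matrix (Fin n) (Fin n) F) k l := by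
    rw [hM]; exact hg
  rw [← hM] at hii
  have hNN : (M - 1) * (M - 1) = 0 := by
    ext k l
    rw [Matrix.mul_apply]
    apply Finset.sum_eq_zero
    intro a _
    by_cases ha : a = i
    · subst ha
      by_cases hk : k = a
      · subst hk
        rw [Matrix.sub_apply, hii, Matrix.one_apply_eq, sub_self, zero_mul]
      · rw [Matrix.sub_apply, hg k hk a, sub_self, zero_mul]
    · rw [Matrix.sub_apply (M) 1 a l, hg a ha l, sub_self, mul_zero]
  have h2 : M + M = 0 := by
    ext k l
    exact add_self_eq_zero_of_card_eq_two hF _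
  have h3 : M * M = 1 := by
    have h4 : M * M - M - M + 1 = 0 := by
      have := hNN
      rw [sub_mul, mul_sub, mul_sub, mul_one, one_mul, one_mul] at this
      rw [← this]; abel
    have h5 : (1 : Matrix (Fin n) (Fin n) F) + 1 = 0 := by
      ext k l
      exact add_self_eq_zero_of_card_eq_two hF _
    calc M * M = (M * M - M - M + 1) + (M + M) - 1 := by abel
      _ = 1 := by rw [h4, h2, add_zero, zero_sub]; exact neg_eq_of_add_eq_zero_left h5
  apply Subtype.ext
  rw [Matrix.SpecialLinearGroup.coe_mul, ← hM]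
  exact h3

theorem conj_mem_rowGroup (i : Fin n) {c g : Matrix.SpecialLinearGroup (Fin n) F}
    (hc : ∀ k, k ≠ i → (c : Matrix (Fin n) (Fin n) F) k i = 0) (hg : g ∈ rowGroup i) :
    c * g * c⁻¹ ∈ rowGroup i := by
  intro k hk l
  have h1 : ∀ b, ((c * g : Matrix.SpecialLinearGroup (Fin n) F) : Matrix (Fin n) (Fin n) F) k b
      = (c : Matrix (Fin n) (Fin n) F) k b := by
    intro b
    rw [Matrix.SpecialLinearGroup.coe_mul, Matrix.mul_apply]
    have : ∀ a ∈ Finset.univ, (c : Matrix (Fin n) (Fin n) F) k a * (g : Matrix (Fin n) (Fin n) F) a b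
        = (c : Matrix (Fin n) (Fin n) F) k a * (1 : Matrix (Fin n) (Fin n) F) a b := by
      intro a _
      by_cases ha : a = i
      · subst ha
        rw [hc k hk, zero_mul, zero_mul]
      · rw [hg a ha b]
    rw [Finset.sum_congr rfl this, ← Matrix.mul_apply, mul_one]
  rw [Matrix.SpecialLinearGroup.coe_mul, Matrix.mul_apply]
  rw [Finset.sum_congr rfl (fun a _ => by rw [h1 a])]
  rw [← Matrix.mul_apply, ← Matrix.SpecialLinearGroup.coe_mul, mul_inv_cancel]
  rfl

/-- the transvection `1 + E_{il}` as an element of `SL`. -/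
def transvSL (i l : Fin n) (hil : i ≠ l) : Matrix.SpecialLinearGroup (Fin n) F :=
  ⟨Matrix.transvection i l 1, Matrix.det_transvection_of_ne i l hil 1⟩

theorem transvSL_mem_rowGroup (i l : Fin n) (hil : i ≠ l) :
    (transvSL i l hil : Matrix.SpecialLinearGroup (Fin n) F) ∈ rowGroup i := by
  intro k hk m
  show (Matrix.transvection i l (1 : F)) k m = _
  rw [Matrix.transvection, Matrix.add_apply, Matrix.single_apply_of_ne]
  · simp
  · exact fun h => hk h.1.symm

theorem mem_rowGroup_of_commute [Fintype F] [DecidableEq F] (hF : Fintype.card F = 2)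
    {i j : Fin n} (hij : i ≠ j) {c : Matrix.SpecialLinearGroup (Fin n) F}
    (hc : ∀ l (hil : i ≠ l), c * transvSL i l hil = transvSL i l hil * c) :
    c ∈ rowGroup i := by
  have hcomm : ∀ l, i ≠ l → Commute (Matrix.single i l (1 : F)) (c : Matrix (Fin n) (Fin n) F) := by
    intro l hil
    have h1 := congrArg (fun x : Matrix.SpecialLinearGroup (Fin n) F =>
      (x : Matrix (Fin n) (Fin n) F)) (hc l hil)
    simp only [Matrix.SpecialLinearGroup.coe_mul] at h1
    have h2 : ((transvSL i l hil : Matrix.SpecialLinearGroup (Fin n) F) : Matrix (Fin n) (Fin n) F)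
        = 1 + Matrix.single i l (1 : F) := rfl
    rw [h2, mul_add, add_mul, mul_one, one_mul] at h1
    exact (add_left_cancel h1).symm
  have hdiag : (c : Matrix (Fin n) (Fin n) F) i i = 1 := by
    rcases eq_zero_or_eq_one_of_card_eq_two hF ((c : Matrix (Fin n) (Fin n) F) i i) with h | h
    · exfalso
      have hdet : (c : Matrix (Fin n) (Fin n) F).det = 0 := by
        apply Matrix.det_eq_zero_of_row_eq_zero j
        intro k
        by_cases hk : k = j
        · rw [hk, ← Matrix.diag_eq_of_commute_single (hcomm j hij)]; exact h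
        · exact Matrix.row_eq_zero_of_commute_single (hcomm j hij) hk
      rw [c.det_coe] at hdet
      exact one_ne_zero hdet
    · exact h
  intro k hk l
  by_cases hl : l = k
  · subst hl
    rw [← Matrix.diag_eq_of_commute_single (hcomm l (Ne.symm hk)), hdiag, Matrix.one_apply_eq]
  · rw [Matrix.row_eq_zero_of_commute_single (hcomm k (Ne.symm hk)) hl,
      Matrix.one_apply_ne (Ne.symm hl)]

end RowGroup

end Cfsg.Agent.Helper7
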