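import Mathlib
import Cfsg.Prelude.Def_Balance
import Cfsg.Agent.Lib.Helper7.MaxComp3
import Cfsg.Agent.Lib.Helper7.Frattini
import Cfsg.Agent.Lib.Helper7.LBalO
import Cfsg.Agent.Lib.Helper7.Cores

/-!
# Sections with the B-property (helper7's library)

If `Q = Y / O(Y)` has the B-property and `x'` is an involution of `Y`, then the image in `Q` of a
`2`-component of `C_Y(x')` is a component of `C_Q(x')`, and commutes with the image of every
subgroup of odd order of `C_Y(x')` that it normalizes.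
-/

set_option autoImplicit false

namespace Cfsg.Agent.Helper7.SecB

open Subgroup Cfsg.Agent.Helper7 Cfsg.Agent.Helper7.MaxComp
open scoped commutatorElement Pointwise

universe u

variable {Y : Type u} [Group Y] [Finite Y]

/-- the restriction of `Y → Y / O(Y)` to the centralizer of an element -/
noncomputable def centHom (x' : Y) :
    ↥(centralizer ({x'} : Set Y)) →*
      ↥(centralizer ({QuotientGroup.mk' (Cfsg.pPrimeCore 2 Y) x'} :
        Set (Y ⧸ Cfsg.pPrimeCore 2 Y))) :=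
  ((QuotientGroup.mk' (Cfsg.pPrimeCore 2 Y)).comp
    (centralizer ({x'} : Set Y)).subtype).codRestrict _
    (fun c => by
      rw [Subgroup.mem_centralizer_singleton_iff]
      have := Subgroup.mem_centralizer_singleton_iff.mp c.2
      simp only [MonoidHom.coe_comp, Function.comp_apply, Subgroup.coe_subtype]
      rw [← map_mul, ← map_mul, this])

theorem centHom_coe (x' : Y) (c : ↥(centralizer ({x'} : Set Y))) :
    ((centHom x' c : ↥(centralizer ({QuotientGroup.mk' (Cfsg.pPrimeCore 2 Y) x'} :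
        Set (Y ⧸ Cfsg.pPrimeCore 2 Y)))) : Y ⧸ Cfsg.pPrimeCore 2 Y) =
      QuotientGroup.mk' (Cfsg.pPrimeCore 2 Y) (c : Y) := rfl

theorem centHom_surjective {x' : Y} (hx' : orderOf x' = 2) :
    Function.Surjective (centHom x') := by
  haveI : Fact (Nat.Prime 2) := ⟨Nat.prime_two⟩
  intro z
  have hP : IsPGroup 2 ↥(zpowers x') := by
    apply IsPGroup.of_card (n := 1)
    rw [Nat.card_zpowers, hx', pow_one]
  have hR : (Nat.card ↥(Cfsg.pPrimeCore 2 Y)).Coprime 2 :=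
    Cfsg.Agent.Helper22.card_pPrimeCore_coprime 2
  have h := centralizer_map_mk'_eq (P := zpowers x') (R := Cfsg.pPrimeCore 2 Y) hP hR
  rw [MonoidHom.map_zpowers, Cfsg.Agent.Helper7.centralizer_zpowers_eq,
    Cfsg.Agent.Helper7.centralizer_zpowers_eq] at h
  have hz : (z : Y ⧸ Cfsg.pPrimeCore 2 Y) ∈
      (centralizer ({x'} : Set Y)).map (QuotientGroup.mk' (Cfsg.pPrimeCore 2 Y)) := by
    rw [← h]; exact z.2
  obtain ⟨c, hc, hcz⟩ := hz
  exact ⟨⟨c, hc⟩, Subtype.ext hcz⟩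

theorem card_ker_centHom_coprime (x' : Y) : (Nat.card ↥(centHom x').ker).Coprime 2 := by
  have hR : (Nat.card ↥(Cfsg.pPrimeCore 2 Y)).Coprime 2 :=
    Cfsg.Agent.Helper22.card_pPrimeCore_coprime 2
  have hle : (centHom x').ker.map (centralizer ({x'} : Set Y)).subtype ≤
      Cfsg.pPrimeCore 2 Y := by
    rintro _ ⟨c, hc, rfl⟩
    have h1 : centHom x' c = 1 := hc
    have h2 := congrArg Subtype.val h1
    rw [centHom_coe] at h2
    exact (QuotientGroup.eq_one_iff _).mp h2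
  have hd := Subgroup.card_dvd_of_le hle
  rw [card_map_subtype] at hd
  exact Nat.Coprime.coprime_dvd_left hd hR

/-- the image of a `2`-component of `C_Y(x')` in `C_Q(x')`, `Q = Y/O(Y)` with the B-property,
is a component. -/
theorem isComponent_map_mk'_of_isPComponent
    (hB : Cfsg.HasBProperty (Y ⧸ Cfsg.pPrimeCore 2 Y))
    {x' : Y} (hx' : orderOf x' = 2) {J : Subgroup Y} (hJx : J ≤ centralizer ({x'} : Set Y))
    (hJ : Cfsg.IsPComponent 2 (J.subgroupOf (centralizer ({x'} : Set Y)))) :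
    Cfsg.IsPComponent 2 ((J.map (QuotientGroup.mk' (Cfsg.pPrimeCore 2 Y))).subgroupOf
        (centralizer ({QuotientGroup.mk' (Cfsg.pPrimeCore 2 Y) x'} :
          Set (Y ⧸ Cfsg.pPrimeCore 2 Y)))) ∧
    Cfsg.IsComponent ((J.map (QuotientGroup.mk' (Cfsg.pPrimeCore 2 Y))).subgroupOf
        (centralizer ({QuotientGroup.mk' (Cfsg.pPrimeCore 2 Y) x'} :
          Set (Y ⧸ Cfsg.pPrimeCore 2 Y)))) := by
  haveI : Fact (Nat.Prime 2) := ⟨Nat.prime_two⟩
  have hR : (Nat.card ↥(Cfsg.pPrimeCore 2 Y)).Coprime 2 :=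
    Cfsg.Agent.Helper22.card_pPrimeCore_coprime 2
  have hmap := IsPComponent.map_of_surjective 2 hJ (centHom x') (centHom_surjective hx')
    (card_ker_centHom_coprime x')
  have heq : (J.subgroupOf (centralizer ({x'} : Set Y))).map (centHom x') =
      (J.map (QuotientGroup.mk' (Cfsg.pPrimeCore 2 Y))).subgroupOf
        (centralizer ({QuotientGroup.mk' (Cfsg.pPrimeCore 2 Y) x'} :
          Set (Y ⧸ Cfsg.pPrimeCore 2 Y))) := by
    ext z
    constructor
    · rintro ⟨c, hc, rfl⟩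
      rw [Subgroup.mem_subgroupOf, centHom_coe]
      exact Subgroup.mem_map_of_mem _ (Subgroup.mem_subgroupOf.mp hc)
    · intro hz
      obtain ⟨j, hj, hjz⟩ := Subgroup.mem_map.mp (Subgroup.mem_subgroupOf.mp hz)
      exact ⟨⟨j, hJx hj⟩, Subgroup.mem_subgroupOf.mpr hj, Subtype.ext hjz⟩
  rw [heq] at hmap
  refine ⟨hmap, ?_⟩
  have hxo : orderOf (QuotientGroup.mk' (Cfsg.pPrimeCore 2 Y) x') = 2 :=
    orderOf_mk'_eq_prime _ hR hx'
  have hb := hB _ hxo
  have hO : Cfsg.oddCore (Y ⧸ Cfsg.pPrimeCore 2 Y) = ⊥ := pPrimeCore_quotient_eq_bot' 2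
  rw [hO, le_bot_iff] at hb
  have hb' := (Subgroup.map_eq_bot_iff_of_injective _ (Subgroup.subtype_injective _)).mp hb
  apply isComponent_of_isPComponent_of_commutator_eq_bot 2 hmap
  rw [eq_bot_iff, ← hb']
  exact Subgroup.commutator_mono (IsPComponent.le_pLayer 2 hmap) le_rfl

/-- a `2`-component of `C_Y(x')` commutes, modulo `O(Y)`, with the odd order subgroups of
`C_Y(x')` which it normalizes. -/
theorem commutator_le_pPrimeCore_of_isPComponent
    (hB : Cfsg.HasBProperty (Y ⧸ Cfsg.pPrimeCore 2 Y))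
    {x' : Y} (hx' : orderOf x' = 2) {J E : Subgroup Y}
    (hJx : J ≤ centralizer ({x'} : Set Y))
    (hJ : Cfsg.IsPComponent 2 (J.subgroupOf (centralizer ({x'} : Set Y))))
    (hEx : E ≤ centralizer ({x'} : Set Y)) (hEodd : Odd (Nat.card ↥E))
    (hJE : ∀ j ∈ J, ∀ e ∈ E, j * e * j⁻¹ ∈ E) :
    ⁅J, E⁆ ≤ Cfsg.pPrimeCore 2 Y := by
  haveI : Fact (Nat.Prime 2) := ⟨Nat.prime_two⟩
  obtain ⟨hP, hC⟩ := isComponent_map_mk'_of_isPComponent hB hx' hJx hJ
  obtain ⟨π, hπ⟩ : ∃ π : Y →* Y ⧸ Cfsg.pPrimeCore 2 Y,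
      π = QuotientGroup.mk' (Cfsg.pPrimeCore 2 Y) := ⟨_, rfl⟩
  rw [← hπ] at hP hC
  obtain ⟨CQ, hCQ⟩ : ∃ CQ : Subgroup (Y ⧸ Cfsg.pPrimeCore 2 Y),
      CQ = centralizer ({π x'} : Set (Y ⧸ Cfsg.pPrimeCore 2 Y)) := ⟨_, rfl⟩
  rw [← hCQ] at hP hC
  have hJQ : J.map π ≤ CQ := by
    rintro _ ⟨j, hj, rfl⟩
    rw [hCQ, Subgroup.mem_centralizer_singleton_iff, ← map_mul, ← map_mul,
      Subgroup.mem_centralizer_singleton_iff.mp (hJx hj)]
  have hEQ : E.map π ≤ CQ := by
    rintro _ ⟨e, he, rfl⟩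
    rw [hCQ, Subgroup.mem_centralizer_singleton_iff, ← map_mul, ← map_mul,
      Subgroup.mem_centralizer_singleton_iff.mp (hEx he)]
  obtain ⟨J', hJ'⟩ : ∃ J' : Subgroup ↥CQ, J' = (J.map π).subgroupOf CQ := ⟨_, rfl⟩
  obtain ⟨E', hE'⟩ : ∃ E' : Subgroup ↥CQ, E' = (E.map π).subgroupOf CQ := ⟨_, rfl⟩
  rw [← hJ'] at hP hC
  have hconj : ∀ j ∈ J', ∀ e ∈ E', j * e * j⁻¹ ∈ E' := by
    intro j hj e he
    rw [hJ'] at hj
    rw [hE'] at he ⊢
    obtain ⟨j₀, hj₀, hjj⟩ := Subgroup.mem_map.mp (Subgroup.mem_subgroupOf.mp hj)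
    obtain ⟨e₀, he₀, hee⟩ := Subgroup.mem_map.mp (Subgroup.mem_subgroupOf.mp he)
    rw [Subgroup.mem_subgroupOf]
    refine Subgroup.mem_map.mpr ⟨j₀ * e₀ * j₀⁻¹, hJE j₀ hj₀ e₀ he₀, ?_⟩
    rw [map_mul, map_mul, map_inv, hjj, hee]
    rfl
  have hnorm : J' ≤ normalizer (E' : Set ↥CQ) := by
    intro j hj
    rw [Subgroup.mem_normalizer_iff]
    intro e
    constructor
    · exact hconj j hj e
    · intro h
      have := hconj j⁻¹ (J'.inv_mem hj) _ h
      simpa [mul_assoc] using this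
  have hE'odd : Odd (Nat.card ↥E') := by
    rw [hE', card_subgroupOf_of_le hEQ]
    have hd : Nat.card ↥(E.map π) ∣ Nat.card ↥E :=
      Subgroup.card_dvd_of_surjective (π.subgroupMap E) (π.subgroupMap_surjective E)
    exact Odd.of_dvd_nat hEodd hd
  have hsub : (E'.subgroupOf (J' ⊔ E')).IsSubnormal :=
    ((Subgroup.normal_subgroupOf_iff_le_normalizer le_sup_right).mpr
      (sup_le hnorm Subgroup.le_normalizer)).isSubnormal
  rcases le_or_commutator_eq_bot_of_isComponent_subgroupOf (le_sup_left : J' ≤ J' ⊔ E')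
      le_sup_right (isComponent_subgroupOf le_sup_left hC) hsub with h | h
  · exfalso
    have h2 : 2 ∣ Nat.card ↥J' := IsPComponent.dvd_card 2 hP
    have h3 := h2.trans (Subgroup.card_dvd_of_le h)
    exact (Nat.not_even_iff_odd.mpr hE'odd) (even_iff_two_dvd.mpr h3)
  · rw [hJ', hE', commutator_subgroupOf_eq_bot_iff hJQ hEQ, ← Subgroup.map_commutator] at h
    have h4 := (Subgroup.map_eq_bot_iff _).mp h
    rw [hπ, QuotientGroup.ker_mk'] at h4
    exact h4

end Cfsg.Agent.Helper7.SecB
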