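import Mathlib
import Cfsg.Prelude.Def_Balance
import Cfsg.Agent.Lib.Helper7.SecB1
import Cfsg.Agent.Lib.Helper7.LpB7
import Cfsg.Agent.Lib.Helper7.MaxComp5

/-!
# Sections with the B-property, part 2 (helper7's library)

The ambient version: `Y = C_G(y)` as a subgroup of `G`, and `D` a subgroup of `C_G(x) ∩ C_G(y)`
normalized by `C_G(x) ∩ C_G(y)`.
-/

set_option autoImplicit false

namespace Cfsg.Agent.Helper7.SecB

open Subgroup Cfsg.Agent.Helper7 Cfsg.Agent.Helper7.MaxComp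
open scoped commutatorElement Pointwise

universe u

variable {G : Type u} [Group G] [Finite G]

theorem main_aux {Cy D : Subgroup G} {x : G} (hxCy : x ∈ Cy) (hx : orderOf x = 2)
    (hB : Cfsg.HasBProperty (↥Cy ⧸ Cfsg.pPrimeCore 2 ↥Cy))
    (hDx : D ≤ centralizer ({x} : Set G)) (hDy : D ≤ Cy)
    (hDN : centralizer ({x} : Set G) ⊓ Cy ≤ normalizer (D : Set G))
    (J : Subgroup ↥D) (hJ : Cfsg.IsPComponent 2 J) :
    Cfsg.IsComponent
        ((((J.map D.subtype).subgroupOf Cy).map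
          (QuotientGroup.mk' (Cfsg.pPrimeCore 2 ↥Cy))).subgroupOf
          (centralizer ({QuotientGroup.mk' (Cfsg.pPrimeCore 2 ↥Cy) ⟨x, hxCy⟩} :
            Set (↥Cy ⧸ Cfsg.pPrimeCore 2 ↥Cy)))) ∧
      ∀ E : Subgroup G, E ≤ centralizer ({x} : Set G) ⊓ Cy → Odd (Nat.card ↥E) →
        (∀ j ∈ J.map D.subtype, ∀ e ∈ E, j * e * j⁻¹ ∈ E) →
          ⁅J.map D.subtype, E⁆ ≤ (Cfsg.pPrimeCore 2 ↥Cy).map Cy.subtype := by
  haveI : Fact (Nat.Prime 2) := ⟨Nat.prime_two⟩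
  obtain ⟨JG, hJG⟩ : ∃ JG : Subgroup G, JG = J.map D.subtype := ⟨_, rfl⟩
  rw [← hJG]
  have hJGD : JG ≤ D := by rw [hJG]; exact Subgroup.map_subtype_le J
  have hJD : Cfsg.IsPComponent 2 (JG.subgroupOf D) := by
    rw [hJG, subgroupOf_map_subtype_self]; exact hJ
  obtain ⟨Cxy, hCxy⟩ : ∃ Cxy : Subgroup G, Cxy = centralizer ({x} : Set G) ⊓ Cy := ⟨_, rfl⟩
  rw [← hCxy] at hDN
  have hDCxy : D ≤ Cxy := by rw [hCxy]; exact le_inf hDx hDy
  have hCxyCy : Cxy ≤ Cy := by rw [hCxy]; exact inf_le_right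
  have hJxy : Cfsg.IsPComponent 2 (JG.subgroupOf Cxy) :=
    isPComponent_subgroupOf_of_le_of_normal 2 hJGD le_rfl hDCxy hDN hJD
  obtain ⟨x', hx'def⟩ : ∃ x' : ↥Cy, x' = ⟨x, hxCy⟩ := ⟨_, rfl⟩
  rw [← hx'def]
  have hx'val : (x' : G) = x := by rw [hx'def]
  have hx' : orderOf x' = 2 := by rw [hx'def, Subgroup.orderOf_mk]; exact hx
  have hmemCx' : ∀ c : ↥Cy, c ∈ centralizer ({x'} : Set ↥Cy) ↔
      (c : G) ∈ centralizer ({x} : Set G) := by
    intro c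
    rw [Subgroup.mem_centralizer_singleton_iff, Subgroup.mem_centralizer_singleton_iff,
      ← hx'val]
    constructor
    · intro h; exact congrArg Subtype.val h
    · intro h; exact Subtype.ext h
  have hmemCxy : ∀ c : G, c ∈ Cxy → c ∈ centralizer ({x} : Set G) := by
    intro c hc
    rw [hCxy] at hc
    exact hc.1
  let f₀ : ↥Cxy →* ↥(centralizer ({x'} : Set ↥Cy)) :=
    (Subgroup.inclusion hCxyCy).codRestrict (centralizer ({x'} : Set ↥Cy))
      (fun c => (hmemCx' _).mpr (hmemCxy _ c.2))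
  have hf₀ : ∀ c : ↥Cxy, (((f₀ c : ↥(centralizer ({x'} : Set ↥Cy))) : ↥Cy) : G) = (c : G) :=
    fun _ => rfl
  have hinj : Function.Injective f₀ := by
    intro c d hcd
    apply Subtype.ext
    rw [← hf₀ c, ← hf₀ d, hcd]
  have hsurj : Function.Surjective f₀ := by
    intro z
    have hz : ((z : ↥Cy) : G) ∈ Cxy := by
      rw [hCxy]
      exact ⟨(hmemCx' z.1).mp z.2, z.1.2⟩
    refine ⟨⟨((z : ↥Cy) : G), hz⟩, ?_⟩
    apply Subtype.ext
    apply Subtype.ext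
    rfl
  have hker : (Nat.card ↥f₀.ker).Coprime 2 := by
    rw [(MonoidHom.ker_eq_bot_iff f₀).mpr hinj, Subgroup.card_bot]
    exact Nat.coprime_one_left 2
  obtain ⟨JY, hJY⟩ : ∃ JY : Subgroup ↥Cy, JY = JG.subgroupOf Cy := ⟨_, rfl⟩
  rw [← hJY]
  have hJYmem : ∀ c : ↥Cy, c ∈ JY ↔ (c : G) ∈ JG := fun c => by
    rw [hJY]; exact Subgroup.mem_subgroupOf
  have heq : (JG.subgroupOf Cxy).map f₀ = JY.subgroupOf (centralizer ({x'} : Set ↥Cy)) := by
    ext z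
    constructor
    · rintro ⟨c, hc, rfl⟩
      rw [Subgroup.mem_subgroupOf, hJYmem, hf₀]
      exact Subgroup.mem_subgroupOf.mp hc
    · intro hz
      rw [Subgroup.mem_subgroupOf, hJYmem] at hz
      have hz' : ((z : ↥Cy) : G) ∈ Cxy := by
        rw [hCxy]
        exact ⟨(hmemCx' z.1).mp z.2, z.1.2⟩
      refine ⟨⟨((z : ↥Cy) : G), hz'⟩, Subgroup.mem_subgroupOf.mpr hz, ?_⟩
      apply Subtype.ext
      apply Subtype.ext
      rfl
  have hJYcomp : Cfsg.IsPComponent 2 (JY.subgroupOf (centralizer ({x'} : Set ↥Cy))) := by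
    rw [← heq]
    exact IsPComponent.map_of_surjective 2 hJxy f₀ hsurj hker
  have hJYle : JY ≤ centralizer ({x'} : Set ↥Cy) := fun c hc =>
    (hmemCx' c).mpr (hDx (hJGD ((hJYmem c).mp hc)))
  refine ⟨(isComponent_map_mk'_of_isPComponent hB hx' hJYle hJYcomp).2, ?_⟩
  intro E hE hodd hinv
  have hECy : E ≤ Cy := hE.trans inf_le_right
  obtain ⟨EY, hEY⟩ : ∃ EY : Subgroup ↥Cy, EY = E.subgroupOf Cy := ⟨_, rfl⟩
  have hEYmem : ∀ c : ↥Cy, c ∈ EY ↔ (c : G) ∈ E := fun c => by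
    rw [hEY]; exact Subgroup.mem_subgroupOf
  have hEYle : EY ≤ centralizer ({x'} : Set ↥Cy) := fun c hc =>
    (hmemCx' c).mpr (hE ((hEYmem c).mp hc)).1
  have hEYodd : Odd (Nat.card ↥EY) := by
    rw [hEY, card_subgroupOf_of_le hECy]; exact hodd
  have hJE : ∀ j ∈ JY, ∀ e ∈ EY, j * e * j⁻¹ ∈ EY := by
    intro j hj e he
    rw [hEYmem]
    exact hinv _ ((hJYmem j).mp hj) _ ((hEYmem e).mp he)
  have hmain := commutator_le_pPrimeCore_of_isPComponent hB hx' hJYle hJYcomp hEYle hEYodd hJE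
  have h1 := Subgroup.map_mono (f := Cy.subtype) hmain
  rw [Subgroup.map_commutator, hJY, hEY, Subgroup.map_subgroupOf_eq_of_le (hJGD.trans hDy),
    Subgroup.map_subgroupOf_eq_of_le hECy] at h1
  exact h1

end Cfsg.Agent.Helper7.SecB
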