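import Mathlib
import Cfsg.Agent.Lib.Helper24.CharInduced
import Cfsg.Agent.Lib.Helper24.Cd2Basic
import Cfsg.Agent.Lib.Helper5.PermChar
import Cfsg.Agent.Lib.Helper5.Clifford

/-!
# A trivial intersection Sylow subgroup forces a large character degree (helper7's library)

If a Sylow `p`-subgroup `P` of `G` is a trivial intersection subgroup and is not normal, then the
permutation character on the cosets of `N_G(P)` has an irreducible constituent of degree at least
`|P|`.
-/

set_option autoImplicit false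

namespace Cfsg.Agent.Helper7.SmallDeg

open Cfsg Subgroup Cfsg.Agent.Helper24 Cfsg.Agent.Helper5
open scoped Pointwise ComplexConjugate

universe u

section Restrict

variable {K : Type u} [Group K] [Fintype K]

theorem isIrrCharacter_one : IsIrrCharacter K (fun _ => (1 : ℂ)) :=
  isIrrCharacter_of_degree_one isCharacter_one rfl

/-- the multiplicity of the trivial character does not decrease on restriction -/
theorem classInner_one_le_restrict (Q : Subgroup K) [Fintype Q] {φ : K → ℂ}
    (hφ : IsCharacter K φ) :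
    ∃ a b : ℕ, classInner φ (fun _ => (1 : ℂ)) = a ∧
      classInner (fun x : Q => φ x) (fun _ => (1 : ℂ)) = b ∧ a ≤ b := by
  classical
  letI : Fintype (IrrCharacter K) := irrFintype
  letI : Fintype (IrrCharacter Q) := irrFintype
  obtain ⟨hm, hdec⟩ := isCharacter_decomp hφ
  choose n hn using hm
  have hm2 : ∀ ψ : IrrCharacter K, ∃ m : ℕ,
      classInner (fun x : Q => (ψ : K → ℂ) x) (fun _ => (1 : ℂ)) = m := fun ψ =>
    classInner_char_nat (isCharacter_restrict Q (isCharacter_of_isIrrCharacter ψ.2))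
      isCharacter_one
  choose m hm using hm2
  let ψ₀ : IrrCharacter K := ⟨fun _ => (1 : ℂ), isIrrCharacter_one⟩
  have hm0 : m ψ₀ = 1 := by
    have h1 : classInner (fun _ : Q => (1 : ℂ)) (fun _ => (1 : ℂ)) = 1 := by
      have := irr_orthogonality (isIrrCharacter_one (K := Q)) (isIrrCharacter_one (K := Q))
      rw [this, if_pos rfl]
    have h2 := hm ψ₀
    have h3 : (fun x : Q => ((ψ₀ : IrrCharacter K) : K → ℂ) x) = fun _ : Q => (1 : ℂ) := rfl
    rw [h3, h1] at h2
    exact_mod_cast h2.symm
  refine ⟨n ψ₀, ∑ ψ : IrrCharacter K, n ψ * m ψ, hn ψ₀, ?_, ?_⟩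
  · have hres : (fun x : Q => φ x) =
        ∑ ψ : IrrCharacter K, classInner φ (ψ : K → ℂ) • (fun x : Q => (ψ : K → ℂ) x) := by
      ext x
      have := congrFun hdec (x : K)
      rw [this]
      simp only [Finset.sum_apply, Pi.smul_apply, smul_eq_mul]
    rw [hres, classInner_sum_left]
    push_cast
    refine Finset.sum_congr rfl fun ψ _ => ?_
    rw [classInner_smul_left, hn, hm]
  · calc n ψ₀ = n ψ₀ * m ψ₀ := by rw [hm0, mul_one]
      _ ≤ ∑ ψ : IrrCharacter K, n ψ * m ψ :=
        Finset.single_le_sum (f := fun ψ => n ψ * m ψ) (fun _ _ => Nat.zero_le _)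
          (Finset.mem_univ ψ₀)

end Restrict

section TI

variable {G : Type u} [Group G] [Finite G] {p : ℕ} [Fact p.Prime]

/-- an element of `P` other than `1` is conjugated into `N_G(P)` only by `N_G(P)` -/
theorem conj_mem_normalizer_iff (P : Sylow p G)
    (hTI : ∀ g : G, g ∉ normalizer ((P : Subgroup G) : Set G) →
      (P : Subgroup G) ⊓ (MulAut.conj g • (P : Subgroup G)) = ⊥)
    {x : G} (hx : x ∈ (P : Subgroup G)) (hx1 : x ≠ 1) (g : G) :
    g⁻¹ * x * g ∈ normalizer ((P : Subgroup G) : Set G) ↔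
      g ∈ normalizer ((P : Subgroup G) : Set G) := by
  constructor
  · intro hy
    by_contra hg
    have hyP' : g⁻¹ * x * g ∈ ((g⁻¹ • P : Sylow p G) : Subgroup G) := by
      rw [Sylow.coe_subgroup_smul, mem_pointwise_smul_iff_inv_smul_mem, map_inv, inv_inv]
      simp only [MulAut.smul_def, MulAut.conj_apply]
      have : g * (g⁻¹ * x * g) * g⁻¹ = x := by group
      rw [this]
      exact hx
    have h1 := (g⁻¹ • P : Sylow p G).2.inf_normalizer_sylow P
    have h2 : g⁻¹ * x * g ∈ ((g⁻¹ • P : Sylow p G) : Subgroup G) ⊓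
        normalizer ((P : Subgroup G) : Set G) := mem_inf.2 ⟨hyP', hy⟩
    have h2' : g⁻¹ * x * g ∈ ((g⁻¹ • P : Sylow p G) : Subgroup G) ⊓ (P : Subgroup G) := by
      rw [← h1]
      exact h2
    replace h2 := h2'
    have h3 : x ∈ MulAut.conj g • (P : Subgroup G) := by
      rw [mem_pointwise_smul_iff_inv_smul_mem]
      simp only [MulAut.smul_def, MulAut.conj_inv_apply]
      exact (mem_inf.1 h2).2
    have h4 : x ∈ (P : Subgroup G) ⊓ (MulAut.conj g • (P : Subgroup G)) := mem_inf.2 ⟨hx, h3⟩
    rw [hTI g hg, mem_bot] at h4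
    exact hx1 h4
  · intro hg
    exact mul_mem (mul_mem (inv_mem hg) (le_normalizer hx)) hg

/-- a trivial intersection Sylow subgroup which is not normal gives an irreducible character of
degree at least its order -/
theorem exists_irr_degree_ge (P : Sylow p G)
    (hTI : ∀ g : G, g ∉ normalizer ((P : Subgroup G) : Set G) →
      (P : Subgroup G) ⊓ (MulAut.conj g • (P : Subgroup G)) = ⊥)
    (hnn : ¬ (P : Subgroup G).Normal) :
    ∃ χ : G → ℂ, IsIrrCharacter G χ ∧ Nat.card (P : Subgroup G) ≤ charDegree χ := by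
  classical
  by_contra hcon
  push Not at hcon
  letI : Fintype G := Fintype.ofFinite G
  set N := normalizer ((P : Subgroup G) : Set G) with hN
  letI : Fintype N := Fintype.ofFinite N
  let Q : Subgroup N := (P : Subgroup G).subgroupOf N
  letI : Fintype Q := Fintype.ofFinite Q
  letI : Fintype (IrrCharacter G) := irrFintype
  letI : Fintype (IrrCharacter N) := irrFintype
  have hq : Nat.card Q = Nat.card (P : Subgroup G) :=
    Nat.card_congr (subgroupOfEquivOfLe le_normalizer).toEquiv
  set q := Nat.card Q with hqdef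
  have hqpos : 0 < q := Nat.card_pos
  have hq0 : (q : ℂ) ≠ 0 := by exact_mod_cast hqpos.ne'
  have hN0 : (Nat.card N : ℂ) ≠ 0 := by
    have : 0 < Nat.card N := Nat.card_pos
    exact_mod_cast this.ne'
  let π : G → ℂ := indFun N (fun _ => 1)
  have hπ : IsCharacter G π := isCharacter_indFun N isCharacter_one
  have hπ1 : π 1 = (N.index : ℂ) := by
    show indFun N (fun _ => 1) 1 = _
    rw [indFun_one, mul_one]
  have hπx : ∀ x : Q, x ≠ 1 → π ((x : N) : G) = 1 := by
    intro x hx
    have hxP : ((x : N) : G) ∈ (P : Subgroup G) := mem_subgroupOf.1 x.2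
    have hx1 : ((x : N) : G) ≠ 1 := by
      intro h
      apply hx
      apply Subtype.ext
      apply Subtype.ext
      exact h
    show indFun N (fun _ => 1) _ = 1
    rw [indFun_const_one_apply]
    have : Nat.card {g : G // g⁻¹ * ((x : N) : G) * g ∈ N} = Nat.card N :=
      Nat.card_congr (Equiv.subtypeEquivRight
        (fun g => conj_mem_normalizer_iff P hTI hxP hx1 g))
    rw [this]
    field_simp
  have hdata : ∀ χ : IrrCharacter G, ∃ a b : ℕ, classInner π (χ : G → ℂ) = a ∧
      (∑ x : Q, (χ : G → ℂ) ((x : N) : G)) = (q : ℂ) * b ∧ a ≤ b := by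
    intro χ
    have hχc := isCharacter_of_isIrrCharacter χ.2
    have hχN : IsCharacter N (fun n : N => (χ : G → ℂ) n) := isCharacter_restrict N hχc
    obtain ⟨a, b, ha, hb, hab⟩ := classInner_one_le_restrict Q hχN
    refine ⟨a, b, ?_, ?_, hab⟩
    · show classInner (indFun N (fun _ => 1)) _ = _
      rw [frobenius_reciprocity N _ (isClassFunction_of_isCharacter hχc),
        classInner_char_comm isCharacter_one hχN, ha]
    · unfold classInner at hb
      simp only [map_one, mul_one] at hb
      rw [← hb, hqdef]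
      field_simp
  choose a b ha hb hab using hdata
  have hd : ∀ χ : IrrCharacter G, (χ : G → ℂ) 1 = (charDegree (χ : G → ℂ) : ℂ) :=
    fun χ => irr_one_eq_charDegree χ.2
  have hexp : π = ∑ χ : IrrCharacter G, (a χ : ℂ) • (χ : G → ℂ) := by
    have := classFunction_expansion (isClassFunction_of_isCharacter hπ)
    simp only [ha] at this
    exact this
  have hA : N.index = ∑ χ : IrrCharacter G, a χ * charDegree (χ : G → ℂ) := by
    have h1 := congrFun hexp 1
    rw [hπ1] at h1
    simp only [Finset.sum_apply, Pi.smul_apply, smul_eq_mul, hd] at h1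
    exact_mod_cast h1
  have hB : N.index + q = q * (∑ χ : IrrCharacter G, a χ * b χ) + 1 := by
    have h1 : ∑ x : Q, π ((x : N) : G) = (N.index : ℂ) + ((q : ℂ) - 1) := by
      rw [← Finset.add_sum_erase Finset.univ _ (Finset.mem_univ (1 : Q))]
      congr 1
      rw [Finset.sum_congr rfl (fun x hx => hπx x (Finset.ne_of_mem_erase hx))]
      rw [Finset.sum_const, Finset.card_erase_of_mem (Finset.mem_univ _), Finset.card_univ,
        hqdef, Nat.card_eq_fintype_card, nsmul_eq_mul, mul_one, Nat.cast_sub Fintype.card_pos]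
      simp
    have h2 : ∑ x : Q, π ((x : N) : G) = (q : ℂ) * ∑ χ : IrrCharacter G, (a χ : ℂ) * b χ := by
      simp only [hexp, Finset.sum_apply, Pi.smul_apply, smul_eq_mul]
      rw [Finset.sum_comm, Finset.mul_sum]
      refine Finset.sum_congr rfl fun χ _ => ?_
      rw [← Finset.mul_sum, hb]
      ring
    have h3 : (N.index : ℂ) + (q : ℂ) = q * (∑ χ : IrrCharacter G, (a χ : ℂ) * b χ) + 1 := by
      rw [← h2, h1]
      ring
    exact_mod_cast h3
  -- the trivial character
  let ψ₀ : IrrCharacter G := ⟨fun _ => (1 : ℂ), isIrrCharacter_one⟩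
  have ha0 : a ψ₀ = 1 := by
    have h1 := ha ψ₀
    have h2 : classInner π ((ψ₀ : IrrCharacter G) : G → ℂ) = 1 := by
      show classInner (indFun N (fun _ => 1)) (fun _ => (1 : ℂ)) = 1
      rw [frobenius_reciprocity N _ (isClassFunction_of_isCharacter isCharacter_one)]
      have := irr_orthogonality (isIrrCharacter_one (K := N)) (isIrrCharacter_one (K := N))
      rw [if_pos rfl] at this
      exact this
    rw [h2] at h1
    exact_mod_cast h1.symm
  have hb0 : b ψ₀ = 1 := by
    have h1 := hb ψ₀
    have h2 : (∑ x : Q, ((ψ₀ : IrrCharacter G) : G → ℂ) ((x : N) : G)) = (q : ℂ) := by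
      show (∑ x : Q, (1 : ℂ)) = _
      rw [Finset.sum_const, Finset.card_univ, hqdef, Nat.card_eq_fintype_card]
      simp
    rw [h2] at h1
    have h3 : (q : ℂ) * 1 = (q : ℂ) * (b ψ₀ : ℂ) := by rw [mul_one]; exact h1
    have h4 := mul_left_cancel₀ hq0 h3
    exact_mod_cast h4.symm
  have hd0 : charDegree ((ψ₀ : IrrCharacter G) : G → ℂ) = 1 := by
    have h1 := hd ψ₀
    have h2 : ((ψ₀ : IrrCharacter G) : G → ℂ) 1 = 1 := rfl
    rw [h2] at h1
    exact_mod_cast h1.symm
  rw [← Finset.add_sum_erase Finset.univ _ (Finset.mem_univ ψ₀), ha0, hd0] at hA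
  rw [← Finset.add_sum_erase Finset.univ _ (Finset.mem_univ ψ₀), ha0, hb0] at hB
  have hterm : ∀ χ ∈ Finset.univ.erase ψ₀,
      a χ * charDegree (χ : G → ℂ) + a χ ≤ q * (a χ * b χ) := by
    intro χ _
    have h1 : charDegree (χ : G → ℂ) + 1 ≤ q := by
      have := hcon χ χ.2
      omega
    have h2 := hab χ
    calc a χ * charDegree (χ : G → ℂ) + a χ = (charDegree (χ : G → ℂ) + 1) * a χ := by ring
      _ ≤ q * a χ := Nat.mul_le_mul_right _ h1
      _ ≤ q * (a χ * b χ) := by
        apply Nat.mul_le_mul_left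
        rcases Nat.eq_zero_or_pos (a χ) with h0 | h0
        · rw [h0]; simp
        · calc a χ = a χ * 1 := (mul_one _).symm
            _ ≤ a χ * b χ := Nat.mul_le_mul_left _ (by omega)
  have hsum := Finset.sum_le_sum hterm
  rw [Finset.sum_add_distrib, ← Finset.mul_sum] at hsum
  have hS3 : ∑ χ ∈ Finset.univ.erase ψ₀, a χ = 0 := by
    have h1 : N.index = q * (∑ χ ∈ Finset.univ.erase ψ₀, a χ * b χ) + 1 := by
      have : q * (1 * 1 + ∑ χ ∈ Finset.univ.erase ψ₀, a χ * b χ) =
          q + q * ∑ χ ∈ Finset.univ.erase ψ₀, a χ * b χ := by ring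
      rw [this] at hB
      omega
    omega
  have hzero : ∀ χ ∈ Finset.univ.erase ψ₀, a χ = 0 := by
    intro χ hχ
    exact (Finset.sum_eq_zero_iff.1 hS3) χ hχ
  have hS1 : ∑ χ ∈ Finset.univ.erase ψ₀, a χ * charDegree (χ : G → ℂ) = 0 := by
    apply Finset.sum_eq_zero
    intro χ hχ
    rw [hzero χ hχ, zero_mul]
  rw [hS1] at hA
  have hidx : N.index = 1 := by omega
  apply hnn
  have htop : N = ⊤ := index_eq_one.1 hidx
  exact normalizer_eq_top_iff.1 htop

end TI

end Cfsg.Agent.Helper7.SmallDeg
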