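import Mathlib
import Cfsg.Agent.Lib.Helper7.SmallDeg1
import Cfsg.Agent.Lib.Helper24.CharIntegral
import Cfsg.Agent.Lib.Helper24.CharHom

/-!
# Groups all of whose irreducible characters have degree less than `p` (helper7's library)

Such a group has a normal abelian Sylow `p`-subgroup.
-/

set_option autoImplicit false

namespace Cfsg.Agent.Helper7.SmallDeg

open Cfsg Subgroup Cfsg.Agent.Helper24 Cfsg.Agent.Helper5 Cfsg.Agent.Helper24.Cd2
open scoped Pointwise ComplexConjugate

universe u

/-- all irreducible characters have degree less than `p` -/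
def Small (p : ℕ) (G : Type u) [Group G] : Prop :=
  ∀ χ : G → ℂ, IsIrrCharacter G χ → charDegree χ < p

section Basic

variable {G : Type u} [Group G] [Finite G] {p : ℕ}

theorem Small.subgroup (h : Small p G) (H : Subgroup G) : Small p H := by
  classical
  intro ψ hψ
  letI : Fintype G := Fintype.ofFinite G
  letI : Fintype H := Fintype.ofFinite H
  letI : Fintype (IrrCharacter H) := irrFintype
  obtain ⟨χ, hχ, hne⟩ := exists_over H hψ
  have hχH : IsCharacter H (fun n : H => χ n) :=
    isCharacter_restrict H (isCharacter_of_isIrrCharacter hχ)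
  obtain ⟨ρ, hρ, hsum⟩ := exists_add_of_constituent hχH hψ hne
  have h1 := congrFun hsum 1
  simp only [Pi.add_apply, OneMemClass.coe_one] at h1
  rw [irr_one_eq_charDegree hχ, irr_one_eq_charDegree hψ, char_one_eq_charDegree hρ] at h1
  have h2 : charDegree χ = charDegree ψ + charDegree ρ := by exact_mod_cast h1
  have := h χ hχ
  omega

theorem Small.quotient (h : Small p G) (N : Subgroup G) [N.Normal] : Small p (G ⧸ N) := by
  intro ψ hψ
  have h1 := h _ (isIrrCharacter_inflate N hψ)
  have h2 : charDegree (ψ ∘ (QuotientGroup.mk : G → G ⧸ N)) = charDegree ψ :=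
    charDegree_comp (QuotientGroup.mk' N) ψ
  rw [h2] at h1
  exact h1

theorem Small.comm_of_isPGroup (hp : p.Prime) (h : Small p G) (hG : IsPGroup p G) (a b : G) :
    a * b = b * a := by
  apply comm_of_forall_linear
  intro χ hχ
  letI : Fintype G := Fintype.ofFinite G
  haveI : Fact p.Prime := ⟨hp⟩
  have h1 := charDegree_dvd_card hχ
  obtain ⟨k, hk⟩ := hG.exists_card_eq
  rw [hk] at h1
  obtain ⟨j, -, hj⟩ := (Nat.dvd_prime_pow hp).1 h1
  have h2 := h χ hχ
  rw [hj] at h2 ⊢
  rcases Nat.eq_zero_or_pos j with h0 | h0
  · rw [h0, pow_zero]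
  · exfalso
    have : p ^ 1 ≤ p ^ j := Nat.pow_le_pow_right hp.pos h0
    rw [pow_one] at this
    omega

end Basic

/-- a group all of whose irreducible characters have degree less than `p` has a normal Sylow
`p`-subgroup -/
theorem sylow_normal_of_small : ∀ (n : ℕ) (G : Type u) [Group G] [Finite G] (p : ℕ)
    [Fact p.Prime], Nat.card G = n → Small p G → ∀ P : Sylow p G, (P : Subgroup G).Normal := by
  intro n
  induction n using Nat.strong_induction_on with
  | _ n ih =>
  intro G _ _ p _ hn hsmall P
  by_contra hnn
  have hp : p.Prime := Fact.out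
  -- `P` is abelian
  have hPab : ∀ a ∈ (P : Subgroup G), ∀ b ∈ (P : Subgroup G), a * b = b * a := by
    intro a ha b hb
    have := (hsmall.subgroup (P : Subgroup G)).comm_of_isPGroup hp P.2 ⟨a, ha⟩ ⟨b, hb⟩
    exact congrArg Subtype.val this
  -- every proper subgroup containing `P` normalizes `P`
  have hmin : ∀ H : Subgroup G, (P : Subgroup G) ≤ H → H ≠ ⊤ →
      H ≤ normalizer ((P : Subgroup G) : Set G) := by
    intro H hPH hH
    have hlt : Nat.card H < n := by
      rw [← hn]
      refine lt_of_le_of_ne (card_le_card_group H) ?_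
      intro h
      exact hH (eq_top_of_card_eq H h)
    have hcoe : ((P.subtype hPH : Sylow p H) : Subgroup H) = (P : Subgroup G).subgroupOf H :=
      Sylow.coe_subtype P hPH
    have hres := ih (Nat.card H) hlt H p rfl (hsmall.subgroup H) (P.subtype hPH)
    rw [hcoe] at hres
    exact (normal_subgroupOf_iff_le_normalizer hPH).1 hres
  -- `P` is a trivial intersection subgroup
  have hTI : ∀ g : G, g ∉ normalizer ((P : Subgroup G) : Set G) →
      (P : Subgroup G) ⊓ (MulAut.conj g • (P : Subgroup G)) = ⊥ := by
    intro g hg
    by_contra hD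
    set D := (P : Subgroup G) ⊓ (MulAut.conj g • (P : Subgroup G)) with hDdef
    have hPg : ((g • P : Sylow p G) : Subgroup G) = MulAut.conj g • (P : Subgroup G) :=
      Sylow.coe_subgroup_smul
    -- both Sylow subgroups centralize `D`
    have hPC : (P : Subgroup G) ≤ centralizer (D : Set G) := by
      intro x hx
      rw [mem_centralizer_iff]
      intro d hd
      exact hPab d (mem_inf.1 hd).1 x hx
    have hPgC : MulAut.conj g • (P : Subgroup G) ≤ centralizer (D : Set G) := by
      intro x hx
      rw [mem_centralizer_iff]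
      intro d hd
      have hd2 : d ∈ MulAut.conj g • (P : Subgroup G) := (mem_inf.1 hd).2
      rw [mem_pointwise_smul_iff_inv_smul_mem] at hx hd2
      have := hPab _ hd2 _ hx
      simp only [MulAut.smul_def, MulAut.conj_inv_apply] at this
      have e : g⁻¹ * (d * x) * g = g⁻¹ * (x * d) * g := by
        calc g⁻¹ * (d * x) * g = (g⁻¹ * d * g) * (g⁻¹ * x * g) := by group
          _ = (g⁻¹ * x * g) * (g⁻¹ * d * g) := this
          _ = g⁻¹ * (x * d) * g := by group
      have e2 := mul_left_cancel (mul_right_cancel e)
      exact e2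
    have hCtop : centralizer (D : Set G) = ⊤ := by
      by_contra hC
      have h1 := hmin _ hPC hC
      have h2 : MulAut.conj g • (P : Subgroup G) ≤ normalizer ((P : Subgroup G) : Set G) :=
        hPgC.trans h1
      have h3 := (g • P : Sylow p G).2.inf_normalizer_sylow P
      have h4 : MulAut.conj g • (P : Subgroup G) ≤ (P : Subgroup G) := by
        intro x hx
        have hx' : x ∈ ((g • P : Sylow p G) : Subgroup G) ⊓
            normalizer ((P : Subgroup G) : Set G) := by
          rw [hPg]
          exact mem_inf.2 ⟨hx, h2 hx⟩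
        have hx'' : x ∈ ((g • P : Sylow p G) : Subgroup G) ⊓ (P : Subgroup G) := by
          rw [← h3]
          exact hx'
        exact (mem_inf.1 hx'').2
      have h5 : (g • P : Sylow p G) = P := by
        apply Sylow.ext
        rw [hPg]
        have hle : ((g • P : Sylow p G) : Subgroup G) ≤ (P : Subgroup G) := by
          rw [hPg]; exact h4
        have := (g • P : Sylow p G).3 P.2 hle
        rw [hPg] at this
        exact this.symm
      exact hg (Sylow.smul_eq_iff_mem_normalizer.1 h5)
    have hDZ : D ≤ center G := by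
      rw [← centralizer_univ]
      intro d hd
      rw [mem_centralizer_iff]
      intro x _
      have hx : x ∈ centralizer (D : Set G) := by rw [hCtop]; exact mem_top x
      exact ((mem_centralizer_iff.1 hx) d hd).symm
    haveI hDn : D.Normal := by
      constructor
      intro d hd x
      have := mem_center_iff.1 (hDZ hd) x
      have e : x * d * x⁻¹ = d := by
        rw [this]; group
      rw [e]
      exact hd
    have hDcard : 1 < Nat.card D := by
      rw [Subgroup.one_lt_card_iff_ne_bot]
      exact hD
    have hlt : Nat.card (G ⧸ D) < n := by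
      rw [← hn, ← D.card_mul_index, ← index_eq_card]
      have : 0 < D.index := Nat.pos_of_ne_zero index_ne_zero_of_finite
      nlinarith
    have hsurj : Function.Surjective (QuotientGroup.mk' D) := QuotientGroup.mk'_surjective D
    have hres := ih (Nat.card (G ⧸ D)) hlt (G ⧸ D) p rfl (hsmall.quotient D)
      (P.mapSurjective hsurj)
    rw [Sylow.coe_mapSurjective] at hres
    have hcomap := hres.comap (QuotientGroup.mk' D)
    rw [comap_map_eq, QuotientGroup.ker_mk', sup_eq_left.2 inf_le_left] at hcomap
    exact hnn hcomap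
  -- a large character degree
  obtain ⟨χ, hχ, hdeg⟩ := exists_irr_degree_ge P hTI hnn
  have h1 := hsmall χ hχ
  have hP1 : (P : Subgroup G) ≠ ⊥ := by
    intro h
    apply hnn
    rw [h]
    infer_instance
  obtain ⟨k, hk⟩ := P.2.exists_card_eq
  have hk0 : k ≠ 0 := by
    intro h0
    rw [h0, pow_zero] at hk
    exact hP1 (card_eq_one.1 hk)
  have : p ^ 1 ≤ p ^ k := Nat.pow_le_pow_right hp.pos (Nat.pos_of_ne_zero hk0)
  rw [pow_one, ← hk] at this
  omega

end Cfsg.Agent.Helper7.SmallDeg
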