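import Mathlib
import Cfsg.Agent.Lib.Helper7.TIS2
import Cfsg.Agent.Lib.Helper24.CharAlgebra
import Cfsg.Agent.Lib.Helper24.CharComplete
import Cfsg.Agent.Lib.Helper24.CharHom
import Cfsg.Agent.Lib.Helper24.CharLinear
import Cfsg.Agent.Lib.Helper23.Schur
import Cfsg.Agent.Lib.Helper8.CharBound

/-!
# Faithful characters of the minimal configuration `G = Q P` (helper7's library)

In the minimal configuration a faithful character has degree `d` with `d ^ 2 > |P|`.
-/

set_option autoImplicit false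

namespace Cfsg.Agent.Helper7.TIS

open Cfsg Subgroup Cfsg.Agent.Helper24
open scoped Pointwise commutatorElement ComplexConjugate

universe u

variable {G : Type u} [Group G] [Finite G] {p : ℕ} [Fact p.Prime] {P : Sylow p G} {q : ℕ}
  {Q : Subgroup G}

/-- the abelian case: `G` is a Frobenius group with kernel `Q`, and a character of degree less
than `|P|` has `Q` in its kernel -/
theorem false_of_abelian (cfg : MinCfg P q Q) (hab : ⁅Q, Q⁆ = ⊥) {χ : G → ℂ}
    (hχ : IsCharacter G χ) (hfaith : ∀ g : G, χ g = χ 1 → g = 1)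
    (hdeg : charDegree χ < Nat.card (P : Subgroup G)) : False := by
  classical
  letI : Fintype G := Fintype.ofFinite G
  letI : Fintype Q := Fintype.ofFinite Q
  letI : Fintype (P : Subgroup G) := Fintype.ofFinite _
  letI : Fintype (IrrCharacter G) := irrFintype
  letI : Fintype (IrrCharacter Q) := irrFintype
  letI : Fintype (IrrCharacter (P : Subgroup G)) := irrFintype
  have hQN := cfg.inf_normalizer_eq_bot hab
  have hcf := isClassFunction_of_isCharacter hχ
  obtain ⟨d, hd⟩ : ∃ d : ℕ, d = charDegree χ := ⟨_, rfl⟩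
  have hχ1 : χ 1 = (d : ℂ) := by rw [hd]; exact char_one_eq_charDegree hχ
  -- fixed points
  have hfix : ∀ x ∈ (P : Subgroup G), x ≠ 1 → ∀ u ∈ Q, u * x = x * u → u = 1 := by
    intro x hx hx1 u hu hux
    have h1 := mem_normalizer_of_commute P cfg.ti hx hx1 hux
    have h2 : u ∈ Q ⊓ normalizer ((P : Subgroup G) : Set G) := mem_inf.2 ⟨hu, h1⟩
    rwa [hQN, mem_bot] at h2
  -- the character is constant on the cosets `Q x`, `x ≠ 1`
  have hcoset : ∀ x ∈ (P : Subgroup G), x ≠ 1 → ∀ u : Q, χ ((u : G) * x) = χ x := by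
    intro x hx hx1
    let f : Q → Q := fun u => ⟨(u : G)⁻¹ * (x * (u : G) * x⁻¹),
      Q.mul_mem (Q.inv_mem u.2) (cfg.normal.conj_mem _ u.2 x)⟩
    have hinj : Function.Injective f := by
      intro u v huv
      have h1 : (u : G)⁻¹ * (x * (u : G) * x⁻¹) = (v : G)⁻¹ * (x * (v : G) * x⁻¹) :=
        congrArg Subtype.val huv
      have h3 : (u : G)⁻¹ * x * (u : G) = (v : G)⁻¹ * x * (v : G) := by
        calc (u : G)⁻¹ * x * (u : G) = (u : G)⁻¹ * (x * (u : G) * x⁻¹) * x := by group
          _ = (v : G)⁻¹ * (x * (v : G) * x⁻¹) * x := by rw [h1]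
          _ = (v : G)⁻¹ * x * (v : G) := by group
      have h2 : ((v : G) * (u : G)⁻¹) * x = x * ((v : G) * (u : G)⁻¹) := by
        calc (v : G) * (u : G)⁻¹ * x = (v : G) * ((u : G)⁻¹ * x * (u : G)) * (u : G)⁻¹ := by group
          _ = (v : G) * ((v : G)⁻¹ * x * (v : G)) * (u : G)⁻¹ := by rw [h3]
          _ = x * ((v : G) * (u : G)⁻¹) := by group
      have h4 := hfix x hx hx1 _ (Q.mul_mem v.2 (Q.inv_mem u.2)) h2
      apply Subtype.ext
      exact (mul_inv_eq_one.1 h4).symm
    have hsurj : Function.Surjective f := Finite.injective_iff_surjective.1 hinj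
    intro u
    obtain ⟨w, hw⟩ := hsurj u
    have h1 : (u : G) = (w : G)⁻¹ * (x * (w : G) * x⁻¹) := (congrArg Subtype.val hw).symm
    have h2 : (u : G) * x = (w : G)⁻¹ * x * ((w : G)⁻¹)⁻¹ := by rw [h1]; group
    rw [h2]
    exact hcf x (w : G)⁻¹
  -- the product decomposition
  have hbij : Function.Bijective
      (fun ux : Q × (P : Subgroup G) => (ux.1 : G) * (ux.2 : G)) := by
    constructor
    · rintro ⟨u, x⟩ ⟨v, y⟩ h
      simp only at h
      have h1 : (v : G)⁻¹ * (u : G) = (y : G) * (x : G)⁻¹ := by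
        calc (v : G)⁻¹ * u = (v : G)⁻¹ * ((u : G) * (x : G)) * (x : G)⁻¹ := by group
          _ = (v : G)⁻¹ * ((v : G) * (y : G)) * (x : G)⁻¹ := by rw [h]
          _ = y * (x : G)⁻¹ := by group
      have h2 : (v : G)⁻¹ * (u : G) ∈ Q ⊓ (P : Subgroup G) := by
        refine mem_inf.2 ⟨Q.mul_mem (Q.inv_mem v.2) u.2, ?_⟩
        rw [h1]
        exact (P : Subgroup G).mul_mem y.2 ((P : Subgroup G).inv_mem x.2)
      rw [cfg.inf_eq_bot, mem_bot] at h2
      have h3 : (u : G) = v := (inv_mul_eq_one.1 h2).symm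
      have h4 : (x : G) = y := by rw [h3] at h; exact mul_left_cancel h
      exact Prod.ext (Subtype.ext h3) (Subtype.ext h4)
    · intro g
      obtain ⟨u, hu, x, hx, h⟩ := cfg.exists_mul g
      exact ⟨(⟨u, hu⟩, ⟨x, hx⟩), h⟩
  have hcardG : Nat.card G = Nat.card Q * Nat.card (P : Subgroup G) := by
    rw [← Nat.card_prod]
    exact (Nat.card_congr (Equiv.ofBijective _ hbij)).symm
  have hsum : ∑ g : G, χ g = ∑ x : (P : Subgroup G), ∑ u : Q, χ ((u : G) * (x : G)) := by
    rw [← Fintype.sum_equiv (Equiv.ofBijective _ hbij)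
      (fun ux => χ ((ux.1 : G) * (ux.2 : G))) χ (fun _ => rfl)]
    rw [Fintype.sum_prod_type, Finset.sum_comm]
  have hinner : ∀ x : (P : Subgroup G), ∑ u : Q, χ ((u : G) * (x : G)) =
      (Nat.card Q : ℂ) * χ (x : G) +
        (if x = 1 then (∑ u : Q, χ (u : G) - (Nat.card Q : ℂ) * χ 1) else 0) := by
    intro x
    by_cases hx1 : x = 1
    · rw [if_pos hx1, hx1, Subgroup.coe_one]
      simp only [mul_one]
      ring
    · rw [if_neg hx1, add_zero]
      have hx1' : (x : G) ≠ 1 := fun h => hx1 (Subtype.ext h)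
      rw [Finset.sum_congr rfl (fun u _ => hcoset (x : G) x.2 hx1' u)]
      rw [Finset.sum_const, Finset.card_univ, nsmul_eq_mul, Nat.card_eq_fintype_card]
  rw [Finset.sum_congr rfl (fun x _ => hinner x), Finset.sum_add_distrib, ← Finset.mul_sum,
    Finset.sum_ite_eq' Finset.univ (1 : (P : Subgroup G)), if_pos (Finset.mem_univ _)] at hsum
  -- the three multiplicities of the principal character
  obtain ⟨a, ha⟩ := classInner_char_nat hχ (isCharacter_one (G := G))
  obtain ⟨b, hb⟩ := classInner_char_nat (isCharacter_restrict (P : Subgroup G) hχ)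
    (isCharacter_one (G := (P : Subgroup G)))
  obtain ⟨m, hm⟩ := classInner_char_nat (isCharacter_restrict Q hχ) (isCharacter_one (G := Q))
  have hG0 : (Nat.card G : ℂ) ≠ 0 := by exact_mod_cast (Nat.card_pos (α := G)).ne'
  have hP0 : (Nat.card (P : Subgroup G) : ℂ) ≠ 0 := by
    exact_mod_cast (Nat.card_pos (α := (P : Subgroup G))).ne'
  have hQ0 : (Nat.card Q : ℂ) ≠ 0 := by exact_mod_cast (Nat.card_pos (α := Q)).ne'
  have ha' : ∑ g : G, χ g = (Nat.card G : ℂ) * a := by
    rw [← ha]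
    unfold classInner
    simp only [map_one, mul_one]
    field_simp
  have hb' : ∑ x : (P : Subgroup G), χ (x : G) = (Nat.card (P : Subgroup G) : ℂ) * b := by
    rw [← hb]
    unfold classInner
    simp only [map_one, mul_one]
    field_simp
  have hm' : ∑ u : Q, χ (u : G) = (Nat.card Q : ℂ) * m := by
    rw [← hm]
    unfold classInner
    simp only [map_one, mul_one]
    field_simp
  rw [ha', hb', hm', hχ1, hcardG] at hsum
  push_cast at hsum
  have hkey : (Nat.card (P : Subgroup G) : ℂ) * a =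
      (Nat.card (P : Subgroup G) : ℂ) * b + (m : ℂ) - (d : ℂ) := by
    apply mul_left_cancel₀ hQ0
    rw [← sub_eq_zero]
    rw [← sub_eq_zero] at hsum
    rw [← hsum]
    ring
  have hkeyZ : (Nat.card (P : Subgroup G) : ℤ) * a =
      (Nat.card (P : Subgroup G) : ℤ) * b + (m : ℤ) - (d : ℤ) := by
    exact_mod_cast hkey
  -- `m ≤ d`
  have hre : ∀ u : Q, (χ (u : G)).re ≤ (d : ℝ) := by
    intro u
    have h1 := norm_le_charDegree hχ (u : G)
    rw [← hd] at h1
    exact le_trans (Complex.re_le_norm _) h1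
  have hmd : (m : ℝ) ≤ d := by
    have h1 : ((Nat.card Q : ℂ) * m).re = ∑ u : Q, (χ (u : G)).re := by
      rw [← hm', Complex.re_sum]
    have h2 : ((Nat.card Q : ℂ) * m).re = (Nat.card Q : ℝ) * m := by
      rw [← Nat.cast_mul, Complex.natCast_re, Nat.cast_mul]
    have h3 : ∑ u : Q, (χ (u : G)).re ≤ ∑ _u : Q, (d : ℝ) := Finset.sum_le_sum fun u _ => hre u
    rw [Finset.sum_const, Finset.card_univ, nsmul_eq_mul, ← Nat.card_eq_fintype_card] at h3
    rw [← h1, h2] at h3
    have hQpos : (0 : ℝ) < Nat.card Q := by exact_mod_cast (Nat.card_pos (α := Q))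
    exact le_of_mul_le_mul_left h3 hQpos
  have hmd' : m ≤ d := by exact_mod_cast hmd
  -- `m = d`
  have hmeq : m = d := by
    have hdP : (d : ℤ) < (Nat.card (P : Subgroup G) : ℤ) := by rw [hd]; exact_mod_cast hdeg
    have h1 : (d : ℤ) - m = (Nat.card (P : Subgroup G) : ℤ) * ((b : ℤ) - a) := by
      rw [mul_sub, hkeyZ]; ring
    have hm0 : (m : ℤ) ≤ d := by exact_mod_cast hmd'
    rcases lt_trichotomy ((b : ℤ) - a) 0 with hk | hk | hk
    · have : (Nat.card (P : Subgroup G) : ℤ) * ((b : ℤ) - a) < 0 :=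
        mul_neg_of_pos_of_neg (by exact_mod_cast (Nat.card_pos (α := (P : Subgroup G)))) hk
      omega
    · rw [hk, mul_zero] at h1
      omega
    · have : (Nat.card (P : Subgroup G) : ℤ) ≤ (Nat.card (P : Subgroup G) : ℤ) * ((b : ℤ) - a) :=
        le_mul_of_one_le_right (by positivity) (by omega)
      have hm1 : (0 : ℤ) ≤ m := by positivity
      omega
  -- every value on `Q` equals the degree
  have hall : ∀ u : Q, (χ (u : G)).re = (d : ℝ) := by
    have h1 : ∑ u : Q, (χ (u : G)).re = ∑ _u : Q, (d : ℝ) := by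
      rw [Finset.sum_const, Finset.card_univ, nsmul_eq_mul, ← Nat.card_eq_fintype_card]
      have h2 : ((Nat.card Q : ℂ) * m).re = ∑ u : Q, (χ (u : G)).re := by
        rw [← hm', Complex.re_sum]
      rw [← h2, ← Nat.cast_mul, Complex.natCast_re, Nat.cast_mul, hmeq]
    intro u
    exact (Finset.sum_eq_sum_iff_of_le (fun u _ => hre u)).1 h1 u (Finset.mem_univ _)
  apply cfg.not_le
  intro u hu
  have h1 : χ u = (d : ℝ) := by
    apply Cfsg.Agent.Helper8.eq_of_re_eq_of_norm_le (hall ⟨u, hu⟩)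
    have := norm_le_charDegree hχ u
    rw [← hd] at this
    exact this
  have h2 : χ u = χ 1 := by rw [h1, hχ1]; norm_cast
  rw [hfaith u h2]
  exact one_mem _

end Cfsg.Agent.Helper7.TIS
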