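import Mathlib
import Cfsg.Agent.Lib.Helper7.TIS3

/-!
# The nonabelian case of the minimal configuration, and the theorem (helper7's library)

A `p`-solvable group with a trivial intersection Sylow `p`-subgroup `P` and a faithful character
`χ` with `χ(1) ^ 2 ≤ |P|` has `P` normal.
-/

set_option autoImplicit false

namespace Cfsg.Agent.Helper7.TIS

open Cfsg Subgroup Cfsg.Agent.Helper24
open scoped Pointwise commutatorElement ComplexConjugate

universe u

section NonAbelian

variable {G : Type u} [Group G] [Finite G] {p : ℕ} [Fact p.Prime] {P : Sylow p G} {q : ℕ}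
  {Q : Subgroup G}

/-- the nonabelian case: an irreducible character which is not trivial on `Q'` vanishes on `Q`
outside a proper normal subgroup, so its degree is large -/
theorem false_of_nonabelian (cfg : MinCfg P q Q) (hna : ⁅Q, Q⁆ ≠ ⊥) {χ : G → ℂ}
    (hχ : IsCharacter G χ) (hfaith : ∀ g : G, χ g = χ 1 → g = 1)
    (hdeg : charDegree χ ^ 2 ≤ Nat.card (P : Subgroup G)) : False := by
  classical
  letI : Fintype G := Fintype.ofFinite G
  letI : Fintype Q := Fintype.ofFinite Q
  letI : Fintype (IrrCharacter G) := irrFintype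
  letI : Fintype (IrrCharacter Q) := irrFintype
  haveI hQn := cfg.normal
  have hDZ := cfg.derived_le_center
  obtain ⟨⟨d, hdD⟩, hd1⟩ := ne_bot_iff_exists_ne_one.1 hna
  have hd1' : d ≠ 1 := fun h0 => hd1 (Subtype.ext h0)
  have hχd : χ d ≠ χ 1 := fun h => hd1' (hfaith d h)
  -- an irreducible constituent which is not trivial at `d`
  obtain ⟨hnat, hdec⟩ := isCharacter_decomp hχ
  have hex : ∃ ψ : IrrCharacter G, classInner χ (ψ : G → ℂ) ≠ 0 ∧ (ψ : G → ℂ) d ≠ (ψ : G → ℂ) 1 := by
    by_contra hcon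
    push Not at hcon
    apply hχd
    have h1 := congrFun hdec d
    have h2 := congrFun hdec 1
    rw [Finset.sum_apply] at h1 h2
    rw [h1, h2]
    refine Finset.sum_congr rfl fun ψ _ => ?_
    rw [Pi.smul_apply, Pi.smul_apply]
    by_cases h0 : classInner χ (ψ : G → ℂ) = 0
    · rw [h0, zero_smul, zero_smul]
    · rw [hcon ψ h0]
  obtain ⟨ψ, hψ0, hψd⟩ := hex
  have hψc : IsCharacter G (ψ : G → ℂ) := isCharacter_of_isIrrCharacter ψ.2
  -- the degree of `ψ` is at most the degree of `χ`
  have hdegψ : charDegree (ψ : G → ℂ) ≤ charDegree χ := by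
    choose mlt hmlt using hnat
    have h2 := congrFun hdec 1
    rw [Finset.sum_apply, char_one_eq_charDegree hχ] at h2
    have h3 : ((charDegree χ : ℕ) : ℂ) =
        ((∑ θ : IrrCharacter G, mlt θ * charDegree (θ : G → ℂ) : ℕ) : ℂ) := by
      rw [h2]
      push_cast
      refine Finset.sum_congr rfl fun θ _ => ?_
      rw [Pi.smul_apply, hmlt θ, irr_one_eq_charDegree θ.2, smul_eq_mul]
    have h4 : charDegree χ = ∑ θ : IrrCharacter G, mlt θ * charDegree (θ : G → ℂ) := by
      exact_mod_cast h3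
    rw [h4]
    have h5 : mlt ψ ≠ 0 := by
      intro h0
      apply hψ0
      rw [hmlt ψ, h0, Nat.cast_zero]
    calc charDegree (ψ : G → ℂ) ≤ mlt ψ * charDegree (ψ : G → ℂ) :=
        Nat.le_mul_of_pos_left _ (Nat.pos_of_ne_zero h5)
      _ ≤ ∑ θ : IrrCharacter G, mlt θ * charDegree (θ : G → ℂ) :=
        Finset.single_le_sum (f := fun θ : IrrCharacter G => mlt θ * charDegree (θ : G → ℂ))
          (fun _ _ => Nat.zero_le _) (Finset.mem_univ ψ)
  -- the kernel and the subgroup `R`
  haveI hKn : (charKer hψc).Normal := charKer_normal hψc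
  set π := QuotientGroup.mk' (charKer hψc) with hπ
  have hπs : Function.Surjective π := QuotientGroup.mk'_surjective _
  haveI hQπn : (Q.map π).Normal := Subgroup.Normal.map hQn π hπs
  set R : Subgroup G := Q ⊓ (centralizer ((Q.map π : Subgroup _) : Set _)).comap π with hR
  haveI hRn : R.Normal := by
    rw [hR]
    infer_instance
  have hRQ : R ≤ Q := inf_le_left
  have hRne : R ≠ Q := by
    intro h
    apply hψd
    have h1 : ⁅Q, Q⁆ ≤ charKer hψc := by
      rw [commutator_le]
      intro g₁ hg₁ g₂ hg₂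
      have h2 : g₁ ∈ R := by rw [h]; exact hg₁
      have h3 := (mem_inf.1 h2).2
      rw [mem_comap, mem_centralizer_iff] at h3
      have h4 := h3 (π g₂) ⟨g₂, hg₂, rfl⟩
      have h5 : π ⁅g₁, g₂⁆ = 1 := by
        rw [commutatorElement_def, map_mul, map_mul, map_mul, map_inv, map_inv, ← h4]
        group
      exact (QuotientGroup.eq_one_iff _).1 h5
    exact (mem_charKer hψc d).1 (h1 hdD)
  have hRN := cfg.le_normalizer_of_ne hRQ hRne
  -- `ψ` vanishes on `Q` outside `R`
  have hcfψ := isClassFunction_of_isIrrCharacter ψ.2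
  have hvan : ∀ g ∈ Q, g ∉ R → (ψ : G → ℂ) g = 0 := by
    intro g hg hgR
    by_contra hne
    apply hgR
    refine mem_inf.2 ⟨hg, ?_⟩
    rw [mem_comap, mem_centralizer_iff]
    rintro _ ⟨h, hh, rfl⟩
    -- `z = ⁅g⁻¹, h⁆` is central
    set z := ⁅g⁻¹, h⁆ with hz
    have hzD : z ∈ ⁅Q, Q⁆ := commutator_mem_commutator (Q.inv_mem hg) hh
    have hzZ : z ∈ center G := hDZ hzD
    have e1 : h * g * h⁻¹ = z * g := by
      have hzg : z * g = g * z := (mem_center_iff.1 hzZ g).symm
      rw [hzg, hz, commutatorElement_def, inv_inv]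
      group
    have e2 : (ψ : G → ℂ) (z * g) = (ψ : G → ℂ) g := by rw [← e1]; exact hcfψ g h
    rw [Cfsg.Agent.Helper23.irr_central_mul (ψ : G → ℂ) ψ.2 z hzZ g] at e2
    have h1ne : (ψ : G → ℂ) 1 ≠ 0 := Cfsg.Agent.Helper23.irr_one_ne_zero _ ψ.2
    have e3 : (ψ : G → ℂ) z = (ψ : G → ℂ) 1 := by
      have e4 : ((ψ : G → ℂ) z / (ψ : G → ℂ) 1 - 1) * (ψ : G → ℂ) g = 0 := by
        rw [sub_mul, e2, one_mul, sub_self]
      rcases mul_eq_zero.1 e4 with h0 | h0
      · rw [sub_eq_zero, div_eq_one_iff_eq h1ne] at h0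
        exact h0
      · exact absurd h0 hne
    have e5 : π z = 1 := (QuotientGroup.eq_one_iff _).2 ((mem_charKer hψc z).2 e3)
    rw [hz, commutatorElement_def, inv_inv, map_mul, map_mul, map_mul, map_inv, map_inv] at e5
    -- `π g⁻¹ * π h * π g * π h⁻¹ = 1`
    have e6 : π h * π g = π g * π h := by
      have : π h * π g = π g * ((π g)⁻¹ * π h * π g * (π h)⁻¹) * π h := by group
      rw [this, e5, mul_one]
    exact e6
  -- the norm of the restriction to `Q`
  have hψQ : IsCharacter Q (fun u : Q => (ψ : G → ℂ) u) := isCharacter_restrict Q hψc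
  obtain ⟨n, hn⟩ := classInner_char_nat hψQ hψQ
  have hn0 : n ≠ 0 := by
    intro h0
    rw [h0, Nat.cast_zero] at hn
    have h1 := classInner_self_eq_zero hn
    have h2 := congrFun h1 1
    simp only [Subgroup.coe_one, Pi.zero_apply] at h2
    exact Cfsg.Agent.Helper23.irr_one_ne_zero _ ψ.2 h2
  have hQ0 : (Nat.card Q : ℂ) ≠ 0 := by exact_mod_cast (Nat.card_pos (α := Q)).ne'
  have hsumQ : ∑ u : Q, Complex.normSq ((ψ : G → ℂ) u) = (Nat.card Q : ℝ) * n := by
    have h1 : ∑ u : Q, (ψ : G → ℂ) u * conj ((ψ : G → ℂ) u) = (Nat.card Q : ℂ) * n := by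
      rw [← hn]
      unfold classInner
      field_simp
    have h2 := congrArg Complex.re h1
    rw [Complex.re_sum, ← Nat.cast_mul, Complex.natCast_re, Nat.cast_mul] at h2
    rw [← h2]
    refine Finset.sum_congr rfl fun u _ => ?_
    rw [Complex.mul_conj, Complex.ofReal_re]
  -- the bound from the vanishing
  set M : Subgroup G := Q ⊓ normalizer ((P : Subgroup G) : Set G) with hM
  set dψ := charDegree (ψ : G → ℂ) with hdψ
  have hterm : ∀ u : Q, Complex.normSq ((ψ : G → ℂ) u) ≤
      if (u : G) ∈ M then ((dψ : ℝ) ^ 2) else 0 := by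
    intro u
    by_cases huR : (u : G) ∈ R
    · rw [if_pos (mem_inf.2 ⟨u.2, hRN huR⟩), Complex.normSq_eq_norm_sq]
      have h1 := norm_le_charDegree hψc (u : G)
      have h0 := norm_nonneg ((ψ : G → ℂ) (u : G))
      rw [← hdψ] at h1
      nlinarith
    · rw [hvan u u.2 huR, map_zero]
      split_ifs
      · positivity
      · exact le_rfl
  have hcardM : (Finset.univ.filter (fun u : Q => (u : G) ∈ M)).card = Nat.card M := by
    have h1 : Nat.card (M.subgroupOf Q) = Nat.card M :=
      Nat.card_congr (subgroupOfEquivOfLe (inf_le_left : M ≤ Q)).toEquiv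
    rw [← h1, Nat.card_eq_fintype_card, Fintype.card_subtype]
    congr 1
  have hbound : (Nat.card Q : ℝ) * n ≤ (Nat.card M : ℝ) * (dψ : ℝ) ^ 2 := by
    rw [← hsumQ]
    calc ∑ u : Q, Complex.normSq ((ψ : G → ℂ) u)
        ≤ ∑ u : Q, (if (u : G) ∈ M then ((dψ : ℝ) ^ 2) else 0) :=
          Finset.sum_le_sum fun u _ => hterm u
      _ = (Nat.card M : ℝ) * (dψ : ℝ) ^ 2 := by
          rw [Finset.sum_ite, Finset.sum_const_zero, add_zero, Finset.sum_const, hcardM,
            nsmul_eq_mul]
  -- the final count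
  have hcard := cfg.card_le
  rw [← hM] at hcard
  have h1 : (Nat.card Q : ℝ) ≤ (Nat.card Q : ℝ) * n := by
    have hn1 : (1 : ℝ) ≤ n := by exact_mod_cast Nat.one_le_iff_ne_zero.2 hn0
    have hQpos : (0 : ℝ) ≤ Nat.card Q := by positivity
    nlinarith
  have h2 : Nat.card Q ≤ Nat.card M * dψ ^ 2 := by
    have : (Nat.card Q : ℝ) ≤ ((Nat.card M * dψ ^ 2 : ℕ) : ℝ) := by
      push_cast
      exact le_trans h1 hbound
    exact_mod_cast this
  have hMpos : 0 < Nat.card M := Nat.card_pos
  have h3 : (Nat.card (P : Subgroup G) + 1) * Nat.card M ≤ dψ ^ 2 * Nat.card M := by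
    calc (Nat.card (P : Subgroup G) + 1) * Nat.card M ≤ Nat.card Q := hcard
      _ ≤ Nat.card M * dψ ^ 2 := h2
      _ = dψ ^ 2 * Nat.card M := Nat.mul_comm _ _
  have h4 : Nat.card (P : Subgroup G) + 1 ≤ dψ ^ 2 := Nat.le_of_mul_le_mul_right h3 hMpos
  have h5 : dψ ^ 2 ≤ charDegree χ ^ 2 := Nat.pow_le_pow_left hdegψ 2
  omega

end NonAbelian

/-- **Theorem.** A `p`-solvable group with a trivial intersection Sylow `p`-subgroup `P` and a
faithful character `χ` with `χ(1) ^ 2 ≤ |P|` has `P` normal. -/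
theorem normal_of_faithful : ∀ (n : ℕ) (G : Type u) [Group G] [Finite G] (p : ℕ) [Fact p.Prime],
    Nat.card G = n → IsPSolvable p G → ∀ P : Sylow p G,
    (∀ g : G, g ∉ normalizer ((P : Subgroup G) : Set G) →
      (P : Subgroup G) ⊓ (MulAut.conj g • (P : Subgroup G)) = ⊥) →
    ∀ χ : G → ℂ, IsCharacter G χ → (∀ g : G, χ g = χ 1 → g = 1) →
    charDegree χ ^ 2 ≤ Nat.card (P : Subgroup G) → (P : Subgroup G).Normal := by
  intro n
  induction n using Nat.strong_induction_on with
  | _ n ih =>
  intro G _ _ p _ hn hsolv P hTI χ hχ hfaith hdeg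
  by_contra hnn
  have hp : p.Prime := Fact.out
  -- every proper subgroup containing `P` normalizes `P`
  have hmin : ∀ H : Subgroup G, (P : Subgroup G) ≤ H → H ≠ ⊤ →
      H ≤ normalizer ((P : Subgroup G) : Set G) := by
    intro H hPH hH
    have hlt : Nat.card H < n := by
      rw [← hn]
      refine lt_of_le_of_ne (card_le_card_group H) ?_
      intro h
      exact hH (eq_top_of_card_eq H h)
    have hsolvH : IsPSolvable p H := Cfsg.Agent.Helper23.PSolv.isPSolvable_subgroup H hsolv
    have hcoe : ((P.subtype hPH : Sylow p H) : Subgroup H) = (P : Subgroup G).subgroupOf H :=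
      Sylow.coe_subtype P hPH
    have hTIH : ∀ g : H, g ∉ normalizer (((P.subtype hPH : Sylow p H) : Subgroup H) : Set H) →
        ((P.subtype hPH : Sylow p H) : Subgroup H) ⊓
          (MulAut.conj g • ((P.subtype hPH : Sylow p H) : Subgroup H)) = ⊥ := by
      intro g hg
      have hgG : (g : G) ∉ normalizer ((P : Subgroup G) : Set G) := by
        intro h
        apply hg
        rw [hcoe, mem_normalizer_iff]
        intro y
        rw [mem_subgroupOf, mem_subgroupOf]
        exact (mem_normalizer_iff.1 h) (y : G)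
      have h1 := hTI (g : G) hgG
      rw [eq_bot_iff]
      intro y hy
      obtain ⟨hy1, hy2⟩ := mem_inf.1 hy
      rw [hcoe, mem_subgroupOf] at hy1
      rw [mem_pointwise_smul_iff_inv_smul_mem, hcoe, mem_subgroupOf] at hy2
      have hy3 : (y : G) ∈ MulAut.conj (g : G) • (P : Subgroup G) := by
        rw [mem_pointwise_smul_iff_inv_smul_mem]
        have e : (MulAut.conj (g : G))⁻¹ • (y : G) = (((MulAut.conj g)⁻¹ • y : H) : G) := by
          simp [MulAut.smul_def, MulAut.conj_inv_apply]
        rw [e]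
        exact hy2
      have hy4 : (y : G) ∈ (P : Subgroup G) ⊓ (MulAut.conj (g : G) • (P : Subgroup G)) :=
        mem_inf.2 ⟨hy1, hy3⟩
      rw [h1, mem_bot] at hy4
      rw [mem_bot]
      exact Subtype.ext hy4
    have hχH : IsCharacter H (fun h : H => χ h) := isCharacter_restrict H hχ
    have hfaithH : ∀ g : H, (fun h : H => χ h) g = (fun h : H => χ h) 1 → g = 1 := by
      intro g hg
      simp only [Subgroup.coe_one] at hg
      exact Subtype.ext (hfaith g hg)
    have hdegH : charDegree (fun h : H => χ h) ^ 2 ≤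
        Nat.card ((P.subtype hPH : Sylow p H) : Subgroup H) := by
      have e1 : charDegree (fun h : H => χ h) = charDegree χ := by
        unfold charDegree
        simp only [Subgroup.coe_one]
      have e2 : Nat.card ((P.subtype hPH : Sylow p H) : Subgroup H) =
          Nat.card (P : Subgroup G) := by
        rw [hcoe]
        exact Nat.card_congr (subgroupOfEquivOfLe hPH).toEquiv
      rw [e1, e2]
      exact hdeg
    have hres := ih (Nat.card H) hlt H p rfl hsolvH (P.subtype hPH) hTIH _ hχH hfaithH hdegH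
    rw [hcoe] at hres
    exact (normal_subgroupOf_iff_le_normalizer hPH).1 hres
  -- the structure of a minimal counterexample
  have hKP := pPrimeCore_sup_eq_top P hTI hmin hnn hsolv
  haveI hKn : (pPrimeCore p G).Normal := Cfsg.Agent.Helper22.pPrimeCore_normal p
  have hK : (Nat.card (pPrimeCore p G)).Coprime p := Cfsg.Agent.Helper22.card_pPrimeCore_coprime p
  obtain ⟨q, Q, hq, hqp, hQn, hQq, hQP⟩ := exists_q_sup_eq_top P hmin hnn (pPrimeCore p G) hK hKP
  have cfg : MinCfg P q Q := ⟨hTI, hmin, hnn, hq, hqp, hQn, hQq, hQP⟩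
  by_cases hab : ⁅Q, Q⁆ = ⊥
  · -- `|P| ≥ 2`
    have hP2 : 2 ≤ Nat.card (P : Subgroup G) := by
      by_contra h
      have h1 : Nat.card (P : Subgroup G) = 1 := by
        have := Nat.card_pos (α := (P : Subgroup G))
        omega
      apply hnn
      rw [card_eq_one.1 h1]
      infer_instance
    have hlt : charDegree χ < Nat.card (P : Subgroup G) := by
      by_contra h
      push Not at h
      nlinarith
    exact false_of_abelian cfg hab hχ hfaith hlt
  · exact false_of_nonabelian cfg hab hχ hfaith hdeg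

end Cfsg.Agent.Helper7.TIS
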