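import Mathlib
import Cfsg.Agent.Lib.Helper7.TLFinMidC
import Cfsg.Agent.Lib.Helper24.TLChain

/-!
# S4441, piece FINMID modulo TL (helper7)

`concl_mid_of_TL`: the case `1 < e < p - 1` of the conclusion, from the statement `TLHyp` of
`thompson_lemma` (helper24's `TLChain`) at every `x ∈ P^#`.
-/

set_option autoImplicit false

namespace Cfsg.Agent.Helper5.TL

variable (p : ℕ) [Fact p.Prime]
variable {G : Type*} [Group G] [Finite G]

/-- PIECE FINMID modulo TL -/
theorem concl_mid_of_TL (M : Ideal Cfsg.AlgInt) (hM : Cfsg.IsPModular p M) (hodd : p ≠ 2)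
    (P : Sylow p G) (hP : Nat.card P = p) (e : ℕ) (he1 : 1 < e) (he2 : e + 1 < p)
    (he : (Subgroup.centralizer ((P : Subgroup G) : Set G)).relIndex
      (Subgroup.normalizer ((P : Subgroup G) : Set G)) = e)
    (hTL : ∀ x : G, x ∈ (P : Subgroup G) → x ≠ 1 → TLHyp p P x) : Concl p M P e := by
  obtain ⟨K, n₀, -, -, -, -, hn₀, hgen⟩ := exists_pcore p P hP
  exact Cfsg.Agent.Helper7.TLFinMid.concl_mid_core p M hM P hP e he1 he2 he ⟨n₀, hn₀, hgen⟩
    (fun χ hχ x hx hx1 a ha ha0 =>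
      abs_eq_one_of_int_value_of_TL p M hM P hP χ hχ x hx hx1 (hTL x hx hx1) a ha ha0)
    (fun χ x hx hx1 => tl_principal_of_TL p M hM P hP χ x hx hx1 (hTL x hx hx1))

end Cfsg.Agent.Helper5.TL
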