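import Mathlib
import Cfsg.Prelude.Def_CaseTheorems

set_option autoImplicit false

namespace Cfsg.Agent.Helper7

open scoped IsMulCommutative

/-- A nontrivial homomorphism to a finite 2-group yields a subgroup of index 2. -/
theorem exists_index_two_of_hom_ne_one {G P : Type*} [Group G] [Group P] [Finite P]
    (hP : IsPGroup 2 P) (φ : G →* P) (g : G) (hg : φ g ≠ 1) : ∃ H : Subgroup G, H.index = 2 := by
  haveI : Fact (Nat.Prime 2) := ⟨Nat.prime_two⟩
  obtain ⟨k, hk⟩ := (IsPGroup.iff_card.mp (hP.to_subgroup φ.range))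
  have hk1 : 1 ≤ k := by
    rcases Nat.eq_zero_or_pos k with h0 | h0
    · exfalso
      rw [h0, pow_zero] at hk
      have h1 := (Subgroup.card_eq_one.mp hk)
      have : φ g ∈ φ.range := ⟨g, rfl⟩
      rw [h1, Subgroup.mem_bot] at this
      exact hg this
    · exact h0
  obtain ⟨K, hK⟩ := Sylow.exists_subgroup_card_pow_prime (G := φ.range) 2 (n := k-1)
    (by rw [hk]; exact pow_dvd_pow 2 (by omega))
  refine ⟨K.comap φ.rangeRestrict, ?_⟩
  rw [Subgroup.index_comap_of_surjective _ φ.rangeRestrict_surjective]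
  have h := K.card_mul_index
  rw [hK, hk] at h
  have h2 : (2:ℕ) ^ k = 2 ^ (k - 1) * 2 := by
    rw [← pow_succ]; congr 1; omega
  rw [h2] at h
  exact Nat.eq_of_mul_eq_mul_left (by positivity) h

/-- Parity: in a commutative group, if `V ≤ Ω` has relative index 2, a product of elements of
`Ω ∖ V` lies in `Ω`, and lies in `V` iff the number of factors is even. -/
theorem prod_mem_iff_even_of_relIndex_two {A : Type*} [CommGroup A] (Ω V : Subgroup A)
    (hVΩ : V ≤ Ω) (hidx : V.relIndex Ω = 2) (F : Finset A)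
    (hF : ∀ w ∈ F, w ∈ Ω ∧ w ∉ V) :
    (∏ w ∈ F, w) ∈ Ω ∧ ((∏ w ∈ F, w) ∈ V ↔ Even F.card) := by
  classical
  have key : ∀ x ∈ Ω, ∀ y ∈ Ω, (x * y ∈ V ↔ (x ∈ V ↔ y ∈ V)) := by
    intro x hx y hy
    have := Subgroup.mul_mem_iff_of_index_two (H := V.subgroupOf Ω) hidx
      (a := ⟨x, hx⟩) (b := ⟨y, hy⟩)
    simpa [Subgroup.mem_subgroupOf] using this
  induction F using Finset.induction_on with
  | empty => simp [Ω.one_mem, V.one_mem]
  | insert a F ha ih =>
    have hF' : ∀ w ∈ F, w ∈ Ω ∧ w ∉ V := fun w hw => hF w (Finset.mem_insert_of_mem hw)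
    obtain ⟨ih1, ih2⟩ := ih hF'
    obtain ⟨haΩ, haV⟩ := hF a (Finset.mem_insert_self a F)
    rw [Finset.prod_insert ha, Finset.card_insert_of_notMem ha]
    refine ⟨Ω.mul_mem haΩ ih1, ?_⟩
    rw [key a haΩ _ ih1, ih2, Nat.even_add_one]
    simp [haV]

theorem thompson_transfer_corank_one {G : Type*} [Group G] [Finite G] (hG : ∀ H : Subgroup G, H.index ≠ 2) (S : Sylow 2 G) (hS : IsMulCommutative (S : Subgroup G)) (r : ℕ) (hr1 : 1 ≤ r) (hSr : Cfsg.PRankLE 2 r (S : Subgroup G) ∧ ¬ Cfsg.PRankLE 2 (r - 1) (S : Subgroup G)) (R : Subgroup G) (hRS : R ≤ S) (hRr : Cfsg.PRankLE 2 (r - 1) R ∧ (r = 1 ∨ ¬ Cfsg.PRankLE 2 (r - 2) R)) (t : G) (ht : orderOf t = 2) (htS : t ∈ S) : ∃ n ∈ Subgroup.normalizer ((S : Subgroup G) : Set G), n * t * n⁻¹ ∈ R := by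
  classical
  by_contra hcon
  push Not at hcon
  haveI : Fact (Nat.Prime 2) := ⟨Nat.prime_two⟩
  haveI := hS
  -- the subgroups Ω and V of the commutative group ↥S
  let Ω : Subgroup (S : Subgroup G) := (powMonoidHom 2 : (S : Subgroup G) →* (S : Subgroup G)).ker
  have hΩmem : ∀ x : (S : Subgroup G), x ∈ Ω ↔ x ^ 2 = 1 := fun x => by
    simp [Ω, MonoidHom.mem_ker]
  let V : Subgroup (S : Subgroup G) := Ω ⊓ R.subgroupOf S
  have hVΩ : V ≤ Ω := inf_le_left
  have hcomm : ∀ a ∈ (S : Subgroup G), ∀ b ∈ (S : Subgroup G), a * b = b * a := by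
    intro a ha b hb
    have := mul_comm (⟨a, ha⟩ : (S : Subgroup G)) ⟨b, hb⟩
    exact congrArg Subtype.val this
  -- cardinalities
  have hS2 : IsPGroup 2 (S : Subgroup G) := S.isPGroup'
  obtain ⟨a, ha⟩ := IsPGroup.iff_card.mp (hS2.to_subgroup Ω)
  obtain ⟨b, hb⟩ := IsPGroup.iff_card.mp (hS2.to_subgroup V)
  have hΩle : Nat.card Ω ≤ 2 ^ r := by
    refine hSr.1 Ω ⟨⟨fun x y => mul_comm x y⟩⟩ ?_
    intro x hx
    exact (hΩmem x).mp hx
  have hΩgt : 2 ^ (r - 1) < Nat.card Ω := by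
    have h2 := hSr.2
    unfold Cfsg.PRankLE at h2
    push Not at h2
    obtain ⟨B, hB1, hB2, hB3⟩ := h2
    refine lt_of_lt_of_le hB3 (Subgroup.card_le_of_le ?_)
    intro x hx
    exact (hΩmem x).mpr (hB2 x hx)
  -- V as a subgroup of G and of ↥R
  let VG : Subgroup G := V.map (S : Subgroup G).subtype
  have hVGmem : ∀ x : G, x ∈ VG ↔ x ∈ (S : Subgroup G) ∧ x ∈ R ∧ x ^ 2 = 1 := by
    intro x
    constructor
    · rintro ⟨v, hv, rfl⟩
      have hv' := Subgroup.mem_inf.mp hv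
      refine ⟨v.2, Subgroup.mem_subgroupOf.mp hv'.2, ?_⟩
      have := (hΩmem v).mp hv'.1
      exact congrArg Subtype.val this
    · rintro ⟨h1, h2, h3⟩
      refine ⟨⟨x, h1⟩, Subgroup.mem_inf.mpr ⟨(hΩmem _).mpr (Subtype.ext h3), ?_⟩, rfl⟩
      exact Subgroup.mem_subgroupOf.mpr h2
  have hVGR : VG ≤ R := fun x hx => ((hVGmem x).mp hx).2.1
  have hVGcard : Nat.card VG = Nat.card V :=
    Subgroup.card_map_of_injective (Subgroup.subtype_injective _)
  have hVle : Nat.card V ≤ 2 ^ (r - 1) := by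
    rw [← hVGcard, ← Nat.card_congr (Subgroup.subgroupOfEquivOfLe hVGR).toEquiv]
    refine hRr.1 (VG.subgroupOf R) ⟨⟨fun x y => ?_⟩⟩ ?_
    · apply Subtype.ext; apply Subtype.ext
      exact hcomm _ (hRS x.1.2) _ (hRS y.1.2)
    · intro x hx
      apply Subtype.ext
      exact ((hVGmem _).mp (Subgroup.mem_subgroupOf.mp hx)).2.2
  have hVge : r = 1 ∨ 2 ^ (r - 2) < Nat.card V := by
    rcases hRr.2 with h | h
    · exact Or.inl h
    · right
      unfold Cfsg.PRankLE at h
      push Not at h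
      obtain ⟨B, hB1, hB2, hB3⟩ := h
      refine lt_of_lt_of_le hB3 ?_
      rw [← hVGcard, ← Subgroup.card_map_of_injective (Subgroup.subtype_injective R) (K := B)]
      refine Subgroup.card_le_of_le ?_
      rintro x ⟨y, hy, rfl⟩
      refine (hVGmem _).mpr ⟨hRS y.2, y.2, ?_⟩
      exact congrArg Subtype.val (hB2 y hy)
  have hcard : Nat.card Ω = 2 * Nat.card V := by
    rw [ha] at hΩle hΩgt ⊢
    rw [hb] at hVle hVge ⊢
    have h1 : a ≤ r := (Nat.pow_le_pow_iff_right (by norm_num)).mp hΩle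
    have h2 : r - 1 < a := (Nat.pow_lt_pow_iff_right (by norm_num)).mp hΩgt
    have h3 : b ≤ r - 1 := (Nat.pow_le_pow_iff_right (by norm_num)).mp hVle
    have h4 : r = 1 ∨ r - 2 < b := by
      rcases hVge with h | h
      · exact Or.inl h
      · exact Or.inr ((Nat.pow_lt_pow_iff_right (by norm_num)).mp h)
    have h5 : a = b + 1 := by omega
    rw [h5, pow_succ, mul_comm]
  have hidx : V.relIndex Ω = 2 := by
    have h := Subgroup.relIndex_mul_relIndex ⊥ V Ω bot_le hVΩ
    rw [Subgroup.relIndex_bot_left, Subgroup.relIndex_bot_left, hcard, mul_comm] at h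
    have hVpos : 0 < Nat.card V := Nat.card_pos
    exact Nat.eq_of_mul_eq_mul_right hVpos h
  -- the orbit of t under N
  let N : Subgroup G := Subgroup.normalizer ((S : Subgroup G) : Set G)
  let t' : (S : Subgroup G) := ⟨t, htS⟩
  have ht2 : t ^ 2 = 1 := by rw [← ht]; exact pow_orderOf_eq_one t
  have hsmul : ∀ (n : N) (x : (S : Subgroup G)), ((n • x : (S : Subgroup G)) : G) = n * x * (n:G)⁻¹ :=
    fun n x => rfl
  have horbfin : (MulAction.orbit N t').Finite := Set.toFinite _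
  let F : Finset (S : Subgroup G) := horbfin.toFinset
  have hFmem : ∀ w, w ∈ F ↔ ∃ n : N, n • t' = w := by
    intro w
    rw [Set.Finite.mem_toFinset]
    exact MulAction.mem_orbit_iff
  have hF : ∀ w ∈ F, w ∈ Ω ∧ w ∉ V := by
    intro w hw
    obtain ⟨n, rfl⟩ := (hFmem w).mp hw
    constructor
    · rw [hΩmem]
      apply Subtype.ext
      rw [Subgroup.coe_pow, hsmul, conj_pow]
      show (n:G) * t ^ 2 * (n:G)⁻¹ = 1
      rw [ht2, mul_one, mul_inv_cancel]
    · intro hV
      have := Subgroup.mem_subgroupOf.mp (Subgroup.mem_inf.mp hV).2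
      rw [hsmul] at this
      exact hcon n n.2 this
  have hSN : (S : Subgroup G) ≤ N := Subgroup.le_normalizer
  have hFodd : ¬ Even F.card := by
    have h1 : F.card = (MulAction.stabilizer N t').index := by
      rw [MulAction.index_stabilizer, Set.ncard_eq_toFinset_card _ horbfin]
    have h2 : (S : Subgroup G).subgroupOf N ≤ MulAction.stabilizer N t' := by
      intro n hn
      rw [MulAction.mem_stabilizer_iff]
      apply Subtype.ext
      rw [hsmul]
      show (n:G) * t * (n:G)⁻¹ = t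
      rw [hcomm _ (Subgroup.mem_subgroupOf.mp hn) _ htS, mul_inv_cancel_right]
    have h3 : (MulAction.stabilizer N t').index ∣ (S : Subgroup G).index := by
      refine dvd_trans (Subgroup.index_dvd_of_le h2) ?_
      have := Subgroup.relIndex_mul_index hSN
      exact Dvd.intro _ this
    intro hev
    rw [h1] at hev
    exact S.not_dvd_index (dvd_trans (even_iff_two_dvd.mp hev) h3)
  obtain ⟨hs1, hs2⟩ := prod_mem_iff_even_of_relIndex_two Ω V hVΩ hidx F hF
  set s' : (S : Subgroup G) := ∏ w ∈ F, w with hs'def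
  have hs'V : s' ∉ V := fun h => hFodd (hs2.mp h)
  have hs'ne : s' ≠ 1 := fun h => hs'V (h ▸ V.one_mem)
  have hs'2 : s' ^ 2 = 1 := (hΩmem s').mp hs1
  -- invariance under N
  have hinv : ∀ n : N, n • s' = s' := by
    intro n
    rw [hs'def, Finset.smul_prod']
    refine Finset.prod_nbij' (fun w => n • w) (fun w => n⁻¹ • w) ?_ ?_ ?_ ?_ ?_
    · intro w hw
      obtain ⟨m, rfl⟩ := (hFmem w).mp hw
      exact (hFmem _).mpr ⟨n * m, mul_smul n m t'⟩
    · intro w hw
      obtain ⟨m, rfl⟩ := (hFmem w).mp hw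
      exact (hFmem _).mpr ⟨n⁻¹ * m, mul_smul n⁻¹ m t'⟩
    · intro w _
      exact inv_smul_smul n w
    · intro w _
      exact smul_inv_smul n w
    · intro w _
      rfl
  set s : G := (s' : G) with hsdef
  have hsS : s ∈ (S : Subgroup G) := s'.2
  have hsinv : ∀ n ∈ N, n * s * n⁻¹ = s := by
    intro n hn
    have := congrArg Subtype.val (hinv ⟨n, hn⟩)
    rwa [hsmul] at this
  have hs2 : s ^ 2 = 1 := by
    have := congrArg Subtype.val hs'2
    rwa [Subgroup.coe_pow] at this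
  have key : ∀ (k : ℕ) (g₀ : G), g₀⁻¹ * s ^ k * g₀ ∈ (S : Subgroup G) →
      g₀⁻¹ * s ^ k * g₀ = s ^ k := by
    intro k g₀ h
    obtain ⟨n, hn, hn'⟩ := S.conj_eq_normalizer_conj_of_mem (s ^ k) g₀
      (Subgroup.pow_mem _ hsS k) h
    rw [hn']
    have h1 := hsinv n⁻¹ (N.inv_mem hn)
    rw [inv_inv] at h1
    have h2 : n⁻¹ * s ^ k * n = (n⁻¹ * s * n) ^ k := by
      have := conj_pow (a := n⁻¹) (b := s) (i := k)
      rw [inv_inv] at this
      exact this.symm
    rw [h2, h1]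
  have htr := MonoidHom.transfer_eq_pow (MonoidHom.id (S : Subgroup G)) s key
  have hodd : ¬ 2 ∣ (S : Subgroup G).index := S.not_dvd_index
  have hpow : s ^ (S : Subgroup G).index = s := by
    obtain ⟨m, hm⟩ := Nat.odd_iff.mpr (Nat.two_dvd_ne_zero.mp hodd)
    rw [hm, pow_succ, pow_mul, hs2, one_pow, one_mul]
  have hne : MonoidHom.transfer (MonoidHom.id (S : Subgroup G)) s ≠ 1 := by
    rw [htr]
    intro h
    apply hs'ne
    apply Subtype.ext
    have := congrArg Subtype.val h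
    simp only [MonoidHom.id_apply, Subgroup.coe_one] at this
    rw [hpow] at this
    exact this
  obtain ⟨H, hH⟩ := exists_index_two_of_hom_ne_one hS2 _ s hne
  exact hG H hH

end Cfsg.Agent.Helper7
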