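import Mathlib
import Cfsg.Prelude.Def_Transfer
import Cfsg.Prelude.Def_Local
import Cfsg.Prelude.Def_Balance
import Cfsg.Agent.Lib.Helper7.Transitivity
import Cfsg.Agent.S0023

set_option autoImplicit false

namespace Cfsg.Agent.Helper7

open Subgroup
open Cfsg.Agent.Helper15 (mem_map_conj_iff conj_mem_map_conj map_conj_map_conj map_conj_one
  map_conj_inv_map_conj map_conj_map_conj_inv map_conj_mono card_map_conj isPGroup_map_conj)

variable {G : Type*} [Group G]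

theorem sylow_smul_map_subtype {q : ℕ} [Fact q.Prime] (K : Subgroup G) (P : Sylow q ↥K) (c : ↥K) :
    ((MulAut.conj c • P : Sylow q ↥K) : Subgroup ↥K).map K.subtype =
      ((P : Subgroup ↥K).map K.subtype).map (MulAut.conj (c : G)).toMonoidHom := by
  rw [Sylow.pointwise_smul_def]
  ext x
  constructor
  · rintro ⟨z, hz, rfl⟩
    obtain ⟨y, hy, rfl⟩ := hz
    exact ⟨(y : G), ⟨y, hy, rfl⟩, by simp [MulAut.smul_def]⟩
  · rintro ⟨_, ⟨y, hy, rfl⟩, rfl⟩
    exact ⟨MulAut.conj c • y, Subgroup.smul_mem_pointwise_smul _ _ _ hy, by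
      simp [MulAut.smul_def]⟩

theorem bot_mem_signalizerFamily {p : ℕ} [Fact p.Prime] (A : Subgroup G) (θ : G → Subgroup G) :
    (⊥ : Subgroup G) ∈ Cfsg.signalizerFamily p A θ := by
  refine ⟨inferInstance, ?_, ?_, ?_⟩
  · rw [Subgroup.card_bot]
    exact (Fact.out : p.Prime).one_lt.ne' ∘ Nat.dvd_one.mp
  · intro b _ u hu
    rw [Subgroup.mem_bot] at hu ⊢
    rw [hu]; group
  · intro a _ _
    exact inf_le_left.trans bot_le

/-- an element of a subgroup normalizes it, `map` form -/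
theorem map_conj_eq_of_mem {K : Subgroup G} {c : G} (hc : c ∈ K) :
    K.map (MulAut.conj c).toMonoidHom = K :=
  Cfsg.Agent.Helper15.map_conj_eq_of_mem_normalizer (Subgroup.le_normalizer hc)

/-- every `q`-subgroup `θ a` lies in any given maximal element -/
theorem theta_le_of_isMaxSignalizer [Finite G] (p : ℕ) [Fact p.Prime] (A : Subgroup G)
    (hA : Cfsg.IsElementaryAbelian p A) (hA3 : p ^ 3 ≤ Nat.card ↥A) (θ : G → Subgroup G)
    (hθ : Cfsg.IsSolvableSignalizerFunctor p A θ) (q : ℕ) [Fact q.Prime] {Q : Subgroup G}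
    (hQ : IsMaxSignalizer p A θ q Q) {a : G} (ha : a ∈ A) (ha1 : a ≠ 1)
    (haq : IsPGroup q ↥(θ a)) : θ a ≤ Q := by
  obtain ⟨Q', hQ', hle⟩ := exists_isMaxSignalizer_ge (theta_mem_signalizerFamily hθ ha ha1) haq
  obtain ⟨c, hc, hcQ⟩ := sigConj_of_isMaxSignalizer p A hA hA3 θ hθ q hQ hQ'
  have hcθ : c ∈ θ a := signalizerInf_le_theta ha ha1 hc
  have h1 := map_conj_mono hle c⁻¹
  rw [← hcQ, map_conj_inv_map_conj, map_conj_eq_of_mem ((θ a).inv_mem hcθ)] at h1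
  exact h1

/-- part (a): a conjugate of a maximal element meets each member of the family in a Sylow subgroup -/
theorem exists_sylow_eq_map_conj_inf [Finite G] (p : ℕ) [Fact p.Prime] (A : Subgroup G)
    (hA : Cfsg.IsElementaryAbelian p A) (hA3 : p ^ 3 ≤ Nat.card ↥A) (θ : G → Subgroup G)
    (hθ : Cfsg.IsSolvableSignalizerFunctor p A θ) (q : ℕ) [Fact q.Prime] {Q : Subgroup G}
    (hQ : IsMaxSignalizer p A θ q Q) {Hh : Subgroup G} (hH : Hh ∈ Cfsg.signalizerFamily p A θ) :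
    ∃ c ∈ Cfsg.signalizerInf A θ, ∃ S : Sylow q ↥Hh,
      (S : Subgroup ↥Hh).map Hh.subtype = Q.map (MulAut.conj c).toMonoidHom ⊓ Hh := by
  have hpp := (Fact.out : p.Prime)
  have hAH : A ≤ Subgroup.normalizer (Hh : Set G) := le_normalizer_of_forall_conj_mem' hH.2.2.1
  have hcop : (Nat.card ↥A).Coprime (Nat.card ↥Hh) := by
    obtain ⟨k, hk⟩ := (isPGroup_of_isElementaryAbelian hA).exists_card_eq
    rw [hk]
    exact Nat.Coprime.pow_left k ((Nat.Prime.coprime_iff_not_dvd hpp).mpr hH.2.1)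
  obtain ⟨P, hP⟩ := Cfsg.Agent.S0023.result A Hh hAH hcop (Or.inr hH.1) q
  set R := (P : Subgroup ↥Hh).map Hh.subtype with hR
  have hRH : R ≤ Hh := Subgroup.map_subtype_le _
  have hRmem : R ∈ Cfsg.signalizerFamily p A θ :=
    mem_signalizerFamily_of_le hH hRH (forall_conj_mem_of_le_normalizer hP)
  have hRq : IsPGroup q ↥R := P.isPGroup'.map _
  obtain ⟨Q', hQ', hle⟩ := exists_isMaxSignalizer_ge hRmem hRq
  obtain ⟨c, hc, hcQ⟩ := sigConj_of_isMaxSignalizer p A hA hA3 θ hθ q hQ hQ'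
  refine ⟨c, hc, P, ?_⟩
  rw [hcQ]
  apply le_antisymm (le_inf hle hRH)
  -- `Q' ⊓ Hh` is a `q`-subgroup of `Hh` containing the Sylow subgroup
  have h1 : IsPGroup q ↥((Q' ⊓ Hh).subgroupOf Hh) :=
    (hQ'.2.1.to_le inf_le_left).comap_subtype
  have h2 : (P : Subgroup ↥Hh) ≤ (Q' ⊓ Hh).subgroupOf Hh := by
    intro x hx
    rw [Subgroup.mem_subgroupOf]
    exact le_inf hle hRH ⟨x, hx, rfl⟩
  have h3 := P.is_maximal' h1 h2
  intro x hx
  have hxH : x ∈ Hh := (Subgroup.mem_inf.mp hx).2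
  have : (⟨x, hxH⟩ : ↥Hh) ∈ (Q' ⊓ Hh).subgroupOf Hh := Subgroup.mem_subgroupOf.mpr hx
  rw [h3] at this
  exact ⟨⟨x, hxH⟩, this, rfl⟩

theorem signalizerInf_mono {A B : Subgroup G} (θ : G → Subgroup G) (hBA : B ≤ A) :
    Cfsg.signalizerInf A θ ≤ Cfsg.signalizerInf B θ := by
  unfold Cfsg.signalizerInf
  apply le_iInf
  rintro ⟨b, hb, hb1⟩
  exact iInf_le (fun a : {a : G // a ∈ A ∧ a ≠ 1} => θ (a : G)) ⟨b, hBA hb, hb1⟩

/-- `θ(C_G(B))` is in the family, for nontrivial `B ≤ A` -/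
theorem signalizerInf_mem_signalizerFamily [Finite G] {p : ℕ} {A : Subgroup G}
    {θ : G → Subgroup G} (hθ : Cfsg.IsSolvableSignalizerFunctor p A θ) {B : Subgroup G}
    (hBA : B ≤ A) (hB : B ≠ ⊥) : Cfsg.signalizerInf B θ ∈ Cfsg.signalizerFamily p A θ := by
  obtain ⟨⟨b₀, hb₀⟩, hb₀1⟩ := (Subgroup.ne_bot_iff_exists_ne_one).mp hB
  have hb₀1' : b₀ ≠ 1 := fun h => hb₀1 (Subtype.ext h)
  refine mem_signalizerFamily_of_le (theta_mem_signalizerFamily hθ (hBA hb₀) hb₀1')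
    (signalizerInf_le_theta hb₀ hb₀1') ?_
  intro a ha v hv
  unfold Cfsg.signalizerInf at hv ⊢
  rw [Subgroup.mem_iInf] at hv ⊢
  rintro ⟨b, hb, hb1⟩
  exact hθ.1.2.2.1 b (hBA hb) hb1 a ha v (hv ⟨b, hb, hb1⟩)

/-- part (b): `C_Q(B)` is a Sylow subgroup of `θ(C_G(B))` -/
theorem exists_sylow_eq_inf_centralizer [Finite G] (p : ℕ) [Fact p.Prime] (A : Subgroup G)
    (hA : Cfsg.IsElementaryAbelian p A) (hA3 : p ^ 3 ≤ Nat.card ↥A) (θ : G → Subgroup G)
    (hθ : Cfsg.IsSolvableSignalizerFunctor p A θ) (q : ℕ) [Fact q.Prime] {Q : Subgroup G}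
    (hQ : IsMaxSignalizer p A θ q Q) {B : Subgroup G} (hBA : B ≤ A) (hB : B ≠ ⊥) :
    ∃ S : Sylow q ↥(Cfsg.signalizerInf B θ),
      (S : Subgroup ↥(Cfsg.signalizerInf B θ)).map (Cfsg.signalizerInf B θ).subtype =
        Q ⊓ Subgroup.centralizer (B : Set G) := by
  set Hb := Cfsg.signalizerInf B θ with hHb
  have hHmem := signalizerInf_mem_signalizerFamily hθ hBA hB
  obtain ⟨c, hc, S, hS⟩ := exists_sylow_eq_map_conj_inf p A hA hA3 θ hθ q hQ hHmem
  have hcH : c ∈ Hb := signalizerInf_mono θ hBA hc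
  have hcinvH : c⁻¹ ∈ Hb := Hb.inv_mem hcH
  refine ⟨MulAut.conj (⟨c⁻¹, hcinvH⟩ : ↥Hb) • S, ?_⟩
  rw [sylow_smul_map_subtype, hS, Subgroup.map_inf _ _ _ (MulAut.conj c⁻¹).injective,
    map_conj_inv_map_conj, map_conj_eq_of_mem hcinvH]
  -- `Q ⊓ Hb = Q ⊓ C(B)`
  apply le_antisymm
  · apply inf_le_inf_left
    intro x hx
    rw [Subgroup.mem_centralizer_iff]
    intro b hb
    by_cases hb1 : b = 1
    · rw [hb1, one_mul, mul_one]
    · have h1 : x ∈ θ b := signalizerInf_le_theta hb hb1 hx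
      have h2 := hθ.1.1 b (hBA hb) hb1 h1
      rw [Subgroup.mem_centralizer_singleton_iff] at h2
      exact h2.symm
  · apply le_inf inf_le_left
    rw [hHb]
    unfold Cfsg.signalizerInf
    apply le_iInf
    rintro ⟨b, hb, hb1⟩
    refine le_trans ?_ (hQ.1.2.2.2 b (hBA hb) hb1)
    apply inf_le_inf_left
    apply Subgroup.centralizer_le
    intro y hy
    rw [Set.mem_singleton_iff] at hy
    rw [hy]; exact hb

end Cfsg.Agent.Helper7
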