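import Mathlib
import Cfsg.Prelude.Def_Solvable
import Cfsg.Agent.Lib.Helper20.W3Defs

/-!
Piece W3-ALPHA of helper20's farm-out for S3300: `C_E(u) = C_E(k)` and `z ∈ [k,E]`:
`Xset = [k,E] ∩ C_E(u) ∩ ker ν` is a nontrivial subgroup of exponent 2, hence of even order.
-/

set_option autoImplicit false
set_option linter.unusedSectionVars false

namespace Cfsg.Agent.Helper20.W3

open Cfsg.Agent.Helper8.XS Cfsg.Agent.Helper8.AB

/-- index `≤ 2` criterion -/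
theorem w3alpha_card_le_two_mul {G : Type*} [Group G] [Finite G] (S T : Subgroup G) (hTS : T ≤ S)
    (h : ∀ x ∈ S, ∀ y ∈ S, x ∉ T → y ∉ T → x⁻¹ * y ∈ T) : Nat.card S ≤ 2 * Nat.card T := by
  classical
  by_cases hall : ∀ x ∈ S, x ∈ T
  · have : S = T := le_antisymm hall hTS
    rw [this]; omega
  · push Not at hall
    obtain ⟨a, haS, haT⟩ := hall
    let f : S → Bool × T := fun x =>
      if hx : (x : G) ∈ T then (true, ⟨x, hx⟩) else (false, ⟨a⁻¹ * x, h a haS x x.2 haT hx⟩)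
    have hf : Function.Injective f := by
      intro x y hxy
      by_cases hx : (x : G) ∈ T <;> by_cases hy : (y : G) ∈ T
      · simp only [f, dif_pos hx, dif_pos hy, Prod.mk.injEq, true_and, Subtype.mk.injEq] at hxy
        exact Subtype.ext hxy
      · simp only [f, dif_pos hx, dif_neg hy, Prod.mk.injEq] at hxy
        exact absurd hxy.1 (by decide)
      · simp only [f, dif_neg hx, dif_pos hy, Prod.mk.injEq] at hxy
        exact absurd hxy.1 (by decide)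
      · simp only [f, dif_neg hx, dif_neg hy, Prod.mk.injEq, true_and, Subtype.mk.injEq,
          mul_right_inj] at hxy
        exact Subtype.ext hxy
    calc Nat.card S ≤ Nat.card (Bool × T) := Nat.card_le_card_of_injective f hf
      _ = 2 * Nat.card T := by rw [Nat.card_prod]; simp

/-- conjugation inside `E` changes an element at most by `z` -/
theorem w3alpha_conj {G : Type*} [Group G] {E : Subgroup G} {z : G} (xs : XSp E z) {x y : G}
    (hx : x ∈ E) (hy : y ∈ E) : y⁻¹ * x * y = x ∨ y⁻¹ * x * y = z * x := by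
  rcases xs.hcomm x hx y hy with h | h
  · left; rw [mul_assoc, h, ← mul_assoc, inv_mul_cancel, one_mul]
  · right
    have hz : y * z = z * y := xs.hcen y hy
    rw [mul_assoc, h]
    calc y⁻¹ * (z * (y * x)) = y⁻¹ * (z * y) * x := by group
      _ = y⁻¹ * (y * z) * x := by rw [hz]
      _ = z * x := by group

/-- identity (C) -/
theorem w3alpha_idC {G : Type*} [Group G] (k a b : G) :
    k⁻¹ * (a * b)⁻¹ * k * (a * b) = (k⁻¹ * b⁻¹ * k * b) * (b⁻¹ * (k⁻¹ * a⁻¹ * k * a) * b) := by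
  group

/-- the fibres of `e ↦ [k,e]` are cosets of `C_E(k)` -/
theorem w3alpha_card_E_le {G : Type*} [Group G] [Finite G] (E S : Subgroup G) (k : G)
    (hS : ∀ x, x ∈ S ↔ ∃ e ∈ E, x = k⁻¹ * e⁻¹ * k * e) :
    Nat.card E ≤ Nat.card S * Nat.card ↥(E ⊓ Subgroup.centralizer ({k} : Set G)) := by
  classical
  have hex : ∀ s : S, ∃ e ∈ E, (s : G) = k⁻¹ * e⁻¹ * k * e := fun s => (hS s).1 s.2
  choose r hrE hr using hex
  have hc : ∀ e : E, k⁻¹ * (e : G)⁻¹ * k * e ∈ S := fun e => (hS _).2 ⟨e, e.2, rfl⟩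
  let cS : E → S := fun e => ⟨_, hc e⟩
  have hmem : ∀ e : E, (e : G) * (r (cS e))⁻¹ ∈ E ⊓ Subgroup.centralizer ({k} : Set G) := by
    intro e
    refine Subgroup.mem_inf.2 ⟨E.mul_mem e.2 (E.inv_mem (hrE _)), ?_⟩
    rw [Subgroup.mem_centralizer_singleton_iff]
    have h : k⁻¹ * (e : G)⁻¹ * k * e = k⁻¹ * (r (cS e))⁻¹ * k * r (cS e) := hr (cS e)
    have h2 : (e : G)⁻¹ * k * e = (r (cS e))⁻¹ * k * r (cS e) := by
      have := congrArg (fun t => k * t) h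
      simpa [mul_assoc] using this
    calc (e : G) * (r (cS e))⁻¹ * k = e * ((r (cS e))⁻¹ * k * r (cS e)) * (r (cS e))⁻¹ := by group
      _ = e * ((e : G)⁻¹ * k * e) * (r (cS e))⁻¹ := by rw [h2]
      _ = k * (e * (r (cS e))⁻¹) := by group
  let f : E → S × ↥(E ⊓ Subgroup.centralizer ({k} : Set G)) := fun e => (cS e, ⟨_, hmem e⟩)
  have hf : Function.Injective f := by
    intro e e' h
    have h1 : cS e = cS e' := congrArg Prod.fst h
    have h2 : (e : G) * (r (cS e))⁻¹ = (e' : G) * (r (cS e'))⁻¹ :=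
      congrArg (fun p => ((p.2 : ↥(E ⊓ Subgroup.centralizer ({k} : Set G))) : G)) h
    rw [h1] at h2
    exact Subtype.ext (mul_right_cancel h2)
  calc Nat.card E ≤ Nat.card (S × ↥(E ⊓ Subgroup.centralizer ({k} : Set G))) :=
        Nat.card_le_card_of_injective f hf
    _ = _ := Nat.card_prod _ _

section tri

variable {G : Type*} [Group G] [Finite G] {z : G} {E : Subgroup G} {u k : G} {ν : G → ℤˣ} {n : ℕ}

theorem w3alpha_c_mem (t : Tri z E u k ν n) {e : G} (he : e ∈ E) : k⁻¹ * e⁻¹ * k * e ∈ E :=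
  E.mul_mem (t.hkE e⁻¹ (E.inv_mem he)) he

/-- `[k, e₀ e] = [k,e] z` -/
theorem w3alpha_zS (t : Tri z E u k ν n) (e₀ : G) (hz : k⁻¹ * e₀⁻¹ * k * e₀ = z) {e : G}
    (he : e ∈ E) : k⁻¹ * (e₀ * e)⁻¹ * k * (e₀ * e) = (k⁻¹ * e⁻¹ * k * e) * z := by
  rw [w3alpha_idC, hz]
  congr 1
  have := t.xs.hcen e he
  rw [mul_assoc, ← this, ← mul_assoc, inv_mul_cancel, one_mul]

/-- `[k,E]` is a subgroup -/
theorem w3alpha_exists_S (t : Tri z E u k ν n) (e₀ : G) (he₀ : e₀ ∈ E)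
    (hz : k⁻¹ * e₀⁻¹ * k * e₀ = z) :
    ∃ S : Subgroup G, ∀ x, x ∈ S ↔ ∃ e ∈ E, x = k⁻¹ * e⁻¹ * k * e := by
  have hzS : ∀ e ∈ E, ∃ e' ∈ E, (k⁻¹ * e⁻¹ * k * e) * z = k⁻¹ * e'⁻¹ * k * e' :=
    fun e he => ⟨e₀ * e, E.mul_mem he₀ he, (w3alpha_zS t e₀ hz he).symm⟩
  refine ⟨{ carrier := {x | ∃ e ∈ E, x = k⁻¹ * e⁻¹ * k * e}
            mul_mem' := ?_
            one_mem' := ⟨1, E.one_mem, by group⟩
            inv_mem' := ?_ }, fun x => Iff.rfl⟩
  · rintro x y ⟨e, he, rfl⟩ ⟨e', he', rfl⟩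
    have hce := w3alpha_c_mem t he
    have hce' := w3alpha_c_mem t he'
    have hC := w3alpha_idC k e' e
    rcases w3alpha_conj t.xs hce' he with h | h
    · exact ⟨e' * e, E.mul_mem he' he, by rw [hC, h]⟩
    · obtain ⟨e'', he'', h''⟩ := hzS (e' * e) (E.mul_mem he' he)
      refine ⟨e'', he'', ?_⟩
      rw [← h'', hC, h]
      have hzc : (k⁻¹ * e'⁻¹ * k * e') * z = z * (k⁻¹ * e'⁻¹ * k * e') := t.xs.hcen _ hce'
      rw [mul_assoc (k⁻¹ * e⁻¹ * k * e), mul_assoc z, hzc, ← mul_assoc z, t.xs.hzz, one_mul]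
  · rintro x ⟨e, he, rfl⟩
    have hce := w3alpha_c_mem t he
    rcases t.xs.hsq _ hce with h | h
    · exact ⟨e, he, by rw [inv_eq_of_mul_eq_one_right h]⟩
    · obtain ⟨e'', he'', h''⟩ := hzS e he
      refine ⟨e'', he'', ?_⟩
      rw [← h'']
      apply inv_eq_of_mul_eq_one_right
      rw [← mul_assoc, h, t.xs.hzz]

/-- PIECE W3-ALPHA: `C_E(u) = C_E(k)` and `z ∈ [k,E]`: `Xset` is a nontrivial subgroup. -/
theorem even_X_alpha (t : Tri z E u k ν n) (hsame : ∀ a ∈ E, a * u = u * a ↔ a * k = k * a)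
    (hbound : Nat.card ↥(E ⊓ Subgroup.centralizer ({k} : Set G)) ≤ 2 ^ (n + 1))
    (e₀ : G) (he₀ : e₀ ∈ E) (hz : k⁻¹ * e₀⁻¹ * k * e₀ = z) :
    Even (Set.ncard (Xset E u ν k)) := by
  obtain ⟨S, hS⟩ := w3alpha_exists_S t e₀ he₀ hz
  have hSE : ∀ x ∈ S, x ∈ E := by
    intro x hx; obtain ⟨e, he, rfl⟩ := (hS x).1 hx; exact w3alpha_c_mem t he
  have hkinv : k⁻¹ = k := inv_eq_of_mul_eq_one_right t.hkk
  have hinv : ∀ x ∈ S, k * x * k⁻¹ = x⁻¹ := by
    intro x hx; obtain ⟨e, he, rfl⟩ := (hS x).1 hx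
    have e1 : k * (k⁻¹ * e⁻¹ * k * e) * k⁻¹ = e⁻¹ * k * e * k⁻¹ := by group
    have e2 : (k⁻¹ * e⁻¹ * k * e)⁻¹ = e⁻¹ * k⁻¹ * e * k := by group
    rw [e1, e2, hkinv]
  have hν1 : ν 1 = 1 := by
    have h := t.hνmul 1 1 (by rw [one_mul, mul_one]) (by rw [one_mul, mul_one])
    rw [mul_one] at h
    exact mul_eq_left.1 h.symm
  -- the subgroup `X`
  have hT2 : ∃ T2 : Subgroup G, ∀ x, x ∈ T2 ↔ (x ∈ S ∧ x * k = k * x) ∧ ν x = 1 := by
    refine ⟨{ carrier := {x | (x ∈ S ∧ x * k = k * x) ∧ ν x = 1}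
              mul_mem' := ?_
              one_mem' := ⟨⟨S.one_mem, by rw [one_mul, mul_one]⟩, hν1⟩
              inv_mem' := ?_ }, fun x => Iff.rfl⟩
    · rintro x y ⟨⟨hxS, hxk⟩, hx1⟩ ⟨⟨hyS, hyk⟩, hy1⟩
      refine ⟨⟨S.mul_mem hxS hyS, by rw [mul_assoc, hyk, ← mul_assoc, hxk, mul_assoc]⟩, ?_⟩
      show ν (x * y) = 1
      rw [t.hνmul x y ((hsame x (hSE x hxS)).2 hxk) ((hsame y (hSE y hyS)).2 hyk), hx1, hy1,
        one_mul]
    · rintro x ⟨⟨hxS, hxk⟩, hx1⟩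
      have hxx : x * x = 1 := t.hAk2 x (hSE x hxS) hxk
      rw [inv_eq_of_mul_eq_one_right hxx]
      exact ⟨⟨hxS, hxk⟩, hx1⟩
  obtain ⟨T2, hT2⟩ := hT2
  have hX : Xset E u ν k = (T2 : Set G) := by
    ext x
    rw [mem_Xset, SetLike.mem_coe, hT2, hS]
    constructor
    · rintro ⟨hxE, hxu, hν, hex⟩
      exact ⟨⟨hex, (hsame x hxE).1 hxu⟩, hν⟩
    · rintro ⟨⟨hex, hxk⟩, hν⟩
      have hxE : x ∈ E := hSE x ((hS x).2 hex)
      exact ⟨hxE, (hsame x hxE).2 hxk, hν, hex⟩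
  -- counting
  have hcS : 8 ≤ Nat.card S := by
    have h1 := w3alpha_card_E_le E S k hS
    rw [t.hcard] at h1
    have h2 : 2 ^ (2 * n + 1) = 2 ^ n * 2 ^ (n + 1) := by rw [← pow_add]; congr 1; omega
    have h3 : 2 ^ n * 2 ^ (n + 1) ≤ Nat.card S * 2 ^ (n + 1) := by
      rw [← h2]; exact le_trans h1 (Nat.mul_le_mul_left _ hbound)
    have h4 : 2 ^ n ≤ Nat.card S := Nat.le_of_mul_le_mul_right h3 (by positivity)
    calc 8 = 2 ^ 3 := by norm_num
      _ ≤ 2 ^ n := Nat.pow_le_pow_right (by norm_num) t.hn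
      _ ≤ _ := h4
  have hmemT1 : ∀ x, x ∈ S ⊓ Subgroup.centralizer ({k} : Set G) ↔ x ∈ S ∧ x * k = k * x := by
    intro x; rw [Subgroup.mem_inf, Subgroup.mem_centralizer_singleton_iff]
  have hST1 : Nat.card S ≤ 2 * Nat.card ↥(S ⊓ Subgroup.centralizer ({k} : Set G)) := by
    refine w3alpha_card_le_two_mul S _ inf_le_left ?_
    intro x hx y hy hxT hyT
    rw [hmemT1] at hxT hyT ⊢
    have hxk : x * k ≠ k * x := fun h => hxT ⟨hx, h⟩
    have hyk : y * k ≠ k * y := fun h => hyT ⟨hy, h⟩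
    have sqz : ∀ w ∈ S, w * k ≠ k * w → w * w = z := by
      intro w hw hwk
      rcases t.xs.hsq w (hSE w hw) with h | h
      · exfalso; apply hwk
        have h1 := hinv w hw
        rw [inv_eq_of_mul_eq_one_right h] at h1
        -- h1 : k * w * k⁻¹ = w
        calc w * k = (k * w * k⁻¹) * k := by rw [h1]
          _ = k * w := by group
      · exact h
    have hxx := sqz x hx hxk
    have hyy := sqz y hy hyk
    refine ⟨S.mul_mem (S.inv_mem hx) hy, ?_⟩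
    have hk1 : k * (x⁻¹ * y) * k⁻¹ = (k * x * k⁻¹)⁻¹ * (k * y * k⁻¹) := by group
    rw [hinv x hx, hinv y hy, inv_inv] at hk1
    have hzx : x⁻¹ * z = z * x⁻¹ := t.xs.hcen _ (E.inv_mem (hSE x hx))
    have hk2 : x * y⁻¹ = x⁻¹ * y := by
      have : x⁻¹ * y * (x * y⁻¹)⁻¹ = 1 := by
        calc x⁻¹ * y * (x * y⁻¹)⁻¹ = x⁻¹ * (y * y) * x⁻¹ := by group
          _ = z * (x * x)⁻¹ := by rw [hyy, hzx]; group
          _ = 1 := by rw [hxx, mul_inv_cancel]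
      exact (mul_inv_eq_one.1 this).symm
    rw [hk2] at hk1
    calc x⁻¹ * y * k = (k * (x⁻¹ * y) * k⁻¹) * k := by rw [hk1]
      _ = k * (x⁻¹ * y) := by group
  have hT2le : T2 ≤ S ⊓ Subgroup.centralizer ({k} : Set G) := by
    intro x hx
    rw [hmemT1]
    exact ((hT2 x).1 hx).1
  have hT1T2 : Nat.card ↥(S ⊓ Subgroup.centralizer ({k} : Set G)) ≤ 2 * Nat.card T2 := by
    refine w3alpha_card_le_two_mul _ T2 hT2le ?_
    intro x hx y hy hxT hyT
    rw [hmemT1] at hx hy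
    rw [hT2] at hxT hyT ⊢
    have hxν : ν x = -1 := by
      rcases Int.units_eq_one_or (ν x) with h | h
      · exact absurd ⟨hx, h⟩ hxT
      · exact h
    have hyν : ν y = -1 := by
      rcases Int.units_eq_one_or (ν y) with h | h
      · exact absurd ⟨hy, h⟩ hyT
      · exact h
    have hxx : x * x = 1 := t.hAk2 x (hSE x hx.1) hx.2
    rw [inv_eq_of_mul_eq_one_right hxx]
    refine ⟨⟨S.mul_mem hx.1 hy.1, by rw [mul_assoc, hy.2, ← mul_assoc, hx.2, mul_assoc]⟩, ?_⟩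
    rw [t.hνmul x y ((hsame x (hSE x hx.1)).2 hx.2) ((hsame y (hSE y hy.1)).2 hy.2), hxν, hyν]
    decide
  have hcT2 : 2 ≤ Nat.card T2 := by omega
  have hne : T2 ≠ ⊥ := by
    intro h
    rw [h, Subgroup.card_bot] at hcT2
    omega
  obtain ⟨⟨x₀, hx₀⟩, hx₀1⟩ := Subgroup.ne_bot_iff_exists_ne_one.1 hne
  have hx₀' := (hT2 x₀).1 hx₀
  have hxx : x₀ * x₀ = 1 := t.hAk2 x₀ (hSE x₀ hx₀'.1.1) hx₀'.1.2
  have hord : orderOf (⟨x₀, hx₀⟩ : T2) = 2 := by
    apply orderOf_eq_prime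
    · apply Subtype.ext
      simp only [pow_two, Subgroup.coe_mul, Subgroup.coe_one, hxx]
    · exact hx₀1
  have hdvd : 2 ∣ Nat.card T2 := hord ▸ orderOf_dvd_natCard _
  rw [hX, ← Nat.card_coe_set_eq]
  exact even_iff_two_dvd.2 hdvd

end tri

end Cfsg.Agent.Helper20.W3
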